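import Cfsg.Statements.S5338
-- import your own Cfsg.Agent.* helpers here
import Cfsg.Agent.Lib.Helper87.FusionSat

set_option autoImplicit false
open Cfsg

namespace Cfsg.Agent.S5338

open Cfsg.FusionSystem
open Cfsg.Agent.Lib.Helper87

variable {Ω : Type*} [Group Ω] {S : Subgroup Ω}

/-- Conjugation invariance gives normality of `Aut_{F'}(R)` in `Aut_F(R)`. -/
theorem conj_isIso (F F' : Cfsg.FusionSystem S)
    (hinv : ∀ (Q : Subgroup Ω) (φ : ↥Q →* Ω), φ ∈ F.Hom Q → ∀ (R : Subgroup Ω) (hRQ : R ≤ Q) (ψ : ↥R →* Ω),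
      ψ ∈ F'.Hom R → ∀ (hψQ : ∀ x : R, ψ x ∈ Q), ∃ χ ∈ F'.Hom ((R.subgroupOf Q).map φ),
        ∀ (x : R) (hx : φ ⟨(x : Ω), hRQ x.2⟩ ∈ (R.subgroupOf Q).map φ),
          χ ⟨φ ⟨(x : Ω), hRQ x.2⟩, hx⟩ = φ ⟨ψ x, hψQ x⟩)
    {R : Subgroup Ω} (g n : MulAut R) (hg : IsIso F (g : R ≃* R)) (hn : IsIso F' (n : R ≃* R)) :
    IsIso F' ((g * n * g⁻¹ : MulAut R) : R ≃* R) := by
  obtain ⟨χ, hχ, hχx⟩ := hinv R (R.subtype.comp (g : R ≃* R).toMonoidHom) hg R le_rfl
    (R.subtype.comp (n : R ≃* R).toMonoidHom) hn (fun x => (n x).2)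
  have hRR : (R.subgroupOf R).map (R.subtype.comp (g : R ≃* R).toMonoidHom) = R := by
    ext y
    constructor
    · rintro ⟨x, _, rfl⟩
      exact (g x).2
    · intro hy
      refine ⟨g⁻¹ ⟨y, hy⟩, ?_, ?_⟩
      · exact Subgroup.mem_subgroupOf.2 (g⁻¹ ⟨y, hy⟩).2
      · simp
  refine hom_of_eq_on F' hRR hχ ?_
  intro x hx hx'
  have h1 := hχx (g⁻¹ ⟨x, hx'⟩)
  have h2 : (R.subtype.comp (g : R ≃* R).toMonoidHom) ⟨((g⁻¹ ⟨x, hx'⟩ : R) : Ω), (g⁻¹ ⟨x, hx'⟩).2⟩ = x := by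
    simp
  have h3 := h1 (by rw [h2]; exact hx)
  have h4 : (⟨(R.subtype.comp (g : R ≃* R).toMonoidHom) ⟨((g⁻¹ ⟨x, hx'⟩ : R) : Ω), (g⁻¹ ⟨x, hx'⟩).2⟩,
      (by rw [h2]; exact hx)⟩ : ↥((R.subgroupOf R).map (R.subtype.comp (g : R ≃* R).toMonoidHom))) = ⟨x, hx⟩ :=
    Subtype.ext h2
  rw [h4] at h3
  rw [h3]
  rfl

/-- An element of `Aut_F(R)` normalizing `Aut_S(R)` extends to `N_S(R)` when `R` is receptive; so it belongs
to any system containing all `F`-maps on larger subgroups. -/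
theorem isIso_of_normalizes [Finite S] {p : ℕ} [Fact p.Prime] (hS : IsPGroup p S) (F F' : Cfsg.FusionSystem S)
    {R : Subgroup Ω} (hRS : R ≤ S) (hRne : R ≠ S) (hRr : F.IsReceptive R)
    (IH : ∀ P' : Subgroup Ω, Nat.card R < Nat.card P' → F.Hom P' ⊆ F'.Hom P')
    (ν : MulAut R) (hν : IsIso F (ν : R ≃* R))
    (hnorm : ∀ β : MulAut R, β ∈ Cfsg.autInducedBy S R → ν * β * ν⁻¹ ∈ Cfsg.autInducedBy S R) :
    IsIso F' (ν : R ≃* R) := by
  obtain ⟨ψ, hψ, hψx⟩ := hRr.2 R (R.subtype.comp (ν : R ≃* R).toMonoidHom) hν (range_subtype_comp _)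
  have hle : normalizerIn S R ≤ extender S R (R.subtype.comp (ν : R ≃* R).toMonoidHom) := by
    intro g hg
    have hgS : g ∈ S := hg.1
    have hgN : g ∈ Subgroup.normalizer (R : Set Ω) := hg.2
    apply Subgroup.subset_closure
    refine ⟨hgS, hgN, ?_⟩
    have hc : conjAut R g hgN ∈ Cfsg.autInducedBy S R :=
      mem_autInducedBy_iff.2 ⟨g, hgS, fun x => conjAut_apply R g hgN x⟩
    obtain ⟨h, hhS, hh⟩ := mem_autInducedBy_iff.1 (hnorm _ hc)
    refine ⟨h, hhS, ?_⟩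
    intro x hx
    have := hh (ν x)
    simp only [MulAut.mul_apply, MulAut.inv_apply_self] at this
    have e : (⟨g * (x : Ω) * g⁻¹, hx⟩ : R) = conjAut R g hgN x := Subtype.ext (conjAut_apply R g hgN x).symm
    rw [e]
    exact this
  have hlt : Nat.card R < Nat.card (extender S R (R.subtype.comp (ν : R ≃* R).toMonoidHom)) := by
    have h1 := card_lt_card_normalizerIn hS hRS hRne
    have hfin : Finite (extender S R (R.subtype.comp (ν : R ≃* R).toMonoidHom)) :=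
      finite_of_le ((extender_le S R _).trans (normalizerIn_le S R))
    have h2 := Subgroup.card_le_of_le hle
    omega
  have hψ' := IH _ hlt hψ
  have hRle : R ≤ extender S R (R.subtype.comp (ν : R ≃* R).toMonoidHom) := (le_normalizerIn hRS).trans hle
  exact isIso_of_restrict F' hψ' hRle (ν : R ≃* R) (fun x hx hx' => hψx x hx hx')


/-- Let F be a saturated fusion system over a finite p-group S and F′ ≤ F a saturated subsystem over all of S that is invariant under F in the conjugation sense: for every map φ of F with source Q and every map ψ of F′ between subgroups R ≤ Q (with values in Q), the transported map φψφ⁻¹ defined on φ(R) is again a map of F′. If moreover Aut_{F′}(S) = Aut_F(S), then F′ = F. -/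
theorem result {Ω : Type*} [Group Ω] {S : Subgroup Ω} [Finite S] (p : ℕ) [Fact p.Prime] (hS : IsPGroup p S) (F : Cfsg.FusionSystem S) (hF : F.IsSaturated p) (F' : Cfsg.FusionSystem S) (hF' : F'.IsSaturated p) (hle : F' ≤ F) (hinv : ∀ (Q : Subgroup Ω) (φ : ↥Q →* Ω), φ ∈ F.Hom Q → ∀ (R : Subgroup Ω) (hRQ : R ≤ Q) (ψ : ↥R →* Ω), ψ ∈ F'.Hom R → ∀ (hψQ : ∀ x : R, ψ x ∈ Q), ∃ χ ∈ F'.Hom ((R.subgroupOf Q).map φ), ∀ (x : R) (hx : φ ⟨(x : Ω), hRQ x.2⟩ ∈ (R.subgroupOf Q).map φ), χ ⟨φ ⟨(x : Ω), hRQ x.2⟩, hx⟩ = φ ⟨ψ x, hψQ x⟩) (htop : F'.autGroup S = F.autGroup S) (P : Subgroup Ω) : F'.Hom P = F.Hom P := by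
  apply Set.Subset.antisymm (hle P)
  refine alperin_weak F F' hS hF ?_ P
  intro R hRa hRr IH α hα
  have hRS : R ≤ S := hRa.1
  by_cases hR : R = S
  · subst hR
    rw [← htop] at hα
    exact (mem_autGroup_iff F' le_rfl).1 hα
  -- the normal subgroup N = Aut_{F'}(R) of A = Aut_F(R)
  have hle' : F'.autGroup R ≤ F.autGroup R := by
    intro β hβ
    rw [mem_autGroup_iff F hRS]
    exact hle R ((mem_autGroup_iff F' hRS).1 hβ)
  have hNnormal : ((F'.autGroup R).subgroupOf (F.autGroup R)).Normal := by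
    constructor
    intro n hn g
    rw [Subgroup.mem_subgroupOf] at hn ⊢
    rw [mem_autGroup_iff F' hRS] at hn ⊢
    exact conj_isIso F F' hinv g.1 n.1 ((mem_autGroup_iff F hRS).1 g.2) hn
  obtain ⟨-, Rs, hRs⟩ := hRa
  have hfinA : Finite (F.autGroup R) := by
    have : Finite R := finite_of_le hRS
    have : Finite (MulAut R) := by
      have : Finite (R ≃ R) := inferInstance
      exact Finite.of_injective (fun e : MulAut R => e.toEquiv) (fun a b h => MulEquiv.ext (fun x => by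
        have := congrArg (fun f : R ≃ R => f x) h
        exact this))
    infer_instance
  have hRsN : (Rs : Subgroup (F.autGroup R)) ≤ (F'.autGroup R).subgroupOf (F.autGroup R) := by
    rw [hRs]
    intro x hx
    rw [Subgroup.mem_subgroupOf] at hx ⊢
    exact autInducedBy_le_autGroup F' hRS hx
  have hfrat := Sylow.normalizer_sup_eq_top' Rs hRsN
  have hαtop : (⟨α, hα⟩ : F.autGroup R) ∈ (⊤ : Subgroup (F.autGroup R)) := Subgroup.mem_top _
  rw [← hfrat] at hαtop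
  obtain ⟨ν, hν, m, hm, hνm⟩ := Subgroup.mem_sup_of_normal_right.1 hαtop
  have hνF' : ν.1 ∈ F'.autGroup R := by
    rw [mem_autGroup_iff F' hRS]
    apply isIso_of_normalizes hS F F' hRS hR hRr IH ν.1 ((mem_autGroup_iff F hRS).1 ν.2)
    intro β hβ
    have hβA : β ∈ F.autGroup R := autInducedBy_le_autGroup F hRS hβ
    have h1 : (⟨β, hβA⟩ : F.autGroup R) ∈ (Rs : Subgroup (F.autGroup R)) := by
      rw [hRs, Subgroup.mem_subgroupOf]; exact hβ
    have h2 := (Subgroup.mem_set_normalizer_iff.1 hν ⟨β, hβA⟩).1 h1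
    have h2 : ν * ⟨β, hβA⟩ * ν⁻¹ ∈ (Rs : Subgroup (F.autGroup R)) := h2
    rw [hRs, Subgroup.mem_subgroupOf] at h2
    exact h2
  have hmF' : m.1 ∈ F'.autGroup R := Subgroup.mem_subgroupOf.1 hm
  have hα' : α = ν.1 * m.1 := by
    have := congrArg Subtype.val hνm
    exact this.symm
  rw [← mem_autGroup_iff F' hRS, hα']
  exact (F'.autGroup R).mul_mem hνF' hmF'

end Cfsg.Agent.S5338
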