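import Cfsg.Statements.S5341
-- import your own Cfsg.Agent.* helpers here
import Cfsg.Agent.Lib.Helper87.FusionFully
import Cfsg.Agent.S5079

set_option autoImplicit false
open Cfsg

namespace Cfsg.Agent.S5341

open Cfsg.FusionSystem
open Cfsg.Agent.Lib.Helper87

variable {Ω : Type*} [Group Ω] {S : Subgroup Ω}

/-- The two halves of the statement. -/
theorem core [Finite S] (p : ℕ) [Fact p.Prime] (hS : IsPGroup p S) (F : Cfsg.FusionSystem S)
    (hF : F.IsSaturated p)
    (T : Subgroup Ω) (hT : F.StronglyClosed T) (F' : Cfsg.FusionSystem T)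
    (hsub : F'.IsSubsystemOf F) (Q : Subgroup Ω) (hQT : Q ≤ T) :
    (F.IsFullyCentralized Q → F'.IsFullyCentralized Q) ∧ (F.IsFullyNormalized Q → F'.IsFullyNormalized Q) := by
  have hTS : T ≤ S := hT.1
  have hconj : ∀ Q' : Subgroup Ω, F'.IsConj Q Q' → F.IsConj Q' Q := by
    rintro Q' ⟨φ, hφ, hr⟩
    exact IsConj_symm ⟨φ, hsub Q hφ, hr⟩
  constructor
  · intro hQc
    refine ⟨hQT, ?_⟩
    intro Q' hQQ'
    have hQr : F.IsReceptive Q := receptive_of_fullyCentralized F hS hF hQc
    obtain ⟨φ, hφ, hr⟩ := hconj Q' hQQ'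
    have hQ'S : Q' ≤ S := hom_le F hφ
    obtain ⟨ψ, hψ, hψx⟩ := hQr.2 Q' φ hφ hr
    -- C_S(Q') and Q' lie in the extender
    have hCle : centralizerIn S Q' ≤ extender S Q' φ := by
      intro g hg
      have hgS : g ∈ S := hg.1
      have hgC : g ∈ Subgroup.centralizer (Q' : Set Ω) := hg.2
      have hfix : ∀ x ∈ Q', g * x * g⁻¹ = x := by
        intro x hx
        have := Subgroup.mem_centralizer_iff.1 hgC x hx
        rw [← this, mul_inv_cancel_right]
      apply Subgroup.subset_closure
      refine ⟨hgS, ?_, 1, S.one_mem, ?_⟩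
      · rw [Subgroup.mem_normalizer_iff]
        intro x
        constructor
        · intro hx; rw [hfix x hx]; exact hx
        · intro hx
          have h1 := hfix _ hx
          have h2 : x = g⁻¹ * (g * x * g⁻¹) * g := by group
          have h3 : g⁻¹ * (g * (g * x * g⁻¹) * g⁻¹) * g = g * x * g⁻¹ := by group
          rw [h1] at h3
          rw [h2, h3]
          exact hx
      · intro x hx
        have : (⟨g * (x : Ω) * g⁻¹, hx⟩ : Q') = x := Subtype.ext (hfix x x.2)
        rw [this]
        simp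
    have hQ'le : Q' ≤ extender S Q' φ := by
      intro g hg
      apply Subgroup.subset_closure
      refine ⟨hQ'S hg, Subgroup.le_normalizer hg, φ ⟨g, hg⟩, hom_map_mem F hφ _, ?_⟩
      intro x hx
      have : (⟨g * (x : Ω) * g⁻¹, hx⟩ : Q') = ⟨g, hg⟩ * x * ⟨g, hg⟩⁻¹ := Subtype.ext rfl
      rw [this, map_mul, map_mul, map_inv]
    have hCTle : centralizerIn T Q' ≤ extender S Q' φ := by
      intro g hg
      exact hCle ⟨hTS hg.1, hg.2⟩
    -- the injective map C_T(Q') → C_T(Q)
    have hmem : ∀ x : centralizerIn T Q', ψ ⟨x.1, hCTle x.2⟩ ∈ centralizerIn T Q := by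
      intro x
      constructor
      · -- in T by strong closure
        have hr' := restrict_mem F hψ hCTle
        exact hT.2 (centralizerIn T Q') inf_le_left _ hr' x
      · show ψ ⟨x.1, hCTle x.2⟩ ∈ Subgroup.centralizer (Q : Set Ω)
        rw [Subgroup.mem_centralizer_iff]
        intro y hy
        have hy' : y ∈ φ.range := hr ▸ hy
        obtain ⟨y', rfl⟩ := hy'
        rw [← hψx y'.1 y'.2 (hQ'le y'.2), ← map_mul, ← map_mul]
        congr 1
        apply Subtype.ext
        exact Subgroup.mem_centralizer_iff.1 x.2.2 y'.1 y'.2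
    have hfin : Finite (centralizerIn T Q) := finite_of_le (inf_le_left.trans hTS)
    apply Nat.card_le_card_of_injective (fun x : centralizerIn T Q' => (⟨ψ ⟨x.1, hCTle x.2⟩, hmem x⟩ : centralizerIn T Q))
    intro a b hab
    have h1 : ψ ⟨a.1, hCTle a.2⟩ = ψ ⟨b.1, hCTle b.2⟩ := congrArg Subtype.val hab
    have h2 := F.injective_of_mem hψ h1
    exact Subtype.ext (Subtype.mk.inj h2)
  · intro hQn
    refine ⟨hQT, ?_⟩
    intro Q' hQQ'
    obtain ⟨hQa, hQr⟩ := fullyAutomized_receptive_of_fullyNormalized F hS hF hQn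
    obtain ⟨ψ, hψ, hψN, -⟩ := Cfsg.Agent.S5079.result p hS F Q Q' hQa hQr (hconj Q' hQQ')
    have hNTle : normalizerIn T Q' ≤ normalizerIn S Q' := by
      intro g hg
      exact ⟨hTS hg.1, hg.2⟩
    have hmem : ∀ x : normalizerIn T Q', ψ ⟨x.1, hNTle x.2⟩ ∈ normalizerIn T Q := by
      intro x
      constructor
      · have hr' := restrict_mem F hψ hNTle
        exact hT.2 (normalizerIn T Q') inf_le_left _ hr' x
      · exact (hψN ⟨x.1, hNTle x.2⟩).2
    have hfin : Finite (normalizerIn T Q) := finite_of_le (inf_le_left.trans hTS)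
    apply Nat.card_le_card_of_injective (fun x : normalizerIn T Q' => (⟨ψ ⟨x.1, hNTle x.2⟩, hmem x⟩ : normalizerIn T Q))
    intro a b hab
    have h1 : ψ ⟨a.1, hNTle a.2⟩ = ψ ⟨b.1, hNTle b.2⟩ := congrArg Subtype.val hab
    have h2 := F.injective_of_mem hψ h1
    exact Subtype.ext (Subtype.mk.inj h2)


/-- Let F be a saturated fusion system over a finite p-group S, T a subgroup strongly closed in F, and F′ any fusion system over T all of whose maps are maps of F. For a subgroup Q ≤ T: if Q is fully centralized in F then it is fully centralized in F′, and if Q is fully normalized in F then it is fully normalized in F′. -/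
theorem result {Ω : Type*} [Group Ω] {S : Subgroup Ω} [Finite S] (p : ℕ) [Fact p.Prime] (hS : IsPGroup p S) (F : Cfsg.FusionSystem S) (hF : F.IsSaturated p) (T : Subgroup Ω) (hT : F.StronglyClosed T) (F' : Cfsg.FusionSystem T) (hsub : F'.IsSubsystemOf F) (Q : Subgroup Ω) (hQT : Q ≤ T) : (F.IsFullyCentralized Q → F'.IsFullyCentralized Q) ∧ (F.IsFullyNormalized Q → F'.IsFullyNormalized Q) := by
  exact core p hS F hF T hT F' hsub Q hQT

end Cfsg.Agent.S5341
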