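import Cfsg.Statements.S5343
-- import your own Cfsg.Agent.* helpers here
import Cfsg.Agent.Lib.Helper85.FusionRealized
import Cfsg.Agent.S5118

set_option autoImplicit false
universe u
open Cfsg

namespace Cfsg.Agent.S5343


open Cfsg.FusionSystem Cfsg.Agent.Lib.Helper85

variable {Ω : Type u} [Group Ω] {S : Subgroup Ω} {G : Type u} [Group G]

/-- the preimage in `S` of the subgroup `N`, as a subgroup of the ambient group -/
def TN (ι : S →* G) (N : Subgroup G) : Subgroup Ω := (N.comap ι).map S.subtype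

theorem mem_TN {ι : S →* G} {N : Subgroup G} {x : Ω} : x ∈ TN ι N ↔ ∃ hx : x ∈ S, ι ⟨x, hx⟩ ∈ N := by
  constructor
  · rintro ⟨s, hs, rfl⟩
    exact ⟨s.2, hs⟩
  · rintro ⟨hx, h⟩
    exact ⟨⟨x, hx⟩, h, rfl⟩

theorem TN_le (ι : S →* G) (N : Subgroup G) : TN ι N ≤ S := fun _ hx => (mem_TN.1 hx).1

theorem ι_mem_of_mem_TN {ι : S →* G} {N : Subgroup G} {x : Ω} (hx : x ∈ TN ι N) :
    ι ⟨x, TN_le ι N hx⟩ ∈ N := (mem_TN.1 hx).2

/-- the fusion system that the subgroup `N` of `G` induces on the preimage of `N` in `S` -/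
def EN (ι : S →* G) (hinj : Function.Injective ι) (N : Subgroup G) : FusionSystem (TN ι N) where
  Hom P := {φ | ∃ (hP : P ≤ TN ι N) (hφ : ∀ x : P, φ x ∈ TN ι N), ∃ n ∈ N, ∀ x : P,
    ι ⟨φ x, TN_le ι N (hφ x)⟩ = n * ι ⟨x, TN_le ι N (hP x.2)⟩ * n⁻¹}
  le_of_mem := by
    rintro P φ ⟨hP, hφ, -⟩
    exact ⟨hP, hφ⟩
  injective_of_mem := by
    rintro P φ ⟨hP, hφ, n, -, hn⟩ a b hab
    have h1 : ι ⟨φ a, TN_le ι N (hφ a)⟩ = ι ⟨φ b, TN_le ι N (hφ b)⟩ := by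
      congr 1
      exact Subtype.ext hab
    rw [hn a, hn b] at h1
    have h2 := hinj (mul_left_cancel (mul_right_cancel h1))
    exact Subtype.ext (congrArg (fun t : S => (t : Ω)) h2)
  conj_mem := by
    intro P g hP hg
    have hval : ∀ x : P, conjHom P g x ∈ TN ι N := fun x =>
      (TN ι N).mul_mem ((TN ι N).mul_mem hg (hP x.2)) ((TN ι N).inv_mem hg)
    refine ⟨hP, hval, ι ⟨g, TN_le ι N hg⟩, ι_mem_of_mem_TN hg, fun x => ?_⟩
    rw [← map_inv, ← map_mul, ← map_mul]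
    rfl
  comp_mem := by
    rintro P Q φ ψ ⟨hP, hφ, n, hn, hnφ⟩ ⟨hQ, hψ, m, hm, hmψ⟩ h
    refine ⟨hP, fun x => hψ _, m * n, N.mul_mem hm hn, fun x => ?_⟩
    have h1 := hmψ ⟨φ x, h x⟩
    have h2 := hnφ x
    show ι ⟨ψ ⟨φ x, h x⟩, _⟩ = _
    rw [h1]
    have h3 : ι ⟨(⟨φ x, h x⟩ : Q), TN_le ι N (hQ (h x))⟩ = ι ⟨φ x, TN_le ι N (hφ x)⟩ := rfl
    rw [h3, h2]
    group
  inv_mem := by
    rintro P φ ⟨hP, hφ, n, hn, hnφ⟩
    have hinjφ : Function.Injective φ := by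
      intro a b hab
      have h1 : ι ⟨φ a, TN_le ι N (hφ a)⟩ = ι ⟨φ b, TN_le ι N (hφ b)⟩ := by
        congr 1
        exact Subtype.ext hab
      rw [hnφ a, hnφ b] at h1
      have h2 := hinj (mul_left_cancel (mul_right_cancel h1))
      exact Subtype.ext (congrArg (fun t : S => (t : Ω)) h2)
    let ψ : φ.range →* Ω := P.subtype.comp (MonoidHom.ofInjective hinjφ).symm.toMonoidHom
    have hψ : ∀ x : P, ψ ⟨φ x, ⟨x, rfl⟩⟩ = (x : Ω) := by
      intro x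
      have : (⟨φ x, ⟨x, rfl⟩⟩ : φ.range) = MonoidHom.ofInjective hinjφ x := rfl
      show (((MonoidHom.ofInjective hinjφ).symm ⟨φ x, ⟨x, rfl⟩⟩ : P) : Ω) = x
      rw [this, MulEquiv.symm_apply_apply]
    refine ⟨ψ, ⟨?_, ?_, n⁻¹, N.inv_mem hn, ?_⟩, hψ⟩
    · rintro _ ⟨x, rfl⟩
      exact hφ x
    · rintro ⟨_, x, rfl⟩
      rw [hψ x]
      exact hP x.2
    · rintro ⟨_, x, rfl⟩
      have h1 := hnφ x
      have h2 : ι ⟨ψ ⟨φ x, ⟨x, rfl⟩⟩, TN_le ι N (by rw [hψ x]; exact hP x.2)⟩ = ι ⟨x, TN_le ι N (hP x.2)⟩ := by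
        congr 1
        exact Subtype.ext (hψ x)
      rw [h2]
      show _ = n⁻¹ * ι ⟨φ x, _⟩ * n⁻¹⁻¹
      rw [h1]
      group


theorem imι_TN (ι : S →* G) (N : Subgroup G) : imι ι (TN ι N) = ι.range ⊓ N := by
  ext y
  rw [mem_imι_iff]
  constructor
  · rintro ⟨x, hx, hxT, rfl⟩
    exact ⟨⟨_, rfl⟩, (mem_TN.1 hxT).2⟩
  · rintro ⟨⟨s, rfl⟩, hN⟩
    exact ⟨s, s.2, mem_TN.2 ⟨s.2, hN⟩, rfl⟩

/-- the restriction of `ι` to the preimage of `N`, with values in `N` -/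
def ιN (ι : S →* G) (N : Subgroup G) : TN ι N →* N :=
  (ι.comp (Subgroup.inclusion (TN_le ι N))).codRestrict N (fun x => ι_mem_of_mem_TN x.2)

theorem ιN_apply (ι : S →* G) (N : Subgroup G) (x : TN ι N) :
    ((ιN ι N x : N) : G) = ι ⟨x, TN_le ι N x.2⟩ := rfl

theorem EN_isRealizedBy {ι : S →* G} (hinj : Function.Injective ι) (N : Subgroup G) :
    (EN ι hinj N).IsRealizedBy (ιN ι N) := by
  refine ⟨?_, fun P hP φ hφ => ?_⟩
  · intro a b hab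
    have h1 : ι ⟨a, TN_le ι N a.2⟩ = ι ⟨b, TN_le ι N b.2⟩ := congrArg Subtype.val hab
    exact Subtype.ext (congrArg (fun t : S => (t : Ω)) (hinj h1))
  · constructor
    · rintro ⟨_, _, n, hn, hnφ⟩
      exact ⟨⟨n, hn⟩, fun x => Subtype.ext (hnφ x)⟩
    · rintro ⟨g, hg⟩
      exact ⟨hP, hφ, g, g.2, fun x => congrArg Subtype.val (hg x)⟩

theorem EN_isSaturated [Finite G] {p : ℕ} [Fact p.Prime] {ι : S →* G} (hinj : Function.Injective ι)
    (T₁ : Sylow p G) (hT₁ : (T₁ : Subgroup G) = ι.range) (N : Subgroup G) [N.Normal] :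
    (EN ι hinj N).IsSaturated p := by
  obtain ⟨R, hR⟩ := Cfsg.Agent.S5118.sylow_inf_normal T₁ N
  refine isSaturated_of_isRealizedBy (EN_isRealizedBy hinj N) R ?_
  rw [hR]
  ext y
  rw [Subgroup.mem_subgroupOf, hT₁, MonoidHom.mem_range]
  constructor
  · rintro ⟨⟨s, hs⟩, -⟩
    refine ⟨⟨s, mem_TN.2 ⟨s.2, by rw [hs]; exact y.2⟩⟩, Subtype.ext ?_⟩
    rw [ιN_apply]
    exact hs
  · rintro ⟨x, rfl⟩
    exact ⟨⟨_, rfl⟩, (ιN ι N x).2⟩

/-- the automorphism of `Q ≤ S` induced through `ι` by an element normalizing the image of `Q` -/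
noncomputable def autι {ι : S →* G} (hinj : Function.Injective ι) {Q : Subgroup Ω} (hQ : Q ≤ S) (m : G)
    (hm : m ∈ Subgroup.normalizer ((imι ι Q : Subgroup G) : Set G)) : MulAut Q :=
  (MulAut.congr (equivImι hinj hQ)).symm (Subgroup.normalizerMonoidHom _ ⟨m, hm⟩)

theorem ι_autι {ι : S →* G} (hinj : Function.Injective ι) {Q : Subgroup Ω} (hQ : Q ≤ S) (m : G)
    (hm : m ∈ Subgroup.normalizer ((imι ι Q : Subgroup G) : Set G)) (x : Q) :
    ι ⟨(autι hinj hQ m hm x : Q), hQ (autι hinj hQ m hm x).2⟩ = m * ι ⟨x, hQ x.2⟩ * m⁻¹ := by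
  have h1 : autι hinj hQ m hm x =
      (equivImι hinj hQ).symm ((Subgroup.normalizerMonoidHom _ ⟨m, hm⟩) (equivImι hinj hQ x)) := rfl
  rw [h1, ι_equivImι_symm]
  rfl

theorem autι_mem_autGroup {F : FusionSystem S} {ι : S →* G} (hι : F.IsRealizedBy ι) {Q : Subgroup Ω}
    (hQ : Q ≤ S) (m : G) (hm : m ∈ Subgroup.normalizer ((imι ι Q : Subgroup G) : Set G)) :
    autι hι.1 hQ m hm ∈ F.autGroup Q := by
  rw [mem_autGroup_iff F hQ]
  exact (hι.2 Q hQ _ (fun x => hQ (autι hι.1 hQ m hm x).2)).mpr ⟨m, fun x => ι_autι hι.1 hQ m hm x⟩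


section invariant

variable {F : FusionSystem S} {ι : S →* G} (hι : F.IsRealizedBy ι) (N : Subgroup G) [hN : N.Normal]

omit hN in
include hι in
theorem EN_subsystem : (EN ι hι.1 N).IsSubsystemOf F := by
  rintro P φ ⟨hP, hφ, n, -, hnφ⟩
  exact (hι.2 P (hP.trans (TN_le ι N)) φ (fun x => TN_le ι N (hφ x))).mpr ⟨n, hnφ⟩

include hι hN in
theorem TN_stronglyClosed : F.StronglyClosed (TN ι N) := by
  refine ⟨TN_le ι N, fun R hR φ hφ x => ?_⟩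
  obtain ⟨g, hg⟩ := exists_of_mem_Hom hι hφ
  refine mem_TN.2 ⟨(F.le_of_mem hφ).2 x, ?_⟩
  rw [hg x]
  exact hN.conj_mem _ (ι_mem_of_mem_TN (hR x.2)) g

include hι hN in
theorem EN_invariance (P : Subgroup Ω) (hPT : P ≤ TN ι N) (φ : P →* Ω) (hφ : φ ∈ (EN ι hι.1 N).Hom P)
    (α : MulAut (TN ι N)) (hα : α ∈ F.autGroup (TN ι N)) :
    ∃ χ ∈ (EN ι hι.1 N).Hom ((P.subgroupOf (TN ι N)).map ((TN ι N).subtype.comp α.toMonoidHom)),
      ∀ (x : P) (hφx : φ x ∈ TN ι N)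
        (hαx : ((α ⟨x, hPT x.2⟩ : TN ι N) : Ω) ∈
          (P.subgroupOf (TN ι N)).map ((TN ι N).subtype.comp α.toMonoidHom)),
        χ ⟨(α ⟨x, hPT x.2⟩ : TN ι N), hαx⟩ = ((α ⟨φ x, hφx⟩ : TN ι N) : Ω) := by
  obtain ⟨_, hφT, n, hn, hnφ⟩ := hφ
  rw [mem_autGroup_iff F (TN_le ι N)] at hα
  obtain ⟨g, hg⟩ := exists_of_mem_Hom hι hα
  have hg' : ∀ x : TN ι N, ι ⟨(α x : TN ι N), TN_le ι N (α x).2⟩ = g * ι ⟨x, TN_le ι N x.2⟩ * g⁻¹ := hg
  set P' := (P.subgroupOf (TN ι N)).map ((TN ι N).subtype.comp α.toMonoidHom) with hP'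
  have hP'T : P' ≤ TN ι N := by
    rintro _ ⟨x, -, rfl⟩
    exact (α x).2
  have hP'S : P' ≤ S := hP'T.trans (TN_le ι N)
  -- every element of `P'` is `α x` with `x ∈ P`
  have hrep : ∀ y : P', ∃ x : P, (y : Ω) = ((α ⟨x, hPT x.2⟩ : TN ι N) : Ω) := by
    rintro ⟨_, x, hx, rfl⟩
    exact ⟨⟨x, hx⟩, rfl⟩
  have hkey : ∀ (y : P') (x : P), (y : Ω) = ((α ⟨x, hPT x.2⟩ : TN ι N) : Ω) →
      (g * n * g⁻¹) * ι ⟨y, hP'S y.2⟩ * (g * n * g⁻¹)⁻¹ =
        ι ⟨(α ⟨φ x, hφT x⟩ : TN ι N), TN_le ι N (α ⟨φ x, hφT x⟩).2⟩ := by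
    intro y x hyx
    have h1 : ι ⟨y, hP'S y.2⟩ = g * ι ⟨x, TN_le ι N (hPT x.2)⟩ * g⁻¹ := by
      rw [← hg' ⟨x, hPT x.2⟩]
      congr 1
      exact Subtype.ext hyx
    rw [h1, hg' ⟨φ x, hφT x⟩]
    have h2 : ι ⟨(⟨φ x, hφT x⟩ : TN ι N), TN_le ι N (hφT x)⟩ = n * ι ⟨x, TN_le ι N (hPT x.2)⟩ * n⁻¹ := hnφ x
    rw [h2]
    group
  have hval : ∀ y : P', (g * n * g⁻¹) * ι ⟨y, hP'S y.2⟩ * (g * n * g⁻¹)⁻¹ ∈ ι.range := by
    intro y
    obtain ⟨x, hx⟩ := hrep y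
    rw [hkey y x hx]
    exact ⟨_, rfl⟩
  have hχeq : ∀ (y : P') (x : P), (y : Ω) = ((α ⟨x, hPT x.2⟩ : TN ι N) : Ω) →
      conjι hι.1 hP'S (g * n * g⁻¹) hval y = ((α ⟨φ x, hφT x⟩ : TN ι N) : Ω) := by
    intro y x hyx
    have h1 := ι_conjι hι.1 hP'S (g * n * g⁻¹) hval y
    rw [hkey y x hyx] at h1
    exact congrArg (fun t : S => (t : Ω)) (hι.1 h1)
  have hχT : ∀ y : P', conjι hι.1 hP'S (g * n * g⁻¹) hval y ∈ TN ι N := by
    intro y
    obtain ⟨x, hx⟩ := hrep y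
    rw [hχeq y x hx]
    exact (α ⟨φ x, hφT x⟩).2
  refine ⟨conjι hι.1 hP'S (g * n * g⁻¹) hval, ⟨hP'T, hχT, g * n * g⁻¹, hN.conj_mem n hn g, fun y => ?_⟩, ?_⟩
  · exact ι_conjι hι.1 hP'S (g * n * g⁻¹) hval y
  · intro x hφx hαx
    exact hχeq ⟨_, hαx⟩ x rfl


include hι hN in
theorem EN_frattini [Finite G] {p : ℕ} [Fact p.Prime] (T₁ : Sylow p G) (hT₁ : (T₁ : Subgroup G) = ι.range)
    (P : Subgroup Ω) (hPT : P ≤ TN ι N) (φ : P →* Ω) (hφ : φ ∈ F.Hom P) :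
    ∃ α ∈ F.autGroup (TN ι N), ∃ φ₀ ∈ (EN ι hι.1 N).Hom P,
      ∀ (x : P) (hx : φ₀ x ∈ TN ι N), φ x = ((α ⟨φ₀ x, hx⟩ : TN ι N) : Ω) := by
  obtain ⟨g, hg⟩ := exists_of_mem_Hom hι hφ
  obtain ⟨R, hR⟩ := Cfsg.Agent.S5118.sylow_inf_normal T₁ N
  have htop := Sylow.normalizer_sup_eq_top R
  have hmap : (R : Subgroup N).map N.subtype = imι ι (TN ι N) := by
    rw [hR, Subgroup.subgroupOf_map_subtype, imι_TN, hT₁]
    exact inf_of_le_left inf_le_right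
  rw [hmap] at htop
  have hgtop : g ∈ Subgroup.normalizer ((imι ι (TN ι N) : Subgroup G) : Set G) ⊔ N := by
    rw [htop]
    exact Subgroup.mem_top g
  rw [← SetLike.mem_coe, Subgroup.mul_normal] at hgtop
  obtain ⟨m, hm, n, hn, rfl⟩ := hgtop
  have hm' : m ∈ Subgroup.normalizer ((imι ι (TN ι N) : Subgroup G) : Set G) := hm
  have hn' : n ∈ N := hn
  have hPS : P ≤ S := hPT.trans (TN_le ι N)
  have hφT : ∀ x : P, φ x ∈ TN ι N := (TN_stronglyClosed hι N).2 P hPT φ hφ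
  have hval₀ : ∀ x : P, n * ι ⟨x, hPS x.2⟩ * n⁻¹ ∈ ι.range := by
    intro x
    have h1 : n * ι ⟨x, hPS x.2⟩ * n⁻¹ = m⁻¹ * ι ⟨φ x, (F.le_of_mem hφ).2 x⟩ * m⁻¹⁻¹ := by
      rw [hg x]
      group
    rw [h1]
    have h2 : ι ⟨φ x, (F.le_of_mem hφ).2 x⟩ ∈ imι ι (TN ι N) := apply_mem_imι ι _ (hφT x)
    have h3 := (Subgroup.mem_normalizer_iff.mp (Subgroup.inv_mem _ hm') _).mp h2
    exact imι_le_range ι _ h3
  have hφ₀T : ∀ x : P, conjι hι.1 hPS n hval₀ x ∈ TN ι N := by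
    intro x
    refine mem_TN.2 ⟨conjι_mem hι.1 hPS n hval₀ x, ?_⟩
    rw [ι_conjι]
    exact hN.conj_mem _ (ι_mem_of_mem_TN (hPT x.2)) n
  refine ⟨autι hι.1 (TN_le ι N) m hm', autι_mem_autGroup hι _ m hm', conjι hι.1 hPS n hval₀,
    ⟨hPT, hφ₀T, n, hn', fun x => ι_conjι hι.1 hPS n hval₀ x⟩, ?_⟩
  intro x hx
  have h1 := ι_autι hι.1 (TN_le ι N) m hm' ⟨conjι hι.1 hPS n hval₀ x, hx⟩
  have h2 : ι ⟨((⟨conjι hι.1 hPS n hval₀ x, hx⟩ : TN ι N) : Ω), TN_le ι N hx⟩ =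
      n * ι ⟨x, hPS x.2⟩ * n⁻¹ := ι_conjι hι.1 hPS n hval₀ x
  rw [h2] at h1
  have h3 : ι ⟨φ x, (F.le_of_mem hφ).2 x⟩ =
      ι ⟨(autι hι.1 (TN_le ι N) m hm' ⟨conjι hι.1 hPS n hval₀ x, hx⟩ : TN ι N),
        TN_le ι N (autι hι.1 (TN_le ι N) m hm' ⟨conjι hι.1 hPS n hval₀ x, hx⟩).2⟩ := by
    rw [h1, hg x]
    group
  exact congrArg (fun t : S => (t : Ω)) (hι.1 h3)

theorem EN_isInvariantIn [Finite G] {p : ℕ} [Fact p.Prime] (T₁ : Sylow p G)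
    (hT₁ : (T₁ : Subgroup G) = ι.range) : (EN ι hι.1 N).IsInvariantIn F :=
  ⟨EN_subsystem hι N, TN_stronglyClosed hι N, EN_invariance hι N, EN_frattini hι N T₁ hT₁⟩

end invariant


theorem imι_sup (ι : S →* G) {A B : Subgroup Ω} (hA : A ≤ S) (hB : B ≤ S) :
    imι ι (A ⊔ B) = imι ι A ⊔ imι ι B := by
  unfold imι
  rw [Subgroup.subgroupOf_sup hA hB, Subgroup.map_sup]

theorem imι_centralizerIn {ι : S →* G} (hinj : Function.Injective ι) {Q : Subgroup Ω} (hQ : Q ≤ S) :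
    imι ι (centralizerIn S Q) = centralizerIn ι.range (imι ι Q) := by
  ext y
  rw [mem_imι_iff]
  constructor
  · rintro ⟨x, hx, ⟨_, hxC⟩, rfl⟩
    have hxC : x ∈ Subgroup.centralizer (Q : Set Ω) := hxC
    refine ⟨⟨_, rfl⟩, ?_⟩
    show ι ⟨x, hx⟩ ∈ Subgroup.centralizer ((imι ι Q : Subgroup G) : Set G)
    rw [Subgroup.mem_centralizer_iff]
    intro z hz
    obtain ⟨q, hq, hqQ, rfl⟩ := (mem_imι_iff ι Q z).mp hz
    rw [← map_mul, ← map_mul]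
    congr 1
    apply Subtype.ext
    exact (Subgroup.mem_centralizer_iff.mp hxC) q hqQ
  · rintro ⟨⟨s, rfl⟩, hC⟩
    have hC : ι s ∈ Subgroup.centralizer ((imι ι Q : Subgroup G) : Set G) := hC
    refine ⟨s, s.2, ⟨s.2, ?_⟩, rfl⟩
    show (s : Ω) ∈ Subgroup.centralizer (Q : Set Ω)
    rw [Subgroup.mem_centralizer_iff]
    intro q hq
    have := (Subgroup.mem_centralizer_iff.mp hC) (ι ⟨q, hQ hq⟩) (apply_mem_imι ι (hQ hq) hq)
    rw [← map_mul, ← map_mul] at this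
    exact congrArg (fun t : S => (t : Ω)) (hinj this)

section extension

variable {F : FusionSystem S} {ι : S →* G} (hι : F.IsRealizedBy ι) (N : Subgroup G) [hN : N.Normal]

include hι hN in
theorem EN_extension [Finite G] {p : ℕ} [Fact p.Prime] (T₁ : Sylow p G) (hT₁ : (T₁ : Subgroup G) = ι.range) :
    ∀ α ∈ (EN ι hι.1 N).autGroup (TN ι N),
      ∃ β ∈ F.autGroup (TN ι N ⊔ centralizerIn S (TN ι N)),
        (∀ x : TN ι N, ((β (Subgroup.inclusion le_sup_left x) : ↥(TN ι N ⊔ centralizerIn S (TN ι N))) : Ω) =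
          ((α x : TN ι N) : Ω)) ∧
        ∀ c : ↥(TN ι N ⊔ centralizerIn S (TN ι N)), (c : Ω) ∈ centralizerIn S (TN ι N) →
          (c : Ω)⁻¹ * ((β c : ↥(TN ι N ⊔ centralizerIn S (TN ι N))) : Ω) ∈
            TN ι N ⊓ Subgroup.centralizer (TN ι N : Set Ω) := by
  intro α hα
  have hTS : TN ι N ≤ S := TN_le ι N
  have hCS : centralizerIn S (TN ι N) ≤ S := inf_le_left
  have hsupS : TN ι N ⊔ centralizerIn S (TN ι N) ≤ S := sup_le hTS hCS
  rw [mem_autGroup_iff _ (le_refl (TN ι N))] at hα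
  obtain ⟨_, _, n, hn, hnα⟩ := hα
  have hnα' : ∀ x : TN ι N, ι ⟨(α x : TN ι N), hTS (α x).2⟩ = n * ι ⟨x, hTS x.2⟩ * n⁻¹ := hnα
  -- the group side
  set T' := imι ι (TN ι N) with hT'
  have hT'eq : T' = (T₁ : Subgroup G) ⊓ N := by rw [hT', imι_TN, hT₁]
  have hT'N : T' ≤ N := by rw [hT'eq]; exact inf_le_right
  let α' : MulAut T' := MulAut.congr (equivImι hι.1 hTS) α
  have hα' : ∀ y : T', ((α' y : T') : G) = n * (y : G) * n⁻¹ := by
    intro y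
    show ((equivImι hι.1 hTS (α ((equivImι hι.1 hTS).symm y)) : T') : G) = _
    rw [equivImι_apply, hnα', ι_equivImι_symm]
  have hα'mem : α' ∈ (fusionSystemOfSubgroup N T' hT'N).autGroup T' := by
    rw [mem_autGroup_iff _ (le_refl T')]
    exact ⟨le_refl _, fun y => (α' y).2, n, hn, hα'⟩
  obtain ⟨β', hβ'mem, hβ'1, hβ'2⟩ := Cfsg.Agent.S5118.D_extension p T₁ N T' hT'eq hT'N α' hα'mem
  have hsup' : T' ⊔ centralizerIn (T₁ : Subgroup G) T' ≤ (T₁ : Subgroup G) := by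
    refine sup_le ?_ inf_le_left
    rw [hT'eq]; exact inf_le_left
  rw [mem_autGroup_iff _ hsup'] at hβ'mem
  obtain ⟨-, -, g, hg⟩ := hβ'mem
  have hg' : ∀ y : ↥(T' ⊔ centralizerIn (T₁ : Subgroup G) T'),
      ((β' y : ↥(T' ⊔ centralizerIn (T₁ : Subgroup G) T')) : G) = g * (y : G) * g⁻¹ := hg
  have hgN : g ∈ Subgroup.normalizer ((T' ⊔ centralizerIn (T₁ : Subgroup G) T' : Subgroup G) : Set G) :=
    mem_normalizer_of_induces hg'
  have himsup : imι ι (TN ι N ⊔ centralizerIn S (TN ι N)) = T' ⊔ centralizerIn (T₁ : Subgroup G) T' := by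
    rw [imι_sup ι hTS hCS, imι_centralizerIn hι.1 hTS, hT₁]
  have hgN' : g ∈ Subgroup.normalizer
      ((imι ι (TN ι N ⊔ centralizerIn S (TN ι N)) : Subgroup G) : Set G) := by
    rw [himsup]; exact hgN
  refine ⟨autι hι.1 hsupS g hgN', autι_mem_autGroup hι hsupS g hgN', ?_, ?_⟩
  · intro x
    have h1 := ι_autι hι.1 hsupS g hgN' (Subgroup.inclusion le_sup_left x)
    have hxT' : ι ⟨x, hTS x.2⟩ ∈ T' := apply_mem_imι ι (hTS x.2) x.2
    have h2 := hβ'1 ⟨_, hxT'⟩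
    rw [hg', hα'] at h2
    have h3 : ι ⟨((Subgroup.inclusion le_sup_left x : ↥(TN ι N ⊔ centralizerIn S (TN ι N))) : Ω),
        hsupS (Subgroup.inclusion le_sup_left x).2⟩ = ι ⟨x, hTS x.2⟩ := rfl
    rw [h3] at h1
    have h4 : g * ι ⟨x, hTS x.2⟩ * g⁻¹ = n * ι ⟨x, hTS x.2⟩ * n⁻¹ := h2
    rw [h4, ← hnα' x] at h1
    exact congrArg (fun t : S => (t : Ω)) (hι.1 h1)
  · intro c hc
    have h1 := ι_autι hι.1 hsupS g hgN' c
    have hcC' : ι ⟨c, hsupS c.2⟩ ∈ centralizerIn (T₁ : Subgroup G) T' := by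
      rw [hT₁, ← imι_centralizerIn hι.1 hTS]
      exact apply_mem_imι ι _ hc
    have hcsup : ι ⟨c, hsupS c.2⟩ ∈ T' ⊔ centralizerIn (T₁ : Subgroup G) T' :=
      (le_sup_right : centralizerIn (T₁ : Subgroup G) T' ≤ _) hcC'
    have h2 := hβ'2 ⟨_, hcsup⟩ hcC'
    rw [hg'] at h2
    -- the element in question
    set d : Ω := (c : Ω)⁻¹ * ((autι hι.1 hsupS g hgN' c : ↥(TN ι N ⊔ centralizerIn S (TN ι N))) : Ω) with hd
    have hdS : d ∈ S := S.mul_mem (S.inv_mem (hsupS c.2)) (hsupS (autι hι.1 hsupS g hgN' c).2)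
    have hιd : ι ⟨d, hdS⟩ = (ι ⟨c, hsupS c.2⟩)⁻¹ * (g * ι ⟨c, hsupS c.2⟩ * g⁻¹) := by
      rw [← h1, ← map_inv, ← map_mul]
      rfl
    have h3 : ι ⟨d, hdS⟩ ∈ T' ⊓ Subgroup.centralizer (T' : Set G) := by
      rw [hιd]; exact h2
    have h3c : ι ⟨d, hdS⟩ ∈ Subgroup.centralizer (T' : Set G) := h3.2
    refine ⟨(apply_mem_imι_iff hι.1 hdS).1 h3.1, ?_⟩
    show d ∈ Subgroup.centralizer (TN ι N : Set Ω)
    rw [Subgroup.mem_centralizer_iff]
    intro q hq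
    have := (Subgroup.mem_centralizer_iff.mp h3c) (ι ⟨q, hTS hq⟩) (apply_mem_imι ι (hTS hq) hq)
    rw [← map_mul, ← map_mul] at this
    exact congrArg (fun t : S => (t : Ω)) (hι.1 this)

theorem EN_isNormalIn [Finite G] {p : ℕ} [Fact p.Prime] (T₁ : Sylow p G)
    (hT₁ : (T₁ : Subgroup G) = ι.range) : (EN ι hι.1 N).IsNormalIn F p :=
  ⟨⟨EN_isSaturated hι.1 T₁ hT₁ N, isSaturated_of_isRealizedBy hι T₁ hT₁, EN_isInvariantIn hι N T₁ hT₁⟩,
    EN_extension hι N T₁ hT₁⟩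

end extension


section final

variable {F : FusionSystem S} {ι : S →* G} (hι : F.IsRealizedBy ι) (N : Subgroup G)

include hι in
theorem realized_by_subgroup [Finite G] {p : ℕ} [Fact p.Prime] (T₁ : Sylow p G)
    (hT₁ : (T₁ : Subgroup G) = ι.range) (hTN : TN ι N = S)
    (hHom : ∀ P : Subgroup Ω, (EN ι hι.1 N).Hom P = F.Hom P) :
    ∃ ι' : S →* N, F.IsRealizedBy ι' ∧ ∃ T' : Sylow p N, (T' : Subgroup N) = ι'.range := by
  have hmem : ∀ s : S, ι s ∈ N := by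
    intro s
    have hs : (s : Ω) ∈ TN ι N := by rw [hTN]; exact s.2
    exact (mem_TN.1 hs).2
  have hle : (T₁ : Subgroup G) ≤ N := by
    rw [hT₁]
    rintro _ ⟨s, rfl⟩
    exact hmem s
  refine ⟨ι.codRestrict N hmem, ⟨?_, fun P hP φ hφ => ?_⟩, T₁.subtype hle, ?_⟩
  · intro a b hab
    exact hι.1 (congrArg Subtype.val hab)
  · constructor
    · intro h
      rw [← hHom P] at h
      obtain ⟨_, _, n, hn, hnφ⟩ := h
      exact ⟨⟨n, hn⟩, fun x => Subtype.ext (hnφ x)⟩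
    · rintro ⟨g, hg⟩
      exact (hι.2 P hP φ hφ).mpr ⟨g, fun x => congrArg Subtype.val (hg x)⟩
  · rw [Sylow.coe_subtype]
    ext y
    rw [Subgroup.mem_subgroupOf, hT₁, MonoidHom.mem_range, MonoidHom.mem_range]
    constructor
    · rintro ⟨s, hs⟩
      exact ⟨s, Subtype.ext hs⟩
    · rintro ⟨s, hs⟩
      exact ⟨s, congrArg Subtype.val hs⟩

include hι in
theorem realized_by_quotient [hN : N.Normal] [Finite G] {p : ℕ} [Fact p.Prime] (T₁ : Sylow p G)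
    (hT₁ : (T₁ : Subgroup G) = ι.range) (hTN : TN ι N = ⊥) :
    F.IsRealizedBy ((QuotientGroup.mk' N).comp ι) ∧
      ∃ T' : Sylow p (G ⧸ N), (T' : Subgroup (G ⧸ N)) = ((QuotientGroup.mk' N).comp ι).range := by
  have hinter : ∀ y : G, y ∈ ι.range → y ∈ N → y = 1 := by
    rintro _ ⟨s, rfl⟩ hy
    have hs : (s : Ω) ∈ TN ι N := mem_TN.2 ⟨s.2, hy⟩
    rw [hTN, Subgroup.mem_bot] at hs
    have : s = 1 := Subtype.ext hs
    rw [this, map_one]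
  refine ⟨⟨?_, fun P hP φ hφ => ?_⟩, T₁.mapSurjective (QuotientGroup.mk'_surjective N), ?_⟩
  · intro a b hab
    have h1 : (QuotientGroup.mk' N) (ι a) = (QuotientGroup.mk' N) (ι b) := hab
    rw [QuotientGroup.mk'_apply, QuotientGroup.mk'_apply, QuotientGroup.eq] at h1
    have h2 : (ι a)⁻¹ * ι b = ι (a⁻¹ * b) := by rw [map_mul, map_inv]
    rw [h2] at h1
    have h3 := hinter _ ⟨_, rfl⟩ h1
    have h4 : a⁻¹ * b = 1 := hι.1 (by rw [h3, map_one])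
    exact inv_mul_eq_one.mp h4
  · constructor
    · intro h
      obtain ⟨g, hg⟩ := (hι.2 P hP φ hφ).mp h
      refine ⟨QuotientGroup.mk' N g, fun x => ?_⟩
      show (QuotientGroup.mk' N) (ι ⟨φ x, hφ x⟩) = _
      rw [hg x, map_mul, map_mul, map_inv]
      rfl
    · rintro ⟨gbar, hgbar⟩
      obtain ⟨g, rfl⟩ := QuotientGroup.mk'_surjective N gbar
      -- congruence modulo `N`
      have hcong : ∀ x : P, (ι ⟨φ x, hφ x⟩)⁻¹ * (g * ι ⟨x, hP x.2⟩ * g⁻¹) ∈ N := by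
        intro x
        have h1 : (QuotientGroup.mk' N) (ι ⟨φ x, hφ x⟩) =
            (QuotientGroup.mk' N) (g * ι ⟨x, hP x.2⟩ * g⁻¹) := by
          rw [map_mul, map_mul, map_inv]
          exact hgbar x
        rw [QuotientGroup.mk'_apply, QuotientGroup.mk'_apply, QuotientGroup.eq] at h1
        exact h1
      -- the conjugate of the image of `P`
      set A := (imι ι P).map (MulAut.conj g).toMonoidHom with hA
      have hAp : IsPGroup p A := by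
        have h1 : IsPGroup p (imι ι P) := by
          apply T₁.isPGroup'.to_le
          rw [hT₁]
          exact imι_le_range ι P
        exact h1.map _
      have hAK : A ≤ (T₁ : Subgroup G) ⊔ N := by
        rintro _ ⟨y, hy, rfl⟩
        obtain ⟨x, hx, hxP, rfl⟩ := (mem_imι_iff ι P y).mp hy
        have h1 := hcong ⟨x, hxP⟩
        have h2 : (MulAut.conj g).toMonoidHom (ι ⟨x, hx⟩) =
            ι ⟨φ ⟨x, hxP⟩, hφ ⟨x, hxP⟩⟩ * ((ι ⟨φ ⟨x, hxP⟩, hφ ⟨x, hxP⟩⟩)⁻¹ * (g * ι ⟨x, hx⟩ * g⁻¹)) := by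
          rw [mul_inv_cancel_left]
          rfl
        rw [h2]
        refine Subgroup.mul_mem_sup ?_ h1
        rw [hT₁]
        exact ⟨_, rfl⟩
      have hR : ∃ R : Sylow p ↥((T₁ : Subgroup G) ⊔ N),
          (R : Subgroup ↥((T₁ : Subgroup G) ⊔ N)) = (T₁ : Subgroup G).subgroupOf ((T₁ : Subgroup G) ⊔ N) := by
        rw [sylow_subgroupOf_iff le_sup_left]
        refine ⟨T₁.isPGroup', fun Q _ hQ => ?_⟩
        obtain ⟨k, hk⟩ := exists_conj_le_sylow T₁ hQ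
        calc Nat.card Q = Nat.card (Q.map (MulAut.conj k).toMonoidHom) := (card_map_conj Q k).symm
          _ ≤ _ := Subgroup.card_le_of_le hk
      obtain ⟨k, hkK, hk⟩ := exists_conj_le_of_sylow_subgroupOf hR hAK hAp
      rw [← SetLike.mem_coe, Subgroup.mul_normal] at hkK
      obtain ⟨t, ht, n, hn, rfl⟩ := hkK
      have ht' : t ∈ (T₁ : Subgroup G) := ht
      have hn' : n ∈ N := hn
      have hnA : ∀ a ∈ A, n * a * n⁻¹ ∈ (T₁ : Subgroup G) := by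
        intro a ha
        have h1 : (t * n) * a * (t * n)⁻¹ ∈ (T₁ : Subgroup G) := hk ⟨a, ha, rfl⟩
        have h2 : n * a * n⁻¹ = t⁻¹ * ((t * n) * a * (t * n)⁻¹) * t := by group
        rw [h2]
        exact Subgroup.mul_mem _ (Subgroup.mul_mem _ (Subgroup.inv_mem _ ht') h1) ht'
      apply (hι.2 P hP φ hφ).mpr
      refine ⟨n * g, fun x => ?_⟩
      set z := ι ⟨φ x, hφ x⟩ with hz
      set a := g * ι ⟨x, hP x.2⟩ * g⁻¹ with ha
      have haA : a ∈ A := ⟨ι ⟨x, hP x.2⟩, apply_mem_imι ι (hP x.2) x.2, rfl⟩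
      have h1 : n * a * n⁻¹ ∈ ι.range := by rw [← hT₁]; exact hnA a haA
      have h2 : z⁻¹ * (n * a * n⁻¹) ∈ N := by
        have e : z⁻¹ * (n * a * n⁻¹) = (z⁻¹ * n * z⁻¹⁻¹) * (z⁻¹ * a) * n⁻¹ := by group
        rw [e]
        exact N.mul_mem (N.mul_mem (hN.conj_mem n hn' z⁻¹) (hcong x)) (N.inv_mem hn')
      have h3 : z⁻¹ * (n * a * n⁻¹) ∈ ι.range :=
        Subgroup.mul_mem _ (Subgroup.inv_mem _ ⟨_, rfl⟩) h1
      have h4 := hinter _ h3 h2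
      have h5 : z = n * a * n⁻¹ := by
        have := inv_mul_eq_one.mp h4
        exact this
      rw [h5, ha]
      group
  · rw [Sylow.coe_mapSurjective, hT₁, MonoidHom.range_comp]

end final



/-- Let F be a simple saturated fusion system over a finite p-group S that is realized by some finite group on a Sylow p-subgroup. Then F is realized by a finite simple group on a Sylow p-subgroup. -/
theorem result {Ω : Type u} [Group Ω] {S : Subgroup Ω} [Finite S] (p : ℕ) [Fact p.Prime] (hS : IsPGroup p S) (F : Cfsg.FusionSystem S) (hsimple : F.IsSimple p) (hreal : F.IsRealizable p) : ∃ (G : Type u) (_ : Group G) (_ : Finite G) (_ : IsSimpleGroup G) (ι : ↥S →* G), F.IsRealizedBy ι ∧ ∃ T : Sylow p G, (T : Subgroup G) = ι.range := by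
  classical
  obtain ⟨-, hSne, hsimp⟩ := hsimple
  let Pred : ℕ → Prop := fun n => ∃ (G : Type u) (_ : Group G) (_ : Finite G) (ι : S →* G),
    F.IsRealizedBy ι ∧ (∃ T : Sylow p G, (T : Subgroup G) = ι.range) ∧ Nat.card G = n
  have hex : ∃ n, Pred n := by
    obtain ⟨G, iG, iF, ι, hι, hT⟩ := hreal
    exact ⟨Nat.card G, G, iG, iF, ι, hι, hT, rfl⟩
  obtain ⟨G, instG, instF, ι, hι, ⟨T₁, hT₁⟩, hcard⟩ := Nat.find_spec hex
  have hmin : ∀ m, Pred m → Nat.find hex ≤ m := fun m hm => Nat.find_min' hex hm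
  have hsimpleG : IsSimpleGroup G := by
    have : Nontrivial G := by
      obtain ⟨a, ha⟩ := (Subgroup.ne_bot_iff_exists_ne_one).1 hSne
      refine nontrivial_of_ne (ι a) 1 ?_
      intro h
      exact ha (hι.1 (by rw [h, map_one]))
    refine ⟨fun N hN => ?_⟩
    rcases hsimp (TN ι N) (EN ι hι.1 N) (EN_isNormalIn hι N T₁ hT₁) with h | ⟨h1, h2⟩
    · left
      obtain ⟨hQ, T', hT'⟩ := realized_by_quotient hι N T₁ hT₁ h
      have h3 := hmin (Nat.card (G ⧸ N)) ⟨G ⧸ N, inferInstance, inferInstance, _, hQ, ⟨T', hT'⟩, rfl⟩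
      rw [← hcard] at h3
      have hc := Subgroup.card_eq_card_quotient_mul_card_subgroup N
      have hNpos : 0 < Nat.card N := Nat.card_pos
      have hQpos : 0 < Nat.card (G ⧸ N) := Nat.card_pos
      have h4 : Nat.card N = 1 := by nlinarith
      exact Subgroup.card_eq_one.1 h4
    · right
      obtain ⟨ι', hι', T', hT'⟩ := realized_by_subgroup hι N T₁ hT₁ h1 h2
      have h3 := hmin (Nat.card N) ⟨N, inferInstance, inferInstance, ι', hι', ⟨T', hT'⟩, rfl⟩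
      rw [← hcard] at h3
      exact Subgroup.eq_top_of_le_card N h3
  exact ⟨G, instG, instF, hsimpleG, ι, hι, T₁, hT₁⟩

end Cfsg.Agent.S5343
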