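import Cfsg.Statements.S5354
import Cfsg.Agent.S0215
import Cfsg.Agent.Lib.Helper90.TTMax
import Cfsg.Agent.Lib.Helper90.TTSimple

set_option autoImplicit false
open Cfsg

namespace Cfsg.Agent.S5354

/-- Let D be a conjugation-invariant generating set of 3-transpositions of the finite group G on which G acts primitively by conjugation, and suppose two different members of D commute (width at least 2). Then G has a quasisimple normal subgroup L of index at most 2 with the generalized Fitting subgroup of G equal to L times the centre, the commuting graph of D is connected, and for d in D the subgroup generated by the members of D commuting with d is a maximal D-subgroup: it is proper, and every subgroup generated by members of D that contains it is either it or G. -/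
theorem result {G : Type*} [Group G] [Finite G] {D : Set G} (hD : Cfsg.IsThreeTranspositionGroup D) (hprim : Cfsg.IsPrimitiveUnderConj D) (hw : ∃ a ∈ D, ∃ b ∈ D, a ≠ b ∧ Commute a b) : (∃ L : Subgroup G, L.Normal ∧ Cfsg.IsQuasisimple L ∧ L.index ≤ 2 ∧ Cfsg.generalizedFittingSubgroup G = L ⊔ Subgroup.center G) ∧ (Cfsg.commutingGraph D).Connected ∧ ∀ d ∈ D, Subgroup.closure {y : G | y ∈ D ∧ Commute d y} ≠ ⊤ ∧ ∀ H : Subgroup G, Cfsg.IsDSubgroup D H → Subgroup.closure {y : G | y ∈ D ∧ Commute d y} ≤ H → H = Subgroup.closure {y : G | y ∈ D ∧ Commute d y} ∨ H = ⊤ := by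
  have hZs : ∀ H : Subgroup G, Cfsg.Agent.Lib.Helper58.ZStarProd.ZStarHyp ↥H :=
    fun H P u hu huP hiso => Cfsg.Agent.S0215.result P u hu huP hiso
  have hD2 : ∃ a ∈ D, ∃ b ∈ D, a ≠ b := hprim.2.1
  have hcls : Cfsg.IsThreeTranspositionClass D := by
    obtain ⟨a, ha, -⟩ := hD2
    refine ⟨hD.1, ⟨a, ha, ?_⟩, hD.2.2⟩
    ext b
    rw [Cfsg.Agent.Lib.Helper58.ZStarProd.mem_conjOf]
    constructor
    · intro hb
      obtain ⟨g, hg⟩ := hprim.1 a ha b hb
      exact isConj_iff.mpr ⟨g, hg⟩
    · intro hb
      obtain ⟨g, hg⟩ := isConj_iff.mp hb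
      rw [← hg]
      exact hD.2.1 g a ha
  have h2 := Cfsg.Agent.Lib.Helper90.prim_pCore_two_le_center hcls hprim
  have h3 := Cfsg.Agent.Lib.Helper90.prim_pCore_three_le_center hZs hcls hprim hw
  have hconn := Cfsg.Agent.Lib.Helper90.prim_connected hD hprim hw
  refine ⟨?_, hconn, ?_⟩
  · obtain ⟨L, hLn, hLq, hF, -⟩ := Cfsg.Agent.Lib.Helper90.tt_component_structure hZs hcls hD2 h2 h3
    have hidx := Cfsg.Agent.Lib.Helper90.tt_index_le_two_of_connected hZs hcls hD2 h2 h3 L hLq hconn
    exact ⟨L, hLn, hLq, hidx, hF⟩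
  · intro d hd
    exact Cfsg.Agent.Lib.Helper90.tt_centralizer_maximal hD hprim hw hd

end Cfsg.Agent.S5354
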