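import Cfsg.Statements.S5358
-- import your own Cfsg.Agent.* helpers here

set_option autoImplicit false
open scoped MatrixGroups
open Cfsg

namespace Cfsg.Agent.S5358

open Matrix in
theorem polarVec_dot {ι : Type} [Fintype ι] [DecidableEq ι] {F : Type*} [Field F]
    (Q : QuadraticForm F (ι → F)) (v x : ι → F) :
    Cfsg.polarVec (⇑Q) v ⬝ᵥ x = QuadraticMap.polar (⇑Q) v x := by
  have hx : x = ∑ j, x j • (Pi.single j 1 : ι → F) := by
    ext i
    simp [Finset.sum_apply, Pi.single_apply]
  conv_rhs => rw [hx]
  rw [← QuadraticMap.polarBilin_apply_apply, map_sum]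
  simp only [dotProduct, Cfsg.polarVec, map_smul, QuadraticMap.polarBilin_apply_apply, smul_eq_mul]
  apply Finset.sum_congr rfl
  intro j _
  ring


/-- Let Q be a non-degenerate quadratic form on the n-dimensional coordinate space over the field with three elements and u, v vectors of the same non-zero norm Q(u) = Q(v) spanning different lines (v ≠ u and v ≠ −u). Then the reflection matrices of u and v commute if and only if u and v are orthogonal for the polar form of Q. -/
theorem result (n : ℕ) (Q : QuadraticForm (ZMod 3) (Fin n → ZMod 3)) (hQ : (QuadraticMap.polarBilin Q).Nondegenerate) (u v : Fin n → ZMod 3) (hu : Q u ≠ 0) (huv : Q u = Q v) (h1 : v ≠ u) (h2 : v ≠ -u) : Commute (Cfsg.reflectionMatrix (⇑Q) u) (Cfsg.reflectionMatrix (⇑Q) v) ↔ QuadraticMap.polar (⇑Q) u v = 0 := by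
  classical
  have hv : Q v ≠ 0 := huv ▸ hu
  set wu := Cfsg.polarVec (⇑Q) u with hwu
  set wv := Cfsg.polarVec (⇑Q) v with hwv
  set β := QuadraticMap.polar (⇑Q) u v with hβ
  have hβ' : QuadraticMap.polar (⇑Q) v u = β := QuadraticMap.polar_comm _ _ _
  have hAB : Matrix.vecMulVec u wu * Matrix.vecMulVec v wv = β • Matrix.vecMulVec u wv := by
    rw [Matrix.vecMulVec_mul_vecMulVec, polarVec_dot, Matrix.vecMulVec_smul]
  have hBA : Matrix.vecMulVec v wv * Matrix.vecMulVec u wu = β • Matrix.vecMulVec v wu := by
    rw [Matrix.vecMulVec_mul_vecMulVec, polarVec_dot, hβ', Matrix.vecMulVec_smul]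
  have hcomm_iff : Commute (Cfsg.reflectionMatrix (⇑Q) u) (Cfsg.reflectionMatrix (⇑Q) v) ↔
      Matrix.vecMulVec u wu * Matrix.vecMulVec v wv = Matrix.vecMulVec v wv * Matrix.vecMulVec u wu := by
    unfold Cfsg.reflectionMatrix
    rw [← hwu, ← hwv, ← huv]
    set a := (Q u)⁻¹ with ha
    have ha0 : a ≠ 0 := inv_ne_zero hu
    set A := Matrix.vecMulVec u wu
    set B := Matrix.vecMulVec v wv
    constructor
    · intro h
      have h' : (1 - a • A) * (1 - a • B) = (1 - a • B) * (1 - a • A) := h
      simp only [sub_mul, mul_sub, one_mul, mul_one, Matrix.smul_mul, Matrix.mul_smul, smul_smul] at h'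
      have h'' : (a * a) • (A * B) = (a * a) • (B * A) := by
        have e1 : (a * a) • (A * B) = (1 - a • A - (a • B - (a * a) • (A * B))) - 1 + a • B + a • A := by abel
        have e2 : (a * a) • (B * A) = (1 - a • B - (a • A - (a * a) • (B * A))) - 1 + a • B + a • A := by abel
        rw [e1, e2, h']
      have haa : a * a ≠ 0 := mul_ne_zero ha0 ha0
      exact smul_right_injective _ haa h''
    · intro h
      show (1 - a • A) * (1 - a • B) = (1 - a • B) * (1 - a • A)
      simp only [sub_mul, mul_sub, one_mul, mul_one, Matrix.smul_mul, Matrix.mul_smul, smul_smul]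
      rw [h]
      abel
  rw [hcomm_iff, hAB, hBA]
  constructor
  · intro h
    by_contra hβ0
    have h' : Matrix.vecMulVec u wv = Matrix.vecMulVec v wu := smul_right_injective _ hβ0 h
    -- entrywise: u i * wv j = v i * wu j
    have hent : ∀ i (x : Fin n → ZMod 3), u i * QuadraticMap.polar (⇑Q) v x = v i * QuadraticMap.polar (⇑Q) u x := by
      intro i x
      rw [← polarVec_dot, ← polarVec_dot, dotProduct, dotProduct, Finset.mul_sum, Finset.mul_sum]
      apply Finset.sum_congr rfl
      intro j _
      have := congrFun (congrFun h' i) j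
      simp only [Matrix.vecMulVec_apply] at this
      rw [← mul_assoc, ← mul_assoc, ← hwv, ← hwu, this]
    -- u ≠ 0, so by nondegeneracy some x has polar u x ≠ 0
    have hu0 : u ≠ 0 := by
      intro h0
      apply hu
      rw [h0]
      exact QuadraticMap.map_zero Q
    obtain ⟨x, hx⟩ : ∃ x, QuadraticMap.polar (⇑Q) u x ≠ 0 := by
      by_contra hne
      push Not at hne
      exact hu0 (hQ.1 u (fun y => by rw [QuadraticMap.polarBilin_apply_apply]; exact hne y))
    set c := QuadraticMap.polar (⇑Q) v x * (QuadraticMap.polar (⇑Q) u x)⁻¹ with hc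
    have hvc : v = c • u := by
      ext i
      have := hent i x
      simp only [Pi.smul_apply, smul_eq_mul, hc]
      field_simp
      linear_combination -this
    have hQv : Q v = c * c * Q u := by
      rw [hvc, QuadraticMap.map_smul, smul_eq_mul]
    have hcc : c * c = 1 := by
      have : c * c * Q u = 1 * Q u := by rw [← hQv, one_mul, huv]
      exact mul_right_cancel₀ hu this
    have hc1 : c = 1 ∨ c = -1 := mul_self_eq_one_iff.mp hcc
    rcases hc1 with h | h
    · apply h1; rw [hvc, h, one_smul]
    · apply h2; rw [hvc, h, neg_one_smul]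
  · intro h
    rw [h, zero_smul, zero_smul]

end Cfsg.Agent.S5358
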