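import Cfsg.Statements.S5363
-- import your own Cfsg.Agent.* helpers here

set_option autoImplicit false
open Cfsg

namespace Cfsg.Agent.S5363

theorem comm_of_sq {G : Type*} [Group G] {d e : G} (hd : d * d = 1) (he : e * e = 1)
    (h : (d * e) ^ 2 = 1) : d * e = e * d := by
  have h1 : d * e * (d * e) = 1 := by rw [← pow_two]; exact h
  calc d * e = d * e * (d * e) * (e * d) := by
        have : d * e * (d * e) * (e * d) = d * e * (d * (e * e) * d) := by group
        rw [this, he, mul_one, hd, mul_one]
    _ = e * d := by rw [h1, one_mul]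

theorem conj_pow_of_invert {G : Type*} [Group G] {r x : G} (h : r * x⁻¹ = x * r) (j : ℕ) :
    x ^ j * r * (x ^ j)⁻¹ = x ^ (2 * j) * r := by
  have h1 : SemiconjBy r x⁻¹ x := h
  have h2 : r * x⁻¹ ^ j = x ^ j * r := h1.pow_right j
  calc x ^ j * r * (x ^ j)⁻¹ = x ^ j * (r * x⁻¹ ^ j) := by rw [inv_pow]; group
    _ = x ^ j * (x ^ j * r) := by rw [h2]
    _ = x ^ (2 * j) * r := by rw [two_mul, pow_add]; group

/-- odd power of an involution -/
theorem pow_odd_of_sq {G : Type*} [Group G] {z : G} (hz : z * z = 1) {m : ℕ} (hm : Odd m) : z ^ m = z := by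
  obtain ⟨k, rfl⟩ := hm
  rw [pow_succ, pow_mul, pow_two, hz, one_pow, one_mul]

/-- key step of the forward direction -/
theorem comm_left_of_odd_or_two {G : Type*} [Group G] [Finite G] {D : Set G}
    (hinv : ∀ d ∈ D, d * d = 1)
    (H : ∀ a ∈ D, ∀ b ∈ D, Odd (orderOf (a * b)) ∨ orderOf (a * b) = 2)
    {a b y : G} (ha : a ∈ D) (hb : b ∈ D) (hy : y ∈ D) (hne : b ≠ a) (hab : a * b = b * a)
    (hzy : (a * b) * y = y * (a * b)) : a * y = y * a := by
  have ha2 := hinv a ha
  have hb2 := hinv b hb
  have hy2 := hinv y hy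
  have hbinv : b⁻¹ = b := inv_eq_of_mul_eq_one_right hb2
  have hainv : a⁻¹ = a := inv_eq_of_mul_eq_one_right ha2
  have hz2 : (a * b) * (a * b) = 1 := by
    calc a * b * (a * b) = a * (b * a) * b := by group
      _ = a * (a * b) * b := by rw [hab]
      _ = (a * a) * (b * b) := by group
      _ = 1 := by rw [ha2, hb2, one_mul]
  have hz1 : a * b ≠ 1 := by
    intro h
    apply hne
    have : a = b⁻¹ := eq_inv_of_mul_eq_one_left h
    rw [hbinv] at this
    exact this.symm
  -- z commutes with y * a
  have hza : (a * b) * a = a * (a * b) := by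
    calc a * b * a = a * (b * a) := by group
      _ = a * (a * b) := by rw [hab]
  have hcomm : Commute (y * a) (a * b) := by
    show y * a * (a * b) = a * b * (y * a)
    calc y * a * (a * b) = y * (a * (a * b)) := by group
      _ = y * ((a * b) * a) := by rw [hza]
      _ = (y * (a * b)) * a := by group
      _ = ((a * b) * y) * a := by rw [hzy]
      _ = a * b * (y * a) := by group
  have hyb : y * b = (y * a) * (a * b) := by
    calc y * b = y * ((a * a) * b) := by rw [ha2, one_mul]
      _ = (y * a) * (a * b) := by group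
  rcases H y hy a ha with hodd | h2
  · -- m = orderOf (y a) odd
    have hm1 : (y * a) ^ orderOf (y * a) = 1 := pow_orderOf_eq_one _
    have hpow : (y * b) ^ orderOf (y * a) = a * b := by
      rw [hyb, hcomm.mul_pow, hm1, one_mul, pow_odd_of_sq hz2 hodd]
    rcases H y hy b hb with hodd' | h2'
    · exfalso
      apply hz1
      have h1 : (y * b) ^ (orderOf (y * a) * orderOf (y * b)) = 1 := by
        rw [mul_comm, pow_mul, pow_orderOf_eq_one, one_pow]
      rw [pow_mul, hpow, pow_odd_of_sq hz2 hodd'] at h1
      exact h1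
    · -- (y b)^2 = 1 so (y a)^2 = 1 so y a = 1
      have h3 : (y * b) ^ 2 = 1 := by rw [← h2']; exact pow_orderOf_eq_one _
      have h4 : (y * a) ^ 2 = 1 := by
        rw [hyb, hcomm.mul_pow] at h3
        have : (a * b) ^ 2 = 1 := by rw [pow_two]; exact hz2
        rw [this, mul_one] at h3
        exact h3
      have h5 : y * a = 1 := by
        have : (y * a) ^ orderOf (y * a) = y * a := by
          apply pow_odd_of_sq _ hodd
          rw [← pow_two]; exact h4
        rw [← this]; exact hm1
      have : y = a := by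
        have := eq_inv_of_mul_eq_one_left h5
        rw [hainv] at this
        exact this
      rw [this]
  · have h3 : (y * a) ^ 2 = 1 := by rw [← h2]; exact pow_orderOf_eq_one _
    exact (comm_of_sq hy2 ha2 h3).symm


/-- Let D be a conjugation-invariant set of involutions of a finite group G. Then every product of two members of D has odd order or order 2 if and only if, for every a in D and every b in D different from a and commuting with a, the members of D commuting with a b are exactly those commuting with both a and b. -/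
theorem result {G : Type*} [Group G] [Finite G] {D : Set G} (hinv : ∀ d ∈ D, orderOf d = 2) (hconj : ∀ g : G, ∀ d ∈ D, g * d * g⁻¹ ∈ D) : (∀ a ∈ D, ∀ b ∈ D, Odd (orderOf (a * b)) ∨ orderOf (a * b) = 2) ↔ ∀ a ∈ D, ∀ b ∈ D, b ≠ a → Commute a b → {y : G | y ∈ D ∧ Commute (a * b) y} = {y : G | y ∈ D ∧ Commute a y} ∩ {y : G | y ∈ D ∧ Commute b y} := by
  have sq_one : ∀ x ∈ D, x * x = 1 := by
    intro x hx
    have := pow_orderOf_eq_one x
    rw [hinv x hx, pow_two] at this
    exact this
  have inv_eq : ∀ x ∈ D, x⁻¹ = x := fun x hx => inv_eq_of_mul_eq_one_right (sq_one x hx)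
  constructor
  · intro H a ha b hb hne hab
    ext y
    constructor
    · rintro ⟨hy, hzy⟩
      refine ⟨⟨hy, ?_⟩, ⟨hy, ?_⟩⟩
      · exact comm_left_of_odd_or_two sq_one H ha hb hy hne hab hzy
      · have hab' : a * b = b * a := hab
        apply comm_left_of_odd_or_two sq_one H hb ha hy (Ne.symm hne) hab'.symm
        rw [← hab']
        exact hzy
    · rintro ⟨⟨hy, hay⟩, ⟨_, hby⟩⟩
      exact ⟨hy, Commute.mul_left hay hby⟩
  · intro Hc a ha b hb
    by_cases hodd : Odd (orderOf (a * b))
    · left; exact hodd
    right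
    obtain ⟨k, hk⟩ := Nat.not_odd_iff_even.mp hodd
    have ha2 := sq_one a ha
    have hb2 := sq_one b hb
    have hainv := inv_eq a ha
    have hbinv := inv_eq b hb
    have hxinv : (a * b)⁻¹ = b * a := by rw [mul_inv_rev, hainv, hbinv]
    have hpos : 0 < orderOf (a * b) := orderOf_pos _
    have hz2 : (a * b) ^ k * (a * b) ^ k = 1 := by rw [← pow_add, ← hk, pow_orderOf_eq_one]
    have hz1 : (a * b) ^ k ≠ 1 := by
      intro h
      have hdvd := orderOf_dvd_of_pow_eq_one h
      have hk0 : 0 < k := by omega
      have := Nat.le_of_dvd hk0 hdvd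
      omega
    have hinvpow : (a * b)⁻¹ ^ k = (a * b) ^ k := by
      rw [inv_pow]; exact inv_eq_of_mul_eq_one_right hz2
    have haz : a * (a * b) ^ k = (a * b) ^ k * a := by
      have h1 : SemiconjBy a (a * b) (a * b)⁻¹ := by
        show a * (a * b) = (a * b)⁻¹ * a
        rw [hxinv]
        calc a * (a * b) = (a * a) * b := by group
          _ = b * (a * a) := by rw [ha2, one_mul, mul_one]
          _ = b * a * a := by group
      have h2 : a * (a * b) ^ k = (a * b)⁻¹ ^ k * a := h1.pow_right k
      rw [h2, hinvpow]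
    have hbz : b * (a * b) ^ k = (a * b) ^ k * b := by
      have h1 : SemiconjBy b (a * b) (a * b)⁻¹ := by
        show b * (a * b) = (a * b)⁻¹ * b
        rw [hxinv]
        group
      have h2 : b * (a * b) ^ k = (a * b)⁻¹ ^ k * b := h1.pow_right k
      rw [h2, hinvpow]
    have ha'D : (a * b) ^ k * a ∈ D := by
      rcases Nat.even_or_odd' k with ⟨j, hj | hj⟩
      · have h1 : a * (a * b)⁻¹ = (a * b) * a := by rw [hxinv]; group
        have := conj_pow_of_invert h1 j
        rw [hj, ← this]
        exact hconj _ _ ha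
      · have hcD : a * b * a⁻¹ ∈ D := hconj a b hb
        rw [hainv] at hcD
        have h1 : (a * b * a) * (a * b)⁻¹ = (a * b) * (a * b * a) := by rw [hxinv]; group
        have := conj_pow_of_invert h1 j
        have h2 : (a * b) ^ k * a = (a * b) ^ (2 * j) * (a * b * a) := by
          rw [hj, pow_succ]; group
        rw [h2, ← this]
        exact hconj _ _ hcD
    have hne : (a * b) ^ k * a ≠ a := by
      intro h
      apply hz1
      exact mul_right_cancel (h.trans (one_mul a).symm)
    have hcomm : Commute a ((a * b) ^ k * a) := by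
      show a * ((a * b) ^ k * a) = (a * b) ^ k * a * a
      rw [← mul_assoc, haz]
    have hset := Hc a ha ((a * b) ^ k * a) ha'D hne hcomm
    have hprod : a * ((a * b) ^ k * a) = (a * b) ^ k := by
      rw [← mul_assoc, haz, mul_assoc, ha2, mul_one]
    rw [hprod] at hset
    have hb_mem : b ∈ {y : G | y ∈ D ∧ Commute ((a * b) ^ k) y} := ⟨hb, hbz.symm⟩
    rw [hset] at hb_mem
    have hab : a * b = b * a := hb_mem.1.2
    have hx2 : (a * b) ^ 2 = 1 := by
      rw [pow_two]
      calc a * b * (a * b) = a * (b * a) * b := by group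
        _ = a * (a * b) * b := by rw [hab]
        _ = (a * a) * (b * b) := by group
        _ = 1 := by rw [ha2, hb2, one_mul]
    have hdvd : orderOf (a * b) ∣ 2 := orderOf_dvd_of_pow_eq_one hx2
    rcases (Nat.dvd_prime Nat.prime_two).mp hdvd with h | h
    · exfalso; apply hodd; rw [h]; exact odd_one
    · exact h

end Cfsg.Agent.S5363
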