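import Cfsg.Statements.S5364
-- import your own Cfsg.Agent.* helpers here

set_option autoImplicit false
open Cfsg

namespace Cfsg.Agent.S5364

theorem mem_zpowers_invol {G : Type*} [Group G] {t x : G} (ht : t * t = 1) (hx : x ∈ Subgroup.zpowers t) :
    x = 1 ∨ x = t := by
  obtain ⟨k, rfl⟩ := Subgroup.mem_zpowers_iff.mp hx
  have ht2 : t ^ (2 : ℤ) = 1 := by
    rw [zpow_two]; exact ht
  rcases Int.even_or_odd' k with ⟨m, hm | hm⟩
  · left
    rw [hm, zpow_mul, ht2, one_zpow]
  · right
    rw [hm, zpow_add, zpow_mul, ht2, one_zpow, one_mul, zpow_one]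


/-- Let D be a conjugation-invariant set of involutions of a finite group G and t an involution in the centre of G such that d t does not lie in D for any d in D. If the images of the members of D in G modulo the subgroup generated by t satisfy the 3-transposition order conditions (each has order 2 and any two have product of order at most 3), then so do the members of D. -/
theorem result {G : Type*} [Group G] [Finite G] {D : Set G} (hinv : ∀ d ∈ D, orderOf d = 2) (hconj : ∀ g : G, ∀ d ∈ D, g * d * g⁻¹ ∈ D) (t : G) (ht : orderOf t = 2) (htZ : t ∈ Subgroup.center G) (hDt : ∀ d ∈ D, d * t ∉ D) [(Subgroup.zpowers t).Normal] (himg : Cfsg.IsThreeTranspositionSet ((QuotientGroup.mk : G → G ⧸ Subgroup.zpowers t) '' D)) : Cfsg.IsThreeTranspositionSet D := by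
  refine ⟨hinv, ?_⟩
  intro d hd e he
  have sq_one : ∀ x ∈ D, x * x = 1 := by
    intro x hx
    have := pow_orderOf_eq_one x
    rw [hinv x hx, pow_two] at this
    exact this
  have inv_eq : ∀ x ∈ D, x⁻¹ = x := fun x hx => inv_eq_of_mul_eq_one_right (sq_one x hx)
  have htt : t * t = 1 := by
    have := pow_orderOf_eq_one t
    rw [ht, pow_two] at this
    exact this
  have htc : ∀ x : G, x * t = t * x := fun x => (Subgroup.mem_center_iff.mp htZ x)
  have hd2 := sq_one d hd
  have he2 := sq_one e he
  have hdi := inv_eq d hd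
  have hei := inv_eq e he
  rcases himg.2 _ ⟨d, hd, rfl⟩ _ ⟨e, he, rfl⟩ with h | h
  · -- (de)^2 ∈ ⟨t⟩
    have hmem : (d * e) ^ 2 ∈ Subgroup.zpowers t := by
      rw [← QuotientGroup.eq_one_iff]
      simpa using h
    rcases mem_zpowers_invol htt hmem with h1 | h1
    · left; exact h1
    · exfalso
      -- e d e⁻¹ = d t
      have hc : e * d * e⁻¹ = d * t := by
        rw [hei]
        have : d * (e * d * e) = t := by
          rw [← h1, pow_two]; group
        calc e * d * e = d * d * (e * d * e) := by rw [hd2, one_mul]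
          _ = d * (d * (e * d * e)) := by group
          _ = d * t := by rw [this]
      exact hDt d hd (hc ▸ hconj e d hd)
  · have hmem : (d * e) ^ 3 ∈ Subgroup.zpowers t := by
      rw [← QuotientGroup.eq_one_iff]
      simpa using h
    rcases mem_zpowers_invol htt hmem with h1 | h1
    · right; exact h1
    · exfalso
      -- g := d (e d e⁻¹) d⁻¹ ∈ D and g * e = t, so g = e t
      have hf : e * d * e⁻¹ ∈ D := hconj e d hd
      have hg : d * (e * d * e⁻¹) * d⁻¹ ∈ D := hconj d _ hf
      have hge : d * (e * d * e⁻¹) * d⁻¹ * e = t := by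
        rw [hei, hdi, ← h1, pow_succ, pow_two]; group
      have hg' : d * (e * d * e⁻¹) * d⁻¹ = e * t := by
        calc d * (e * d * e⁻¹) * d⁻¹ = d * (e * d * e⁻¹) * d⁻¹ * (e * e) := by rw [he2, mul_one]
          _ = (d * (e * d * e⁻¹) * d⁻¹ * e) * e := by group
          _ = t * e := by rw [hge]
          _ = e * t := (htc e).symm
      exact hDt e he (hg' ▸ hg)

end Cfsg.Agent.S5364
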