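import Cfsg.Statements.S5366
-- import your own Cfsg.Agent.* helpers here

set_option autoImplicit false
open Cfsg

namespace Cfsg.Agent.S5366


open Cfsg.LineSystem

variable {X : Type*}

/-- `z` is the third point of a line through the different points `x`, `y` -/
def Rel3 (M : Set (Set X)) (x y z : X) : Prop :=
  z ≠ x ∧ z ≠ y ∧ x ≠ y ∧ ({x, y, z} : Set X) ∈ M

/-- the graph of the map `t(x)` -/
def Graph (M : Set (Set X)) (x y z : X) : Prop :=
  Rel3 M x y z ∨ (z = y ∧ ¬ ∃ w, Rel3 M x y w)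

/-- the iso-invariant form of "every `t(x)` maps lines to lines" -/
def QProp (M : Set (Set X)) : Prop :=
  ∀ x : X, ∀ l ∈ M, {z | ∃ y ∈ l, Graph M x y z} ∈ M

theorem Rel3.swap23 {M : Set (Set X)} {x y z : X} (h : Rel3 M x y z) : Rel3 M x z y := by
  obtain ⟨h1, h2, h3, h4⟩ := h
  refine ⟨h3.symm, h2.symm, h1.symm, ?_⟩
  have : ({x, z, y} : Set X) = {x, y, z} := by
    ext p; simp only [Set.mem_insert_iff, Set.mem_singleton_iff]; tauto
  rw [this]; exact h4

theorem Rel3.swap12 {M : Set (Set X)} {x y z : X} (h : Rel3 M x y z) : Rel3 M y x z := by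
  obtain ⟨h1, h2, h3, h4⟩ := h
  refine ⟨h2, h1, h3.symm, ?_⟩
  have : ({y, x, z} : Set X) = {x, y, z} := by
    ext p; simp only [Set.mem_insert_iff, Set.mem_singleton_iff]; tauto
  rw [this]; exact h4

/-- three-point lines: the third point exists -/
theorem exists_third {L : Set (Set X)} (h3 : ∀ l ∈ L, l.ncard = 3) {l : Set X} (hl : l ∈ L) {x y : X}
    (hx : x ∈ l) (hy : y ∈ l) (hxy : x ≠ y) : ∃ z, z ≠ x ∧ z ≠ y ∧ l = {x, y, z} := by
  have hfin : l.Finite := Set.finite_of_ncard_ne_zero (by rw [h3 l hl]; norm_num)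
  have hsub : ({x, y} : Set X) ⊆ l := by
    intro p hp
    rcases hp with rfl | rfl
    · exact hx
    · exact hy
  have h1 : (l \ {x, y}).ncard = 1 := by
    rw [Set.ncard_sdiff hsub (Set.toFinite _), h3 l hl, Set.ncard_pair hxy]
  obtain ⟨z, hz⟩ := Set.ncard_eq_one.1 h1
  have hzm : z ∈ l \ {x, y} := by rw [hz]; exact Set.mem_singleton z
  refine ⟨z, ?_, ?_, ?_⟩
  · intro h; exact hzm.2 (by rw [h]; exact Set.mem_insert _ _)
  · intro h; exact hzm.2 (by rw [h]; exact Set.mem_insert_of_mem _ (Set.mem_singleton _))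
  · ext p
    constructor
    · intro hp
      by_cases hpxy : p ∈ ({x, y} : Set X)
      · rcases hpxy with rfl | rfl
        · exact Set.mem_insert _ _
        · exact Set.mem_insert_of_mem _ (Set.mem_insert _ _)
      · have : p ∈ l \ {x, y} := ⟨hp, hpxy⟩
        rw [hz] at this
        rw [Set.mem_singleton_iff] at this
        rw [this]
        exact Set.mem_insert_of_mem _ (Set.mem_insert_of_mem _ (Set.mem_singleton _))
    · intro hp
      rcases hp with rfl | rfl | rfl
      · exact hx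
      · exact hy
      · exact hzm.1

/-- in a partial linear space the third point is unique -/
theorem Rel3.unique {L : Set (Set X)} (hPL : IsPartialLinear L) {x y z z' : X}
    (h : Rel3 L x y z) (h' : Rel3 L x y z') : z = z' := by
  have heq := hPL _ h.2.2.2 _ h'.2.2.2 x y h.2.2.1 (by simp) (by simp) (by simp) (by simp)
  have : z' ∈ ({x, y, z} : Set X) := by rw [heq]; simp
  rcases this with h1 | h1 | h1
  · exact absurd h1 h'.1
  · exact absurd h1 h'.2.1
  · exact h1.symm

theorem lineMap_eq_of_rel3 {L : Set (Set X)} (hPL : IsPartialLinear L) {x y z : X} (h : Rel3 L x y z) :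
    lineMap L x y = z := by
  unfold lineMap
  have hex : ∃ z : X, z ≠ x ∧ z ≠ y ∧ x ≠ y ∧ ({x, y, z} : Set X) ∈ L := ⟨z, h⟩
  rw [dif_pos hex]
  exact Rel3.unique hPL hex.choose_spec h

theorem lineMap_eq_self {L : Set (Set X)} {x y : X} (h : ¬ ∃ w, Rel3 L x y w) :
    lineMap L x y = y := by
  unfold lineMap
  have h' : ¬ ∃ z : X, z ≠ x ∧ z ≠ y ∧ x ≠ y ∧ ({x, y, z} : Set X) ∈ L := h
  rw [dif_neg h']

theorem graph_iff {L : Set (Set X)} (hPL : IsPartialLinear L) (x y z : X) :
    Graph L x y z ↔ z = lineMap L x y := by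
  constructor
  · rintro (h | ⟨rfl, h⟩)
    · exact (lineMap_eq_of_rel3 hPL h).symm
    · exact (lineMap_eq_self h).symm
  · intro h
    by_cases hex : ∃ w, Rel3 L x y w
    · obtain ⟨w, hw⟩ := hex
      left
      rw [h, lineMap_eq_of_rel3 hPL hw]
      exact hw
    · right
      exact ⟨by rw [h, lineMap_eq_self hex], hex⟩

theorem lineMap_involutive {L : Set (Set X)} (hPL : IsPartialLinear L) (x : X) :
    Function.Involutive (lineMap L x) := by
  intro y
  by_cases hex : ∃ w, Rel3 L x y w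
  · obtain ⟨w, hw⟩ := hex
    rw [lineMap_eq_of_rel3 hPL hw, lineMap_eq_of_rel3 hPL hw.swap23]
  · rw [lineMap_eq_self hex, lineMap_eq_self hex]

/-- the permutation `t(x)` -/
noncomputable def tPerm {L : Set (Set X)} (hPL : IsPartialLinear L) (x : X) : Equiv.Perm X :=
  (lineMap_involutive hPL x).toPerm _

theorem tPerm_coe {L : Set (Set X)} (hPL : IsPartialLinear L) (x : X) :
    ⇑(tPerm hPL x) = lineMap L x := rfl

theorem tPerm_sq {L : Set (Set X)} (hPL : IsPartialLinear L) (x : X) : tPerm hPL x * tPerm hPL x = 1 := by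
  ext y
  exact lineMap_involutive hPL x y

theorem tPerm_inv {L : Set (Set X)} (hPL : IsPartialLinear L) (x : X) : (tPerm hPL x)⁻¹ = tPerm hPL x :=
  (eq_inv_of_mul_eq_one_right (tPerm_sq hPL x)).symm

theorem tPerm_self {L : Set (Set X)} (hPL : IsPartialLinear L) (x : X) : tPerm hPL x x = x := by
  rw [tPerm_coe]
  apply lineMap_eq_self
  rintro ⟨w, hw⟩
  exact hw.2.2.1 rfl

theorem orderOf_tPerm {L : Set (Set X)} (hPL : IsPartialLinear L) (h3 : ∀ l ∈ L, l.ncard = 3)
    (hnd : IsNondegenerate L) (x : X) : orderOf (tPerm hPL x) = 2 := by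
  have : Fact (Nat.Prime 2) := ⟨Nat.prime_two⟩
  apply orderOf_eq_prime
  · rw [pow_two]; exact tPerm_sq hPL x
  · obtain ⟨l, hl, hx⟩ := hnd x
    have hne : ∃ y ∈ l, y ≠ x := by
      by_contra hcon
      push Not at hcon
      have : l ⊆ {x} := fun p hp => hcon p hp
      have hle := Set.ncard_le_ncard this (Set.toFinite _)
      rw [h3 l hl, Set.ncard_singleton] at hle
      omega
    obtain ⟨y, hy, hyx⟩ := hne
    obtain ⟨z, hz1, hz2, hlz⟩ := exists_third h3 hl hx hy hyx.symm
    have hrel : Rel3 L x y z := ⟨hz1, hz2, hyx.symm, by rw [← hlz]; exact hl⟩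
    intro h1
    have : tPerm hPL x y = y := by rw [h1]; rfl
    rw [tPerm_coe, lineMap_eq_of_rel3 hPL hrel] at this
    exact hz2 this


/-! ### naturality -/

theorem rel3_map {Y Y' : Type*} {M : Set (Set Y)} {M' : Set (Set Y')} (e : Y ≃ Y') (he : IsIso M M' e)
    (x y z : Y) : Rel3 M x y z ↔ Rel3 M' (e x) (e y) (e z) := by
  have himg : e '' {x, y, z} = {e x, e y, e z} := by
    simp only [Set.image_insert_eq, Set.image_singleton]
  unfold Rel3
  rw [he {x, y, z}, himg]
  simp only [ne_eq, EmbeddingLike.apply_eq_iff_eq]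

theorem exists_rel3_map {Y Y' : Type*} {M : Set (Set Y)} {M' : Set (Set Y')} (e : Y ≃ Y') (he : IsIso M M' e)
    (x y : Y) : (∃ w, Rel3 M x y w) ↔ ∃ w', Rel3 M' (e x) (e y) w' := by
  constructor
  · rintro ⟨w, hw⟩
    exact ⟨e w, (rel3_map e he x y w).1 hw⟩
  · rintro ⟨w', hw'⟩
    refine ⟨e.symm w', ?_⟩
    rw [rel3_map e he, Equiv.apply_symm_apply]
    exact hw'

theorem graph_map {Y Y' : Type*} {M : Set (Set Y)} {M' : Set (Set Y')} (e : Y ≃ Y') (he : IsIso M M' e)
    (x y z : Y) : Graph M x y z ↔ Graph M' (e x) (e y) (e z) := by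
  unfold Graph
  rw [rel3_map e he, exists_rel3_map e he, EmbeddingLike.apply_eq_iff_eq]

theorem qprop_of_iso {Y Y' : Type*} {M : Set (Set Y)} {M' : Set (Set Y')} (e : Y ≃ Y') (he : IsIso M M' e)
    (hQ : QProp M') : QProp M := by
  intro x l hl
  have h1 := hQ (e x) (e '' l) ((he l).1 hl)
  rw [he]
  have : e '' {z | ∃ y ∈ l, Graph M x y z} = {z | ∃ y ∈ e '' l, Graph M' (e x) y z} := by
    ext z'
    constructor
    · rintro ⟨z, ⟨y, hy, hg⟩, rfl⟩
      exact ⟨e y, ⟨y, hy, rfl⟩, (graph_map e he x y z).1 hg⟩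
    · rintro ⟨y', ⟨y, hy, rfl⟩, hg⟩
      refine ⟨e.symm z', ⟨y, hy, ?_⟩, e.apply_symm_apply z'⟩
      rw [graph_map e he, e.apply_symm_apply]
      exact hg
  rw [this]
  exact h1

theorem lineMap_conj {L : Set (Set X)} (hPL : IsPartialLinear L) {σ : Equiv.Perm X} (hσ : IsIso L L σ)
    (x y : X) : σ (lineMap L x y) = lineMap L (σ x) (σ y) := by
  by_cases hex : ∃ w, Rel3 L x y w
  · obtain ⟨w, hw⟩ := hex
    rw [lineMap_eq_of_rel3 hPL hw, lineMap_eq_of_rel3 hPL ((rel3_map σ hσ x y w).1 hw)]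
  · have hex' : ¬ ∃ w, Rel3 L (σ x) (σ y) w := by
      rw [← exists_rel3_map σ hσ]
      exact hex
    rw [lineMap_eq_self hex, lineMap_eq_self hex']

theorem tPerm_conj {L : Set (Set X)} (hPL : IsPartialLinear L) {σ : Equiv.Perm X} (hσ : IsIso L L σ)
    (x : X) : σ * tPerm hPL x * σ⁻¹ = tPerm hPL (σ x) := by
  ext y
  show σ (lineMap L x (σ⁻¹ y)) = lineMap L (σ x) y
  rw [lineMap_conj hPL hσ, Equiv.Perm.inv_def, Equiv.apply_symm_apply]

theorem isIso_tPerm {L : Set (Set X)} (hPL : IsPartialLinear L)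
    (hd : ∀ x : X, ∀ l ∈ L, lineMap L x '' l ∈ L) (x : X) : IsIso L L (tPerm hPL x) := by
  intro l
  constructor
  · intro hl
    exact hd x l hl
  · intro hl
    have h1 := hd x _ hl
    have h2 : lineMap L x '' (⇑(tPerm hPL x) '' l) = l := by
      rw [tPerm_coe, Set.image_image]
      have : (fun y => lineMap L x (lineMap L x y)) = id := funext (lineMap_involutive hPL x)
      rw [this, Set.image_id]
    rw [h2] at h1
    exact h1

theorem three_trans {L : Set (Set X)} (hPL : IsPartialLinear L)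
    (hiso : ∀ x : X, IsIso L L (tPerm hPL x)) (x y : X) :
    (tPerm hPL x * tPerm hPL y) ^ 2 = 1 ∨ (tPerm hPL x * tPerm hPL y) ^ 3 = 1 := by
  have haa := tPerm_sq hPL x
  have hbb := tPerm_sq hPL y
  by_cases hex : ∃ w, Rel3 L x y w
  · obtain ⟨z, hz⟩ := hex
    right
    have e1 : tPerm hPL x y = z := lineMap_eq_of_rel3 hPL hz
    have e2 : tPerm hPL y x = z := lineMap_eq_of_rel3 hPL hz.swap12
    have h1 : tPerm hPL x * tPerm hPL y * tPerm hPL x = tPerm hPL z := by
      have := tPerm_conj hPL (hiso x) y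
      rw [tPerm_inv, e1] at this
      exact this
    have h2 : tPerm hPL y * tPerm hPL x * tPerm hPL y = tPerm hPL z := by
      have := tPerm_conj hPL (hiso y) x
      rw [tPerm_inv, e2] at this
      exact this
    calc (tPerm hPL x * tPerm hPL y) ^ 3
        = (tPerm hPL x * tPerm hPL y * tPerm hPL x) * (tPerm hPL y * tPerm hPL x * tPerm hPL y) := by
          simp only [pow_succ, pow_zero, one_mul, mul_assoc]
      _ = 1 := by rw [h1, h2, tPerm_sq]
  · left
    have e1 : tPerm hPL x y = y := lineMap_eq_self hex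
    have h1 : tPerm hPL x * tPerm hPL y * tPerm hPL x = tPerm hPL y := by
      have := tPerm_conj hPL (hiso x) y
      rw [tPerm_inv, e1] at this
      exact this
    calc (tPerm hPL x * tPerm hPL y) ^ 2
        = (tPerm hPL x * tPerm hPL y * tPerm hPL x) * tPerm hPL y := by
          simp only [pow_succ, pow_zero, one_mul, mul_assoc]
      _ = 1 := by rw [h1, hbb]

/-! ### subspaces and restriction -/

theorem isSubspace_span (L : Set (Set X)) (S : Set X) : IsSubspace L (span L S) := by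
  intro k hk p hp q hq hpq hpk hqk r hr
  rw [span, Set.mem_sInter]
  intro T hT
  exact hT.2 k hk p (Set.mem_sInter.1 hp T hT) q (Set.mem_sInter.1 hq T hT) hpq hpk hqk hr

theorem subset_span (L : Set (Set X)) (S : Set X) : S ⊆ span L S :=
  fun _ hp => Set.mem_sInter.2 (fun _ hT => hT.1 hp)

theorem rel3_restrict {L : Set (Set X)} {P : Set X} (x y z : P) :
    Rel3 (restrict L P) x y z ↔ Rel3 L (x : X) (y : X) (z : X) := by
  have key : ({x, y, z} : Set P) ∈ restrict L P ↔ ({(x : X), (y : X), (z : X)} : Set X) ∈ L := by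
    constructor
    · rintro ⟨l, hl, hlP, heq⟩
      have : l = {(x : X), (y : X), (z : X)} := by
        ext p
        constructor
        · intro hp
          have hmem : (⟨p, hlP hp⟩ : P) ∈ ({x, y, z} : Set P) := by rw [heq]; exact hp
          rcases hmem with h | h | h
          · left; exact congrArg Subtype.val h
          · right; left; exact congrArg Subtype.val h
          · right; right; exact congrArg Subtype.val h
        · rintro (rfl | rfl | rfl)
          · have : x ∈ ({x, y, z} : Set P) := by simp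
            rw [heq] at this; exact this
          · have : y ∈ ({x, y, z} : Set P) := by simp
            rw [heq] at this; exact this
          · have : z ∈ ({x, y, z} : Set P) := by simp
            rw [heq] at this; exact this
      rw [← this]; exact hl
    · intro hl
      refine ⟨_, hl, ?_, ?_⟩
      · rintro p (rfl | rfl | rfl)
        · exact x.2
        · exact y.2
        · exact z.2
      · ext p
        simp only [Set.mem_insert_iff, Set.mem_singleton_iff, Set.mem_ofPred_eq, Subtype.ext_iff]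
  unfold Rel3
  rw [key]
  simp only [ne_eq, Subtype.ext_iff]

theorem exists_rel3_restrict {L : Set (Set X)} {P : Set X} (hP : IsSubspace L P) (x y : P) :
    (∃ w : P, Rel3 (restrict L P) x y w) ↔ ∃ w : X, Rel3 L (x : X) (y : X) w := by
  constructor
  · rintro ⟨w, hw⟩
    exact ⟨w, (rel3_restrict x y w).1 hw⟩
  · rintro ⟨w, hw⟩
    have hwP : w ∈ P := hP _ hw.2.2.2 x x.2 y y.2 hw.2.2.1 (by simp) (by simp)
      (by simp : w ∈ ({(x : X), (y : X), w} : Set X))
    exact ⟨⟨w, hwP⟩, (rel3_restrict x y ⟨w, hwP⟩).2 hw⟩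

theorem graph_restrict {L : Set (Set X)} {P : Set X} (hP : IsSubspace L P) (x y z : P) :
    Graph (restrict L P) x y z ↔ Graph L (x : X) (y : X) (z : X) := by
  unfold Graph
  rw [rel3_restrict, exists_rel3_restrict hP, Subtype.ext_iff]

theorem mem_of_graph {L : Set (Set X)} {P : Set X} (hP : IsSubspace L P) (x y : P) {w : X}
    (h : Graph L (x : X) (y : X) w) : w ∈ P := by
  rcases h with h | ⟨rfl, _⟩
  · exact hP _ h.2.2.2 x x.2 y y.2 h.2.2.1 (by simp) (by simp) (by simp)
  · exact y.2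

theorem image_mem_of_qprop {L : Set (Set X)} (hPL : IsPartialLinear L) {P : Set X} (hP : IsSubspace L P)
    (hQ : QProp (restrict L P)) {x : X} (hx : x ∈ P) {l : Set X} (hl : l ∈ L) (hlP : l ⊆ P) :
    lineMap L x '' l ∈ L := by
  have hm : {p : P | (p : X) ∈ l} ∈ restrict L P := ⟨l, hl, hlP, rfl⟩
  obtain ⟨l', hl', hl'P, heq⟩ := hQ ⟨x, hx⟩ _ hm
  have : lineMap L x '' l = l' := by
    ext q
    constructor
    · rintro ⟨y, hy, rfl⟩
      have hg : Graph L x y (lineMap L x y) := (graph_iff hPL x y _).2 rfl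
      have hqP : lineMap L x y ∈ P := mem_of_graph hP ⟨x, hx⟩ ⟨y, hlP hy⟩ hg
      have hmem : (⟨lineMap L x y, hqP⟩ : P) ∈
          {z | ∃ y ∈ {p : P | (p : X) ∈ l}, Graph (restrict L P) ⟨x, hx⟩ y z} :=
        ⟨⟨y, hlP hy⟩, hy, (graph_restrict hP _ _ _).2 hg⟩
      rw [heq] at hmem
      exact hmem
    · intro hq
      have hmem : (⟨q, hl'P hq⟩ : P) ∈ {p : P | (p : X) ∈ l'} := hq
      rw [← heq] at hmem
      obtain ⟨y, hy, hg⟩ := hmem
      exact ⟨y, hy, ((graph_iff hPL x y q).1 ((graph_restrict hP _ _ _).1 hg)).symm⟩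
  rw [this]
  exact hl'

theorem image_mem {L : Set (Set X)} (hL : IsFischerSpace L) (hQ1 : QProp dualAffinePlaneTwo)
    (hQ2 : QProp affinePlaneThree) (x : X) (l : Set X) (hl : l ∈ L) : lineMap L x '' l ∈ L := by
  obtain ⟨hPL, h3, hF⟩ := hL
  by_cases hxl : x ∈ l
  · have hsub : ∀ q ∈ l, lineMap L x q ∈ l := by
      intro q hq
      by_cases hqx : q = x
      · rw [hqx, lineMap_eq_self (by rintro ⟨w, hw⟩; exact hw.2.2.1 rfl)]
        exact hxl
      · obtain ⟨z, hz1, hz2, hlz⟩ := exists_third h3 hl hxl hq (Ne.symm hqx)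
        have hrel : Rel3 L x q z := ⟨hz1, hz2, Ne.symm hqx, by rw [← hlz]; exact hl⟩
        rw [lineMap_eq_of_rel3 hPL hrel, hlz]
        simp
    have : lineMap L x '' l = l := by
      ext q
      constructor
      · rintro ⟨y, hy, rfl⟩
        exact hsub y hy
      · intro hq
        exact ⟨lineMap L x q, hsub q hq, lineMap_involutive hPL x q⟩
    rw [this]
    exact hl
  · by_cases hcol : ∃ y ∈ l, ∃ w, Rel3 L x y w
    · obtain ⟨y, hy, w, hw⟩ := hcol
      have hm : ({x, y, w} : Set X) ∈ L := hw.2.2.2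
      have hne : l ≠ {x, y, w} := by
        intro h
        apply hxl
        rw [h]
        simp
      have hinter : (l ∩ {x, y, w}).Nonempty := ⟨y, hy, by simp⟩
      have hP := isSubspace_span L (l ∪ {x, y, w})
      have hxP : x ∈ span L (l ∪ {x, y, w}) := subset_span L _ (Or.inr (by simp))
      have hlP : l ⊆ span L (l ∪ {x, y, w}) := fun p hp => subset_span L _ (Or.inl hp)
      rcases hF l hl _ hm hne hinter with ⟨e, he⟩ | ⟨e, he⟩
      · exact image_mem_of_qprop hPL hP (qprop_of_iso e he hQ1) hxP hl hlP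
      · exact image_mem_of_qprop hPL hP (qprop_of_iso e he hQ2) hxP hl hlP
    · have : lineMap L x '' l = l := by
        ext q
        constructor
        · rintro ⟨y, hy, rfl⟩
          rw [lineMap_eq_self (fun h => hcol ⟨y, hy, h⟩)]
          exact hy
        · intro hq
          exact ⟨q, hq, lineMap_eq_self (fun h => hcol ⟨q, hq, h⟩)⟩
      rw [this]
      exact hl


/-! ### the dual affine plane of order two -/

/-- decidable form of the third-point relation in the dual affine plane -/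
def rel3D (x y z : DualAffinePoint) : Prop :=
  z ≠ x ∧ z ≠ y ∧ x ≠ y ∧ ∃ i : Fin 4, ∀ s : DualAffinePoint, (s = x ∨ s = y ∨ s = z) ↔ i ∉ s.val

instance (x y z : DualAffinePoint) : Decidable (rel3D x y z) := by
  unfold rel3D; infer_instance

/-- decidable form of the graph relation in the dual affine plane -/
def graphD (x y z : DualAffinePoint) : Prop :=
  rel3D x y z ∨ (z = y ∧ ¬ ∃ w, rel3D x y w)

instance (x y z : DualAffinePoint) : Decidable (graphD x y z) := by
  unfold graphD; infer_instance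

set_option maxRecDepth 100000 in
theorem qD : ∀ x : DualAffinePoint, ∀ i : Fin 4, ∃ j : Fin 4, ∀ z : DualAffinePoint,
    (∃ y : DualAffinePoint, i ∉ y.val ∧ graphD x y z) ↔ j ∉ z.val := by
  decide +kernel


theorem mem_dual_iff (l : Set DualAffinePoint) :
    l ∈ dualAffinePlaneTwo ↔ ∃ i : Fin 4, ∀ s : DualAffinePoint, s ∈ l ↔ i ∉ s.val := by
  constructor
  · rintro ⟨i, rfl⟩
    exact ⟨i, fun s => Iff.rfl⟩
  · rintro ⟨i, hi⟩
    exact ⟨i, Set.ext hi⟩

theorem rel3_dual_iff (x y z : DualAffinePoint) : Rel3 dualAffinePlaneTwo x y z ↔ rel3D x y z := by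
  unfold Rel3 rel3D
  rw [mem_dual_iff]
  simp only [Set.mem_insert_iff, Set.mem_singleton_iff]

theorem graph_dual_iff (x y z : DualAffinePoint) : Graph dualAffinePlaneTwo x y z ↔ graphD x y z := by
  unfold Graph graphD
  simp only [rel3_dual_iff]

theorem qprop_dual : QProp dualAffinePlaneTwo := by
  intro x l hl
  obtain ⟨i, rfl⟩ := hl
  obtain ⟨j, hj⟩ := qD x i
  rw [mem_dual_iff]
  refine ⟨j, fun z => ?_⟩
  rw [← hj z]
  simp only [Set.mem_ofPred_eq, graph_dual_iff]

/-! ### the affine plane of order three -/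

theorem three_add (v : Fin 2 → ZMod 3) : v + v + v = 0 := by
  funext i
  have : ∀ a : ZMod 3, a + a + a = 0 := by decide
  exact this (v i)

theorem two_add (u : Fin 2 → ZMod 3) : u + u = -u := by
  rw [eq_neg_iff_add_eq_zero]
  exact three_add u

theorem neg_sub_self (u : Fin 2 → ZMod 3) : -u - u = u := by
  rw [sub_eq_add_neg, ← neg_add, two_add, neg_neg]

theorem zmod3_sum : ∀ c₁ c₂ c₃ : ZMod 3, c₁ ≠ c₂ → c₁ ≠ c₃ → c₂ ≠ c₃ → c₁ + c₂ + c₃ = 0 := by decide

theorem rel3_affine {x y z : Fin 2 → ZMod 3} (h : Rel3 affinePlaneThree x y z) : z = -x - y := by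
  obtain ⟨hzx, hzy, hxy, v, w, hw, heq⟩ := h
  have hx : x ∈ ({x, y, z} : Set (Fin 2 → ZMod 3)) := by simp
  have hy : y ∈ ({x, y, z} : Set (Fin 2 → ZMod 3)) := by simp
  have hz : z ∈ ({x, y, z} : Set (Fin 2 → ZMod 3)) := by simp
  rw [heq] at hx hy hz
  obtain ⟨c₁, rfl⟩ := hx
  obtain ⟨c₂, rfl⟩ := hy
  obtain ⟨c₃, rfl⟩ := hz
  have h12 : c₁ ≠ c₂ := fun h => hxy (by rw [h])
  have h13 : c₁ ≠ c₃ := fun h => hzx (by rw [h])
  have h23 : c₂ ≠ c₃ := fun h => hzy (by rw [h])
  have hs := zmod3_sum c₁ c₂ c₃ h12 h13 h23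
  have hsum : (v + c₁ • w) + (v + c₂ • w) + (v + c₃ • w) = 0 := by
    have : (v + c₁ • w) + (v + c₂ • w) + (v + c₃ • w) = (v + v + v) + (c₁ + c₂ + c₃) • w := by
      rw [add_smul, add_smul]
      abel
    rw [this, three_add, hs, zero_smul, add_zero]
  have : v + c₃ • w = -(v + c₁ • w) - (v + c₂ • w) + ((v + c₁ • w) + (v + c₂ • w) + (v + c₃ • w)) := by
    abel
  rw [this, hsum, add_zero]

theorem rel3_affine_of_ne {x y : Fin 2 → ZMod 3} (hxy : x ≠ y) : Rel3 affinePlaneThree x y (-x - y) := by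
  refine ⟨?_, ?_, hxy, x, y - x, sub_ne_zero.2 hxy.symm, ?_⟩
  · intro h
    apply hxy
    have : y = -x - x := by linear_combination -h
    rw [this, neg_sub_self]
  · intro h
    apply hxy
    have : x = -y - y := by linear_combination -h
    rw [this, neg_sub_self]
  · have h2 : x + (2 : ZMod 3) • (y - x) = -x - y := by
      rw [two_smul]
      calc x + ((y - x) + (y - x)) = (y + y) - x := by abel
        _ = -y - x := by rw [two_add]
        _ = -x - y := by abel
    ext p
    simp only [Set.mem_insert_iff, Set.mem_singleton_iff, Set.mem_ofPred_eq]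
    constructor
    · rintro (rfl | rfl | rfl)
      · exact ⟨0, by simp⟩
      · exact ⟨1, by simp⟩
      · exact ⟨2, h2.symm⟩
    · rintro ⟨c, rfl⟩
      have hc : c = 0 ∨ c = 1 ∨ c = 2 := by
        revert c
        decide
      rcases hc with rfl | rfl | rfl
      · left; simp
      · right; left; simp
      · right; right; exact h2

theorem graph_affine_iff (x y z : Fin 2 → ZMod 3) : Graph affinePlaneThree x y z ↔ z = -x - y := by
  constructor
  · rintro (h | ⟨hzy, h⟩)
    · exact rel3_affine h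
    · by_cases hxy : x = y
      · rw [hzy, hxy, neg_sub_self]
      · exact absurd ⟨_, rel3_affine_of_ne hxy⟩ h
  · intro h
    by_cases hxy : x = y
    · right
      refine ⟨by rw [h, hxy, neg_sub_self], ?_⟩
      rintro ⟨w, hw⟩
      exact hw.2.2.1 hxy
    · left
      rw [h]
      exact rel3_affine_of_ne hxy

theorem qprop_affine : QProp affinePlaneThree := by
  intro x l hl
  obtain ⟨v, w, hw, rfl⟩ := hl
  refine ⟨-x - v, -w, neg_ne_zero.2 hw, ?_⟩
  ext z
  simp only [Set.mem_ofPred_eq, graph_affine_iff]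
  constructor
  · rintro ⟨y, ⟨c, rfl⟩, rfl⟩
    exact ⟨c, by rw [smul_neg]; abel⟩
  · rintro ⟨c, rfl⟩
    exact ⟨v + c • w, ⟨c, rfl⟩, by rw [smul_neg]; abel⟩

theorem main {L : Set (Set X)} (hL : IsFischerSpace L) (hnd : IsNondegenerate L)
    (hQ1 : QProp dualAffinePlaneTwo) (hQ2 : QProp affinePlaneThree) :
    (∀ x : X, ∃ σ : Equiv.Perm X, ⇑σ = lineMap L x ∧ orderOf σ = 2 ∧ IsIso L L σ) ∧
      Cfsg.IsThreeTranspositionSet {σ : Equiv.Perm X | ∃ x : X, ⇑σ = lineMap L x} := by
  have hPL := hL.1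
  have h3 := hL.2.1
  have hiso : ∀ x : X, IsIso L L (tPerm hPL x) := isIso_tPerm hPL (image_mem hL hQ1 hQ2)
  have hmem : ∀ σ : Equiv.Perm X, (∃ x : X, ⇑σ = lineMap L x) → ∃ x, σ = tPerm hPL x := by
    rintro σ ⟨x, hx⟩
    exact ⟨x, DFunLike.coe_injective (by rw [hx, tPerm_coe])⟩
  refine ⟨fun x => ⟨tPerm hPL x, tPerm_coe hPL x, orderOf_tPerm hPL h3 hnd x, hiso x⟩, ?_, ?_⟩
  · intro σ hσ
    obtain ⟨x, rfl⟩ := hmem σ hσ
    exact orderOf_tPerm hPL h3 hnd x
  · intro σ hσ τ hτ
    obtain ⟨x, rfl⟩ := hmem σ hσ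
    obtain ⟨y, rfl⟩ := hmem τ hτ
    exact three_trans hPL hiso x y



/-- Let L be a nondegenerate Fischer space on the point type X (every point on a line). Then for every point x the map t(x) — sending a point collinear with x to the third point of their common line and fixing every other point — is a permutation of X of order 2 and an automorphism of the line system; and the set of all t(x) satisfies the 3-transposition order conditions in the permutation group of X (any two have product of order at most 3). -/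
theorem result {X : Type*} (L : Set (Set X)) (hL : Cfsg.IsFischerSpace L) (hnd : Cfsg.LineSystem.IsNondegenerate L) : (∀ x : X, ∃ σ : Equiv.Perm X, ⇑σ = Cfsg.LineSystem.lineMap L x ∧ orderOf σ = 2 ∧ Cfsg.LineSystem.IsIso L L σ) ∧ Cfsg.IsThreeTranspositionSet {σ : Equiv.Perm X | ∃ x : X, ⇑σ = Cfsg.LineSystem.lineMap L x} := by
  exact main hL hnd qprop_dual qprop_affine

end Cfsg.Agent.S5366
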