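import Cfsg.Statements.S5392
import Cfsg.Agent.Lib.Helper8.CrossStab
import Cfsg.Agent.Lib.Helper8.Co0Orbit
import Cfsg.Agent.Lib.Helper8.LeechMod2
import Cfsg.Agent.S0397
import Cfsg.Agent.S0398
import Cfsg.Agent.S0400
import Cfsg.Agent.S0401
import Cfsg.Agent.S5593
import Cfsg.Agent.S1567

set_option autoImplicit false
open Cfsg

namespace Cfsg.Agent.S5392

open Cfsg.Agent.Lib.Helper8 Cfsg.Agent.Lib.Helper7

/-- `4 e_i + 4 e_j` -/
def pairVec (i j : GolayPt) : GolayPt → ℤ := Pi.single i 4 + Pi.single j 4

theorem pairVec_mem {i j : GolayPt} (hij : i ≠ j) : pairVec i j ∈ leechLattice := by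
  apply AddSubgroup.subset_closure
  refine Cfsg.Spor.mem_leechSet_of_const_mod_four _ 0 0 (by decide) (fun k => ?_) ?_
  · simp only [pairVec, Pi.add_apply, Pi.single_apply]
    split_ifs <;> decide
  · unfold pairVec
    rw [Finset.sum_congr rfl (fun k _ => Pi.add_apply _ _ k), Finset.sum_add_distrib,
      Finset.sum_pi_single', Finset.sum_pi_single']
    simp

theorem sqNorm_pairVec {i j : GolayPt} (hij : i ≠ j) : sqNorm (pairVec i j) = 32 := by
  unfold pairVec
  rw [sqNorm_add']
  have h1 : ∀ k : GolayPt, sqNorm (Pi.single k (4 : ℤ) : GolayPt → ℤ) = 16 := by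
    intro k
    unfold sqNorm
    rw [Finset.sum_eq_single k]
    · simp
    · intro l _ hl; simp [hl]
    · intro h; exact absurd (Finset.mem_univ k) h
  have h2 : dotInt (Pi.single i (4 : ℤ) : GolayPt → ℤ) (Pi.single j (4 : ℤ)) = 0 := by
    unfold dotInt
    apply Finset.sum_eq_zero
    intro k _
    by_cases hk : k = i
    · subst hk
      rw [Pi.single_eq_of_ne hij]; ring
    · rw [Pi.single_eq_of_ne hk]; ring
  rw [h1, h1, h2]; norm_num

theorem pairVec_apply_left {i j : GolayPt} (hij : i ≠ j) : pairVec i j i = 4 := by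
  simp [pairVec, hij]

theorem pairVec_apply_right {i j : GolayPt} (hij : i ≠ j) : pairVec i j j = 4 := by
  simp [pairVec, hij.symm]

theorem pairVec_apply_ne {i j k : GolayPt} (hi : k ≠ i) (hj : k ≠ j) : pairVec i j k = 0 := by
  simp [pairVec, hi, hj]

theorem exists_two_ne (i : GolayPt) : ∃ j k : GolayPt, j ≠ i ∧ k ≠ i ∧ j ≠ k := by
  revert i; decide

/-- an automorphism acting trivially modulo twice the lattice is `1` or `-1` -/
theorem kernel_cases (g : Co0)
    (hg : ∀ v : leechLattice, ∃ w : leechLattice,
      ((g • v : leechLattice) : GolayPt → ℤ) - (v : GolayPt → ℤ) = 2 • (w : GolayPt → ℤ)) :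
    (∀ v : leechLattice, g • v = v) ∨ (∀ v : leechLattice, g • v = -v) := by
  classical
  have hcong : ∀ v : leechLattice,
      ((g • v : leechLattice) : GolayPt → ℤ) - (v : GolayPt → ℤ) ∈ L2 := by
    intro v
    obtain ⟨w, hw⟩ := hg v
    exact mem_L2.2 ⟨w.1, w.2, hw⟩
  -- `g` preserves the standard cross
  have hpres : PresCross g := by
    intro u hu
    apply Cfsg.Agent.S0397.mem_stdCross_of_cong (g • u).2
    · rw [co0_sqNorm]
      obtain ⟨i, s, hs, hu⟩ := hu
      rw [hu]
      rcases hs with rfl | rfl
      · rw [← e8_eq_single, sqNorm_e8]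
      · have : (Pi.single i (-8) : GolayPt → ℤ) = - e8 i := by rw [e8_eq_single, Pi.single_neg]
        rw [this, sqNorm_neg', sqNorm_e8]
    · have h1 := L2.add_mem (hcong u) (Cfsg.Agent.S0397.T_sub_mem_L2 hu)
      have : ((g • u : leechLattice) : GolayPt → ℤ) - (u : GolayPt → ℤ)
          + ((u : GolayPt → ℤ) - (Cfsg.Agent.S0397.v0 : GolayPt → ℤ))
          = ((g • u : leechLattice) : GolayPt → ℤ) - e8 none := by
        show _ = ((g • u : leechLattice) : GolayPt → ℤ) - (Cfsg.Agent.S0397.v0 : GolayPt → ℤ)
        abel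
      rwa [this] at h1
  obtain ⟨σ, -, c, -, hval⟩ := exists_signedPerm_of_presCross g hpres
  -- minimal vectors are mapped to `± themselves`
  have hmin : ∀ x : leechLattice, sqNorm (x : GolayPt → ℤ) = 32 → g • x = x ∨ g • x = -x := by
    intro x hx
    by_contra hcon
    push Not at hcon
    have hc := hcong x
    have hc' : (x : GolayPt → ℤ) - ((g • x : leechLattice) : GolayPt → ℤ) ∈ L2 := by
      have := L2.neg_mem hc
      rwa [neg_sub] at this
    have := pair_lemma x.2 (g • x).2 hc' (by omega) (by rw [co0_sqNorm]; omega)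
      (fun h => hcon.1 (Subtype.ext h)) (fun h => hcon.2 (Subtype.ext h))
    omega
  have hpair : ∀ i j : GolayPt, i ≠ j →
      signedPerm σ c (pairVec i j) = pairVec i j ∨ signedPerm σ c (pairVec i j) = - pairVec i j := by
    intro i j hij
    rcases hmin ⟨pairVec i j, pairVec_mem hij⟩ (sqNorm_pairVec hij) with h | h
    · left
      have := hval ⟨pairVec i j, pairVec_mem hij⟩
      rw [h] at this
      exact this.symm
    · right
      have := hval ⟨pairVec i j, pairVec_mem hij⟩
      rw [h] at this
      exact this.symm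
  -- the permutation is trivial
  have hσ_mem : ∀ i j : GolayPt, i ≠ j → σ i = i ∨ σ i = j := by
    intro i j hij
    by_contra hcon
    push Not at hcon
    have h0 : pairVec i j (σ i) = 0 := pairVec_apply_ne hcon.1 hcon.2
    have h1 : signedPerm σ c (pairVec i j) (σ i) ≠ 0 := by
      unfold signedPerm
      rw [Equiv.symm_apply_apply, pairVec_apply_left hij]
      split_ifs <;> norm_num
    rcases hpair i j hij with h | h
    · rw [h] at h1; exact h1 h0
    · rw [h, Pi.neg_apply, h0] at h1; exact h1 rfl
  have hσ1 : ∀ i, σ i = i := by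
    intro i
    obtain ⟨j, k, hj, hk, hjk⟩ := exists_two_ne i
    rcases hσ_mem i j hj.symm with h | h
    · exact h
    · rcases hσ_mem i k hk.symm with h' | h'
      · exact h'
      · exact absurd (h.symm.trans h') hjk
  have hσ : σ = 1 := Equiv.ext hσ1
  subst hσ
  have hval' : ∀ (v : leechLattice) (k : GolayPt),
      ((g • v : leechLattice) : GolayPt → ℤ) k = if k ∈ c then -(v : GolayPt → ℤ) k else (v : GolayPt → ℤ) k := by
    intro v k
    rw [hval]
    rfl
  -- the sign set is empty or everything
  have hc_iff : ∀ i j : GolayPt, i ≠ j → (i ∈ c ↔ j ∈ c) := by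
    intro i j hij
    have hi := hval' ⟨pairVec i j, pairVec_mem hij⟩ i
    have hj := hval' ⟨pairVec i j, pairVec_mem hij⟩ j
    simp only [pairVec_apply_left hij, pairVec_apply_right hij] at hi hj
    rcases hmin ⟨pairVec i j, pairVec_mem hij⟩ (sqNorm_pairVec hij) with h | h
    · rw [h] at hi hj
      simp only [pairVec_apply_left hij, pairVec_apply_right hij] at hi hj
      constructor
      · intro hic; rw [if_pos hic] at hi; omega
      · intro hjc; rw [if_pos hjc] at hj; omega
    · rw [h] at hi hj
      have e1 : ((-(⟨pairVec i j, pairVec_mem hij⟩ : leechLattice) : leechLattice) : GolayPt → ℤ) i = -4 := by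
        show -(pairVec i j i) = -4
        rw [pairVec_apply_left hij]
      have e2 : ((-(⟨pairVec i j, pairVec_mem hij⟩ : leechLattice) : leechLattice) : GolayPt → ℤ) j = -4 := by
        show -(pairVec i j j) = -4
        rw [pairVec_apply_right hij]
      rw [e1] at hi
      rw [e2] at hj
      constructor
      · intro _
        by_contra hjc
        rw [if_neg hjc] at hj; omega
      · intro _
        by_contra hic
        rw [if_neg hic] at hi; omega
  by_cases hnone : (none : GolayPt) ∈ c
  · right
    intro v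
    apply Subtype.ext
    funext k
    rw [hval']
    have : k ∈ c := by
      by_cases hk : k = none
      · rw [hk]; exact hnone
      · exact (hc_iff k none hk).2 hnone
    rw [if_pos this]
    rfl
  · left
    intro v
    apply Subtype.ext
    funext k
    rw [hval']
    have : k ∉ c := by
      by_cases hk : k = none
      · rw [hk]; exact hnone
      · exact fun h => hnone ((hc_iff k none hk).1 h)
    rw [if_neg this]

/-- two explicit norm-48 vectors with minimal difference -/
def p5 : GolayPt → ℤ := fun j => if j = none then 5 else 1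
def q5 : GolayPt → ℤ := fun j => if j = some 0 then 5 else 1
theorem p5_test : leechTest p5 := by decide +kernel
theorem q5_test : leechTest q5 := by decide +kernel
theorem p5_norm : sqNorm p5 = 48 := by decide +kernel
theorem q5_norm : sqNorm q5 = 48 := by decide +kernel
theorem pq5_norm : sqNorm (p5 - q5) = 32 := by decide +kernel

/-- two explicit norm-64 vectors with minimal difference -/
def p4 : GolayPt → ℤ := fun j => if j = none ∨ j = some 0 ∨ j = some 1 ∨ j = some 2 then 4 else 0
def q4 : GolayPt → ℤ := fun j => if j = some 3 ∨ j = some 0 ∨ j = some 1 ∨ j = some 2 then 4 else 0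
theorem p4_test : leechTest p4 := by decide +kernel
theorem q4_test : leechTest q4 := by decide +kernel
theorem p4_norm : sqNorm p4 = 64 := by decide +kernel
theorem q4_norm : sqNorm q4 = 64 := by decide +kernel
theorem pq4_norm : sqNorm (p4 - q4) = 32 := by decide +kernel

theorem mem_of_test {x : GolayPt → ℤ} (h : leechTest x) : x ∈ leechLattice :=
  (mem_leechLattice_iff _).2 (mem_leechSet_of_test h)

/-- The Leech lattice modulo twice itself is a faithful irreducible module for the first Conway group: an automorphism of the rank-24 lattice built from the length-24 code that moves every lattice vector only by twice a lattice vector lies in the centre of the automorphism group (the centre consists of ±1, which act trivially there, so the kernel is exactly the centre), and an additive subgroup lying between twice the lattice and the lattice that is invariant under all lattice automorphisms is one of the two. -/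
theorem result : (∀ g : ↥Cfsg.Co0, (∀ v : ↥Cfsg.leechLattice, ∃ w : ↥Cfsg.leechLattice, ((g • v : ↥Cfsg.leechLattice) : Cfsg.GolayPt → ℤ) - (v : Cfsg.GolayPt → ℤ) = 2 • (w : Cfsg.GolayPt → ℤ)) → g ∈ Subgroup.center ↥Cfsg.Co0) ∧ ∀ M : AddSubgroup (Cfsg.GolayPt → ℤ), (∀ v ∈ Cfsg.leechLattice, (2 : ℤ) • v ∈ M) → M ≤ Cfsg.leechLattice → (∀ g : ↥Cfsg.Co0, ∀ v : ↥Cfsg.leechLattice, (v : Cfsg.GolayPt → ℤ) ∈ M → ((g • v : ↥Cfsg.leechLattice) : Cfsg.GolayPt → ℤ) ∈ M) → (∀ x ∈ M, ∃ w ∈ Cfsg.leechLattice, x = (2 : ℤ) • w) ∨ M = Cfsg.leechLattice := by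
  constructor
  · intro g hg
    rcases kernel_cases g hg with h | h
    · have : g = 1 := by
        apply Subtype.ext
        apply Equiv.ext
        intro v
        exact h v
      rw [this]
      exact Subgroup.one_mem _
    · have : g = Cfsg.Agent.S0398.negCo0 := by
        apply Subtype.ext
        apply Equiv.ext
        intro v
        exact h v
      rw [this]
      exact Cfsg.Agent.S0398.negCo0_mem_center
  · intro M h2 hle hinv
    by_cases hall : ∀ x ∈ M, ∃ w ∈ Cfsg.leechLattice, x = (2 : ℤ) • w
    · exact Or.inl hall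
    right
    push Not at hall
    obtain ⟨x, hxM, hx⟩ := hall
    obtain ⟨y, hy, hyn, z, hz, hxyz⟩ := exists_short_rep x (hle hxM)
    have h2z : 2 • z ∈ M := by
      have := h2 z hz
      have e : (2 : ℤ) • z = 2 • z := by
        funext k; simp
      rwa [e] at this
    have hyM : y ∈ M := by
      have := M.sub_mem hxM h2z
      rw [← hxyz] at this
      simpa using this
    have hy0 : y ≠ 0 := by
      intro h0
      rw [h0, sub_zero] at hxyz
      apply hx z hz
      rw [hxyz]
      funext k; simp
    -- all minimal vectors lie in `M`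
    have key : ∀ v : leechLattice, sqNorm (v : GolayPt → ℤ) = 32 → (v : GolayPt → ℤ) ∈ M := by
      have from32 : ∀ y0 : leechLattice, sqNorm (y0 : GolayPt → ℤ) = 32 → (y0 : GolayPt → ℤ) ∈ M →
          ∀ v : leechLattice, sqNorm (v : GolayPt → ℤ) = 32 → (v : GolayPt → ℤ) ∈ M := by
        intro y0 hy0n hy0M v hv
        obtain ⟨g, hg⟩ := Cfsg.Agent.S0400.result y0 v hy0n hv
        rw [← hg]
        exact hinv g y0 hy0M
      rcases sqNorm_cases hy hyn with h | h | h | h
      · exact absurd ((sqNorm_eq_zero_iff y).1 h) hy0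
      · exact from32 ⟨y, hy⟩ h hyM
      · have h48 : ∀ v : leechLattice, sqNorm (v : GolayPt → ℤ) = 48 → (v : GolayPt → ℤ) ∈ M := by
          intro v hv
          obtain ⟨g, hg⟩ := Cfsg.Agent.S0401.result ⟨y, hy⟩ v h hv
          rw [← hg]
          exact hinv g ⟨y, hy⟩ hyM
        have hp := h48 ⟨p5, mem_of_test p5_test⟩ p5_norm
        have hq := h48 ⟨q5, mem_of_test q5_test⟩ q5_norm
        exact from32 ⟨p5 - q5, leechLattice.sub_mem (mem_of_test p5_test) (mem_of_test q5_test)⟩
          pq5_norm (M.sub_mem hp hq)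
      · have h64 : ∀ v : leechLattice, sqNorm (v : GolayPt → ℤ) = 64 → (v : GolayPt → ℤ) ∈ M := by
          intro v hv
          obtain ⟨g, hg⟩ := (Cfsg.Agent.S5593.rel_a0 ⟨y, hy⟩ h).trans (Cfsg.Agent.S5593.rel_a0 v hv).symm
          rw [← hg]
          exact hinv g ⟨y, hy⟩ hyM
        have hp := h64 ⟨p4, mem_of_test p4_test⟩ p4_norm
        have hq := h64 ⟨q4, mem_of_test q4_test⟩ q4_norm
        exact from32 ⟨p4 - q4, leechLattice.sub_mem (mem_of_test p4_test) (mem_of_test q4_test)⟩
          pq4_norm (M.sub_mem hp hq)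
    apply le_antisymm hle
    rw [← Cfsg.Agent.S1567.result, AddSubgroup.closure_le]
    rintro v ⟨hv, hvn⟩
    exact key ⟨v, hv⟩ hvn

end Cfsg.Agent.S5392
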