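import Cfsg.Statements.S5393
-- import your own Cfsg.Agent.* helpers here
import Cfsg.Agent.Lib.Helper7.M24Dodecads

set_option autoImplicit false
open Cfsg

namespace Cfsg.Agent.S5393

open Cfsg.Agent.Lib.Helper7
open scoped Pointwise

/-- transport membership along an element of `M24` via supports -/
theorem mem_of_smul (W : Submodule (ZMod 2) (GolayPt → ZMod 2))
    (hinv : ∀ σ ∈ M24, ∀ w ∈ W, (fun p => w (σ.symm p)) ∈ W)
    {w : GolayPt → ZMod 2} (hw : w ∈ W) {g : Equiv.Perm GolayPt} (hg : g ∈ M24)
    {v : GolayPt → ZMod 2} (hv : support₂ v = g • support₂ w) : v ∈ W := by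
  have h := hinv g hg w hw
  rw [← support₂_comp_symm] at hv
  rwa [support₂_injective hv]

/-- generic version of `wordOf_encL_mem` -/
theorem wordOf_encL_mem' (W : Submodule (ZMod 2) (GolayPt → ZMod 2)) (bs : List ℕ)
    (h : ∀ b ∈ bs, wordOf b ∈ W) (j c : ℕ) : wordOf (encL bs j c) ∈ W := by
  induction bs generalizing j with
  | nil => simp only [encL, wordOf_zero]; exact W.zero_mem
  | cons b bs ih =>
    simp only [encL, wordOf_xor]
    refine W.add_mem ?_ (ih (fun b' hb' => h b' (List.mem_cons_of_mem _ hb')) _)
    split_ifs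
    · exact h b List.mem_cons_self
    · rw [wordOf_zero]; exact W.zero_mem

theorem basis_octads : ∀ b ∈ basisMasks, isOctadMask b = true := by decide

/-- if `W` contains an octad word it contains the whole code -/
theorem le_of_octad (W : Submodule (ZMod 2) (GolayPt → ZMod 2))
    (hinv : ∀ σ ∈ M24, ∀ w ∈ W, (fun p => w (σ.symm p)) ∈ W)
    {w : GolayPt → ZMod 2} (hw : w ∈ W) (ho : support₂ w ∈ octads) : golayCode ≤ W := by
  have hb : ∀ b ∈ basisMasks, wordOf b ∈ W := by
    intro b hb
    obtain ⟨g, hg⟩ := exists_M24_smul_octad ho (setOf_mem_octads (basis_octads b hb))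
    refine mem_of_smul W hinv hw g.2 ?_
    rw [support₂_wordOf, ← hg]
    rfl
  intro v hv
  obtain ⟨c, _, rfl⟩ := (mem_golayCode_iff v).mp hv
  exact wordOf_encL_mem' W _ hb _ _

theorem support₂_add_one (w : GolayPt → ZMod 2) : support₂ (w + 1) = (support₂ w)ᶜ := by
  ext p
  simp only [support₂, Finset.mem_filter, Finset.mem_univ, true_and, Finset.mem_compl,
    Pi.add_apply, Pi.one_apply]
  generalize w p = a
  revert a
  decide

theorem eq_one_of_weight {w : GolayPt → ZMod 2} (h : hammingNorm w = 24) : w = 1 := by
  have hs : support₂ w = Finset.univ := by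
    apply Finset.eq_univ_of_card
    rw [card_support₂_eq_hammingNorm, h]
    rfl
  funext p
  have hp : p ∈ support₂ w := by rw [hs]; exact Finset.mem_univ p
  simp only [support₂, Finset.mem_filter, Finset.mem_univ, true_and] at hp
  rw [Pi.one_apply]
  generalize w p = a at hp
  revert a
  decide

theorem dod_masks : isDodecadMask 0x7dd00d = true ∧ isDodecadMask 0xf3700e = true ∧
    isOctadMask (0x7dd00d ^^^ 0xf3700e) = true := by decide


/-- The length-24 code built from the squares modulo 23 contains the all-ones word, and the code modulo the all-ones word is an irreducible module over the field with two elements for the code's automorphism group: a subspace of the code that contains the all-ones word and is invariant under every coordinate permutation preserving the code is either the span of the all-ones word or the whole code. -/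
theorem result : (fun _ : Cfsg.GolayPt => (1 : ZMod 2)) ∈ Cfsg.golayCode ∧ ∀ W : Submodule (ZMod 2) (Cfsg.GolayPt → ZMod 2), (fun _ => (1 : ZMod 2)) ∈ W → W ≤ Cfsg.golayCode → (∀ σ ∈ Cfsg.M24, ∀ w ∈ W, (fun p => w (σ.symm p)) ∈ W) → W = Submodule.span (ZMod 2) {fun _ => (1 : ZMod 2)} ∨ W = Cfsg.golayCode := by
  have h1 : (fun _ : GolayPt => (1 : ZMod 2)) = 1 := rfl
  rw [h1]
  refine ⟨golay_one_mem', ?_⟩
  intro W hW1 hWle hinv
  by_cases hex : ∃ w ∈ W, w ≠ 0 ∧ w ≠ 1
  · right
    refine le_antisymm hWle ?_
    obtain ⟨w, hw, hw0, hw1⟩ := hex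
    have hwc := hWle hw
    rcases golay_weight hwc with h | h | h | h | h
    · exact absurd (hammingNorm_eq_zero.mp h) hw0
    · refine le_of_octad W hinv hw ?_
      exact (mem_octads_iff _).mpr ⟨w, hwc, rfl, by rw [card_support₂_eq_hammingNorm, h]⟩
    · -- dodecad
      have hd : support₂ w ∈ dodecads :=
        (mem_dodecads_iff _).mpr ⟨w, hwc, rfl, by rw [card_support₂_eq_hammingNorm, h]⟩
      obtain ⟨hm1, hm2, hm3⟩ := dod_masks
      have key : ∀ m, isDodecadMask m = true → wordOf m ∈ W := by
        intro m hm
        obtain ⟨g, hg⟩ := exists_M24_smul_dodecad hd (setOf_mem_dodecads hm)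
        refine mem_of_smul W hinv hw g.2 ?_
        rw [support₂_wordOf, ← hg]
        rfl
      have h3 : wordOf (0x7dd00d ^^^ 0xf3700e) ∈ W := by
        rw [wordOf_xor]
        exact W.add_mem (key _ hm1) (key _ hm2)
      refine le_of_octad W hinv h3 ?_
      rw [support₂_wordOf]
      exact setOf_mem_octads hm3
    · -- weight 16: complement is an octad
      have h3 : w + 1 ∈ W := W.add_mem hw hW1
      refine le_of_octad W hinv h3 ?_
      refine (mem_octads_iff _).mpr ⟨w + 1, golayCode.add_mem hwc golay_one_mem', rfl, ?_⟩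
      rw [support₂_add_one, Finset.card_compl, card_support₂_eq_hammingNorm, h]
      rfl
    · exact absurd (eq_one_of_weight h) hw1
  · left
    push Not at hex
    refine le_antisymm ?_ ?_
    · intro w hw
      by_cases hw0 : w = 0
      · rw [hw0]; exact Submodule.zero_mem _
      · rw [hex w hw hw0]
        exact Submodule.subset_span rfl
    · rw [Submodule.span_le]
      intro x hx
      rw [Set.mem_singleton_iff] at hx
      rw [hx]
      exact hW1

end Cfsg.Agent.S5393
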