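import Cfsg.Statements.S5395
-- import your own Cfsg.Agent.* helpers here

set_option autoImplicit false
open Cfsg

namespace Cfsg.Agent.S5395

open scoped Classical in
/-- A group of order two embeds in `ℂˣ`. -/
theorem exists_injective_hom_of_card_two (Z : Type*) [Group Z] (hZ : Nat.card Z = 2) :
    ∃ χ : Z →* ℂˣ, Function.Injective χ := by
  obtain ⟨z, hz1, hzu⟩ := (Nat.card_eq_two_iff' (1 : Z)).mp hZ
  have hall : ∀ a : Z, a = 1 ∨ a = z := by
    intro a
    by_cases h : a = 1
    · left; exact h
    · right; exact hzu a h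
  have hzz : z * z = 1 := by
    rcases hall (z * z) with h | h
    · exact h
    · exfalso; apply hz1
      have : z * z = z * 1 := by rw [h, mul_one]
      exact mul_left_cancel this
  let f : Z → ℂˣ := fun a => if a = 1 then 1 else -1
  have hf1 : f 1 = 1 := if_pos rfl
  have hfz : f z = -1 := if_neg hz1
  refine ⟨MonoidHom.mk' f ?_, ?_⟩
  · intro a b
    rcases hall a with rfl | rfl <;> rcases hall b with rfl | rfl
    · simp [hf1]
    · simp [hf1]
    · simp [hf1]
    · rw [hzz, hf1, hfz]; simp
  · intro a b hab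
    have hne : (-1 : ℂˣ) ≠ 1 := by
      intro h
      have := congrArg Units.val h
      norm_num at this
    change f a = f b at hab
    rcases hall a with rfl | rfl <;> rcases hall b with rfl | rfl
    · rfl
    · rw [hf1, hfz] at hab; exact absurd hab.symm hne
    · rw [hf1, hfz] at hab; exact absurd hab hne
    · rfl

/-- the number of homomorphisms from a finite abelian group to `ℂˣ` -/
theorem card_hom_complex (W : Type*) [CommGroup W] [Finite W] : Nat.card (W →* ℂˣ) = Nat.card W := by
  have hne : NeZero ((Monoid.exponent W : ℕ) : ℂ) := by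
    constructor
    have : Monoid.exponent W ≠ 0 := Monoid.exponent_ne_zero_of_finite
    exact_mod_cast this
  exact CommGroup.card_monoidHom_of_hasEnoughRootsOfUnity W ℂ

/-- the homomorphism `x ↦ ψ x * x⁻¹` into the centre attached to an automorphism acting trivially
modulo the centre -/
def centralHom {E : Type*} [Group E] (ψ : E ≃* E) (hψ : ∀ x : E, ψ x * x⁻¹ ∈ Subgroup.center E) :
    E →* Subgroup.center E :=
  MonoidHom.mk' (fun x => ⟨ψ x * x⁻¹, hψ x⟩) (by
    intro a b
    apply Subtype.ext
    have hc : (ψ b * b⁻¹) * a⁻¹ = a⁻¹ * (ψ b * b⁻¹) := (Subgroup.mem_center_iff.mp (hψ b) a⁻¹).symm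
    show ψ (a * b) * (a * b)⁻¹ = ψ a * a⁻¹ * (ψ b * b⁻¹)
    rw [map_mul, mul_inv_rev]
    calc ψ a * ψ b * (b⁻¹ * a⁻¹) = ψ a * ((ψ b * b⁻¹) * a⁻¹) := by group
      _ = ψ a * (a⁻¹ * (ψ b * b⁻¹)) := by rw [hc]
      _ = ψ a * a⁻¹ * (ψ b * b⁻¹) := by group)

theorem centralHom_apply {E : Type*} [Group E] (ψ : E ≃* E) (hψ : ∀ x : E, ψ x * x⁻¹ ∈ Subgroup.center E)
    (x : E) : ((centralHom ψ hψ x : Subgroup.center E) : E) = ψ x * x⁻¹ := rfl

theorem conj_ker_eq_center (E : Type*) [Group E] : (MulAut.conj : E →* MulAut E).ker = Subgroup.center E := by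
  ext g
  rw [MonoidHom.mem_ker, Subgroup.mem_center_iff]
  constructor
  · intro h x
    have := congrArg (fun f : MulAut E => f x) h
    simp only [MulAut.conj_apply, MulAut.one_apply] at this
    calc x * g = (g * x * g⁻¹) * g := by rw [this]
      _ = g * x := by group
  · intro h
    ext x
    simp only [MulAut.conj_apply, MulAut.one_apply]
    rw [← h x]; group


/-- For a finite extraspecial 2-group E, an automorphism of E that induces the identity on E modulo its centre is inner (so these automorphisms form exactly the inner automorphism group, an elementary abelian 2-group of order |E|/2). -/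
theorem result {E : Type*} [Group E] [Finite E] (hE : Cfsg.IsExtraspecial 2 E) (φ : E ≃* E) (hφ : ∀ x : E, φ x * x⁻¹ ∈ Subgroup.center E) : ∃ g : E, ∀ x : E, φ x = g * x * g⁻¹ := by
  classical
  obtain ⟨⟨_, _, hcomm⟩, hcard⟩ := hE
  -- the set of automorphisms acting trivially modulo the centre
  let A : Set (MulAut E) := {ψ | ∀ x : E, ψ x * x⁻¹ ∈ Subgroup.center E}
  let I : Set (MulAut E) := Set.range (MulAut.conj : E → MulAut E)
  have hIA : I ⊆ A := by
    rintro _ ⟨g, rfl⟩ x
    rw [← hcomm]
    have : (MulAut.conj g) x * x⁻¹ = g * x * g⁻¹ * x⁻¹ := by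
      simp
    rw [this]
    exact Subgroup.commutator_mem_commutator (Subgroup.mem_top g) (Subgroup.mem_top x)
  obtain ⟨χ, hχ⟩ := exists_injective_hom_of_card_two (Subgroup.center E) hcard
  -- the map from A to characters of the abelianization
  let L : A → (Abelianization E →* ℂˣ) := fun ψ => Abelianization.lift (χ.comp (centralHom ψ.1 ψ.2))
  have hL : Function.Injective L := by
    intro ψ ψ' h
    have h1 : χ.comp (centralHom ψ.1 ψ.2) = χ.comp (centralHom ψ'.1 ψ'.2) := Abelianization.lift.injective h
    apply Subtype.ext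
    ext x
    have h2 : χ (centralHom ψ.1 ψ.2 x) = χ (centralHom ψ'.1 ψ'.2 x) := DFunLike.congr_fun h1 x
    have h3 := congrArg Subtype.val (hχ h2)
    rw [centralHom_apply, centralHom_apply] at h3
    exact mul_right_cancel h3
  have hcardHom : Nat.card (Abelianization E →* ℂˣ) = Nat.card (Abelianization E) := card_hom_complex _
  have hfin : Finite (Abelianization E →* ℂˣ) := by
    apply Nat.finite_of_card_ne_zero
    rw [hcardHom]
    exact Nat.card_pos.ne'
  have hA_le : Nat.card A ≤ Nat.card (Abelianization E) := by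
    rw [← hcardHom]
    exact Nat.card_le_card_of_injective L hL
  -- |E| = |Ab E| * 2
  have hE1 : Nat.card E = Nat.card (Abelianization E) * 2 := by
    have h0 : Nat.card (commutator E) = 2 := by rw [hcomm]; exact hcard
    have := Subgroup.card_eq_card_quotient_mul_card_subgroup (commutator E)
    rw [h0] at this
    exact this
  -- |E| = |I| * 2
  have hE2 : Nat.card E = Nat.card I * 2 := by
    have h1 := Subgroup.card_mul_index (MulAut.conj : E →* MulAut E).ker
    rw [Subgroup.index_ker, conj_ker_eq_center, hcard] at h1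
    have h2 : Nat.card I = Nat.card (MulAut.conj : E →* MulAut E).range := rfl
    rw [h2, ← h1, mul_comm]
  have hI_ge : A.ncard ≤ I.ncard := by
    rw [← Nat.card_coe_set_eq, ← Nat.card_coe_set_eq]
    omega
  have hAI : I = A := Set.eq_of_subset_of_ncard_le hIA hI_ge (Set.toFinite _)
  have hφA : (φ : MulAut E) ∈ A := hφ
  rw [← hAI] at hφA
  obtain ⟨g, hg⟩ := hφA
  refine ⟨g, fun x => ?_⟩
  rw [← hg]
  simp

end Cfsg.Agent.S5395
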