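import Cfsg.Statements.S5396
-- import your own Cfsg.Agent.* helpers here

set_option autoImplicit false
open Cfsg

namespace Cfsg.Agent.S5396


/-- the underlying vector space -/
abbrev V (m : ℕ) := Fin (m + 1) → ZMod 2 × ZMod 2

theorem V_add_self {m : ℕ} (v : V m) : v + v = 0 := by
  funext i
  apply Prod.ext
  · exact CharTwo.add_self_eq_zero _
  · exact CharTwo.add_self_eq_zero _

/-- the bilinear form -/
def bil (m : ℕ) (ε : Bool) (v w : V m) : ZMod 2 :=
  (∑ i, (v i).2 * (w i).1) + (if ε then (v 0).1 * (w 0).1 + (v 0).2 * (w 0).2 else 0)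

theorem bil_add_left (m : ℕ) (ε : Bool) (v v' w : V m) : bil m ε (v + v') w = bil m ε v w + bil m ε v' w := by
  unfold bil
  have : ∑ i, ((v + v') i).2 * (w i).1 = ∑ i, (v i).2 * (w i).1 + ∑ i, (v' i).2 * (w i).1 := by
    rw [← Finset.sum_add_distrib]
    apply Finset.sum_congr rfl
    intro i _
    simp [add_mul]
  rw [this]
  cases ε
  · simp
  · simp only [if_true, Pi.add_apply, Prod.fst_add, Prod.snd_add]
    ring

theorem bil_add_right (m : ℕ) (ε : Bool) (v w w' : V m) : bil m ε v (w + w') = bil m ε v w + bil m ε v w' := by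
  unfold bil
  have : ∑ i, (v i).2 * ((w + w') i).1 = ∑ i, (v i).2 * (w i).1 + ∑ i, (v i).2 * (w' i).1 := by
    rw [← Finset.sum_add_distrib]
    apply Finset.sum_congr rfl
    intro i _
    simp [mul_add]
  rw [this]
  cases ε
  · simp
  · simp only [if_true, Pi.add_apply, Prod.fst_add, Prod.snd_add]
    ring

theorem bil_zero_left (m : ℕ) (ε : Bool) (w : V m) : bil m ε 0 w = 0 := by
  have := bil_add_left m ε 0 0 w
  rw [add_zero] at this
  exact left_eq_add.mp this

theorem bil_zero_right (m : ℕ) (ε : Bool) (v : V m) : bil m ε v 0 = 0 := by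
  have := bil_add_right m ε v 0 0
  rw [add_zero] at this
  exact left_eq_add.mp this

/-- the extraspecial group as a type -/
@[ext]
structure ES (m : ℕ) (ε : Bool) where
  v : V m
  a : ZMod 2

instance instMulES (m : ℕ) (ε : Bool) : Mul (ES m ε) := ⟨fun x y => ⟨x.v + y.v, x.a + y.a + bil m ε x.v y.v⟩⟩
instance instOneES (m : ℕ) (ε : Bool) : One (ES m ε) := ⟨⟨0, 0⟩⟩
instance instInvES (m : ℕ) (ε : Bool) : Inv (ES m ε) := ⟨fun x => ⟨x.v, x.a + bil m ε x.v x.v⟩⟩

theorem mul_v {m : ℕ} {ε : Bool} (x y : ES m ε) : (x * y).v = x.v + y.v := rfl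
theorem mul_a {m : ℕ} {ε : Bool} (x y : ES m ε) : (x * y).a = x.a + y.a + bil m ε x.v y.v := rfl
theorem one_v {m : ℕ} {ε : Bool} : (1 : ES m ε).v = 0 := rfl
theorem one_a {m : ℕ} {ε : Bool} : (1 : ES m ε).a = 0 := rfl
theorem inv_v {m : ℕ} {ε : Bool} (x : ES m ε) : (x⁻¹).v = x.v := rfl
theorem inv_a {m : ℕ} {ε : Bool} (x : ES m ε) : (x⁻¹).a = x.a + bil m ε x.v x.v := rfl

instance instGroupES (m : ℕ) (ε : Bool) : Group (ES m ε) :=
  Group.ofLeftAxioms
    (by
      intro x y z
      apply ES.ext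
      · simp only [mul_v, add_assoc]
      · simp only [mul_a, mul_v, bil_add_left, bil_add_right]
        abel)
    (by
      intro x
      apply ES.ext
      · simp only [mul_v, one_v, zero_add]
      · simp only [mul_a, one_a, one_v, bil_zero_left, zero_add, add_zero])
    (by
      intro x
      apply ES.ext
      · simp only [mul_v, inv_v, one_v, V_add_self]
      · simp only [mul_a, inv_a, inv_v, one_a]
        have h1 : x.a + x.a = 0 := CharTwo.add_self_eq_zero _
        have h2 : bil m ε x.v x.v + bil m ε x.v x.v = 0 := CharTwo.add_self_eq_zero _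
        calc x.a + bil m ε x.v x.v + x.a + bil m ε x.v x.v
            = (x.a + x.a) + (bil m ε x.v x.v + bil m ε x.v x.v) := by abel
          _ = 0 := by rw [h1, h2, add_zero])

/-- equivalence with the product, for counting -/
def esEquiv (m : ℕ) (ε : Bool) : ES m ε ≃ V m × ZMod 2 where
  toFun x := (x.v, x.a)
  invFun p := ⟨p.1, p.2⟩
  left_inv _ := rfl
  right_inv _ := rfl

instance instFiniteES (m : ℕ) (ε : Bool) : Finite (ES m ε) := Finite.of_equiv _ (esEquiv m ε).symm

theorem card_V (m : ℕ) : Nat.card (V m) = 2 ^ (2 * (m + 1)) := by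
  rw [Nat.card_eq_fintype_card, Fintype.card_fun, Fintype.card_prod, ZMod.card, Fintype.card_fin, pow_mul]
  norm_num

theorem card_ES (m : ℕ) (ε : Bool) : Nat.card (ES m ε) = 2 ^ (2 * (m + 1) + 1) := by
  rw [Nat.card_congr (esEquiv m ε), Nat.card_prod, card_V, Nat.card_eq_fintype_card, ZMod.card, pow_succ]


/-! ### the symplectic form and the quadratic form -/

/-- the alternating form -/
def om (m : ℕ) (ε : Bool) (v w : V m) : ZMod 2 := bil m ε v w + bil m ε w v

theorem om_add_left (m : ℕ) (ε : Bool) (v v' w : V m) : om m ε (v + v') w = om m ε v w + om m ε v' w := by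
  unfold om
  rw [bil_add_left, bil_add_right]
  abel

theorem om_comm (m : ℕ) (ε : Bool) (v w : V m) : om m ε v w = om m ε w v := by
  unfold om
  exact add_comm _ _

theorem om_add_right (m : ℕ) (ε : Bool) (v w w' : V m) : om m ε v (w + w') = om m ε v w + om m ε v w' := by
  rw [om_comm, om_add_left, om_comm m ε w v, om_comm m ε w' v]

theorem om_self (m : ℕ) (ε : Bool) (v : V m) : om m ε v v = 0 := CharTwo.add_self_eq_zero _

theorem om_zero_right (m : ℕ) (ε : Bool) (v : V m) : om m ε v 0 = 0 := by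
  unfold om
  rw [bil_zero_left, bil_zero_right, add_zero]

/-- explicit formula for the alternating form -/
theorem om_eq (m : ℕ) (ε : Bool) (v w : V m) :
    om m ε v w = ∑ i, ((v i).2 * (w i).1 + (w i).2 * (v i).1) := by
  unfold om bil
  rw [Finset.sum_add_distrib]
  cases ε
  · simp
  · simp only [if_true]
    have h : (v 0).1 * (w 0).1 + (v 0).2 * (w 0).2 + ((w 0).1 * (v 0).1 + (w 0).2 * (v 0).2) = 0 := by
      have : (v 0).1 * (w 0).1 + (v 0).2 * (w 0).2 + ((w 0).1 * (v 0).1 + (w 0).2 * (v 0).2) =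
          ((v 0).1 * (w 0).1 + (v 0).2 * (w 0).2) + ((v 0).1 * (w 0).1 + (v 0).2 * (w 0).2) := by ring
      rw [this]
      exact CharTwo.add_self_eq_zero _
    calc ∑ i, (v i).2 * (w i).1 + ((v 0).1 * (w 0).1 + (v 0).2 * (w 0).2) +
          (∑ i, (w i).2 * (v i).1 + ((w 0).1 * (v 0).1 + (w 0).2 * (v 0).2))
        = ∑ i, (v i).2 * (w i).1 + ∑ i, (w i).2 * (v i).1 +
          ((v 0).1 * (w 0).1 + (v 0).2 * (w 0).2 + ((w 0).1 * (v 0).1 + (w 0).2 * (v 0).2)) := by abel
      _ = _ := by rw [h, add_zero]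

theorem om_single_fst (m : ℕ) (ε : Bool) (v : V m) (j : Fin (m + 1)) :
    om m ε v (Pi.single j (1, 0)) = (v j).2 := by
  rw [om_eq, Finset.sum_eq_single j]
  · simp
  · intro i _ hij
    simp [Pi.single_eq_of_ne hij]
  · intro h; exact absurd (Finset.mem_univ j) h

theorem om_single_snd (m : ℕ) (ε : Bool) (v : V m) (j : Fin (m + 1)) :
    om m ε v (Pi.single j (0, 1)) = (v j).1 := by
  rw [om_eq, Finset.sum_eq_single j]
  · simp
  · intro i _ hij
    simp [Pi.single_eq_of_ne hij]
  · intro h; exact absurd (Finset.mem_univ j) h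

/-- nondegeneracy -/
theorem om_nondeg (m : ℕ) (ε : Bool) (v : V m) (h : ∀ w, om m ε v w = 0) : v = 0 := by
  funext j
  apply Prod.ext
  · have := h (Pi.single j (0, 1))
    rw [om_single_snd] at this
    exact this
  · have := h (Pi.single j (1, 0))
    rw [om_single_fst] at this
    exact this

theorem zmod2_cases : ∀ a : ZMod 2, a = 0 ∨ a = 1 := by decide

theorem exists_om_eq_one (m : ℕ) (ε : Bool) {v : V m} (hv : v ≠ 0) : ∃ w, om m ε v w = 1 := by
  by_contra hcon
  push Not at hcon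
  apply hv
  apply om_nondeg m ε
  intro w
  rcases zmod2_cases (om m ε v w) with h | h
  · exact h
  · exact absurd h (hcon w)

/-! ### commutation in the group -/

theorem mul_comm_iff {m : ℕ} {ε : Bool} (x y : ES m ε) : x * y = y * x ↔ om m ε x.v y.v = 0 := by
  constructor
  · intro h
    have := congrArg ES.a h
    simp only [mul_a] at this
    unfold om
    have h2 : bil m ε x.v y.v = bil m ε y.v x.v := by
      have h3 : x.a + y.a + bil m ε x.v y.v = x.a + y.a + bil m ε y.v x.v := by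
        rw [this]; abel
      exact add_left_cancel h3
    rw [h2]
    exact CharTwo.add_self_eq_zero _
  · intro h
    apply ES.ext
    · simp only [mul_v, add_comm]
    · simp only [mul_a]
      unfold om at h
      have h2 : bil m ε x.v y.v = bil m ε y.v x.v := by
        have := CharTwo.add_eq_zero.mp h
        exact this
      rw [h2]
      abel

/-- the central element -/
def zz (m : ℕ) (ε : Bool) : ES m ε := ⟨0, 1⟩

/-- the centre, explicitly -/
def Zsub (m : ℕ) (ε : Bool) : Subgroup (ES m ε) where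
  carrier := {x | x.v = 0}
  one_mem' := rfl
  mul_mem' := by
    intro x y hx hy
    show (x * y).v = 0
    rw [mul_v, hx, hy, add_zero]
  inv_mem' := by
    intro x hx
    exact hx

theorem mem_Zsub {m : ℕ} {ε : Bool} (x : ES m ε) : x ∈ Zsub m ε ↔ x.v = 0 := Iff.rfl

theorem mem_Zsub_iff {m : ℕ} {ε : Bool} (x : ES m ε) : x ∈ Zsub m ε ↔ x = 1 ∨ x = zz m ε := by
  rw [mem_Zsub]
  constructor
  · intro h
    rcases zmod2_cases x.a with ha | ha
    · left; exact ES.ext h ha
    · right; exact ES.ext h ha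
  · rintro (rfl | rfl) <;> rfl

theorem center_eq (m : ℕ) (ε : Bool) : Subgroup.center (ES m ε) = Zsub m ε := by
  ext x
  rw [Subgroup.mem_center_iff, mem_Zsub]
  constructor
  · intro h
    apply om_nondeg m ε
    intro w
    have := h ⟨w, 0⟩
    rw [mul_comm_iff] at this
    rw [om_comm]
    exact this
  · intro h y
    rw [mul_comm_iff, h, om_zero_right]

theorem card_Zsub (m : ℕ) (ε : Bool) : Nat.card (Zsub m ε) = 2 := by
  have e : Zsub m ε ≃ ZMod 2 :=
    { toFun := fun x => x.1.a
      invFun := fun a => ⟨⟨0, a⟩, rfl⟩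
      left_inv := by
        rintro ⟨x, hx⟩
        apply Subtype.ext
        exact ES.ext hx.symm rfl
      right_inv := fun a => rfl }
  rw [Nat.card_congr e, Nat.card_eq_fintype_card, ZMod.card]

/-- the commutator of two elements -/
theorem comm_eq {m : ℕ} {ε : Bool} (x y : ES m ε) : x * y * x⁻¹ * y⁻¹ = ⟨0, om m ε x.v y.v⟩ := by
  have h1 : x * y = (⟨0, om m ε x.v y.v⟩ : ES m ε) * (y * x) := by
    apply ES.ext
    · show x.v + y.v = 0 + (y.v + x.v)
      rw [zero_add, add_comm]
    · simp only [mul_a, mul_v, bil_zero_left, add_zero]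
      unfold om
      have : bil m ε y.v x.v + bil m ε y.v x.v = 0 := CharTwo.add_self_eq_zero _
      calc x.a + y.a + bil m ε x.v y.v = x.a + y.a + bil m ε x.v y.v + (bil m ε y.v x.v + bil m ε y.v x.v) := by
            rw [this, add_zero]
        _ = _ := by abel
  calc x * y * x⁻¹ * y⁻¹ = (x * y) * (y * x)⁻¹ := by group
    _ = ⟨0, om m ε x.v y.v⟩ := by rw [h1]; group

theorem commutator_eq (m : ℕ) (ε : Bool) : commutator (ES m ε) = Zsub m ε := by
  apply le_antisymm
  · rw [commutator_def, Subgroup.commutator_le]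
    intro x _ y _
    rw [commutatorElement_def, comm_eq]
    rfl
  · intro x hx
    rcases (mem_Zsub_iff x).1 hx with rfl | rfl
    · exact Subgroup.one_mem _
    · have h : zz m ε = (⟨Pi.single 0 (0, 1), 0⟩ : ES m ε) * ⟨Pi.single 0 (1, 0), 0⟩ *
          (⟨Pi.single 0 (0, 1), 0⟩ : ES m ε)⁻¹ * (⟨Pi.single 0 (1, 0), 0⟩ : ES m ε)⁻¹ := by
        rw [comm_eq]
        apply ES.ext
        · rfl
        · show (1 : ZMod 2) = om m ε (Pi.single 0 (0, 1)) (Pi.single 0 (1, 0))
          rw [om_single_fst]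
          simp
      rw [h]
      exact Subgroup.commutator_mem_commutator (Subgroup.mem_top _) (Subgroup.mem_top _)


/-! ### the Frattini subgroup -/

/-- the functional `x ↦ ω(x.v, w)` as a homomorphism -/
def omHom (m : ℕ) (ε : Bool) (w : V m) : ES m ε →* Multiplicative (ZMod 2) where
  toFun x := Multiplicative.ofAdd (om m ε x.v w)
  map_one' := by
    show Multiplicative.ofAdd (om m ε 0 w) = 1
    rw [om_comm, om_zero_right]
    rfl
  map_mul' := by
    intro x y
    show Multiplicative.ofAdd (om m ε (x.v + y.v) w) = _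
    rw [om_add_left]
    rfl

theorem isCoatom_bot_c2 : IsCoatom (⊥ : Subgroup (Multiplicative (ZMod 2))) := by
  have : Fact (Nat.Prime 2) := ⟨Nat.prime_two⟩
  have : IsSimpleGroup (Multiplicative (ZMod 2)) := isSimpleGroup_of_prime_card (p := 2) (by simp)
  exact isCoatom_bot

theorem frattini_le (m : ℕ) (ε : Bool) : frattini (ES m ε) ≤ Zsub m ε := by
  intro x hx
  rw [mem_Zsub]
  apply om_nondeg m ε
  intro w
  by_cases hw : ∀ y : ES m ε, om m ε y.v w = 0
  · exact hw x
  · push Not at hw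
    obtain ⟨y0, hy0⟩ := hw
    have hy1 : om m ε y0.v w = 1 := by
      rcases zmod2_cases (om m ε y0.v w) with h | h
      · exact absurd h hy0
      · exact h
    have hsurj : Function.Surjective (omHom m ε w) := by
      intro c
      rcases zmod2_cases (Multiplicative.toAdd c) with h | h
      · refine ⟨1, ?_⟩
        rw [map_one]
        exact (Multiplicative.toAdd.injective (by rw [h]; rfl))
      · refine ⟨y0, ?_⟩
        apply Multiplicative.toAdd.injective
        rw [h]
        exact hy1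
    have hco := Subgroup.isCoatom_comap_of_surjective hsurj isCoatom_bot_c2
    have := frattini_le_coatom hco hx
    rw [Subgroup.mem_comap, Subgroup.mem_bot] at this
    have h2 : Multiplicative.toAdd (omHom m ε w x) = 0 := by rw [this]; rfl
    exact h2

theorem zz_mem_center (m : ℕ) (ε : Bool) : zz m ε ∈ Subgroup.center (ES m ε) := by
  rw [center_eq]; rfl

theorem zz_mem_coatom (m : ℕ) (ε : Bool) (M : Subgroup (ES m ε)) (hM : IsCoatom M) : zz m ε ∈ M := by
  by_contra hz
  have hlt : M < M ⊔ Subgroup.zpowers (zz m ε) := by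
    apply lt_of_le_of_ne le_sup_left
    intro h
    apply hz
    have : zz m ε ∈ M ⊔ Subgroup.zpowers (zz m ε) :=
      (le_sup_right : Subgroup.zpowers (zz m ε) ≤ _) (Subgroup.mem_zpowers _)
    rw [← h] at this
    exact this
  have htop := hM.2 _ hlt
  have hzle : Subgroup.zpowers (zz m ε) ≤ Zsub m ε := by
    rw [Subgroup.zpowers_le]; rfl
  have hnorm : (Subgroup.zpowers (zz m ε)).Normal := by
    constructor
    intro n hn g
    have hc : n ∈ Subgroup.center (ES m ε) := by rw [center_eq]; exact hzle hn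
    have : g * n * g⁻¹ = n := by
      rw [Subgroup.mem_center_iff] at hc
      rw [hc g]; group
    rw [this]; exact hn
  have hdecomp : ∀ x : ES m ε, ∃ y ∈ M, y.v = x.v := by
    intro x
    have hx : x ∈ M ⊔ Subgroup.zpowers (zz m ε) := by rw [htop]; exact Subgroup.mem_top _
    obtain ⟨y, hy, t, ht, rfl⟩ := Subgroup.mem_sup_of_normal_right.1 hx
    refine ⟨y, hy, ?_⟩
    rw [mul_v, (mem_Zsub t).1 (hzle ht), add_zero]
  have hcomm : commutator (ES m ε) ≤ M := by
    rw [commutator_def, Subgroup.commutator_le]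
    intro x _ y _
    obtain ⟨x', hx', hxv⟩ := hdecomp x
    obtain ⟨y', hy', hyv⟩ := hdecomp y
    have : x * y * x⁻¹ * y⁻¹ = x' * y' * x'⁻¹ * y'⁻¹ := by
      rw [comm_eq, comm_eq, hxv, hyv]
    rw [commutatorElement_def, this]
    exact M.mul_mem (M.mul_mem (M.mul_mem hx' hy') (M.inv_mem hx')) (M.inv_mem hy')
  apply hz
  apply hcomm
  rw [commutator_eq]
  rfl

theorem frattini_eq (m : ℕ) (ε : Bool) : frattini (ES m ε) = Zsub m ε := by
  apply le_antisymm (frattini_le m ε)
  intro x hx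
  rcases (mem_Zsub_iff x).1 hx with rfl | rfl
  · exact Subgroup.one_mem _
  · unfold frattini Order.radical
    simp only [Subgroup.mem_iInf]
    intro M hM
    exact zz_mem_coatom m ε M hM

theorem isExtraspecial (m : ℕ) (ε : Bool) : Cfsg.IsExtraspecial 2 (ES m ε) := by
  refine ⟨⟨?_, ?_, ?_⟩, ?_⟩
  · exact IsPGroup.of_card (card_ES m ε)
  · rw [frattini_eq, center_eq]
  · rw [commutator_eq, center_eq]
  · rw [center_eq, card_Zsub]


/-! ### character sums -/

/-- the sign character of `ZMod 2` -/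
def sg (a : ZMod 2) : ℤ := if a = 0 then 1 else -1

theorem sg_zero : sg 0 = 1 := rfl
theorem sg_one : sg 1 = -1 := rfl
theorem sg_add : ∀ a b : ZMod 2, sg (a + b) = sg a * sg b := by decide

theorem sg_sum {ι : Type*} (S : Finset ι) (f : ι → ZMod 2) : sg (∑ i ∈ S, f i) = ∏ i ∈ S, sg (f i) := by
  classical
  induction S using Finset.induction_on with
  | empty => simp [sg_zero]
  | insert a S ha ih => rw [Finset.sum_insert ha, Finset.prod_insert ha, sg_add, ih]

/-- the quadratic form -/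
def qf (m : ℕ) (ε : Bool) (v : V m) : ZMod 2 := bil m ε v v

theorem qf_add (m : ℕ) (ε : Bool) (v u : V m) : qf m ε (v + u) = qf m ε v + qf m ε u + om m ε v u := by
  unfold qf om
  rw [bil_add_left, bil_add_right, bil_add_right]
  abel

/-- orthogonality of characters on an additively closed finite set -/
theorem sum_sg_om (m : ℕ) (ε : Bool) (U : Finset (V m)) (hadd : ∀ u ∈ U, ∀ u' ∈ U, u + u' ∈ U) (v : V m) :
    ∑ u ∈ U, sg (om m ε v u) = if (∀ u ∈ U, om m ε v u = 0) then (U.card : ℤ) else 0 := by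
  split_ifs with h
  · rw [Finset.sum_congr rfl (fun u hu => by rw [h u hu, sg_zero])]
    simp
  · push Not at h
    obtain ⟨u0, hu0, hne⟩ := h
    have h1 : om m ε v u0 = 1 := by
      rcases zmod2_cases (om m ε v u0) with h | h
      · exact absurd h hne
      · exact h
    have key : ∑ u ∈ U, sg (om m ε v u) = ∑ u ∈ U, sg (om m ε v (u + u0)) := by
      apply Finset.sum_nbij' (fun u => u + u0) (fun u => u + u0)
      · intro u hu; exact hadd u hu u0 hu0
      · intro u hu; exact hadd u hu u0 hu0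
      · intro u _
        show u + u0 + u0 = u
        rw [add_assoc, V_add_self, add_zero]
      · intro u _
        show u + u0 + u0 = u
        rw [add_assoc, V_add_self, add_zero]
      · intro u _
        have : u + u0 + u0 = u := by rw [add_assoc, V_add_self, add_zero]
        rw [this]
    have key2 : ∑ u ∈ U, sg (om m ε v (u + u0)) = - ∑ u ∈ U, sg (om m ε v u) := by
      rw [← Finset.sum_neg_distrib]
      apply Finset.sum_congr rfl
      intro u _
      rw [om_add_right, sg_add, h1, sg_one]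
      ring
    have : ∑ u ∈ U, sg (om m ε v u) = - ∑ u ∈ U, sg (om m ε v u) := key.trans key2
    omega

/-- the orthogonal complement of a finite set -/
noncomputable def perp (m : ℕ) (ε : Bool) (U : Finset (V m)) : Finset (V m) :=
  by classical exact Finset.univ.filter (fun v => ∀ u ∈ U, om m ε v u = 0)

theorem mem_perp {m : ℕ} {ε : Bool} {U : Finset (V m)} {v : V m} :
    v ∈ perp m ε U ↔ ∀ u ∈ U, om m ε v u = 0 := by
  unfold perp
  simp

theorem card_V' (m : ℕ) : Fintype.card (V m) = 2 ^ (2 * (m + 1)) := by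
  rw [← Nat.card_eq_fintype_card, card_V]

/-- `|U| · |U^⊥| = |V|` -/
theorem card_mul_card_perp (m : ℕ) (ε : Bool) (U : Finset (V m)) (hadd : ∀ u ∈ U, ∀ u' ∈ U, u + u' ∈ U)
    (h0 : (0 : V m) ∈ U) : U.card * (perp m ε U).card = 2 ^ (2 * (m + 1)) := by
  classical
  have h1 : ∑ v : V m, ∑ u ∈ U, sg (om m ε v u) = (U.card : ℤ) * ((perp m ε U).card : ℤ) := by
    simp_rw [sum_sg_om m ε U hadd]
    rw [← Finset.sum_filter]
    simp only [Finset.sum_const, nsmul_eq_mul]
    have : (Finset.univ.filter (fun v : V m => ∀ u ∈ U, om m ε v u = 0)) = perp m ε U := by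
      ext v; simp [mem_perp]
    rw [this]
    ring
  have h2 : ∑ v : V m, ∑ u ∈ U, sg (om m ε v u) = (Fintype.card (V m) : ℤ) := by
    rw [Finset.sum_comm]
    have : ∀ u ∈ U, ∑ v : V m, sg (om m ε v u) = if u = 0 then (Fintype.card (V m) : ℤ) else 0 := by
      intro u _
      have h3 := sum_sg_om m ε Finset.univ (fun _ _ _ _ => Finset.mem_univ _) u
      simp_rw [om_comm m ε u] at h3
      rw [h3]
      by_cases hu : u = 0
      · rw [if_pos hu, if_pos]
        · simp
        · intro w _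
          rw [hu]
          exact om_zero_right m ε w
      · rw [if_neg hu, if_neg]
        intro hcon
        apply hu
        apply om_nondeg m ε
        intro w
        rw [om_comm]
        exact hcon w (Finset.mem_univ _)
    rw [Finset.sum_congr rfl this, Finset.sum_ite_eq' U 0, if_pos h0]
  have h3 : ((U.card * (perp m ε U).card : ℕ) : ℤ) = ((2 ^ (2 * (m + 1)) : ℕ) : ℤ) := by
    rw [← card_V', ← h2, h1]
    push_cast
    ring
  exact_mod_cast h3

/-- an isotropic additively closed set has at most `2 ^ (m+1)` elements -/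
theorem card_le_of_isotropic (m : ℕ) (ε : Bool) (U : Finset (V m)) (hadd : ∀ u ∈ U, ∀ u' ∈ U, u + u' ∈ U)
    (h0 : (0 : V m) ∈ U) (hiso : ∀ u ∈ U, ∀ u' ∈ U, om m ε u u' = 0) : U.card ≤ 2 ^ (m + 1) := by
  have hsub : U ⊆ perp m ε U := by
    intro u hu
    rw [mem_perp]
    intro u' hu'
    exact hiso u hu u' hu'
  have h1 := card_mul_card_perp m ε U hadd h0
  have h2 : U.card * U.card ≤ 2 ^ (m + 1) * 2 ^ (m + 1) := by
    calc U.card * U.card ≤ U.card * (perp m ε U).card := Nat.mul_le_mul_left _ (Finset.card_le_card hsub)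
      _ = 2 ^ (2 * (m + 1)) := h1
      _ = 2 ^ (m + 1) * 2 ^ (m + 1) := by rw [← pow_add]; congr 1; ring
  exact Nat.mul_self_le_mul_self_iff.mp h2


/-! ### the Gauss sum -/

/-- the Gauss sum of the quadratic form -/
def gauss (m : ℕ) (ε : Bool) : ℤ := ∑ v : V m, sg (qf m ε v)

theorem gauss_translate (m : ℕ) (ε : Bool) (u : V m) : ∑ v : V m, sg (qf m ε (v + u)) = gauss m ε := by
  unfold gauss
  exact Fintype.sum_equiv (Equiv.addRight u) _ _ (fun v => rfl)

theorem card_mul_gauss (m : ℕ) (ε : Bool) (U : Finset (V m)) (hadd : ∀ u ∈ U, ∀ u' ∈ U, u + u' ∈ U)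
    (hq : ∀ u ∈ U, qf m ε u = 0) (hperp : perp m ε U = U) :
    (U.card : ℤ) * gauss m ε = (U.card : ℤ) * U.card := by
  classical
  have h1 : ∑ u ∈ U, ∑ v : V m, sg (qf m ε (v + u)) = (U.card : ℤ) * gauss m ε := by
    simp_rw [gauss_translate]
    simp
  have h2 : ∑ u ∈ U, ∑ v : V m, sg (qf m ε (v + u)) = (U.card : ℤ) * U.card := by
    rw [Finset.sum_comm]
    have : ∀ v : V m, ∑ u ∈ U, sg (qf m ε (v + u)) = if v ∈ U then (U.card : ℤ) else 0 := by
      intro v
      have e : ∀ u ∈ U, sg (qf m ε (v + u)) = sg (qf m ε v) * sg (om m ε v u) := by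
        intro u hu
        rw [qf_add, hq u hu, add_zero, sg_add]
      rw [Finset.sum_congr rfl e, ← Finset.mul_sum, sum_sg_om m ε U hadd v]
      by_cases hv : v ∈ U
      · rw [if_pos hv, if_pos, hq v hv, sg_zero, one_mul]
        rw [← hperp] at hv
        exact mem_perp.1 hv
      · rw [if_neg hv, if_neg, mul_zero]
        intro hcon
        apply hv
        rw [← hperp]
        exact mem_perp.2 hcon
    simp_rw [this]
    rw [Finset.sum_ite_mem, Finset.univ_inter]
    simp
  rw [← h1, h2]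

/-- the per-coordinate quadratic form -/
def qc (m : ℕ) (ε : Bool) (i : Fin (m + 1)) (p : ZMod 2 × ZMod 2) : ZMod 2 :=
  p.2 * p.1 + (if i = 0 then (if ε then p.1 * p.1 + p.2 * p.2 else 0) else 0)

theorem qf_eq_sum (m : ℕ) (ε : Bool) (v : V m) : qf m ε v = ∑ i, qc m ε i (v i) := by
  unfold qf bil qc
  rw [Finset.sum_add_distrib, Finset.sum_ite_eq' Finset.univ (0 : Fin (m + 1)), if_pos (Finset.mem_univ _)]

theorem sum_qc_zero (m : ℕ) : ∑ p : ZMod 2 × ZMod 2, sg (qc m true 0 p) = -2 := by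
  unfold qc
  simp only [if_true]
  rfl

theorem sum_qc_succ (m : ℕ) (ε : Bool) (i : Fin m) : ∑ p : ZMod 2 × ZMod 2, sg (qc m ε i.succ p) = 2 := by
  unfold qc
  simp only [Fin.succ_ne_zero, if_false, add_zero]
  rfl

theorem gauss_minus (m : ℕ) : gauss m true = -(2 ^ (m + 1) : ℤ) := by
  classical
  unfold gauss
  simp_rw [qf_eq_sum, sg_sum]
  rw [← Fintype.prod_sum (fun (i : Fin (m + 1)) (p : ZMod 2 × ZMod 2) => sg (qc m true i p))]
  rw [Fin.prod_univ_succ, sum_qc_zero]
  simp_rw [sum_qc_succ]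
  rw [Finset.prod_const, Finset.card_univ, Fintype.card_fin]
  ring


/-! ### elementary abelian subgroups -/

/-- the image of a subgroup in `V` -/
noncomputable def bar {m : ℕ} {ε : Bool} (A : Subgroup (ES m ε)) : Finset (V m) :=
  by classical exact Finset.univ.filter (fun v => ∃ a, (⟨v, a⟩ : ES m ε) ∈ A)

theorem mem_bar {m : ℕ} {ε : Bool} {A : Subgroup (ES m ε)} {v : V m} :
    v ∈ bar A ↔ ∃ a, (⟨v, a⟩ : ES m ε) ∈ A := by
  unfold bar
  simp

theorem v_mem_bar {m : ℕ} {ε : Bool} {A : Subgroup (ES m ε)} {x : ES m ε} (hx : x ∈ A) : x.v ∈ bar A :=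
  mem_bar.2 ⟨x.a, hx⟩

theorem bar_zero {m : ℕ} {ε : Bool} (A : Subgroup (ES m ε)) : (0 : V m) ∈ bar A :=
  mem_bar.2 ⟨0, A.one_mem⟩

theorem bar_add {m : ℕ} {ε : Bool} (A : Subgroup (ES m ε)) : ∀ u ∈ bar A, ∀ u' ∈ bar A, u + u' ∈ bar A := by
  intro u hu u' hu'
  obtain ⟨a, ha⟩ := mem_bar.1 hu
  obtain ⟨a', ha'⟩ := mem_bar.1 hu'
  exact v_mem_bar (A.mul_mem ha ha')

theorem sq_eq {m : ℕ} {ε : Bool} (x : ES m ε) : x ^ 2 = ⟨0, qf m ε x.v⟩ := by
  rw [pow_two]
  apply ES.ext
  · show x.v + x.v = 0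
    exact V_add_self _
  · show x.a + x.a + bil m ε x.v x.v = qf m ε x.v
    rw [CharTwo.add_self_eq_zero, zero_add]
    rfl

theorem bar_qf {m : ℕ} {ε : Bool} {A : Subgroup (ES m ε)} (hA : Cfsg.IsElementaryAbelian 2 A) :
    ∀ u ∈ bar A, qf m ε u = 0 := by
  intro u hu
  obtain ⟨a, ha⟩ := mem_bar.1 hu
  have := hA.2 _ ha
  rw [sq_eq] at this
  exact congrArg ES.a this

theorem bar_iso {m : ℕ} {ε : Bool} {A : Subgroup (ES m ε)} (hA : Cfsg.IsElementaryAbelian 2 A) :
    ∀ u ∈ bar A, ∀ u' ∈ bar A, om m ε u u' = 0 := by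
  intro u hu u' hu'
  obtain ⟨a, ha⟩ := mem_bar.1 hu
  obtain ⟨a', ha'⟩ := mem_bar.1 hu'
  have hcomm : ∀ x y : A, x * y = y * x := isMulCommutative_iff.1 hA.1
  have h2 : (⟨u, a⟩ : ES m ε) * ⟨u', a'⟩ = ⟨u', a'⟩ * ⟨u, a⟩ := by
    have h1 := hcomm ⟨_, ha⟩ ⟨_, ha'⟩
    exact congrArg Subtype.val h1
  have h3 := (mul_comm_iff (⟨u, a⟩ : ES m ε) ⟨u', a'⟩).1 h2
  exact h3

theorem card_le_two_mul_bar {m : ℕ} {ε : Bool} (A : Subgroup (ES m ε)) :
    Nat.card A ≤ 2 * (bar A).card := by
  classical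
  let f : A → (bar A) × ZMod 2 := fun x => (⟨x.1.v, v_mem_bar x.2⟩, x.1.a)
  have hf : Function.Injective f := by
    intro x y hxy
    apply Subtype.ext
    apply ES.ext
    · exact congrArg (fun p => (p.1 : V m)) hxy
    · exact congrArg (fun p => p.2) hxy
  have := Nat.card_le_card_of_injective f hf
  rw [Nat.card_prod, Nat.card_eq_finsetCard, Nat.card_zmod] at this
  omega

theorem card_bar_le {m : ℕ} {ε : Bool} {A : Subgroup (ES m ε)} (hA : Cfsg.IsElementaryAbelian 2 A) :
    (bar A).card ≤ 2 ^ (m + 1) :=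
  card_le_of_isotropic m ε (bar A) (bar_add A) (bar_zero A) (bar_iso hA)

theorem card_le_of_elemAb {m : ℕ} {ε : Bool} {A : Subgroup (ES m ε)} (hA : Cfsg.IsElementaryAbelian 2 A) :
    Nat.card A ≤ 2 ^ (m + 2) := by
  have h1 := card_le_two_mul_bar A
  have h2 := card_bar_le hA
  rw [pow_succ]
  omega

theorem card_ne_of_elemAb_minus {m : ℕ} {A : Subgroup (ES m true)} (hA : Cfsg.IsElementaryAbelian 2 A) :
    Nat.card A ≠ 2 ^ (m + 2) := by
  intro hcard
  have h1 := card_le_two_mul_bar A
  have h2 := card_bar_le hA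
  have h3 : (bar A).card = 2 ^ (m + 1) := by
    rw [hcard, pow_succ] at h1
    omega
  have h4 := card_mul_card_perp m true (bar A) (bar_add A) (bar_zero A)
  have h5 : (perp m true (bar A)).card = 2 ^ (m + 1) := by
    rw [h3] at h4
    have : (2 : ℕ) ^ (2 * (m + 1)) = 2 ^ (m + 1) * 2 ^ (m + 1) := by
      rw [← pow_add]; congr 1; ring
    rw [this] at h4
    exact Nat.eq_of_mul_eq_mul_left (by positivity) h4
  have hsub : bar A ⊆ perp m true (bar A) := by
    intro u hu
    rw [mem_perp]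
    intro u' hu'
    exact bar_iso hA u hu u' hu'
  have h6 : perp m true (bar A) = bar A := by
    symm
    apply Finset.eq_of_subset_of_card_le hsub
    rw [h3, h5]
  have h7 := card_mul_gauss m true (bar A) (bar_add A) (bar_qf hA) h6
  rw [gauss_minus, h3] at h7
  have h8 : (0 : ℤ) < 2 ^ (m + 1) := by positivity
  push_cast at h7
  nlinarith


/-! ### witness subgroups -/

theorem om_eq_zero_of_snd (m : ℕ) (ε : Bool) (v w : V m) (hv : ∀ i, (v i).2 = 0) (hw : ∀ i, (w i).2 = 0) :
    om m ε v w = 0 := by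
  rw [om_eq]
  apply Finset.sum_eq_zero
  intro i _
  rw [hv i, hw i, zero_mul, zero_mul, add_zero]

/-- a large elementary abelian subgroup -/
def Awit (m : ℕ) (ε : Bool) : Subgroup (ES m ε) where
  carrier := {x | (∀ i, (x.v i).2 = 0) ∧ (ε = true → (x.v 0).1 = 0)}
  one_mem' := ⟨fun _ => rfl, fun _ => rfl⟩
  mul_mem' := by
    intro x y hx hy
    refine ⟨fun i => ?_, fun h => ?_⟩
    · show ((x.v + y.v) i).2 = 0
      rw [Pi.add_apply, Prod.snd_add, hx.1 i, hy.1 i, add_zero]
    · show ((x.v + y.v) 0).1 = 0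
      rw [Pi.add_apply, Prod.fst_add, hx.2 h, hy.2 h, add_zero]
  inv_mem' := by
    intro x hx
    exact hx

theorem mem_Awit {m : ℕ} {ε : Bool} {x : ES m ε} :
    x ∈ Awit m ε ↔ (∀ i, (x.v i).2 = 0) ∧ (ε = true → (x.v 0).1 = 0) := Iff.rfl

theorem awit_elemAb (m : ℕ) (ε : Bool) : Cfsg.IsElementaryAbelian 2 (Awit m ε) := by
  constructor
  · apply IsMulCommutative.of_comm
    rintro ⟨x, hx⟩ ⟨y, hy⟩
    apply Subtype.ext
    show x * y = y * x
    rw [mul_comm_iff]
    exact om_eq_zero_of_snd m ε x.v y.v (mem_Awit.1 hx).1 (mem_Awit.1 hy).1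
  · intro x hx
    rw [sq_eq]
    apply ES.ext
    · rfl
    · show qf m ε x.v = 0
      unfold qf bil
      have h1 : ∑ i, (x.v i).2 * (x.v i).1 = 0 := by
        apply Finset.sum_eq_zero
        intro i _
        rw [(mem_Awit.1 hx).1 i, zero_mul]
      rw [h1, zero_add]
      cases ε
      · rfl
      · simp only [if_true]
        rw [(mem_Awit.1 hx).2 rfl, (mem_Awit.1 hx).1 0]
        ring

/-- counting the witness in the plus type -/
def equivPlus (m : ℕ) : Awit m false ≃ (Fin (m + 1) → ZMod 2) × ZMod 2 where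
  toFun x := (fun i => (x.1.v i).1, x.1.a)
  invFun p := ⟨⟨fun i => (p.1 i, 0), p.2⟩, ⟨fun _ => rfl, fun h => absurd h (by decide)⟩⟩
  left_inv := by
    rintro ⟨x, hx⟩
    apply Subtype.ext
    apply ES.ext
    · funext i
      apply Prod.ext
      · rfl
      · exact ((mem_Awit.1 hx).1 i).symm
    · rfl
  right_inv := fun _ => rfl

/-- counting the witness in the minus type -/
def equivMinus (m : ℕ) : Awit m true ≃ (Fin m → ZMod 2) × ZMod 2 where
  toFun x := (fun i => (x.1.v i.succ).1, x.1.a)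
  invFun p := ⟨⟨fun i => ((Fin.cons 0 p.1 : Fin (m + 1) → ZMod 2) i, 0), p.2⟩, ⟨fun _ => rfl, fun _ => rfl⟩⟩
  left_inv := by
    rintro ⟨x, hx⟩
    apply Subtype.ext
    apply ES.ext
    · funext i
      apply Prod.ext
      · show (Fin.cons 0 (fun j => (x.v j.succ).1) : Fin (m + 1) → ZMod 2) i = (x.v i).1
        refine Fin.cases ?_ ?_ i
        · rw [Fin.cons_zero]
          exact ((mem_Awit.1 hx).2 rfl).symm
        · intro j
          rw [Fin.cons_succ]
      · exact ((mem_Awit.1 hx).1 i).symm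
    · rfl
  right_inv := by
    rintro ⟨f, a⟩
    apply Prod.ext
    · funext j
      show (Fin.cons 0 f : Fin (m + 1) → ZMod 2) j.succ = f j
      rw [Fin.cons_succ]
    · rfl

theorem card_awit_plus (m : ℕ) : Nat.card (Awit m false) = 2 ^ (m + 2) := by
  rw [Nat.card_congr (equivPlus m), Nat.card_prod, Nat.card_fun, Nat.card_zmod, Nat.card_eq_fintype_card,
    Fintype.card_fin, pow_succ 2 (m + 1)]

theorem card_awit_minus (m : ℕ) : Nat.card (Awit m true) = 2 ^ (m + 1) := by
  rw [Nat.card_congr (equivMinus m), Nat.card_prod, Nat.card_fun, Nat.card_zmod, Nat.card_eq_fintype_card,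
    Fintype.card_fin, pow_succ]

theorem rank_plus (m : ℕ) :
    sSup {k : ℕ | ∃ A : Subgroup (ES m false), Cfsg.IsElementaryAbelian 2 A ∧ Nat.card A = 2 ^ k} = m + 2 := by
  apply IsGreatest.csSup_eq
  constructor
  · exact ⟨Awit m false, awit_elemAb m false, card_awit_plus m⟩
  · rintro k ⟨A, hA, hk⟩
    have := card_le_of_elemAb hA
    rw [hk] at this
    exact (Nat.pow_le_pow_iff_right (by norm_num)).1 this

theorem rank_minus (m : ℕ) :
    sSup {k : ℕ | ∃ A : Subgroup (ES m true), Cfsg.IsElementaryAbelian 2 A ∧ Nat.card A = 2 ^ k} = m + 1 := by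
  apply IsGreatest.csSup_eq
  constructor
  · exact ⟨Awit m true, awit_elemAb m true, card_awit_minus m⟩
  · rintro k ⟨A, hA, hk⟩
    have h1 := card_le_of_elemAb hA
    have h2 := card_ne_of_elemAb_minus hA
    rw [hk] at h1 h2
    have h3 : k ≤ m + 2 := (Nat.pow_le_pow_iff_right (by norm_num)).1 h1
    have h4 : k ≠ m + 2 := fun h => h2 (by rw [h])
    show k ≤ m + 1
    omega



/-- For every n ≥ 1 there exist finite extraspecial 2-groups of order 2^(2n+1) whose 2-rank (the largest rank of an elementary abelian subgroup) is n, and ones whose 2-rank is n + 1 (so for each such order there are two non-isomorphic extraspecial 2-groups, told apart by their 2-rank). -/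
theorem result (n : ℕ) (hn : 1 ≤ n) : ∀ r ∈ ({n, n + 1} : Set ℕ), ∃ (E : Type) (_ : Group E) (_ : Finite E), Cfsg.IsExtraspecial 2 E ∧ Nat.card E = 2 ^ (2 * n + 1) ∧ sSup {k : ℕ | ∃ A : Subgroup E, Cfsg.IsElementaryAbelian 2 A ∧ Nat.card A = 2 ^ k} = r := by
  obtain ⟨m, rfl⟩ : ∃ m, n = m + 1 := ⟨n - 1, by omega⟩
  intro r hr
  rcases hr with rfl | rfl
  · exact ⟨ES m true, inferInstance, inferInstance, isExtraspecial m true, card_ES m true, rank_minus m⟩
  · exact ⟨ES m false, inferInstance, inferInstance, isExtraspecial m false, card_ES m false, rank_plus m⟩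

end Cfsg.Agent.S5396
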