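import Cfsg.Statements.S5405
-- import your own Cfsg.Agent.* helpers here
import Cfsg.Agent.S5432
import Cfsg.Agent.Lib.Helper89.H1OrthData

set_option autoImplicit false
open scoped MatrixGroups
open Cfsg

namespace Cfsg.Agent.S5405

open Cfsg.Agent.Lib.Helper89.QuadF2 Cfsg.Agent.Lib.Helper89.H1Orth

/-- the form is a nondegenerate quadratic form -/
theorem hq_m1 : IsQuad (Cfsg.quadFormMinus 1 (ZMod 2) 1 1) :=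
  isQuad_of_sum (Equiv.sumCongr (Equiv.sumComm (Fin 1) (Fin 1)) (Equiv.swap (0 : Fin 2) 1)) (Cfsg.Agent.S5432.hB_minus 1)

/-- a basis of nonsingular vectors -/
def b_m1 : Fin 4 → ((Fin 1 ⊕ Fin 1) ⊕ Fin 2 → ZMod 2) := ![
  Sum.elim (Sum.elim ![0] ![0]) ![0,1],
  Sum.elim (Sum.elim ![0] ![0]) ![1,0],
  Sum.elim (Sum.elim ![1] ![0]) ![1,0],
  Sum.elim (Sum.elim ![0] ![1]) ![1,0]]

/-- the dual basis -/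
def bs_m1 : Fin 4 → ((Fin 1 ⊕ Fin 1) ⊕ Fin 2 → ZMod 2) := ![
  Sum.elim (Sum.elim ![0] ![0]) ![1,0],
  Sum.elim (Sum.elim ![1] ![1]) ![0,1],
  Sum.elim (Sum.elim ![0] ![1]) ![0,0],
  Sum.elim (Sum.elim ![1] ![0]) ![0,0]]

/-- the height of a nonsingular vector -/
def ht_m1 (u : (Fin 1 ⊕ Fin 1) ⊕ Fin 2 → ZMod 2) : ℕ :=
  ([0, 0, 0, 2, 1, 1, 1, 0, 1, 3, 3, 0, 2, 2, 2, 0] : List ℕ).getD
    (1 * (u (Sum.inl (Sum.inl 0))).val + 2 * (u (Sum.inl (Sum.inr 0))).val + 4 * (u (Sum.inr 0)).val + 8 * (u (Sum.inr 1)).val) 0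

set_option maxRecDepth 100000 in
theorem hdual_m1 : ∀ i j, pol (Cfsg.quadFormMinus 1 (ZMod 2) 1 1) (bs_m1 i) (b_m1 j) = if i = j then 1 else 0 := by
  decide +kernel

set_option maxRecDepth 100000 in
theorem hb_m1 : ∀ i, (Cfsg.quadFormMinus 1 (ZMod 2) 1 1) (b_m1 i) = 1 := by
  decide +kernel

set_option maxRecDepth 100000 in
theorem hconn_m1 : ∀ i, ∃ j, pol (Cfsg.quadFormMinus 1 (ZMod 2) 1 1) (b_m1 i) (b_m1 j) = 1 := by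
  decide +kernel

set_option maxRecDepth 100000 in
theorem hspan_m1 : ∀ x : (Fin 1 ⊕ Fin 1) ⊕ Fin 2 → ZMod 2, (∀ j, pol (Cfsg.quadFormMinus 1 (ZMod 2) 1 1) x (b_m1 j) = 0) → x = 0 := by
  decide +kernel

set_option maxRecDepth 100000 in
theorem hstep_m1 : ∀ u : (Fin 1 ⊕ Fin 1) ⊕ Fin 2 → ZMod 2, (Cfsg.quadFormMinus 1 (ZMod 2) 1 1) u = 1 →
    (∃ i, u = b_m1 i) ∨ ∃ i, pol (Cfsg.quadFormMinus 1 (ZMod 2) 1 1) (b_m1 i) u = 1 ∧ ht_m1 (u + b_m1 i) < ht_m1 u := by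
  decide +kernel

/-- the form is a nondegenerate quadratic form -/
theorem hq_m2 : IsQuad (Cfsg.quadFormMinus 2 (ZMod 2) 1 1) :=
  isQuad_of_sum (Equiv.sumCongr (Equiv.sumComm (Fin 2) (Fin 2)) (Equiv.swap (0 : Fin 2) 1)) (Cfsg.Agent.S5432.hB_minus 2)

/-- a basis of nonsingular vectors -/
def b_m2 : Fin 6 → ((Fin 2 ⊕ Fin 2) ⊕ Fin 2 → ZMod 2) := ![
  Sum.elim (Sum.elim ![0,0] ![0,0]) ![1,0],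
  Sum.elim (Sum.elim ![0,0] ![0,0]) ![0,1],
  Sum.elim (Sum.elim ![0,1] ![0,0]) ![0,1],
  Sum.elim (Sum.elim ![0,0] ![0,1]) ![1,0],
  Sum.elim (Sum.elim ![1,0] ![0,0]) ![0,1],
  Sum.elim (Sum.elim ![0,0] ![1,0]) ![1,0]]

/-- the dual basis -/
def bs_m2 : Fin 6 → ((Fin 2 ⊕ Fin 2) ⊕ Fin 2 → ZMod 2) := ![
  Sum.elim (Sum.elim ![1,1] ![0,0]) ![0,1],
  Sum.elim (Sum.elim ![0,0] ![1,1]) ![1,0],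
  Sum.elim (Sum.elim ![0,0] ![0,1]) ![0,0],
  Sum.elim (Sum.elim ![0,1] ![0,0]) ![0,0],
  Sum.elim (Sum.elim ![0,0] ![1,0]) ![0,0],
  Sum.elim (Sum.elim ![1,0] ![0,0]) ![0,0]]

/-- the height of a nonsingular vector -/
def ht_m2 (u : (Fin 2 ⊕ Fin 2) ⊕ Fin 2 → ZMod 2) : ℕ :=
  ([0, 0, 0, 0, 0, 4, 0, 4, 0, 0, 4, 4, 0, 4, 4, 0, 1, 3, 3, 3, 1, 0, 3, 0, 1, 3, 0, 0, 5, 0, 0, 5, 1, 1, 1, 5, 3, 0, 3, 0, 3, 3, 0, 0, 3, 0, 0, 5, 2, 2, 2, 4, 2, 0, 2, 0, 2, 2, 0, 0, 4, 0, 0, 6] : List ℕ).getD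
    (1 * (u (Sum.inl (Sum.inl 0))).val + 2 * (u (Sum.inl (Sum.inl 1))).val + 4 * (u (Sum.inl (Sum.inr 0))).val + 8 * (u (Sum.inl (Sum.inr 1))).val + 16 * (u (Sum.inr 0)).val + 32 * (u (Sum.inr 1)).val) 0

set_option maxRecDepth 100000 in
theorem hdual_m2 : ∀ i j, pol (Cfsg.quadFormMinus 2 (ZMod 2) 1 1) (bs_m2 i) (b_m2 j) = if i = j then 1 else 0 := by
  decide +kernel

set_option maxRecDepth 100000 in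
theorem hb_m2 : ∀ i, (Cfsg.quadFormMinus 2 (ZMod 2) 1 1) (b_m2 i) = 1 := by
  decide +kernel

set_option maxRecDepth 100000 in
theorem hconn_m2 : ∀ i, ∃ j, pol (Cfsg.quadFormMinus 2 (ZMod 2) 1 1) (b_m2 i) (b_m2 j) = 1 := by
  decide +kernel

set_option maxRecDepth 100000 in
theorem hspan_m2 : ∀ x : (Fin 2 ⊕ Fin 2) ⊕ Fin 2 → ZMod 2, (∀ j, pol (Cfsg.quadFormMinus 2 (ZMod 2) 1 1) x (b_m2 j) = 0) → x = 0 := by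
  decide +kernel

set_option maxRecDepth 100000 in
theorem hstep_m2 : ∀ u : (Fin 2 ⊕ Fin 2) ⊕ Fin 2 → ZMod 2, (Cfsg.quadFormMinus 2 (ZMod 2) 1 1) u = 1 →
    (∃ i, u = b_m2 i) ∨ ∃ i, pol (Cfsg.quadFormMinus 2 (ZMod 2) 1 1) (b_m2 i) u = 1 ∧ ht_m2 (u + b_m2 i) < ht_m2 u := by
  decide +kernel

/-- the form is a nondegenerate quadratic form -/
theorem hq_p4 : IsQuad (Cfsg.quadFormPlus 4 (ZMod 2)) :=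
  isQuad_of_sum (Equiv.sumComm (Fin 4) (Fin 4)) (Cfsg.Agent.S5432.hB_plus 4)

/-- a basis of nonsingular vectors -/
def b_p4 : Fin 8 → (Fin 4 ⊕ Fin 4 → ZMod 2) := ![
  Sum.elim ![0,0,0,1] ![0,0,0,1],
  Sum.elim ![0,0,1,0] ![0,0,1,1],
  Sum.elim ![1,0,0,0] ![1,0,0,1],
  Sum.elim ![0,0,1,1] ![0,0,0,1],
  Sum.elim ![0,0,0,1] ![0,1,0,1],
  Sum.elim ![0,1,0,1] ![0,0,0,1],
  Sum.elim ![0,1,1,0] ![0,0,1,0],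
  Sum.elim ![0,1,0,0] ![1,1,0,0]]

/-- the dual basis -/
def bs_p4 : Fin 8 → (Fin 4 ⊕ Fin 4 → ZMod 2) := ![
  Sum.elim ![0,1,0,1] ![1,1,1,0],
  Sum.elim ![0,0,0,1] ![1,0,0,1],
  Sum.elim ![0,0,0,0] ![1,0,0,0],
  Sum.elim ![0,0,1,0] ![0,0,1,0],
  Sum.elim ![1,1,0,0] ![1,0,0,0],
  Sum.elim ![1,0,1,1] ![0,1,0,1],
  Sum.elim ![0,0,1,1] ![1,0,0,1],
  Sum.elim ![1,0,0,0] ![1,0,0,0]]

/-- the height of a nonsingular vector -/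
def ht_p4 (u : Fin 4 ⊕ Fin 4 → ZMod 2) : ℕ :=
  ([0, 0, 0, 0, 0, 0, 0, 0, 0, 0, 0, 0, 0, 0, 0, 0, 0, 7, 0, 5, 0, 5, 0, 5, 0, 2, 0, 2, 0, 2, 0, 4, 0, 0, 2, 6, 0, 0, 6, 6, 0, 0, 3, 3, 0, 0, 5, 3, 0, 5, 1, 0, 0, 7, 5, 0, 0, 2, 4, 0, 0, 4, 6, 0, 0, 0, 0, 0, 7, 5, 1, 5, 0, 0, 0, 0, 2, 4, 2, 6, 0, 4, 0, 4, 6, 0, 4, 0, 0, 5, 0, 3, 5, 0, 3, 0, 0, 0, 3, 5, 3, 5, 0, 0, 0, 0, 6, 6, 2, 4, 0, 0, 0, 4, 4, 0, 2, 0, 0, 4, 0, 5, 7, 0, 3, 0, 0, 3, 0, 0, 0, 0, 0, 0, 0, 0, 1, 5, 1, 7, 1, 7, 5, 7, 0, 1, 0, 3, 0, 3, 0, 3, 6, 0, 2, 0, 6, 0, 6, 0, 0, 0, 4, 2, 0, 0, 4, 4, 1, 5, 0, 0, 5, 7, 0, 0, 0, 3, 5, 0, 0, 3, 5, 0, 2, 0, 0, 4, 6, 0, 0, 6, 0, 0, 0, 0, 1, 5, 3, 5, 6, 6, 2, 6, 0, 0, 0, 0, 0, 4, 0, 4, 4, 0, 4, 0, 7, 0, 5, 0, 0, 3, 0, 3, 0, 0, 7, 5, 3, 3, 0, 0, 4, 6, 0, 0, 0, 0, 2, 4, 0, 6, 6, 0,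 4, 0, 0, 4, 3, 0, 0, 5, 0, 3, 3, 0] : List ℕ).getD
    (1 * (u (Sum.inl 0)).val + 2 * (u (Sum.inl 1)).val + 4 * (u (Sum.inl 2)).val + 8 * (u (Sum.inl 3)).val + 16 * (u (Sum.inr 0)).val + 32 * (u (Sum.inr 1)).val + 64 * (u (Sum.inr 2)).val + 128 * (u (Sum.inr 3)).val) 0

set_option maxRecDepth 100000 in
theorem hdual_p4 : ∀ i j, pol (Cfsg.quadFormPlus 4 (ZMod 2)) (bs_p4 i) (b_p4 j) = if i = j then 1 else 0 := by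
  decide +kernel

set_option maxRecDepth 100000 in
theorem hb_p4 : ∀ i, (Cfsg.quadFormPlus 4 (ZMod 2)) (b_p4 i) = 1 := by
  decide +kernel

set_option maxRecDepth 100000 in
theorem hconn_p4 : ∀ i, ∃ j, pol (Cfsg.quadFormPlus 4 (ZMod 2)) (b_p4 i) (b_p4 j) = 1 := by
  decide +kernel

set_option maxRecDepth 100000 in
theorem hspan_p4 : ∀ x : Fin 4 ⊕ Fin 4 → ZMod 2, (∀ j, pol (Cfsg.quadFormPlus 4 (ZMod 2)) x (b_p4 j) = 0) → x = 0 := by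
  decide +kernel

set_option maxRecDepth 100000 in
theorem hstep_p4 : ∀ u : Fin 4 ⊕ Fin 4 → ZMod 2, (Cfsg.quadFormPlus 4 (ZMod 2)) u = 1 →
    (∃ i, u = b_p4 i) ∨ ∃ i, pol (Cfsg.quadFormPlus 4 (ZMod 2)) (b_p4 i) u = 1 ∧ ht_p4 (u + b_p4 i) < ht_p4 u := by
  decide +kernel


/-- Vanishing of first cohomology on the natural module for three small orthogonal groups over the field with two elements: for the commutator subgroup of the isometry group of the elliptic quadratic form in dimension 4, of the elliptic form in dimension 6, and of the hyperbolic form in dimension 8, every crossed homomorphism into the natural module (a map f with f(gh) = f(g) + g·f(h)) is principal (of the form g ↦ g·v − v). -/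
theorem result : (∀ f : ↥(Cfsg.Omega (ZMod 2) (Cfsg.quadFormMinus 1 (ZMod 2) 1 1)) → ((Fin 1 ⊕ Fin 1) ⊕ Fin 2 → ZMod 2), (∀ g h : ↥(Cfsg.Omega (ZMod 2) (Cfsg.quadFormMinus 1 (ZMod 2) 1 1)), f (g * h) = f g + Matrix.mulVec (((g : ↥(Cfsg.isometryGroup (ZMod 2) (Cfsg.quadFormMinus 1 (ZMod 2) 1 1))) : GL ((Fin 1 ⊕ Fin 1) ⊕ Fin 2) (ZMod 2)) : Matrix ((Fin 1 ⊕ Fin 1) ⊕ Fin 2) ((Fin 1 ⊕ Fin 1) ⊕ Fin 2) (ZMod 2)) (f h)) → ∃ v : (Fin 1 ⊕ Fin 1) ⊕ Fin 2 → ZMod 2, ∀ g : ↥(Cfsg.Omega (ZMod 2) (Cfsg.quadFormMinus 1 (ZMod 2) 1 1)), f g = Matrix.mulVec (((g : ↥(Cfsg.isometryGroup (ZMod 2) (Cfsg.quadFormMinus 1 (ZMod 2) 1 1))) : GL ((Fin 1 ⊕ Fin 1) ⊕ Fin 2) (ZMod 2)) : Matrix ((Fin 1 ⊕ Fin 1) ⊕ Fin 2) ((Fin 1 ⊕ Fin 1) ⊕ Fin 2) (ZMod 2)) v - v) ∧ (∀ f : ↥(Cfsg.Omega (ZMod 2) (Cfsg.quadFormMinus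 2 (ZMod 2) 1 1)) → ((Fin 2 ⊕ Fin 2) ⊕ Fin 2 → ZMod 2), (∀ g h : ↥(Cfsg.Omega (ZMod 2) (Cfsg.quadFormMinus 2 (ZMod 2) 1 1)), f (g * h) = f g + Matrix.mulVec (((g : ↥(Cfsg.isometryGroup (ZMod 2) (Cfsg.quadFormMinus 2 (ZMod 2) 1 1))) : GL ((Fin 2 ⊕ Fin 2) ⊕ Fin 2) (ZMod 2)) : Matrix ((Fin 2 ⊕ Fin 2) ⊕ Fin 2) ((Fin 2 ⊕ Fin 2) ⊕ Fin 2) (ZMod 2)) (f h)) → ∃ v : (Fin 2 ⊕ Fin 2) ⊕ Fin 2 → ZMod 2, ∀ g : ↥(Cfsg.Omega (ZMod 2) (Cfsg.quadFormMinus 2 (ZMod 2) 1 1)), f g = Matrix.mulVec (((g : ↥(Cfsg.isometryGroup (ZMod 2) (Cfsg.quadFormMinus 2 (ZMod 2) 1 1))) : GL ((Fin 2 ⊕ Fin 2) ⊕ Fin 2) (ZMod 2)) : Matrix ((Fin 2 ⊕ Fin 2) ⊕ Fin 2) ((Fin 2 ⊕ Fin 2) ⊕ Fin 2) (ZMod 2)) v - v) ∧ (∀ f : ↥(Cfsg.Omega (ZMod 2) (Cfsg.quadFormPlus 4 (ZMod 2))) → (Fin 4 ⊕ Fin 4 → ZMod 2), (∀ g h : ↥(Cfsg.Omega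 (ZMod 2) (Cfsg.quadFormPlus 4 (ZMod 2))), f (g * h) = f g + Matrix.mulVec (((g : ↥(Cfsg.isometryGroup (ZMod 2) (Cfsg.quadFormPlus 4 (ZMod 2)))) : GL (Fin 4 ⊕ Fin 4) (ZMod 2)) : Matrix (Fin 4 ⊕ Fin 4) (Fin 4 ⊕ Fin 4) (ZMod 2)) (f h)) → ∃ v : Fin 4 ⊕ Fin 4 → ZMod 2, ∀ g : ↥(Cfsg.Omega (ZMod 2) (Cfsg.quadFormPlus 4 (ZMod 2))), f g = Matrix.mulVec (((g : ↥(Cfsg.isometryGroup (ZMod 2) (Cfsg.quadFormPlus 4 (ZMod 2)))) : GL (Fin 4 ⊕ Fin 4) (ZMod 2)) : Matrix (Fin 4 ⊕ Fin 4) (Fin 4 ⊕ Fin 4) (ZMod 2)) v - v) := by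
  refine ⟨?_, ?_, ?_⟩
  · intro f hf
    exact omega_h1_vanish hq_m1 b_m1 bs_m1 ht_m1 hdual_m1 hb_m1 hconn_m1 hspan_m1 hstep_m1 f hf
  · intro f hf
    exact omega_h1_vanish hq_m2 b_m2 bs_m2 ht_m2 hdual_m2 hb_m2 hconn_m2 hspan_m2 hstep_m2 f hf
  · intro f hf
    exact omega_h1_vanish hq_p4 b_p4 bs_p4 ht_p4 hdual_p4 hb_p4 hconn_p4 hspan_p4 hstep_p4 f hf

end Cfsg.Agent.S5405
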