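import Cfsg.Statements.S5420
import Cfsg.Agent.Lib.Helper90.LargeExtra

set_option autoImplicit false
open Cfsg

namespace Cfsg.Agent.S5420

open Cfsg.Agent.Lib.Helper90

/-- Let Q be an extraspecial 2-subgroup of the finite group G whose centralizer in G is its centre Z and which is normal in the centralizer of Z. If Z lies in the largest normal 2-subgroup of G, then Q is a large extraspecial 2-subgroup of G: it normalizes no non-trivial subgroup of G of odd order. -/
theorem result {G : Type*} [Group G] [Finite G] (Q : Subgroup G) (hL1 : Cfsg.IsExtraspecial 2 ↥Q) (hL2 : Subgroup.centralizer (Q : Set G) = ((Subgroup.center ↥Q).map Q.subtype)) (hL3 : Subgroup.centralizer (((Subgroup.center ↥Q).map Q.subtype) : Set G) ≤ Subgroup.normalizer (Q : Set G)) (hZ : ((Subgroup.center ↥Q).map Q.subtype) ≤ Cfsg.pCore 2 G) : Cfsg.IsLargeExtraspecial Q := by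
  refine ⟨hL1, hL2, hL3, ?_⟩
  intro K hK hQK
  apply eq_bot_of_le_centralizer_center Q hL1.1.1 hL2 hL3 K hK hQK
  intro k hk
  rw [Subgroup.mem_centralizer_iff]
  intro z hz
  have hzQ : z ∈ Q := Subgroup.map_subtype_le _ hz
  have hzP : z ∈ pCore 2 G := hZ hz
  have hn : (pCore 2 G).Normal := pCore_normal 2 G
  have hkN : k ∈ Subgroup.normalizer ((pCore 2 G : Subgroup G) : Set G) := by
    rw [Subgroup.normalizer_eq_top]; exact Subgroup.mem_top k
  have h1 : z * k * z⁻¹ * k⁻¹ ∈ K := comm_mem_of_mem_normalizer K (hQK hzQ) hk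
  have h2 : z * k * z⁻¹ * k⁻¹ ∈ pCore 2 G := comm_mem_of_mem_normalizer' _ hkN hzP
  have h3 : z * k * z⁻¹ * k⁻¹ ∈ K ⊓ pCore 2 G := ⟨h1, h2⟩
  rw [inf_eq_bot_of_odd_of_isPGroup K _ hK (pCore_isPGroup 2 G), Subgroup.mem_bot] at h3
  have : z * k = (z * k * z⁻¹ * k⁻¹) * (k * z) := by group
  rw [this, h3, one_mul]

end Cfsg.Agent.S5420
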