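import Cfsg.Statements.S5422
import Cfsg.Agent.Lib.Helper90.ES22

set_option autoImplicit false
open Cfsg

namespace Cfsg.Agent.S5422

open Cfsg.Agent.Lib.Helper90

/-- Let Q be an extraspecial 2-subgroup of the finite group G whose centralizer in G is its centre Z and which is normal in the centralizer of Z; suppose Q has width at least 2 (order 2^(2w+1) with w ≥ 2) and g is an element of G not normalizing Z with g Z g⁻¹ inside Q. Then Z lies inside g Q g⁻¹; writing V for the subgroup generated by Z and g Z g⁻¹ (a four-group), the normalizer of V induces on V its full automorphism group, that is, the centralizer of V has index 6 in the normalizer of V; and Q is a large extraspecial 2-subgroup of G. -/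
theorem result {G : Type*} [Group G] [Finite G] (Q : Subgroup G) (hL1 : Cfsg.IsExtraspecial 2 ↥Q) (hL2 : Subgroup.centralizer (Q : Set G) = ((Subgroup.center ↥Q).map Q.subtype)) (hL3 : Subgroup.centralizer (((Subgroup.center ↥Q).map Q.subtype) : Set G) ≤ Subgroup.normalizer (Q : Set G)) (w : ℕ) (hw : 2 ≤ w) (hcard : Nat.card ↥Q = 2 ^ (2 * w + 1)) (g : G) (hg : g ∉ Subgroup.normalizer (((Subgroup.center ↥Q).map Q.subtype) : Set G)) (hZg : (((Subgroup.center ↥Q).map Q.subtype)).map (MulAut.conj g).toMonoidHom ≤ Q) : ((Subgroup.center ↥Q).map Q.subtype) ≤ (Q).map (MulAut.conj g).toMonoidHom ∧ (Subgroup.centralizer ((((Subgroup.center ↥Q).map Q.subtype) ⊔ (((Subgroup.center ↥Q).map Q.subtype)).map (MulAut.conj g).toMonoidHom : Subgroup G) : Set G)).relIndex (Subgroup.normalizer ((((Subgroup.center ↥Q).map Q.subtype) ⊔ (((Subgroup.center ↥Q).map Q.subtype)).map (MulAut.conj g).toMonoidHom : Subgroup G) : Set G)) = 6 ∧ Cfsg.IsLargeExtraspecial Q := by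
  obtain ⟨z, h, hiff⟩ := ESData.of_hyps Q hL1 hL2 hL3
  set Z := (Subgroup.center ↥Q).map Q.subtype with hZdef
  have hzZ : z ∈ Z := (hiff z).mpr (Or.inr rfl)
  have hsQ : g * z * g⁻¹ ∈ Q := hZg (conj_mem_map_conj Z g hzZ)
  have hsz : g * z * g⁻¹ ≠ z := by
    intro hc
    apply hg
    rw [Subgroup.mem_normalizer_iff]
    intro x
    rw [hiff, hiff]
    constructor
    · rintro (h1 | h1)
      · left; rw [h1]; group
      · right; rw [h1]; exact hc
    · rintro (h1 | h1)
      · left
        calc x = g⁻¹ * (g * x * g⁻¹) * g := by group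
          _ = 1 := by rw [h1]; group
      · right
        calc x = g⁻¹ * (g * x * g⁻¹) * g := by group
          _ = g⁻¹ * (g * z * g⁻¹) * g := by rw [h1, hc]
          _ = z := by group
  have h' := h.conj g
  have hA : z ∈ Q.map (MulAut.conj g).toMonoidHom := h.gen_mem_conj g hsQ hsz
  set s := g * z * g⁻¹ with hs
  have hs1 : s ≠ 1 := h'.z1
  have hss : s * s = 1 := h'.zz
  have hzs : z * s = s * z := (h.zc s hsQ).symm
  have hZg_mem : ∀ x : G, x ∈ Z.map (MulAut.conj g).toMonoidHom ↔ (x = 1 ∨ x = s) := by
    intro x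
    rw [mem_map_conj_iff, hiff]
    constructor
    · rintro (h1 | h1)
      · left
        calc x = g * (g⁻¹ * x * g) * g⁻¹ := by group
          _ = 1 := by rw [h1]; group
      · right
        calc x = g * (g⁻¹ * x * g) * g⁻¹ := by group
          _ = s := by rw [h1]
    · rintro (h1 | h1)
      · left; rw [h1]; group
      · right; rw [h1, hs]; group
  refine ⟨?_, ?_, ?_⟩
  · intro x hx
    rcases (hiff x).mp hx with h1 | h1
    · rw [h1]; exact Subgroup.one_mem _
    · rw [h1]; exact hA
  · have hV : Z ⊔ Z.map (MulAut.conj g).toMonoidHom = kleinFour z s h.zz hss hzs := by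
      apply le_antisymm
      · rw [sup_le_iff]
        constructor
        · intro x hx
          rcases (hiff x).mp hx with h1 | h1
          · exact Or.inl h1
          · exact Or.inr (Or.inl h1)
        · intro x hx
          rcases (hZg_mem x).mp hx with h1 | h1
          · exact Or.inl h1
          · exact Or.inr (Or.inr (Or.inl h1))
      · intro x hx
        have hz' : z ∈ Z ⊔ Z.map (MulAut.conj g).toMonoidHom :=
          (le_sup_left : Z ≤ _) hzZ
        have hs' : s ∈ Z ⊔ Z.map (MulAut.conj g).toMonoidHom :=
          (le_sup_right : Z.map (MulAut.conj g).toMonoidHom ≤ _) ((hZg_mem s).mpr (Or.inr rfl))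
        rcases hx with h1 | h1 | h1 | h1
        · rw [h1]; exact Subgroup.one_mem _
        · rw [h1]; exact hz'
        · rw [h1]; exact hs'
        · rw [h1]; exact Subgroup.mul_mem _ hz' hs'
    rw [hV]
    obtain ⟨a, haQ, has⟩ := h.exists_conj_noncentral hsQ hs1 hsz
    obtain ⟨t, hts, htz⟩ := h.exists_swap g hsQ hsz
    have haz : a * z * a⁻¹ = z := by rw [h.zc a haQ]; group
    rw [← hs] at hts htz
    have hts' : t * s * t⁻¹ = s := by rw [hts]; group
    exact relIndex_centralizer_normalizer_kleinFour z s h.zz hss hzs h.z1 hs1 (Ne.symm hsz)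
      a t haz has hts' htz
  · have hsZ : s ∉ Z := by
      intro hc
      rcases (hiff s).mp hc with h1 | h1
      · exact hs1 h1
      · exact hsz h1
    have hso : orderOf s = 2 := by
      apply orderOf_eq_prime
      · rw [pow_two]; exact hss
      · exact hs1
    apply isLargeExtraspecial_of_involution Q hL1 hL2 hL3 s hsQ hsZ hso
    intro x hx
    apply h'.le_map_pCore
    rcases (hiff x).mp hx with h1 | h1
    · rw [h1]; exact Subgroup.one_mem _
    · rw [h1]; exact hA

end Cfsg.Agent.S5422
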