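import Cfsg.Statements.S5423
-- import your own Cfsg.Agent.* helpers here
import Cfsg.Agent.Lib.Helper89.TransvCentGenMain
import Cfsg.Agent.Lib.Helper89.HolomorphIso
import Cfsg.Agent.Lib.Helper96.Basis

set_option autoImplicit false
open Cfsg

namespace Cfsg.Agent.S5423

open Matrix Cfsg.Agent.Lib.Helper89.TransvCentGen

/-- coordinates on an elementary abelian `2`-group of order `2 ^ (n + 1)` in which a given
non-trivial element is `(1, 0)` -/
theorem exists_coord {E : Type*} [Group E] [Finite E] (n : ℕ) (hcomm : ∀ a b : E, a * b = b * a)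
    (hexp : ∀ x : E, x ^ 2 = 1) (hcard : Nat.card E = 2 ^ (n + 1)) (z : E) (hz : z ≠ 1) :
    ∃ ψ : E ≃ Wn n, (∀ a b, ψ (a * b) = ψ a + ψ b) ∧ ψ z = (1, 0) := by
  have : Fact (Nat.Prime 2) := ⟨Nat.prime_two⟩
  let _i1 : CommGroup E := { (inferInstance : Group E) with mul_comm := hcomm }
  let _i2 : Module (ZMod 2) (Additive E) := AddCommGroup.zmodModule (n := 2) (fun v => by
    have := hexp (Additive.toMul v)
    exact congrArg Additive.ofMul this)
  have hfr : Module.finrank (ZMod 2) (Additive E) = n + 1 :=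
    Cfsg.Agent.Lib.Helper96.finrank_additive_eq 2 (n + 1) hcard
  have hfr2 : Module.finrank (ZMod 2) (Wn n) = n + 1 := by
    rw [Module.finrank_prod, Module.finrank_self, Module.finrank_fin_fun, add_comm]
  have hfin : Module.Finite (ZMod 2) (Additive E) := Module.Finite.of_finite
  obtain ⟨e0⟩ : Nonempty (Additive E ≃ₗ[ZMod 2] Wn n) :=
    FiniteDimensional.nonempty_linearEquiv_of_finrank_eq (hfr.trans hfr2.symm)
  have hw : e0 (Additive.ofMul z) ≠ 0 := by
    intro h
    have h1 : Additive.ofMul z = 0 := by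
      have := e0.injective (h.trans (map_zero e0).symm)
      exact this
    exact hz h1
  have h10 : ((1, 0) : Wn n) ≠ 0 := by
    intro h
    exact one_ne_zero (congrArg Prod.fst h)
  have hpre : MulAction.IsPretransitive (Wn n ≃ₗ[ZMod 2] Wn n) (Projectivization (ZMod 2) (Wn n)) :=
    MulAction.isPretransitive_of_is_two_pretransitive
  obtain ⟨g, hg⟩ := hpre.exists_smul_eq (Projectivization.mk (ZMod 2) _ hw)
    (Projectivization.mk (ZMod 2) _ h10)
  rw [Projectivization.smul_mk, Projectivization.mk_eq_mk_iff] at hg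
  obtain ⟨a, ha⟩ := hg
  have ha1 : (a : ZMod 2) = 1 := zmod2_eq_one_of_ne_zero _ a.ne_zero
  rw [Units.smul_def, ha1, one_smul] at ha
  refine ⟨Additive.ofMul.trans (e0.trans g).toEquiv, ?_, ?_⟩
  · intro a b
    show (e0.trans g) (Additive.ofMul (a * b)) = (e0.trans g) (Additive.ofMul a) +
      (e0.trans g) (Additive.ofMul b)
    rw [ofMul_mul, map_add]
  · show g (e0 (Additive.ofMul z)) = (1, 0)
    exact ha.symm

/-- an abelian normal `2`-subgroup lies in `O_2` of the centralizer of each of its elements -/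
theorem le_pCoreOf_centralizer {G : Type*} [Group G] (U : Subgroup G) [hN : U.Normal]
    (hc : ∀ a ∈ U, ∀ b ∈ U, a * b = b * a) (h2 : ∀ a ∈ U, a ^ 2 = 1) {t : G} (ht : t ∈ U) :
    U ≤ (Cfsg.pCore 2 ↥(Subgroup.centralizer ({t} : Set G))).map
      (Subgroup.centralizer ({t} : Set G)).subtype := by
  set C := Subgroup.centralizer ({t} : Set G) with hC
  have hUC : U ≤ C := by
    intro u hu
    rw [hC, Subgroup.mem_centralizer_singleton_iff]
    exact hc u hu t ht
  have hNn : (U.subgroupOf C).Normal := by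
    constructor
    intro x hx c
    rw [Subgroup.mem_subgroupOf] at hx ⊢
    exact hN.conj_mem _ hx _
  have hP : IsPGroup 2 ↥(U.subgroupOf C) := by
    intro x
    refine ⟨1, ?_⟩
    apply Subtype.ext
    apply Subtype.ext
    rw [pow_one]
    exact h2 _ (Subgroup.mem_subgroupOf.mp x.2)
  have hle := Cfsg.Agent.Lib.Helper97.le_pCore_of_normal hNn hP
  intro u hu
  exact ⟨⟨u, hUC hu⟩, hle (Subgroup.mem_subgroupOf.mpr hu), rfl⟩

/-- over the field with two elements the special and general linear groups coincide -/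
theorem nonempty_SL_equiv_GL (n : ℕ) :
    Nonempty (Matrix.SpecialLinearGroup (Fin n) (ZMod 2) ≃* Matrix.GeneralLinearGroup (Fin n) (ZMod 2)) := by
  refine ⟨MulEquiv.ofBijective (Matrix.SpecialLinearGroup.toGL) ⟨?_, ?_⟩⟩
  · intro a b hab
    apply Subtype.ext
    have := congrArg (fun g : Matrix.GeneralLinearGroup (Fin n) (ZMod 2) =>
      (g : Matrix (Fin n) (Fin n) (ZMod 2))) hab
    exact this
  · intro A
    have hdet : (A : Matrix (Fin n) (Fin n) (ZMod 2)).det = 1 := by
      apply zmod2_eq_one_of_ne_zero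
      have hu : IsUnit (A : Matrix (Fin n) (Fin n) (ZMod 2)) := ⟨A, rfl⟩
      rw [Matrix.isUnit_iff_isUnit_det] at hu
      exact hu.ne_zero
    refine ⟨⟨(A : Matrix (Fin n) (Fin n) (ZMod 2)), hdet⟩, ?_⟩
    apply Units.ext
    rfl


/-- Let G be a finite group that is the split extension of an elementary abelian normal subgroup U of order 2^(n+1), n ≥ 1, by its full automorphism group: U has a complement M in G whose conjugation action on U is faithful and realizes every automorphism of U. Let Z be a subgroup of U of order 2 and Q the largest normal 2-subgroup of the centralizer C of Z. Then Q is extraspecial of order 2^(2n+1) with an elementary abelian subgroup of order 2^(n+1) (plus type), Q is a large extraspecial 2-subgroup of G, and C is the split extension of Q by the general linear group of degree n over the field with two elements. -/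
theorem result {G : Type*} [Group G] [Finite G] (n : ℕ) (hn : 1 ≤ n) (U M : Subgroup G) [U.Normal] (hU : Cfsg.IsElementaryAbelian 2 U) (hUcard : Nat.card ↥U = 2 ^ (n + 1)) (hUM : U ⊓ M = ⊥) (hUM' : U ⊔ M = ⊤) (hfaith : ∀ m ∈ M, (∀ u ∈ U, m * u * m⁻¹ = u) → m = 1) (hfull : ∀ φ : ↥U ≃* ↥U, ∃ m ∈ M, ∀ u : ↥U, ((φ u : ↥U) : G) = m * u * m⁻¹) (Z : Subgroup G) (hZU : Z ≤ U) (hZ : Nat.card ↥Z = 2) (Q : Subgroup G) (hQ : Q = (Cfsg.pCore 2 ↥(Subgroup.centralizer (Z : Set G))).map (Subgroup.centralizer (Z : Set G)).subtype) : Cfsg.IsExtraspecial 2 ↥Q ∧ Nat.card ↥Q = 2 ^ (2 * n + 1) ∧ (∃ E : Subgroup G, E ≤ Q ∧ Cfsg.IsElementaryAbelian 2 E ∧ Nat.card ↥E = 2 ^ (n + 1)) ∧ Cfsg.IsLargeExtraspecial Q ∧ ∃ K : Subgroup G, K ≤ Subgroup.centralizer (Z : Set G) ∧ Q ⊓ K = ⊥ ∧ Q ⊔ K = Subgroup.centralizer (Z : Set G) ∧ Nonempty (↥K ≃* Matrix.GeneralLinearGroup (Fin n) (ZMod 2)) := by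
  have : Fact (Nat.Prime 2) := ⟨Nat.prime_two⟩
  obtain ⟨hUmc, hU2⟩ := hU
  have hUc : ∀ a ∈ U, ∀ b ∈ U, a * b = b * a := by
    intro a ha b hb
    have := hUmc.is_comm.comm ⟨a, ha⟩ ⟨b, hb⟩
    exact congrArg Subtype.val this
  -- the generator of `Z`
  have hZne : Z ≠ ⊥ := by
    intro h
    rw [h, Subgroup.card_bot] at hZ
    exact absurd hZ (by norm_num)
  obtain ⟨⟨zz, hzZ'⟩, hz1⟩ := (Subgroup.ne_bot_iff_exists_ne_one).mp hZne
  have hz1' : zz ≠ 1 := fun h => hz1 (Subtype.ext h)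
  have hzU : zz ∈ U := hZU hzZ'
  have hz2 : orderOf zz = 2 := by
    apply orderOf_eq_prime
    · exact hU2 _ hzU
    · exact hz1'
  have hZeq : Z = Subgroup.zpowers zz := by
    symm
    apply Subgroup.eq_of_le_of_card_ge
    · rw [Subgroup.zpowers_le]; exact hzZ'
    · rw [Nat.card_zpowers, hz2, hZ]
  have hZz : Subgroup.centralizer (Z : Set G) = Subgroup.centralizer ({zz} : Set G) := by
    rw [hZeq, Subgroup.zpowers_eq_closure, Subgroup.centralizer_closure]
  obtain ⟨C, hC⟩ : ∃ C, C = Subgroup.centralizer (Z : Set G) := ⟨_, rfl⟩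
  rw [← hC] at hQ ⊢
  have hC' : C = Subgroup.centralizer ({zz} : Set G) := hC.trans hZz
  subst hC'
  -- coordinates
  have hn1 : 0 < n := hn
  let k0 : Fin n := ⟨0, hn1⟩
  have hcommU : ∀ a b : ↥U, a * b = b * a := fun a b => Subtype.ext (hUc a a.2 b b.2)
  have hexpU : ∀ x : ↥U, x ^ 2 = 1 := fun x => Subtype.ext (hU2 x x.2)
  obtain ⟨ψ, hψmul, hψz⟩ := exists_coord n hcommU hexpU hUcard ⟨zz, hzU⟩
    (fun h => hz1' (congrArg Subtype.val h))
  let D : HoloData G n :=
    { U := U, M := M, normal := inferInstance, comm := hUc, inf_eq := hUM, sup_eq := hUM',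
      faith := hfaith, full := hfull, ψ := ψ, ψ_mul := hψmul }
  have hDz : (D.zU : G) = zz := by
    have : D.zU = ⟨zz, hzU⟩ := by
      show ψ.symm (1, 0) = _
      rw [← hψz, Equiv.symm_apply_apply]
    rw [this]
  let z0 : SLn (n + 2) := ⟨Matrix.transvection 0 (Fin.succ 0) 1,
    Matrix.det_transvection_of_ne _ _ (Fin.succ_ne_zero _).symm 1⟩
  have hz0 : (z0 : Matrix (Fin (n + 2)) (Fin (n + 2)) (ZMod 2)) =
      Matrix.transvection 0 (Fin.succ 0) 1 := rfl
  obtain ⟨Φ⟩ := D.exists_iso hz0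
  rw [hDz] at Φ
  -- `U` lies in `Q`
  have hUQ : U ≤ Q := by
    rw [hQ]; exact le_pCoreOf_centralizer U hUc hU2 hzU
  -- a third element of `U`
  obtain ⟨b, hbU, hb1, hbz⟩ : ∃ b ∈ U, b ≠ 1 ∧ b ≠ zz := by
    by_contra hcon
    push Not at hcon
    have hsub : ((U : Subgroup G) : Set G) ⊆ {1, zz} := by
      intro b hb
      by_cases h1 : b = 1
      · left; exact h1
      · right; exact hcon b hb h1
    have h1 : ((U : Subgroup G) : Set G).ncard ≤ 2 :=
      (Set.ncard_le_ncard hsub (Set.toFinite _)).trans (Set.ncard_insert_le _ _ |>.trans (by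
        rw [Set.ncard_singleton]))
    have h2 : ((U : Subgroup G) : Set G).ncard = 2 ^ (n + 1) := by
      rw [← Nat.card_coe_set_eq]
      exact hUcard
    have h3 : 2 ^ 2 ≤ 2 ^ (n + 1) := Nat.pow_le_pow_right (by norm_num) (by omega)
    omega
  have hb2 : orderOf b = 2 := by
    apply orderOf_eq_prime
    · exact hU2 _ hbU
    · exact hb1
  have hzb := le_pCoreOf_centralizer U hUc hU2 hbU hzU
  obtain ⟨h1, h2, h3, K, hK1, hK2, hK3, ⟨eK⟩⟩ :=
    main_abstract hz0 k0 zz Φ hz1' Q hQ (hUQ hzU) b (hUQ hbU) hb2 hbz hzb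
  obtain ⟨eGL⟩ := nonempty_SL_equiv_GL n
  exact ⟨h1, h2, ⟨U, hUQ, ⟨hUmc, hU2⟩, hUcard⟩, h3, K, hK1, hK2, hK3, ⟨eK.trans eGL⟩⟩

end Cfsg.Agent.S5423
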