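import Cfsg.Statements.S5424
-- import your own Cfsg.Agent.* helpers here
import Cfsg.Agent.Lib.Helper89.TransvCentGenMain

set_option autoImplicit false
open Cfsg

namespace Cfsg.Agent.S5424

open Matrix Cfsg.Agent.Lib.Helper89.TransvCentGen

variable {n : ℕ}

/-- `gm 1 eₖ 0 1 = 1 + E₀₁ + E₀ₖ` -/
theorem gm_b_eq (k0 : Fin n) :
    (gm 1 (ek k0) 0 1 : Matrix (Fin (n + 2)) (Fin (n + 2)) (ZMod 2)) =
      1 + Matrix.single 0 (Fin.succ 0) 1 + Matrix.single 0 k0.succ.succ 1 := by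
  have h1 : (gm 1 (ek k0) 0 1 : Matrix (Fin (n + 2)) (Fin (n + 2)) (ZMod 2)) =
      gm 1 0 0 1 + Matrix.single 0 k0.succ.succ 1 := by
    ext i j
    rw [Matrix.add_apply, Matrix.single_apply]
    rcases fin_cases3 i with rfl | rfl | ⟨k, rfl⟩ <;>
    rcases fin_cases3 j with rfl | rfl | ⟨l, rfl⟩
    · rw [gm_00, gm_00, if_neg (fun h => succ2_ne_zero k0 h.2), add_zero]
    · rw [gm_01, gm_01, if_neg (fun h => succ2_ne_succ0 k0 h.2), add_zero]
    · rw [gm_0k, gm_0k]
      unfold ek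
      rw [Pi.single_apply, Pi.zero_apply, zero_add]
      by_cases h : l = k0
      · rw [if_pos h, if_pos ⟨rfl, succ2_inj.mpr h.symm⟩]
      · rw [if_neg h, if_neg (fun h' => h (succ2_inj.mp h'.2).symm)]
    · rw [gm_10, gm_10, if_neg (fun h => succ0_ne_zero h.1.symm), add_zero]
    · rw [gm_11, gm_11, if_neg (fun h => succ0_ne_zero h.1.symm), add_zero]
    · rw [gm_1k, gm_1k, if_neg (fun h => succ0_ne_zero h.1.symm), add_zero]
    · rw [gm_k0, gm_k0, if_neg (fun h => succ2_ne_zero k h.1.symm), add_zero]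
    · rw [gm_k1, gm_k1, if_neg (fun h => succ2_ne_zero k h.1.symm), add_zero]
    · rw [gm_kl, gm_kl, if_neg (fun h => succ2_ne_zero k h.1.symm), add_zero]
  rw [h1, ← transvection_eq_gm, Matrix.transvection]

theorem single_add_self (i j : Fin (n + 2)) :
    (Matrix.single i j 1 : Matrix (Fin (n + 2)) (Fin (n + 2)) (ZMod 2)) + Matrix.single i j 1 = 0 := by
  rw [← Matrix.single_add]
  have : (1 : ZMod 2) + 1 = 0 := by decide
  rw [this, Matrix.single_zero]

/-- the matrix identities behind `t z t⁻¹ = b` and `t b t⁻¹ = z` for `t = 1 + E₁ₖ` -/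
theorem conj_identities (k0 : Fin n) :
    ((1 + Matrix.single (Fin.succ 0) k0.succ.succ 1) * (1 + Matrix.single 0 (Fin.succ 0) 1) :
        Matrix (Fin (n + 2)) (Fin (n + 2)) (ZMod 2)) =
      (1 + Matrix.single 0 (Fin.succ 0) 1 + Matrix.single 0 k0.succ.succ 1) *
        (1 + Matrix.single (Fin.succ 0) k0.succ.succ 1) ∧
    ((1 + Matrix.single (Fin.succ 0) k0.succ.succ 1) *
        (1 + Matrix.single 0 (Fin.succ 0) 1 + Matrix.single 0 k0.succ.succ 1) :
        Matrix (Fin (n + 2)) (Fin (n + 2)) (ZMod 2)) =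
      (1 + Matrix.single 0 (Fin.succ 0) 1) * (1 + Matrix.single (Fin.succ 0) k0.succ.succ 1) := by
  have e1 : (Matrix.single (Fin.succ 0) k0.succ.succ 1 * Matrix.single 0 (Fin.succ 0) 1 :
      Matrix (Fin (n + 2)) (Fin (n + 2)) (ZMod 2)) = 0 :=
    Matrix.single_mul_single_of_ne _ _ _ _ (succ2_ne_zero k0) _
  have e2 : (Matrix.single 0 (Fin.succ 0) 1 * Matrix.single (Fin.succ 0) k0.succ.succ 1 :
      Matrix (Fin (n + 2)) (Fin (n + 2)) (ZMod 2)) = Matrix.single 0 k0.succ.succ 1 := by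
    rw [Matrix.single_mul_single_same, mul_one]
  have e3 : (Matrix.single 0 k0.succ.succ 1 * Matrix.single (Fin.succ 0) k0.succ.succ 1 :
      Matrix (Fin (n + 2)) (Fin (n + 2)) (ZMod 2)) = 0 :=
    Matrix.single_mul_single_of_ne _ _ _ _ (succ2_ne_succ0 k0) _
  have e4 : (Matrix.single (Fin.succ 0) k0.succ.succ 1 * Matrix.single 0 k0.succ.succ 1 :
      Matrix (Fin (n + 2)) (Fin (n + 2)) (ZMod 2)) = 0 :=
    Matrix.single_mul_single_of_ne _ _ _ _ (succ2_ne_zero k0) _
  have e5 := single_add_self (n := n) 0 k0.succ.succ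
  constructor
  · simp only [mul_add, add_mul, mul_one, one_mul, e1, e2, e3, add_zero]
    have : ∀ a b c d : Matrix (Fin (n + 2)) (Fin (n + 2)) (ZMod 2), d + d = 0 →
        a + c + b = a + b + d + (c + d) := by
      intro a b c d h
      have : a + b + d + (c + d) = a + c + b + (d + d) := by abel
      rw [this, h, add_zero]
    exact this _ _ _ _ e5
  · simp only [mul_add, add_mul, mul_one, one_mul, e1, e2, e4, add_zero]
    abel


/-- Let G be the special linear group of degree n + 2 over the field with two elements, n ≥ 2, let z be a transvection, and let Q be the largest normal 2-subgroup of the centralizer C of z. Then Q is extraspecial of order 2^(2n+1) with an elementary abelian subgroup of order 2^(n+1) (plus type), Q is a large extraspecial 2-subgroup of G, and C is the split extension of Q by the special linear group of degree n over the field with two elements. -/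
theorem result (n : ℕ) (hn : 2 ≤ n) (z : Matrix.SpecialLinearGroup (Fin (n + 2)) (ZMod 2)) (hz : (z : Matrix (Fin (n + 2)) (Fin (n + 2)) (ZMod 2)) = Matrix.transvection 0 1 1) (Q : Subgroup (Matrix.SpecialLinearGroup (Fin (n + 2)) (ZMod 2))) (hQ : Q = (Cfsg.pCore 2 ↥(Subgroup.centralizer ({z} : Set (Matrix.SpecialLinearGroup (Fin (n + 2)) (ZMod 2))))).map (Subgroup.centralizer ({z} : Set (Matrix.SpecialLinearGroup (Fin (n + 2)) (ZMod 2)))).subtype) : Cfsg.IsExtraspecial 2 ↥Q ∧ Nat.card ↥Q = 2 ^ (2 * n + 1) ∧ (∃ E : Subgroup (Matrix.SpecialLinearGroup (Fin (n + 2)) (ZMod 2)), E ≤ Q ∧ Cfsg.IsElementaryAbelian 2 E ∧ Nat.card ↥E = 2 ^ (n + 1)) ∧ Cfsg.IsLargeExtraspecial Q ∧ ∃ K : Subgroup (Matrix.SpecialLinearGroup (Fin (n + 2)) (ZMod 2)), K ≤ Subgroup.centralizer ({z} : Set (Matrix.SpecialLinearGroup (Fin (n + 2)) (ZMod 2))) ∧ Q ⊓ K = ⊥ ∧ Q ⊔ K = Subgroup.centralizer ({z} : Set (Matrix.SpecialLinearGroup (Fin (n + 2)) (ZMod 2))) ∧ Nonempty (↥K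 ≃* Matrix.SpecialLinearGroup (Fin n) (ZMod 2)) := by
  have hn1 : 0 < n := by omega
  let k0 : Fin n := ⟨0, hn1⟩
  have hz' : (z : Matrix (Fin (n + 2)) (Fin (n + 2)) (ZMod 2)) =
      Matrix.transvection 0 (Fin.succ 0) 1 := by
    rw [Fin.succ_zero_eq_one]; exact hz
  -- the elementary abelian subgroup
  have hpc := pCore_eq_Qm hz'
  have hRQ : (Rm hz').map (Cent z).subtype ≤ Q := by
    rw [hQ, hpc]
    exact Subgroup.map_mono (Rm_le hz')
  -- the involution `b`
  set b0 : ↥(Cent z) := qel hz' 1 (ek k0) 0 with hb0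
  have hb0R : b0 ∈ Rm hz' := ⟨qel_mem hz' _ _ _, (params_of_mat hz' (mat_qel hz' 1 (ek k0) 0)).2.2⟩
  set b   : SLn (n + 2) := (b0   : SLn (n + 2)) with hb
  have hbQ : b ∈ Q := hRQ ⟨b0, hb0R, rfl⟩
  have hbmat : (b : Matrix (Fin (n + 2)) (Fin (n + 2)) (ZMod 2)) =
      1 + Matrix.single 0 (Fin.succ 0) 1 + Matrix.single 0 k0.succ.succ 1 := by
    show mat b0 = _
    rw [hb0, mat_qel, gm_b_eq]
  have hzmat : (z : Matrix (Fin (n + 2)) (Fin (n + 2)) (ZMod 2)) =
      1 + Matrix.single 0 (Fin.succ 0) 1 := hz'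
  have hbz : b ≠ z := by
    intro h
    have h1 : mat b0 = mat (sC (z := z)) := congrArg (fun g : SLn (n + 2) => (g : Matrix (Fin (n + 2)) (Fin (n + 2)) (ZMod 2))) h
    rw [hb0, mat_qel, mat_sC hz'] at h1
    have h2 := congrFun (gm_inj h1).2.1 k0
    unfold ek at h2
    rw [Pi.single_eq_same, Pi.zero_apply] at h2
    exact one_ne_zero h2
  have hb1 : b ≠ 1 := by
    intro h
    have h1 : mat b0 = 1 := congrArg (fun g : SLn (n + 2) => (g : Matrix (Fin (n + 2)) (Fin (n + 2)) (ZMod 2))) h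
    rw [hb0, mat_qel, ← gm_one] at h1
    exact one_ne_zero (gm_inj h1).1
  have hb2 : orderOf b = 2 := by
    have : Fact (Nat.Prime 2) := ⟨Nat.prime_two⟩
    apply orderOf_eq_prime
    · rw [pow_two]
      exact congrArg Subtype.val (Rm_sq hz' hb0R)
    · exact hb1
  have hz1 : z ≠ 1 := fun h => sC_ne_one hz' (Subtype.ext h)
  have hzQ : z ∈ Q := by
    rw [hQ, hpc]
    exact ⟨sC, sC_mem hz', rfl⟩
  -- the conjugating transvection
  let t   : SLn (n + 2) := ⟨Matrix.transvection (Fin.succ 0) k0.succ.succ 1,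
    Matrix.det_transvection_of_ne _ _ (succ2_ne_succ0 k0).symm 1⟩
  have htmat : (t : Matrix (Fin (n + 2)) (Fin (n + 2)) (ZMod 2)) =
      1 + Matrix.single (Fin.succ 0) k0.succ.succ 1 := rfl
  obtain ⟨c1, c2⟩ := conj_identities k0
  have htz : t * z = b * t := by
    apply Subtype.ext
    rw [Matrix.SpecialLinearGroup.coe_mul, Matrix.SpecialLinearGroup.coe_mul, htmat, hzmat, hbmat]
    exact c1
  have htb : t * b = z * t := by
    apply Subtype.ext
    rw [Matrix.SpecialLinearGroup.coe_mul, Matrix.SpecialLinearGroup.coe_mul, htmat, hzmat, hbmat]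
    exact c2
  have htz' : t * z * t⁻¹ = b := by rw [htz]; group
  have htb' : t * b * t⁻¹ = z := by rw [htb]; group
  have hzb : z ∈ (Cfsg.pCore 2 ↥(Subgroup.centralizer ({b} : Set (SLn (n + 2))))).map
      (Subgroup.centralizer ({b} : Set (SLn (n + 2)))).subtype := by
    have h1 := conj_mem_pCoreOf t z b (by rw [← hQ]; exact hbQ)
    rw [htz', htb'] at h1
    exact h1
  obtain ⟨h1, h2, h3, h4⟩ := main_abstract hz' k0 z (MulEquiv.refl _) hz1 Q hQ hzQ b hbQ hb2 hbz hzb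
  refine ⟨h1, h2, ⟨(Rm hz').map (Cent z).subtype, hRQ, ⟨?_, ?_⟩, ?_⟩, h3, h4⟩
  · refine ⟨⟨fun a b => ?_⟩⟩
    obtain ⟨a', ha', ha⟩ := a.2
    obtain ⟨b', hb', hbb⟩ := b.2
    apply Subtype.ext
    show (a   : SLn (n + 2)) * (b   : SLn (n + 2)) = (b   : SLn (n + 2)) * (a   : SLn (n + 2))
    rw [← ha, ← hbb]
    exact congrArg Subtype.val (Rm_comm hz' ha' hb')
  · rintro _ ⟨a', ha', rfl⟩
    rw [pow_two]
    exact congrArg Subtype.val (Rm_sq hz' ha')
  · rw [Subgroup.card_map_of_injective (Subgroup.subtype_injective _), card_Rm hz']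

end Cfsg.Agent.S5424
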