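import Cfsg.Statements.S5425
-- import your own Cfsg.Agent.* helpers here
import Cfsg.Agent.Lib.Helper89.M24CentA
import Cfsg.Agent.Lib.Helper89.TransvCentCore
import Cfsg.Agent.Lib.Helper89.M24OctInv
import Cfsg.Agent.Lib.Helper90.ESCriterion
import Cfsg.Agent.Lib.Helper90.Large21

set_option autoImplicit false
open Cfsg

namespace Cfsg.Agent.S5425

open Cfsg.Agent.Lib.Helper89.TransvCent Cfsg.Agent.Lib.Helper89.TransvCentStruct
  Cfsg.Agent.Lib.Helper89.M24CentA Cfsg.Agent.Lib.Helper89.M24OctInv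

/-- the transvection `1 + E₀₁` of `SL(5, 2)` -/
def sT : Matrix.SpecialLinearGroup (Fin 5) (ZMod 2) :=
  ⟨Matrix.transvection 0 1 1, Matrix.det_transvection_of_ne 0 1 (by decide) 1⟩

theorem hsT : (sT : Matrix (Fin 5) (Fin 5) (ZMod 2)) = Matrix.transvection 0 1 1 := rfl

/-- the isomorphism of S2133 for the explicit involution `zM` -/
theorem iso_zM : Nonempty (↥(Subgroup.centralizer ({zM} : Set ↥Cfsg.M24)) ≃* ↥(Cent sT)) := by
  have hle : Psi.range ≤ (Phi hsT).range := by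
    rintro _ ⟨σ, rfl⟩
    obtain ⟨g, hg⟩ := exists_of_isAffTr hsT (Psi_isAffTr σ)
    exact ⟨g, hg⟩
  have hcard : Nat.card (Phi hsT).range ≤ Nat.card Psi.range := by
    rw [← Nat.card_congr (MonoidHom.ofInjective (Phi_injective hsT)).toEquiv,
      ← Nat.card_congr (MonoidHom.ofInjective Psi_injective).toEquiv]
    exact (card_cent_le hsT).trans card_CA_ge
  have heq : Psi.range = (Phi hsT).range := Subgroup.eq_of_le_of_card_ge hle hcard
  exact ⟨(MonoidHom.ofInjective Psi_injective).trans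
    ((MulEquiv.subgroupCongr heq).trans (MonoidHom.ofInjective (Phi_injective hsT)).symm)⟩

/-- centralizers of conjugate elements are isomorphic -/
theorem iso_conj {G : Type*} [Group G] (k a : G) :
    Nonempty (↥(Subgroup.centralizer ({a} : Set G)) ≃*
      ↥(Subgroup.centralizer ({k * a * k⁻¹} : Set G))) := by
  refine ⟨{ toFun := fun x => ⟨k * x * k⁻¹, ?_⟩, invFun := fun y => ⟨k⁻¹ * y * k, ?_⟩,
            left_inv := ?_, right_inv := ?_, map_mul' := ?_ }⟩
  · have hx : (x : G) * a = a * x := Subgroup.mem_centralizer_singleton_iff.mp x.2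
    rw [Subgroup.mem_centralizer_singleton_iff]
    calc k * x * k⁻¹ * (k * a * k⁻¹) = k * (x * a) * k⁻¹ := by group
      _ = k * (a * x) * k⁻¹ := by rw [hx]
      _ = k * a * k⁻¹ * (k * x * k⁻¹) := by group
  · have hy : (y : G) * (k * a * k⁻¹) = k * a * k⁻¹ * y :=
      Subgroup.mem_centralizer_singleton_iff.mp y.2
    rw [Subgroup.mem_centralizer_singleton_iff]
    calc k⁻¹ * y * k * a = k⁻¹ * (y * (k * a * k⁻¹)) * k := by group
      _ = k⁻¹ * (k * a * k⁻¹ * y) * k := by rw [hy]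
      _ = a * (k⁻¹ * y * k) := by group
  · intro x
    apply Subtype.ext
    show k⁻¹ * (k * x * k⁻¹) * k = x
    group
  · intro y
    apply Subtype.ext
    show k * (k⁻¹ * y * k) * k⁻¹ = y
    group
  · intro x y
    apply Subtype.ext
    show k * (x * y) * k⁻¹ = k * x * k⁻¹ * (k * y * k⁻¹)
    group

/-- the centralizer of every involution of `M24` fixing an octad is isomorphic to the centralizer
of a transvection of `SL(5, 2)` -/
theorem exists_iso (z : ↥Cfsg.M24) (hz : orderOf z = 2) (p : Cfsg.GolayPt)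
    (hp : (z : Equiv.Perm Cfsg.GolayPt) p = p) :
    Nonempty (↥(Subgroup.centralizer ({z} : Set ↥Cfsg.M24)) ≃* ↥(Cent sT)) := by
  have hzA2 : orderOf zA = 2 := by
    have : Fact (Nat.Prime 2) := ⟨Nat.prime_two⟩
    apply orderOf_eq_prime
    · rw [pow_two]; exact zA_spec.2.2
    · exact zA_ne_one
  have hz2 : orderOf (z : Equiv.Perm Cfsg.GolayPt) = 2 := by
    rw [Subgroup.orderOf_coe]; exact hz
  have hiff : (∀ q, zA q ≠ q) ↔ (∀ q, (z : Equiv.Perm Cfsg.GolayPt) q ≠ q) := by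
    constructor
    · intro h
      have hne : (Cfsg.Agent.Lib.Helper7.setOf Cfsg.Agent.Lib.Helper7.octO).Nonempty := by
        rw [← Finset.card_pos, octO_mem.2]; norm_num
      obtain ⟨q, hq⟩ := hne
      exact absurd ((zA_fix_iff q).mpr hq) (h q)
    · intro h
      exact absurd hp (h p)
  obtain ⟨k, hk, hkz⟩ := (Cfsg.Agent.S5394.result).2.2.2 zA zA_mem (z : Equiv.Perm Cfsg.GolayPt)
    z.2 hzA2 hz2 hiff
  have hkz' : (⟨k, hk⟩ : ↥Cfsg.M24) * zM * (⟨k, hk⟩ : ↥Cfsg.M24)⁻¹ = z := Subtype.ext hkz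
  obtain ⟨e1⟩ := iso_zM
  obtain ⟨e2⟩ := iso_conj (⟨k, hk⟩ : ↥Cfsg.M24) zM
  rw [hkz'] at e2
  exact ⟨e2.symm.trans e1⟩

/-- conjugating the image of a normal subgroup of a subgroup -/
theorem conj_mem_map_subtype {G : Type*} [Group G] {C : Subgroup G} (N : Subgroup ↥C)
    (hN : N.Normal) {x : G} (hx : x ∈ C) {h : G} (hh : h ∈ N.map C.subtype) :
    x * h * x⁻¹ ∈ N.map C.subtype := by
  obtain ⟨y, hy, rfl⟩ := hh
  exact ⟨⟨x, hx⟩ * y * ⟨x, hx⟩⁻¹, hN.conj_mem y hy _, rfl⟩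

theorem main_abstract {G : Type*} [Group G] [Finite G] (z : G)
    (Φ : ↥(Subgroup.centralizer ({z} : Set G)) ≃* ↥(Cent sT)) (hz1 : z ≠ 1)
    (Q : Subgroup G)
    (hQ : Q = (Cfsg.pCore 2 ↥(Subgroup.centralizer ({z} : Set G))).map
      (Subgroup.centralizer ({z} : Set G)).subtype)
    (hzQ : z ∈ Q) (b : G) (hbQ : b ∈ Q) (hb : orderOf b = 2) (hbz : b ≠ z)
    (hzb : z ∈ (Cfsg.pCore 2 ↥(Subgroup.centralizer ({b} : Set G))).map
      (Subgroup.centralizer ({b} : Set G)).subtype) :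
    Cfsg.IsExtraspecial 2 ↥Q ∧ Nat.card ↥Q = 2 ^ 7 ∧ Cfsg.IsLargeExtraspecial Q ∧
      ∃ K : Subgroup G, K ≤ Subgroup.centralizer ({z} : Set G) ∧ Q ⊓ K = ⊥ ∧
        Q ⊔ K = Subgroup.centralizer ({z} : Set G) ∧
        Nonempty (↥K ≃* Matrix.SpecialLinearGroup (Fin 3) (ZMod 2)) := by
  set C := Subgroup.centralizer ({z} : Set G) with hC
  let f : ↥(Cent sT) →* G := C.subtype.comp Φ.symm.toMonoidHom
  have hf : Function.Injective f := by
    intro x y hxy
    exact Φ.symm.injective (Subtype.ext hxy)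
  have hfC : ∀ x, f x ∈ C := fun x => (Φ.symm x).2
  have hfsurj : ∀ x ∈ C, ∃ y, f y = x := by
    intro x hx
    refine ⟨Φ ⟨x, hx⟩, ?_⟩
    show ((Φ.symm (Φ ⟨x, hx⟩) : ↥C) : G) = x
    rw [MulEquiv.symm_apply_apply]
  have hQf : Q = (Qm hsT).map f := by
    rw [hQ, ← Cfsg.Agent.Lib.Helper97.pCore_map_equiv Φ.symm 2, pCore_eq_Qm hsT, Subgroup.map_map]
  have hQC : Q ≤ C := by
    rw [hQ]; exact Subgroup.map_subtype_le _
  have hmemQ : ∀ y, y ∈ Qm hsT → f y ∈ Q := by
    intro y hy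
    rw [hQf]; exact Subgroup.mem_map_of_mem f hy
  have hexQ : ∀ x ∈ Q, ∃ y ∈ Qm hsT, f y = x := by
    intro x hx
    rw [hQf] at hx
    exact hx
  have hcardQ : Nat.card ↥Q = 2 ^ 7 := by
    rw [hQf, Subgroup.card_map_of_injective hf, card_Qm hsT]
  have hQ2 : IsPGroup 2 ↥Q := IsPGroup.of_card hcardQ
  set z' : G := f sC with hz'
  have hz'Q : z' ∈ Q := hmemQ _ (sC_mem hsT)
  have hz'1 : z' ≠ 1 := by
    intro h
    apply sC_ne_one hsT
    apply hf
    rw [map_one]; exact h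
  have hz'c : ∀ y ∈ Q, y * z' = z' * y := by
    intro y hy
    obtain ⟨y0, _, rfl⟩ := hexQ y hy
    rw [hz', ← map_mul, ← map_mul, sC_comm]
  -- an element of `C` commuting with all of `Q` is `1` or `z'`
  have hcentC : ∀ x ∈ C, (∀ y ∈ Q, y * x = x * y) → x = 1 ∨ x = z' := by
    intro x hx hcomm
    obtain ⟨x0, rfl⟩ := hfsurj x hx
    have h0 : ∀ y ∈ Qm hsT, y * x0 = x0 * y := by
      intro y hy
      apply hf
      rw [map_mul, map_mul]
      exact hcomm _ (hmemQ y hy)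
    rcases cent_Qm hsT h0 with h | h
    · left; rw [h, map_one]
    · right; rw [h]
  have hcent : ∀ x ∈ Q, (∀ y ∈ Q, y * x = x * y) → x = 1 ∨ x = z' :=
    fun x hx => hcentC x (hQC hx)
  have hcomm : ∀ a ∈ Q, ∀ b ∈ Q, a * b * a⁻¹ * b⁻¹ = 1 ∨ a * b * a⁻¹ * b⁻¹ = z' := by
    intro a ha b hb
    obtain ⟨a0, ha0, rfl⟩ := hexQ a ha
    obtain ⟨b0, hb0, rfl⟩ := hexQ b hb
    rcases comm_Qm hsT ha0 hb0 with h | h
    · left
      have h1 : f a0 * f b0 = f b0 * f a0 := by rw [← map_mul, ← map_mul, h]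
      calc f a0 * f b0 * (f a0)⁻¹ * (f b0)⁻¹ = f b0 * f a0 * (f a0)⁻¹ * (f b0)⁻¹ := by rw [h1]
        _ = 1 := by group
    · right
      have h1 : f a0 * f b0 = z' * (f b0 * f a0) := by
        rw [hz', ← map_mul, ← map_mul, ← map_mul, h]
      calc f a0 * f b0 * (f a0)⁻¹ * (f b0)⁻¹ = z' * (f b0 * f a0) * (f a0)⁻¹ * (f b0)⁻¹ := by
            rw [h1]
        _ = z' := by group
  have hsq : ∀ a ∈ Q, a * a = 1 ∨ a * a = z' := by
    intro a ha
    obtain ⟨a0, ha0, rfl⟩ := hexQ a ha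
    rcases sq_Qm hsT ha0 with h | h
    · left; rw [← map_mul, h, map_one]
    · right; rw [← map_mul, h]
  have hna : ∃ a ∈ Q, ∃ b ∈ Q, a * b ≠ b * a := by
    obtain ⟨a0, ha0, b0, hb0, hab⟩ := nonabelian_Qm hsT
    refine ⟨f a0, hmemQ _ ha0, f b0, hmemQ _ hb0, ?_⟩
    intro h
    apply hab
    apply hf
    rw [map_mul, map_mul]; exact h
  have hES : Cfsg.IsExtraspecial 2 ↥Q :=
    Cfsg.Agent.Lib.Helper90.isExtraspecial_two_subgroup Q z' hz'Q hz'1 hQ2 hz'c hcent hcomm hsq hna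
  -- the centre of `Q`
  have hzc : ∀ q ∈ Q, q * z = z * q := fun q hq =>
    Subgroup.mem_centralizer_singleton_iff.mp (hQC hq)
  have hzZ : z ∈ (Subgroup.center ↥Q).map Q.subtype :=
    (Cfsg.Agent.Lib.Helper90.mem_center_map_iff Q z).mpr ⟨hzQ, hzc⟩
  have hZall : ∀ x ∈ (Subgroup.center ↥Q).map Q.subtype, x = 1 ∨ x = z' := by
    intro x hx
    obtain ⟨hxQ, hxc⟩ := (Cfsg.Agent.Lib.Helper90.mem_center_map_iff Q x).mp hx
    exact hcent x hxQ hxc
  have hzz' : z = z' := by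
    rcases hZall z hzZ with h | h
    · exact absurd h hz1
    · exact h
  have hL2 : Subgroup.centralizer (Q : Set G) = (Subgroup.center ↥Q).map Q.subtype := by
    ext x
    constructor
    · intro hx
      rw [Subgroup.mem_centralizer_iff] at hx
      have hxC : x ∈ C := by
        rw [hC, Subgroup.mem_centralizer_singleton_iff]
        exact (hx z hzQ).symm
      have hxc : ∀ y ∈ Q, y * x = x * y := fun y hy => hx y hy
      rw [Cfsg.Agent.Lib.Helper90.mem_center_map_iff]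
      refine ⟨?_, hxc⟩
      rcases hcentC x hxC hxc with h | h
      · rw [h]; exact Q.one_mem
      · rw [h]; exact hz'Q
    · intro hx
      obtain ⟨_, hxc⟩ := (Cfsg.Agent.Lib.Helper90.mem_center_map_iff Q x).mp hx
      rw [Subgroup.mem_centralizer_iff]
      exact fun y hy => hxc y hy
  have hL3 : Subgroup.centralizer (((Subgroup.center ↥Q).map Q.subtype : Subgroup G) : Set G) ≤
      Subgroup.normalizer (Q : Set G) := by
    rw [Subgroup.le_normalizer_iff]
    intro x hx q hq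
    rw [Subgroup.mem_centralizer_iff] at hx
    have hxC : x ∈ C := by
      rw [hC, Subgroup.mem_centralizer_singleton_iff]
      exact (hx z hzZ).symm
    rw [hQ] at hq ⊢
    exact conj_mem_map_subtype _ (Cfsg.Agent.Lib.Helper97.pCore_normal 2) hxC hq
  have hbZ : b ∉ (Subgroup.center ↥Q).map Q.subtype := by
    intro h
    rcases hZall b h with h1 | h1
    · rw [h1, orderOf_one] at hb
      exact absurd hb (by norm_num)
    · exact hbz (h1.trans hzz'.symm)
  have hZ : (Subgroup.center ↥Q).map Q.subtype ≤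
      (Cfsg.pCore 2 ↥(Subgroup.centralizer ({b} : Set G))).map
        (Subgroup.centralizer ({b} : Set G)).subtype := by
    intro x hx
    rcases hZall x hx with h | h
    · rw [h]; exact Subgroup.one_mem _
    · rw [h, ← hzz']; exact hzb
  have hLarge : Cfsg.IsLargeExtraspecial Q :=
    Cfsg.Agent.Lib.Helper90.isLargeExtraspecial_of_involution Q hES hL2 hL3 b hbQ hbZ hb hZ
  refine ⟨hES, hcardQ, hLarge, (Km hsT).map f, ?_, ?_, ?_, ?_⟩
  · rintro _ ⟨y, _, rfl⟩
    exact hfC y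
  · rw [hQf, ← Subgroup.map_inf _ _ f hf, Qm_inf_Km, Subgroup.map_bot]
  · rw [hQf, ← Subgroup.map_sup, Qm_sup_Km]
    ext x
    constructor
    · rintro ⟨y, _, rfl⟩
      exact hfC y
    · intro hx
      obtain ⟨y, rfl⟩ := hfsurj x hx
      exact ⟨y, Subgroup.mem_top _, rfl⟩
  · exact ⟨((Km hsT).equivMapOfInjective f hf).symm.trans (KmEquiv hsT)⟩


/-- In the Mathieu group of degree 24 (the automorphism group of the length-24 binary Golay code, acting on the 24 coordinates), let z be an involution whose fixed points form an octad (the support of a code word of weight 8), and let Q be the largest normal 2-subgroup of the centralizer C of z. Then Q is extraspecial of order 2^7 with an elementary abelian subgroup of order 16 (plus type), Q is a large extraspecial 2-subgroup, and C is the split extension of Q by the special linear group of degree 3 over the field with two elements. -/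
theorem result (z : ↥Cfsg.M24) (hz : orderOf z = 2) (hfix : (Finset.univ.filter fun p : Cfsg.GolayPt => (z : Equiv.Perm Cfsg.GolayPt) p = p) ∈ Cfsg.octads) (Q : Subgroup ↥Cfsg.M24) (hQ : Q = (Cfsg.pCore 2 ↥(Subgroup.centralizer ({z} : Set ↥Cfsg.M24))).map (Subgroup.centralizer ({z} : Set ↥Cfsg.M24)).subtype) : Cfsg.IsExtraspecial 2 ↥Q ∧ Nat.card ↥Q = 2 ^ 7 ∧ (∃ E : Subgroup ↥Cfsg.M24, E ≤ Q ∧ Cfsg.IsElementaryAbelian 2 E ∧ Nat.card ↥E = 2 ^ 4) ∧ Cfsg.IsLargeExtraspecial Q ∧ ∃ K : Subgroup ↥Cfsg.M24, K ≤ Subgroup.centralizer ({z} : Set ↥Cfsg.M24) ∧ Q ⊓ K = ⊥ ∧ Q ⊔ K = Subgroup.centralizer ({z} : Set ↥Cfsg.M24) ∧ Nonempty (↥K ≃* Matrix.SpecialLinearGroup (Fin 3) (ZMod 2)) := by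
  set o : Finset Cfsg.GolayPt :=
    Finset.univ.filter fun p : Cfsg.GolayPt => (z : Equiv.Perm Cfsg.GolayPt) p = p with ho
  have hfx : ∀ p, (z : Equiv.Perm Cfsg.GolayPt) p = p ↔ p ∈ o := by
    intro p
    rw [ho, Finset.mem_filter]
    exact ⟨fun h => ⟨Finset.mem_univ _, h⟩, fun h => h.2⟩
  have hne : o.Nonempty := by
    rw [← Finset.card_pos, hfix.2]; norm_num
  obtain ⟨p0, hp0⟩ := hne
  obtain ⟨Φ⟩ := exists_iso z hz p0 ((hfx p0).mpr hp0)
  have hz1 : z ≠ 1 := by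
    intro h
    rw [h, orderOf_one] at hz
    exact absurd hz (by norm_num)
  have hEQ : EO o ≤ Q := by
    rw [hQ]; exact EO_le_pCore hfix z hfx
  have hzE : z ∈ EO o := mem_EO.mpr fun p hp => (hfx p).mpr hp
  obtain ⟨b, hbE, hb1, hbz⟩ := exists_third hfix z
  have hb2 : orderOf b = 2 := by
    have : Fact (Nat.Prime 2) := ⟨Nat.prime_two⟩
    apply orderOf_eq_prime
    · rw [pow_two]; exact EO_sq hfix hbE
    · exact hb1
  have hzb := EO_le_pCore hfix b (fix_iff_of_mem_EO hfix hbE hb1) hzE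
  obtain ⟨h1, h2, h3, h4⟩ := main_abstract z Φ hz1 Q hQ (hEQ hzE) b (hEQ hbE) hb2 hbz hzb
  refine ⟨h1, h2, ⟨EO o, hEQ, ⟨?_, ?_⟩, ?_⟩, h3, h4⟩
  · exact ⟨⟨fun a b => Subtype.ext (EO_comm hfix a.2 b.2)⟩⟩
  · intro a ha
    rw [pow_two]; exact EO_sq hfix ha
  · rw [card_EO hfix]; norm_num

end Cfsg.Agent.S5425
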