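import Cfsg.Statements.S5426
import Cfsg.Agent.Lib.Helper48.LargeES5

set_option autoImplicit false
open Cfsg

namespace Cfsg.Agent.S5426

open Cfsg.Agent.Lib.Helper48 Cfsg.Agent.Lib.Helper33

/-- Let Q be a large extraspecial 2-subgroup of the finite group G (extraspecial; centralizer equal to its centre; normal in the centralizer of its centre; normalizing no non-trivial subgroup of odd order) with centre generated by z, and let M be the normal closure of z in G. Then one of the following holds: Q is normal in G; or M is abelian and the generalized Fitting subgroup of G is its largest normal 2-subgroup; or M is the generalized Fitting subgroup of G and is a non-abelian simple group; or M is the generalized Fitting subgroup of G and is the direct product of a non-abelian simple subgroup L and its conjugate u L u⁻¹ by some u in Q (the two meet trivially and commute elementwise), with z = z₁ (u z₁ u⁻¹) for some z₁ in L whose centralizer in L is a Sylow 2-subgroup of L with Frattini subgroup inside the subgroup generated by z₁, and Q is not the largest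 normal 2-subgroup of the centralizer of z. -/
theorem result {G : Type*} [Group G] [Finite G] (Q : Subgroup G) (hQ : Cfsg.IsLargeExtraspecial Q) (z : G) (hz : ((Subgroup.center ↥Q).map Q.subtype) = Subgroup.zpowers z) (M : Subgroup G) (hM : M = Subgroup.normalClosure ({z} : Set G)) : Q.Normal ∨ (IsMulCommutative ↥M ∧ Cfsg.generalizedFittingSubgroup G = Cfsg.pCore 2 G) ∨ (M = Cfsg.generalizedFittingSubgroup G ∧ IsSimpleGroup ↥M ∧ ¬ IsMulCommutative ↥M) ∨ (M = Cfsg.generalizedFittingSubgroup G ∧ ∃ (L : Subgroup G) (u : G), u ∈ Q ∧ IsSimpleGroup ↥L ∧ ¬ IsMulCommutative ↥L ∧ L ⊓ (L).map (MulAut.conj u).toMonoidHom = ⊥ ∧ (∀ x ∈ L, ∀ y ∈ (L).map (MulAut.conj u).toMonoidHom, x * y = y * x) ∧ L ⊔ (L).map (MulAut.conj u).toMonoidHom = M ∧ ∃ z₁ ∈ L, z = z₁ * (u * z₁ * u⁻¹) ∧ (∃ R : Sylow 2 ↥L, (R : Subgroup ↥L) = (Subgroup.centralizer ({z₁} : Set G)).subgroupOf L ∧ (frattini ↥(R : Subgroup ↥L)).map ((L.subtype).comp (R : Subgroup ↥L).subtype) ≤ Subgroup.zpowers z₁) ∧ Q ≠ (Cfsg.pCore 2 ↥(Subgroup.centralizer ({z} : Set G))).map (Subgroup.centralizer ({z} : Set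 G)).subtype) := by
  have h : LES Q z := les_of_hyps hQ hz
  subst hM
  by_cases hO : Cfsg.pCore 2 G = ⊥
  · -- `F*(G) = E(G)`; pick a component
    have hzl := h.mem_layer hO
    have hex : ∃ L : Subgroup G, IsComponent L := by
      by_contra hcon
      push Not at hcon
      have hE : layer G = ⊥ := by
        rw [eq_bot_iff]
        apply sSup_le
        intro K hK
        exact absurd hK (hcon K)
      rw [hE, Subgroup.mem_bot] at hzl
      exact h.z_ne hzl
    obtain ⟨L, hL⟩ := hex
    by_cases hQL : Q ≤ Subgroup.normalizer (L : Set G)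
    · right; right; left
      exact h.case_normalized hO hL hQL
    · right; right; right
      obtain ⟨u, hu, hnu⟩ := SetLike.not_le_iff_exists.mp hQL
      have hnu' : cj u L ≠ L := fun he => hnu (mem_normalizer_iff_cj_eq.mpr he)
      obtain ⟨h1, h2, h3, h4, h5, h6, h7⟩ := h.case_moved hO hL hu hnu'
      exact ⟨h1, L, u, hu, h2, h3, h4, h5, h6, h7⟩
  · right; left
    exact h.case_pCore_ne_bot hO

end Cfsg.Agent.S5426
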