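import Cfsg.Statements.S5427
import Cfsg.Agent.S5421
import Cfsg.Agent.S5422
import Cfsg.Agent.Lib.Helper48.LargeES5

set_option autoImplicit false
open Cfsg

namespace Cfsg.Agent.S5427

open Cfsg.Agent.Lib.Helper48 Cfsg.Agent.Lib.Helper33 Cfsg.Agent.Lib.Helper22

theorem mem_zpowers_of_sq {G : Type*} [Group G] {z : G} (hzsq : z * z = 1) {x : G}
    (hx : x ∈ Subgroup.zpowers z) : x = 1 ∨ x = z := by
  obtain ⟨k, rfl⟩ := Subgroup.mem_zpowers_iff.mp hx
  rcases Int.emod_two_eq_zero_or_one k with h | h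
  · left
    have : k = 2 * (k / 2) := by omega
    rw [this, zpow_mul, zpow_ofNat, pow_two, hzsq, one_zpow]
  · right
    have : k = 2 * (k / 2) + 1 := by omega
    rw [this, zpow_add, zpow_mul, zpow_ofNat, pow_two, hzsq, one_zpow, one_mul, zpow_one]

theorem isNilpotent_center' (H : Type*) [Group H] : Group.IsNilpotent ↥(Subgroup.center H) := by
  refine ⟨1, ?_⟩
  rw [Subgroup.upperCentralSeries_one_eq_top_iff]
  infer_instance

/-- the basic hypotheses on `Q = F*(C_G(z))` extraspecial -/
theorem basic {G : Type*} [Group G] [Finite G] (z : G) (hz : orderOf z = 2) (Q : Subgroup G)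
    (hF : (Cfsg.generalizedFittingSubgroup ↥(Subgroup.centralizer ({z} : Set G))).map
      (Subgroup.centralizer ({z} : Set G)).subtype = Q) (hQ : Cfsg.IsExtraspecial 2 ↥Q) :
    (Subgroup.center ↥Q).map Q.subtype = Subgroup.zpowers z ∧
    Subgroup.centralizer (Q : Set G) = (Subgroup.center ↥Q).map Q.subtype ∧
    Subgroup.centralizer (((Subgroup.center ↥Q).map Q.subtype : Subgroup G) : Set G) ≤
      Subgroup.normalizer (Q : Set G) ∧
    Q = (Cfsg.pCore 2 ↥(Subgroup.centralizer ({z} : Set G))).map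
      (Subgroup.centralizer ({z} : Set G)).subtype := by
  have : Fact (Nat.Prime 2) := ⟨Nat.prime_two⟩
  set C := Subgroup.centralizer ({z} : Set G) with hC
  have hzsq : z * z = 1 := by rw [← pow_two, ← hz]; exact pow_orderOf_eq_one z
  have hzne : z ≠ 1 := by
    intro h1; rw [h1, orderOf_one] at hz; omega
  have hCz : ∀ g : ↥C, (g : G) * z = z * (g : G) := fun g =>
    ((Subgroup.mem_centralizer_iff.mp g.2) z rfl).symm
  have hzC : z ∈ C := Subgroup.mem_centralizer_iff.mpr (by
    intro g hg; rw [Set.mem_singleton_iff] at hg; rw [hg])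
  have hz'cen : (⟨z, hzC⟩ : ↥C) ∈ Subgroup.center ↥C := by
    rw [Subgroup.mem_center_iff]
    intro g
    exact Subtype.ext (hCz g)
  have hcenle : Subgroup.center ↥C ≤ Cfsg.generalizedFittingSubgroup ↥C :=
    (Cfsg.Agent.Lib.Helper21.le_fittingSubgroup_of_normal_nilpotent inferInstance
      (isNilpotent_center' ↥C)).trans le_sup_right
  have hQC : Q ≤ C := by rw [← hF]; exact Subgroup.map_subtype_le _
  have hzQ : z ∈ Q := by rw [← hF]; exact ⟨⟨z, hzC⟩, hcenle hz'cen, rfl⟩
  have hzcomm : ∀ q ∈ Q, q * z = z * q := fun q hq => hCz ⟨q, hQC hq⟩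
  have hzZ : z ∈ (Subgroup.center ↥Q).map Q.subtype := by
    refine ⟨⟨z, hzQ⟩, Subgroup.mem_center_iff.mpr ?_, rfl⟩
    intro g
    exact Subtype.ext (hzcomm g g.2)
  have hZeq : (Subgroup.center ↥Q).map Q.subtype = Subgroup.zpowers z := by
    symm
    apply Subgroup.eq_of_le_of_card_ge
    · rw [Subgroup.zpowers_le]; exact hzZ
    · rw [Nat.card_zpowers, hz, ← hQ.2]
      exact le_of_eq (Nat.card_congr ((Subgroup.center Q).equivMapOfInjective Q.subtype
        Q.subtype_injective).toEquiv).symm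
  have hn := Cfsg.Agent.Lib.Helper29.generalizedFittingSubgroup_normal ↥C
  have hCnorm : ∀ c ∈ C, ∀ q ∈ Q, c * q * c⁻¹ ∈ Q := by
    intro c hc q hq
    rw [← hF] at hq ⊢
    obtain ⟨q', hq', rfl⟩ := hq
    exact ⟨⟨c, hc⟩ * q' * ⟨c, hc⟩⁻¹, hn.conj_mem q' hq' ⟨c, hc⟩, rfl⟩
  refine ⟨hZeq, ?_, ?_, ?_⟩
  · apply le_antisymm
    · intro x hx
      have hxC : x ∈ C := by
        rw [hC, Subgroup.mem_centralizer_iff]
        intro w hw
        rw [Set.mem_singleton_iff] at hw
        rw [hw]
        exact Subgroup.mem_centralizer_iff.mp hx z hzQ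
      have hxc : (⟨x, hxC⟩ : ↥C) ∈ Subgroup.centralizer
          ((Cfsg.generalizedFittingSubgroup ↥C : Subgroup ↥C) : Set ↥C) := by
        rw [Subgroup.mem_centralizer_iff]
        intro g hg
        apply Subtype.ext
        have hgQ : (g : G) ∈ Q := by rw [← hF]; exact ⟨g, hg, rfl⟩
        exact Subgroup.mem_centralizer_iff.mp hx g hgQ
      have hxF := Cfsg.Agent.Lib.Helper22.centralizer_generalizedFittingSubgroup_le hxc
      have hxQ : x ∈ Q := by rw [← hF]; exact ⟨⟨x, hxC⟩, hxF, rfl⟩
      refine ⟨⟨x, hxQ⟩, Subgroup.mem_center_iff.mpr ?_, rfl⟩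
      intro g
      exact Subtype.ext (Subgroup.mem_centralizer_iff.mp hx g g.2)
    · rintro _ ⟨x, hx, rfl⟩
      rw [Subgroup.mem_centralizer_iff]
      intro q hq
      have := Subgroup.mem_center_iff.mp hx ⟨q, hq⟩
      exact congrArg Subtype.val this
  · apply le_normalizer_of_forall_conj_mem
    intro c hc q hq
    apply hCnorm c _ q hq
    rw [hC, Subgroup.mem_centralizer_iff]
    intro w hw
    rw [Set.mem_singleton_iff] at hw
    rw [hw]
    exact Subgroup.mem_centralizer_iff.mp hc z hzZ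
  · -- `F*(C) = O_2(C)`
    have hPg : IsPGroup 2 ↥(Cfsg.generalizedFittingSubgroup ↥C) := by
      have hPQ : IsPGroup 2 ↥Q := hQ.1.1
      have e := (Cfsg.generalizedFittingSubgroup ↥C).equivMapOfInjective C.subtype
        C.subtype_injective
      have hPm : IsPGroup 2 ↥((Cfsg.generalizedFittingSubgroup ↥C).map C.subtype) := by
        rw [hF]; exact hPQ
      exact hPm.of_equiv e.symm
    have h1 : Cfsg.generalizedFittingSubgroup ↥C ≤ Cfsg.pCore 2 ↥C :=
      Cfsg.Agent.Lib.Helper97.le_pCore_of_normal hn hPg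
    have h2 : Cfsg.pCore 2 ↥C ≤ Cfsg.generalizedFittingSubgroup ↥C := by
      have hnp : (Cfsg.pCore 2 ↥C).Normal := Subgroup.sSup_normal _ (fun _ h => h.1)
      have hpp : IsPGroup 2 ↥(Cfsg.pCore 2 ↥C) := Cfsg.Agent.Lib.Helper97.isPGroup_pCore 2 ↥C
      exact (Cfsg.Agent.Lib.Helper21.le_fittingSubgroup_of_normal_nilpotent hnp
        hpp.isNilpotent).trans le_sup_right
    rw [← hF, le_antisymm h1 h2]


/-- Let z be an involution of the finite group G whose centralizer C has generalized Fitting subgroup Q, an extraspecial 2-group of width at least 2 (order 2^(2w+1), w ≥ 2). Let K be a subgroup of G such that the subgroup U generated by the K-conjugates of z is abelian and C is generated by the C-conjugates of U. Suppose that either some K-conjugate of z other than z lies in Q, or some element u of U ∩ Q outside the subgroup generated by z has z in the largest normal 2-subgroup of its centralizer. Then G is simple and Q is a large extraspecial 2-subgroup of G. -/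
theorem result {G : Type*} [Group G] [Finite G] (z : G) (hz : orderOf z = 2) (Q : Subgroup G) (hQC : Q ≤ Subgroup.centralizer ({z} : Set G)) (hF : (Cfsg.generalizedFittingSubgroup ↥(Subgroup.centralizer ({z} : Set G))).map (Subgroup.centralizer ({z} : Set G)).subtype = Q) (hQ : Cfsg.IsExtraspecial 2 ↥Q) (w : ℕ) (hw : 2 ≤ w) (hcard : Nat.card ↥Q = 2 ^ (2 * w + 1)) (K U : Subgroup G) (hU : U = Subgroup.closure {x : G | ∃ k ∈ K, x = k * z * k⁻¹}) (hUab : IsMulCommutative ↥U) (hgen : Subgroup.closure {x : G | ∃ c ∈ Subgroup.centralizer ({z} : Set G), ∃ u ∈ U, x = c * u * c⁻¹} = Subgroup.centralizer ({z} : Set G)) (h3 : (∃ k ∈ K, k * z * k⁻¹ ∈ Q ∧ k * z * k⁻¹ ≠ z) ∨ ∃ u ∈ U ⊓ Q, u ∉ Subgroup.zpowers z ∧ (∃ hz' : z ∈ Subgroup.centralizer ({u} : Set G), (⟨z, hz'⟩ : ↥(Subgroup.centralizer ({u} : Set G))) ∈ Cfsg.pCore 2 ↥(Subgroup.centralizer ({u} : Set G)))) : IsSimpleGroup G ∧ Cfsg.IsLargeExtraspecial Q := by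
  have : Fact (Nat.Prime 2) := ⟨Nat.prime_two⟩
  obtain ⟨hZeq, hL2, hL3, hQO⟩ := basic z hz Q hF hQ
  have hzsq : z * z = 1 := by rw [← pow_two, ← hz]; exact pow_orderOf_eq_one z
  have hzne : z ≠ 1 := by
    intro h1; rw [h1, orderOf_one] at hz; omega
  -- elements of `U` are involutions
  have hUsq : ∀ x ∈ U, x * x = 1 := by
    intro x hx
    rw [hU] at hx
    induction hx using Subgroup.closure_induction with
    | mem x hx =>
      obtain ⟨k, -, rfl⟩ := hx
      calc k * z * k⁻¹ * (k * z * k⁻¹) = k * (z * z) * k⁻¹ := by group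
        _ = 1 := by rw [hzsq]; group
    | one => exact one_mul 1
    | mul x y hx hy hx2 hy2 =>
      have hxU : x ∈ U := by rw [hU]; exact hx
      have hyU : y ∈ U := by rw [hU]; exact hy
      have hc : x * y = y * x := by
        have := hUab.is_comm.comm (⟨x, hxU⟩ : ↥U) ⟨y, hyU⟩
        exact congrArg Subtype.val this
      calc x * y * (x * y) = x * (y * x) * y := by group
        _ = x * (x * y) * y := by rw [hc]
        _ = (x * x) * (y * y) := by group
        _ = 1 := by rw [hx2, hy2, one_mul]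
    | inv x hx hx2 =>
      calc x⁻¹ * x⁻¹ = (x * x)⁻¹ := by group
        _ = 1 := by rw [hx2, inv_one]
  -- `Q` is large
  have hLarge : Cfsg.IsLargeExtraspecial Q := by
    rcases h3 with ⟨k, -, hkQ, hkne⟩ | ⟨u, hu, hun, hz', hzO⟩
    · refine (Cfsg.Agent.S5422.result Q hQ hL2 hL3 w hw hcard k ?_ ?_).2.2
      · rw [hZeq]
        intro hk
        apply hkne
        have hmem : k * z * k⁻¹ ∈ Subgroup.zpowers z :=
          (Subgroup.mem_normalizer_iff.mp hk z).mp (Subgroup.mem_zpowers z)
        rcases mem_zpowers_of_sq hzsq hmem with h1 | h1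
        · exfalso
          apply hzne
          have := congrArg (fun t => k⁻¹ * t * k) h1
          simpa [mul_assoc] using this
        · exact h1
      · rw [hZeq, Subgroup.map_le_iff_le_comap, Subgroup.zpowers_le, Subgroup.mem_comap]
        exact hkQ
    · have hu1 : u ≠ 1 := fun h1 => hun (h1 ▸ Subgroup.one_mem _)
      have hord : orderOf u = 2 :=
        orderOf_eq_prime (by rw [pow_two]; exact hUsq u hu.1) hu1
      refine Cfsg.Agent.S5421.result Q hQ hL2 hL3 u hu.2 (by rw [hZeq]; exact hun) hord ?_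
      rw [hZeq, Subgroup.zpowers_le]
      exact ⟨⟨z, hz'⟩, hzO, rfl⟩
  have h : LES Q z := les_of_hyps hLarge hZeq
  -- `C_G(z) ≤ ⟨z^G⟩`
  have hMn : (Subgroup.normalClosure ({z} : Set G)).Normal := Subgroup.normalClosure_normal
  have hzM : z ∈ Subgroup.normalClosure ({z} : Set G) :=
    Subgroup.subset_normalClosure (Set.mem_singleton z)
  have hUM : U ≤ Subgroup.normalClosure ({z} : Set G) := by
    rw [hU, Subgroup.closure_le]
    rintro _ ⟨k, -, rfl⟩
    exact hMn.conj_mem z hzM k
  have hCM : Subgroup.centralizer ({z} : Set G) ≤ Subgroup.normalClosure ({z} : Set G) := by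
    rw [← hgen, Subgroup.closure_le]
    rintro _ ⟨c, -, u, hu, rfl⟩
    exact hMn.conj_mem u (hUM hu) c
  refine ⟨?_, hLarge⟩
  by_cases hO : Cfsg.pCore 2 G = ⊥
  · have hzl := h.mem_layer hO
    have hex : ∃ L : Subgroup G, IsComponent L := by
      by_contra hcon
      push Not at hcon
      have hE : layer G = ⊥ := by
        rw [eq_bot_iff]
        apply sSup_le
        intro K hK
        exact absurd hK (hcon K)
      rw [hE, Subgroup.mem_bot] at hzl
      exact hzne hzl
    obtain ⟨L, hL⟩ := hex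
    by_cases hQL : Q ≤ Subgroup.normalizer (L : Set G)
    · obtain ⟨-, hMs, -⟩ := h.case_normalized hO hL hQL
      -- Frattini argument: `G = ⟨z^G⟩`
      obtain ⟨T, hQT, hTC⟩ := h.exists_sylow
      have hTM : (T : Subgroup G) ≤ Subgroup.normalClosure ({z} : Set G) := hTC.trans hCM
      have hfr := Sylow.normalizer_sup_eq_top (T.subtype hTM)
      rw [Sylow.coe_subtype, Subgroup.subgroupOf_map_subtype, inf_eq_left.mpr hTM] at hfr
      have hNT : Subgroup.normalizer ((T : Subgroup G) : Set G) ≤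
          Subgroup.centralizer ({z} : Set G) := by
        intro n hn
        have hzT : z ∈ (T : Subgroup G) := hQT h.z_mem
        have hnz : n * z * n⁻¹ ∈ (T : Subgroup G) := (Subgroup.mem_normalizer_iff.mp hn z).mp hzT
        have hcent : ∀ q ∈ Q, q * (n * z * n⁻¹) = (n * z * n⁻¹) * q := by
          intro q hq
          -- `n⁻¹ q n ∈ T` commutes with `z`
          have hn' : n⁻¹ ∈ Subgroup.normalizer ((T : Subgroup G) : Set G) := Subgroup.inv_mem _ hn
          have hq' : n⁻¹ * q * n⁻¹⁻¹ ∈ (T : Subgroup G) :=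
            (Subgroup.mem_normalizer_iff.mp hn' q).mp (hQT hq)
          have hc : (n⁻¹ * q * n⁻¹⁻¹) * z = z * (n⁻¹ * q * n⁻¹⁻¹) :=
            LES.comm_of_mem_centralizer (hTC hq')
          rw [inv_inv] at hc
          calc q * (n * z * n⁻¹) = n * ((n⁻¹ * q * n) * z) * n⁻¹ := by group
            _ = n * (z * (n⁻¹ * q * n)) * n⁻¹ := by rw [hc]
            _ = (n * z * n⁻¹) * q := by group
        rw [Subgroup.mem_centralizer_iff]
        intro w hw
        rw [Set.mem_singleton_iff] at hw
        rw [hw]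
        rcases h.cent _ hcent with h1 | h1
        · exfalso
          apply hzne
          have := congrArg (fun t => n⁻¹ * t * n) h1
          simpa [mul_assoc] using this
        · calc z * n = (n * z * n⁻¹) * n := by rw [h1]
            _ = n * z := by group
      have hMtop : Subgroup.normalClosure ({z} : Set G) = ⊤ := by
        rw [eq_top_iff, ← hfr]
        exact sup_le (hNT.trans hCM) le_rfl
      have hnt : Nontrivial G := ⟨⟨z, 1, hzne⟩⟩
      have hsurj : Function.Surjective (Subgroup.normalClosure ({z} : Set G)).subtype := by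
        intro g
        exact ⟨⟨g, by rw [hMtop]; exact Subgroup.mem_top g⟩, rfl⟩
      exact IsSimpleGroup.isSimpleGroup_of_surjective _ hsurj
    · exfalso
      obtain ⟨u, hu, hnu⟩ := SetLike.not_le_iff_exists.mp hQL
      have hnu' : cj u L ≠ L := fun he => hnu (mem_normalizer_iff_cj_eq.mpr he)
      obtain ⟨-, -, -, -, -, -, z₁, -, -, -, hQne⟩ := h.case_moved hO hL hu hnu'
      exact hQne hQO
  · exfalso
    obtain ⟨hMab, -⟩ := h.case_pCore_ne_bot hO
    -- `Q ≤ ⟨z^G⟩` would be abelian
    have hQle : Q ≤ Subgroup.zpowers z := by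
      intro x hx
      have hcent : ∀ q ∈ Q, q * x = x * q := by
        intro q hq
        have := hMab.is_comm.comm (⟨q, hCM (hQC hq)⟩ : ↥(Subgroup.normalClosure ({z} : Set G)))
          ⟨x, hCM (hQC hx)⟩
        exact congrArg Subtype.val this
      rcases h.cent x hcent with h1 | h1
      · rw [h1]; exact Subgroup.one_mem _
      · rw [h1]; exact Subgroup.mem_zpowers z
    have hle := Subgroup.card_le_of_le hQle
    rw [hcard, Nat.card_zpowers, hz] at hle
    have : 2 ^ 2 ≤ 2 ^ (2 * w + 1) := Nat.pow_le_pow_right (by norm_num) (by omega)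
    omega

end Cfsg.Agent.S5427
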