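import Cfsg.Statements.S5428
import Cfsg.Agent.S5427
import Cfsg.Agent.Lib.Helper48.QuotInv2
import Cfsg.Agent.Lib.Helper48.PMinimal
import Cfsg.Agent.Lib.Helper90.ESPair
import Cfsg.Agent.Lib.Helper90.ESCriterion
import Cfsg.Agent.Lib.Helper90.LargeExtra

set_option autoImplicit false
open Cfsg

namespace Cfsg.Agent.S5428

open Cfsg.Agent.Lib.Helper48 Cfsg.Agent.Lib.Helper90

/-- dictionary for the quotient `M / A` -/
theorem mk_eq_mk_iff {G : Type*} [Group G] (A M : Subgroup G) [hn : (A.subgroupOf M).Normal]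
    (a b : ↥M) :
    QuotientGroup.mk' (A.subgroupOf M) a = QuotientGroup.mk' (A.subgroupOf M) b ↔
      (a : G)⁻¹ * b ∈ A := by
  rw [QuotientGroup.mk'_apply, QuotientGroup.mk'_apply, QuotientGroup.eq, Subgroup.mem_subgroupOf,
    Subgroup.coe_mul, Subgroup.coe_inv]

theorem mk_eq_one_iff {G : Type*} [Group G] (A M : Subgroup G) [hn : (A.subgroupOf M).Normal]
    (a : ↥M) :
    QuotientGroup.mk' (A.subgroupOf M) a = 1 ↔ (a : G) ∈ A := by
  rw [QuotientGroup.mk'_apply, QuotientGroup.eq_one_iff, Subgroup.mem_subgroupOf]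

/-- Let z be an involution of the finite group G whose centralizer C has generalized Fitting subgroup Q extraspecial (as a 2-group), let A be a subgroup of C of odd order, and let R be the centralizer of A in Q; suppose R has order at least 32, the largest normal subgroup of odd order of the centralizer of the subgroup generated by A and R lies in A, the order of that centralizer is not divisible by 4, and g is an element of G with g z g⁻¹ in R but outside the centre Z of Q. Let M be the subgroup generated by A and the centralizer of A (A is normal in it). Then: the centralizer in M of the subgroup generated by R and A, joined with A, equals the subgroup generated by A and Z; the image of R in M/A is a large extraspecial 2-subgroup of M/A; and g z g⁻¹ is conjugate to z inside the subgroup generated by R and the centralizer of A in g Q g⁻¹. -/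
theorem result {G : Type*} [Group G] [Finite G] (z : G) (hz : orderOf z = 2) (Q : Subgroup G) (hQC : Q ≤ Subgroup.centralizer ({z} : Set G)) (hF : (Cfsg.generalizedFittingSubgroup ↥(Subgroup.centralizer ({z} : Set G))).map (Subgroup.centralizer ({z} : Set G)).subtype = Q) (hQ : Cfsg.IsExtraspecial 2 ↥Q) (A : Subgroup G) (hA : A ≤ Subgroup.centralizer ({z} : Set G)) (hAodd : Odd (Nat.card ↥A)) (R : Subgroup G) (hR : R = Q ⊓ Subgroup.centralizer (A : Set G)) (hR32 : 32 ≤ Nat.card ↥R) (hO : (Cfsg.oddCore ↥(Subgroup.centralizer ((A ⊔ R : Subgroup G) : Set G))).map (Subgroup.centralizer ((A ⊔ R : Subgroup G) : Set G)).subtype ≤ A) (h4 : ¬ 4 ∣ Nat.card ↥(Subgroup.centralizer ((A ⊔ R : Subgroup G) : Set G))) (g : G) (hgR : g * z * g⁻¹ ∈ R) (hgZ : g * z * g⁻¹ ∉ ((Subgroup.center ↥Q).map Q.subtype)) (M : Subgroup G) (hM : M = Subgroup.centralizer (A : Set G) ⊔ A) [hn : (A.subgroupOf M).Normal] : (M ⊓ Subgroup.centralizer ((R ⊔ A : Subgroup G) : Set G)) ⊔ A = A ⊔ ((Subgroup.center ↥Q).map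 Q.subtype) ∧ Cfsg.IsLargeExtraspecial ((R.subgroupOf M).map (QuotientGroup.mk' (A.subgroupOf M))) ∧ ∃ x ∈ R ⊔ ((Q).map (MulAut.conj g).toMonoidHom ⊓ Subgroup.centralizer (A : Set G)), x * (g * z * g⁻¹) * x⁻¹ = z := by
  have : Fact (Nat.Prime 2) := ⟨Nat.prime_two⟩
  obtain ⟨hZeq, hL2, hL3, -⟩ := Cfsg.Agent.S5427.basic z hz Q hF hQ
  have hzsq : z * z = 1 := by rw [← pow_two, ← hz]; exact pow_orderOf_eq_one z
  have hzne : z ≠ 1 := by
    intro h1; rw [h1, orderOf_one] at hz; omega
  have hzinv : z⁻¹ = z := inv_eq_of_mul_eq_one_left hzsq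
  have hZmem : ∀ x : G, x ∈ (Subgroup.center ↥Q).map Q.subtype ↔ (x = 1 ∨ x = z) := by
    intro x; rw [hZeq]; exact mem_zpowers_of_involution z hzsq x
  have hzZ : z ∈ (Subgroup.center ↥Q).map Q.subtype := (hZmem z).mpr (Or.inr rfl)
  -- the elementwise package
  have hES : ESData Q z := by
    obtain ⟨z', hES0, hiff⟩ := ESData.of_hyps Q hQ hL2 hL3
    have e : z' = z := by
      rcases (hiff z).mp hzZ with h | h
      · exact absurd h hzne
      · exact h.symm
    rw [e] at hES0
    exact hES0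
  have hsq : ∀ q ∈ Q, q * q = 1 ∨ q * q = z :=
    sq_mem_of_extraspecial Q hQ z (fun x hx => (hZmem x).mp hx)
  subst hR
  have hAz : ∀ a ∈ A, a * z = z * a := fun a ha => Subgroup.mem_centralizer_singleton_iff.mp (hA ha)
  have hAN : A ≤ Subgroup.normalizer (Q : Set G) := fun a ha => hES.norm a (hAz a ha)
  have hES' : ESData (Q.map (MulAut.conj g).toMonoidHom) (g * z * g⁻¹) := hES.conj g
  have hsq' := sq_conj hsq g
  have hzQ' : z ∈ Q.map (MulAut.conj g).toMonoidHom :=
    hES.gen_mem_conj g hgR.1 (fun h => hgZ ((hZmem _).mpr (Or.inr h)))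
  -- the conjugate `u`
  generalize hu : g * z * g⁻¹ = u at *
  have huQ : u ∈ Q := hgR.1
  have huCA : u ∈ Subgroup.centralizer (A : Set G) := hgR.2
  have hAu : ∀ a ∈ A, a * u = u * a := fun a ha => Subgroup.mem_centralizer_iff.mp huCA a ha
  have hu1 : u ≠ 1 := hES'.z1
  have huz : u ≠ z := fun h => hgZ ((hZmem u).mpr (Or.inr h))
  have hAN' : A ≤ Subgroup.normalizer ((Q.map (MulAut.conj g).toMonoidHom : Subgroup G) : Set G) :=
    fun a ha => hES'.norm a (hAu a ha)
  have hZR := center_inf_centralizer hES hsq A hAN hAodd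
  have hZR' := center_inf_centralizer hES' hsq' A hAN' hAodd
  have hzCA : z ∈ Subgroup.centralizer (A : Set G) :=
    Subgroup.mem_centralizer_iff.mpr (fun a ha => hAz a ha)
  have hzR : z ∈ Q ⊓ Subgroup.centralizer (A : Set G) := ⟨hES.zQ, hzCA⟩
  have hr : ∃ r ∈ Q ⊓ Subgroup.centralizer (A : Set G), r * u * r⁻¹ = z * u := by
    by_contra hcon
    push Not at hcon
    have hall : ∀ y ∈ Q ⊓ Subgroup.centralizer (A : Set G), y * u = u * y := by
      intro y hy
      rcases hES.commute_or_conj hy.1 huQ with h1 | h1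
      · exact h1
      · exact absurd h1 (hcon y hy)
    rcases hZR u hgR hall with h | h
    exacts [hu1 h, huz h]
  obtain ⟨r, hrR, hru⟩ := hr
  have hr' : ∃ r' ∈ Q.map (MulAut.conj g).toMonoidHom ⊓ Subgroup.centralizer (A : Set G),
      r' * z * r'⁻¹ = u * z := by
    by_contra hcon
    push Not at hcon
    have hall : ∀ y ∈ Q.map (MulAut.conj g).toMonoidHom ⊓ Subgroup.centralizer (A : Set G),
        y * z = z * y := by
      intro y hy
      rcases hES'.commute_or_conj hy.1 hzQ' with h1 | h1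
      · exact h1
      · exact absurd h1 (hcon y hy)
    rcases hZR' z ⟨hzQ', hzCA⟩ hall with h | h
    exacts [hzne h, huz h.symm]
  obtain ⟨r', hr'R, hr'z⟩ := hr'
  -- the structure of `C_G(A R)`
  have hzCRA : z ∈ Subgroup.centralizer
      ((A ⊔ (Q ⊓ Subgroup.centralizer (A : Set G)) : Subgroup G) : Set G) :=
    (mem_centralizer_sup_iff _ _ z).mpr ⟨hAz, fun k hk => hES.zc k hk.1⟩
  have hCRAz : ∀ w ∈ Subgroup.centralizer
      ((A ⊔ (Q ⊓ Subgroup.centralizer (A : Set G)) : Subgroup G) : Set G), w * z = z * w :=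
    fun w hw => (((mem_centralizer_sup_iff _ _ w).mp hw).2 z hzR).symm
  have hS : ∀ c ∈ Subgroup.centralizer
      ((A ⊔ (Q ⊓ Subgroup.centralizer (A : Set G)) : Subgroup G) : Set G),
      ∃ a ∈ A, c = a ∨ c = a * z := by
    intro c hc
    obtain ⟨x, hx, h⟩ := central_order_two_structure _ hzCRA hCRAz hzsq hzne h4 c hc
    exact ⟨x, hO hx, h⟩
  have hCAM : Subgroup.centralizer (A : Set G) ≤ M := by rw [hM]; exact le_sup_left
  have hAM : A ≤ M := by rw [hM]; exact le_sup_right
  have hRM : Q ⊓ Subgroup.centralizer (A : Set G) ≤ M := fun x hx => hCAM hx.2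
  refine ⟨?_, ?_, r' * r, Subgroup.mul_mem _ (Subgroup.mem_sup_right hr'R)
    (Subgroup.mem_sup_left hrR), ?_⟩
  · -- (i)
    apply le_antisymm
    · apply sup_le _ le_sup_left
      intro c hc
      have hc2 : c ∈ Subgroup.centralizer
          ((A ⊔ (Q ⊓ Subgroup.centralizer (A : Set G)) : Subgroup G) : Set G) := by
        rw [sup_comm]; exact hc.2
      obtain ⟨a, ha, h | h⟩ := hS c hc2
      · rw [h]; exact Subgroup.mem_sup_left ha
      · rw [h]; exact Subgroup.mul_mem _ (Subgroup.mem_sup_left ha) (Subgroup.mem_sup_right hzZ)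
    · apply sup_le le_sup_right
      intro x hx
      apply Subgroup.mem_sup_left
      rcases (hZmem x).mp hx with h | h
      · rw [h]; exact Subgroup.one_mem _
      · rw [h]
        refine ⟨hRM hzR, ?_⟩
        rw [sup_comm]; exact hzCRA
  · -- (ii)
    have hdict : ∀ a b : ↥M, QuotientGroup.mk' (A.subgroupOf M) a =
        QuotientGroup.mk' (A.subgroupOf M) b ↔ (a : G)⁻¹ * b ∈ A := fun a b => mk_eq_mk_iff A M a b
    have hone : ∀ a : ↥M, QuotientGroup.mk' (A.subgroupOf M) a = 1 ↔ (a : G) ∈ A :=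
      fun a => mk_eq_one_iff A M a
    have hsurj := QuotientGroup.mk'_surjective (A.subgroupOf M)
    have hDmem : ∀ y ∈ ((Q ⊓ Subgroup.centralizer (A : Set G)).subgroupOf M).map
        (QuotientGroup.mk' (A.subgroupOf M)),
        ∃ r : ↥M, (r : G) ∈ Q ⊓ Subgroup.centralizer (A : Set G) ∧
          y = QuotientGroup.mk' (A.subgroupOf M) r := by
      rintro y ⟨r, hr, rfl⟩
      exact ⟨r, Subgroup.mem_subgroupOf.mp hr, rfl⟩
    have hDof : ∀ r : ↥M, (r : G) ∈ Q ⊓ Subgroup.centralizer (A : Set G) →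
        QuotientGroup.mk' (A.subgroupOf M) r ∈
          ((Q ⊓ Subgroup.centralizer (A : Set G)).subgroupOf M).map
            (QuotientGroup.mk' (A.subgroupOf M)) :=
      fun r hr => ⟨r, Subgroup.mem_subgroupOf.mpr hr, rfl⟩
    have hRA : ∀ x : G, x ∈ Q ⊓ Subgroup.centralizer (A : Set G) → x ∈ A → x = 1 := by
      intro x hxR hxA
      have : x ∈ A ⊓ (Q ⊓ Subgroup.centralizer (A : Set G)) := ⟨hxA, hxR⟩
      rw [inf_eq_bot_of_odd_of_isPGroup hAodd (hES.two.to_le inf_le_left), Subgroup.mem_bot] at this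
      exact this
    have hcommR : ∀ a b : ↥M, (a : G) ∈ Q ⊓ Subgroup.centralizer (A : Set G) →
        (b : G) ∈ Q ⊓ Subgroup.centralizer (A : Set G) →
        QuotientGroup.mk' (A.subgroupOf M) a * QuotientGroup.mk' (A.subgroupOf M) b =
          QuotientGroup.mk' (A.subgroupOf M) b * QuotientGroup.mk' (A.subgroupOf M) a →
        (a : G) * b = b * a := by
      intro a b ha hb h
      rw [← map_mul, ← map_mul] at h
      have h1 := (hdict _ _).mp h
      rw [Subgroup.coe_mul, Subgroup.coe_mul] at h1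
      have h2 : ((a : G) * b)⁻¹ * (b * a) ∈ Q ⊓ Subgroup.centralizer (A : Set G) :=
        Subgroup.mul_mem _ (Subgroup.inv_mem _ (Subgroup.mul_mem _ ha hb)) (Subgroup.mul_mem _ hb ha)
      exact inv_mul_eq_one.mp (hRA _ h2 h1)
    have hzM : z ∈ M := hRM hzR
    have huM : u ∈ M := hRM hgR
    have hrM : r ∈ M := hRM hrR
    have hζD := hDof ⟨z, hzM⟩ hzR
    have hζc : ∀ y ∈ ((Q ⊓ Subgroup.centralizer (A : Set G)).subgroupOf M).map
        (QuotientGroup.mk' (A.subgroupOf M)),
        y * QuotientGroup.mk' (A.subgroupOf M) ⟨z, hzM⟩ =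
          QuotientGroup.mk' (A.subgroupOf M) ⟨z, hzM⟩ * y := by
      intro y hy
      obtain ⟨r, hr, rfl⟩ := hDmem y hy
      rw [← map_mul, ← map_mul]
      congr 1
      exact Subtype.ext (hES.zc _ hr.1)
    have hζ1 : QuotientGroup.mk' (A.subgroupOf M) ⟨z, hzM⟩ ≠ 1 := by
      intro h
      have hzA : z ∈ A := (hone _).mp h
      exact hzne (eq_one_of_sq_of_odd hAodd hzA hzsq)
    have hζζ : QuotientGroup.mk' (A.subgroupOf M) ⟨z, hzM⟩ *
        QuotientGroup.mk' (A.subgroupOf M) ⟨z, hzM⟩ = 1 := by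
      rw [← map_mul]
      have : (⟨z, hzM⟩ : ↥M) * ⟨z, hzM⟩ = 1 := Subtype.ext hzsq
      rw [this, map_one]
    have hD2 : IsPGroup 2 ↥(((Q ⊓ Subgroup.centralizer (A : Set G)).subgroupOf M).map
        (QuotientGroup.mk' (A.subgroupOf M))) :=
      ((hES.two.to_le inf_le_left).comap_subtype).map _
    -- lifting to `C_G(A)`
    have hlift : ∀ k : ↥M ⧸ A.subgroupOf M, ∃ x : ↥M,
        (x : G) ∈ Subgroup.centralizer (A : Set G) ∧ QuotientGroup.mk' (A.subgroupOf M) x = k := by
      intro k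
      obtain ⟨m, rfl⟩ := hsurj k
      have hm : (m : G) ∈ Subgroup.centralizer (A : Set G) ⊔ A := by rw [← hM]; exact m.2
      obtain ⟨c, hc, a, ha, hma⟩ := exists_mul_of_mem_sup_of_forall_commute _ _
        (fun c hc a ha => (Subgroup.mem_centralizer_iff.mp hc a ha).symm) hm
      refine ⟨⟨c, hCAM hc⟩, hc, ?_⟩
      apply (hdict _ _).mpr
      show c⁻¹ * (m : G) ∈ A
      rw [hma, inv_mul_cancel_left]
      exact ha
    -- commuting with an involution in the quotient
    have stepA : ∀ (s : G) (hsM : s ∈ M), s * s = 1 → (∀ a ∈ A, a * s = s * a) → ∀ x : ↥M,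
        QuotientGroup.mk' (A.subgroupOf M) x * QuotientGroup.mk' (A.subgroupOf M) ⟨s, hsM⟩ =
          QuotientGroup.mk' (A.subgroupOf M) ⟨s, hsM⟩ * QuotientGroup.mk' (A.subgroupOf M) x →
        (x : G) * s = s * x := by
      intro s hsM hss hAs x h
      rw [← map_mul, ← map_mul] at h
      have h1 := (hdict _ _).mp h
      rw [Subgroup.coe_mul, Subgroup.coe_mul] at h1
      have h1' : ((x : G) * s)⁻¹ * (s * x) ∈ A := h1
      have hsinv : s⁻¹ = s := inv_eq_of_mul_eq_one_left hss
      have h2 : (((x : G) * s)⁻¹ * (s * x) * s) * (((x : G) * s)⁻¹ * (s * x) * s) = 1 := by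
        rw [hAs _ h1']
        have e : s * (((x : G) * s)⁻¹ * (s * x)) = (x : G)⁻¹ * s * x := by group
        rw [e]
        calc (x : G)⁻¹ * s * x * ((x : G)⁻¹ * s * x) = (x : G)⁻¹ * (s * s) * x := by group
          _ = 1 := by rw [hss]; group
      have h3 := eq_one_of_odd_mul_invol hAodd h1' (hAs _ h1') hss h2
      exact inv_mul_eq_one.mp h3
    have hnormR : ∀ x : G, x ∈ Subgroup.centralizer (A : Set G) → x * z = z * x →
        ∀ r ∈ Q ⊓ Subgroup.centralizer (A : Set G),
          x * r * x⁻¹ ∈ Q ⊓ Subgroup.centralizer (A : Set G) := by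
      intro x hx hxz r hr
      exact ⟨(Subgroup.mem_normalizer_iff.mp (hES.norm x hxz) r).mp hr.1,
        Subgroup.mul_mem _ (Subgroup.mul_mem _ hx hr.2) (Subgroup.inv_mem _ hx)⟩
    have hcentR : ∀ x : ↥M, (x : G) ∈ Subgroup.centralizer (A : Set G) → (x : G) * z = z * x →
        (∀ r ∈ Q ⊓ Subgroup.centralizer (A : Set G), (x : G) * r = r * x) →
        QuotientGroup.mk' (A.subgroupOf M) x = 1 ∨
          QuotientGroup.mk' (A.subgroupOf M) x = QuotientGroup.mk' (A.subgroupOf M) ⟨z, hzM⟩ := by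
      intro x hxCA hxz hxr
      have hxCRA : (x : G) ∈ Subgroup.centralizer
          ((A ⊔ (Q ⊓ Subgroup.centralizer (A : Set G)) : Subgroup G) : Set G) :=
        (mem_centralizer_sup_iff _ _ _).mpr
          ⟨fun a ha => Subgroup.mem_centralizer_iff.mp hxCA a ha, fun r hr => (hxr r hr).symm⟩
      obtain ⟨a, ha, h | h⟩ := hS _ hxCRA
      · left
        apply (hone x).mpr
        rw [h]; exact ha
      · right
        symm
        apply (hdict _ _).mpr
        show z⁻¹ * (x : G) ∈ A
        rw [h, hAz a ha, inv_mul_cancel_left]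
        exact ha
    apply isLargeExtraspecial_of_elementwise _
      (QuotientGroup.mk' (A.subgroupOf M) ⟨z, hzM⟩) ?_ hζD hζc
    · -- centralizer
      intro c hc
      obtain ⟨x, hxCA, rfl⟩ := hlift c
      have hxz := stepA z hzM hzsq hAz x (hc _ hζD).symm
      apply hcentR x hxCA hxz
      intro r hr
      have hxinv : (x : G)⁻¹ * z = z * (x : G)⁻¹ := by
        calc (x : G)⁻¹ * z = (x : G)⁻¹ * (z * x) * (x : G)⁻¹ := by group
          _ = (x : G)⁻¹ * (x * z) * (x : G)⁻¹ := by rw [hxz]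
          _ = z * (x : G)⁻¹ := by group
      have hr' := hnormR _ (Subgroup.inv_mem _ hxCA) hxinv r⁻¹ (Subgroup.inv_mem _ hr)
      rw [inv_inv] at hr'
      have h := (hc _ (hDof ⟨r, hRM hr⟩ hr)).symm
      rw [← map_mul, ← map_mul] at h
      have h1 := (hdict _ _).mp h
      rw [Subgroup.coe_mul, Subgroup.coe_mul] at h1
      have h1' : ((x : G) * r)⁻¹ * (r * x) ∈ A := h1
      have h2 : ((x : G) * r)⁻¹ * (r * x) ∈ Q ⊓ Subgroup.centralizer (A : Set G) := by
        have e : ((x : G) * r)⁻¹ * (r * x) = r⁻¹ * ((x : G)⁻¹ * r⁻¹ * x)⁻¹ := by group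
        rw [e]
        exact Subgroup.mul_mem _ (Subgroup.inv_mem _ hr) (Subgroup.inv_mem _ hr')
      exact inv_mul_eq_one.mp (hRA _ h2 h1')
    · -- normalizer
      intro c hc y hy
      obtain ⟨x, hxCA, rfl⟩ := hlift c
      obtain ⟨r, hr, rfl⟩ := hDmem y hy
      have hxz := stepA z hzM hzsq hAz x hc
      rw [← map_inv, ← map_mul, ← map_mul]
      apply hDof
      rw [Subgroup.coe_mul, Subgroup.coe_mul, Subgroup.coe_inv]
      exact hnormR _ hxCA hxz _ hr
    · -- odd order subgroups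
      intro K hK hDK
      have hKD : K ⊓ ((Q ⊓ Subgroup.centralizer (A : Set G)).subgroupOf M).map
          (QuotientGroup.mk' (A.subgroupOf M)) = ⊥ := inf_eq_bot_of_odd_of_isPGroup hK hD2
      have core : ∀ x : ↥M, (x : G) ∈ Subgroup.centralizer (A : Set G) →
          QuotientGroup.mk' (A.subgroupOf M) x ∈ K → (x : G) * z = z * x →
          QuotientGroup.mk' (A.subgroupOf M) x = 1 := by
        intro x hxCA hxK hxz
        have hcent : ∀ r ∈ Q ⊓ Subgroup.centralizer (A : Set G), (x : G) * r = r * x := by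
          intro r hr
          have hr' := hnormR _ hxCA hxz r hr
          have hwR : (x : G) * r * (x : G)⁻¹ * r⁻¹ ∈ Q ⊓ Subgroup.centralizer (A : Set G) :=
            Subgroup.mul_mem _ hr' (Subgroup.inv_mem _ hr)
          have hwK : QuotientGroup.mk' (A.subgroupOf M) (x * ⟨r, hRM hr⟩ * x⁻¹ * ⟨r, hRM hr⟩⁻¹) ∈ K := by
            rw [map_mul, map_mul, map_mul, map_inv, map_inv]
            have h1 : QuotientGroup.mk' (A.subgroupOf M) ⟨r, hRM hr⟩ *
                (QuotientGroup.mk' (A.subgroupOf M) x)⁻¹ *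
                (QuotientGroup.mk' (A.subgroupOf M) ⟨r, hRM hr⟩)⁻¹ ∈ K :=
              (Subgroup.mem_normalizer_iff.mp (hDK (hDof ⟨r, hRM hr⟩ hr)) _).mp (K.inv_mem hxK)
            have := K.mul_mem hxK h1
            simpa [mul_assoc] using this
          have hwD : QuotientGroup.mk' (A.subgroupOf M) (x * ⟨r, hRM hr⟩ * x⁻¹ * ⟨r, hRM hr⟩⁻¹) ∈
              ((Q ⊓ Subgroup.centralizer (A : Set G)).subgroupOf M).map
                (QuotientGroup.mk' (A.subgroupOf M)) := by
            apply hDof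
            rw [Subgroup.coe_mul, Subgroup.coe_mul, Subgroup.coe_mul, Subgroup.coe_inv,
              Subgroup.coe_inv]
            exact hwR
          have hw1 : QuotientGroup.mk' (A.subgroupOf M)
              (x * ⟨r, hRM hr⟩ * x⁻¹ * ⟨r, hRM hr⟩⁻¹) ∈ K ⊓
                ((Q ⊓ Subgroup.centralizer (A : Set G)).subgroupOf M).map
                  (QuotientGroup.mk' (A.subgroupOf M)) := ⟨hwK, hwD⟩
          rw [hKD, Subgroup.mem_bot] at hw1
          have hwA := (hone _).mp hw1
          rw [Subgroup.coe_mul, Subgroup.coe_mul, Subgroup.coe_mul, Subgroup.coe_inv,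
            Subgroup.coe_inv] at hwA
          have hw := hRA _ hwR hwA
          calc (x : G) * r = ((x : G) * r * (x : G)⁻¹ * r⁻¹) * (r * x) := by group
            _ = r * x := by rw [hw, one_mul]
        rcases hcentR x hxCA hxz hcent with h | h
        · exact h
        · exfalso
          rw [h] at hxK
          exact hζ1 (eq_one_of_sq_of_odd hK hxK hζζ)
      have h1 : ∀ k ∈ K, QuotientGroup.mk' (A.subgroupOf M) ⟨z, hzM⟩ * k =
          k * QuotientGroup.mk' (A.subgroupOf M) ⟨z, hzM⟩ → k = 1 := by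
        intro k hk h
        obtain ⟨x, hxCA, rfl⟩ := hlift k
        exact core x hxCA hk (stepA z hzM hzsq hAz x h.symm)
      have h2 : ∀ k ∈ K, QuotientGroup.mk' (A.subgroupOf M) ⟨u, huM⟩ * k =
          k * QuotientGroup.mk' (A.subgroupOf M) ⟨u, huM⟩ → k = 1 := by
        intro k hk h
        obtain ⟨x, hxCA, rfl⟩ := hlift k
        have hxu := stepA u huM hES'.zz hAu x h.symm
        apply core x hxCA hk
        have hwQ' : z * (x : G) * z⁻¹ * (x : G)⁻¹ ∈ Q.map (MulAut.conj g).toMonoidHom :=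
          comm_mem_of_mem_normalizer' _ (hES'.norm _ hxu) hzQ'
        have hwK : QuotientGroup.mk' (A.subgroupOf M) (⟨z, hzM⟩ * x * ⟨z, hzM⟩⁻¹ * x⁻¹) ∈ K := by
          rw [map_mul, map_mul, map_mul, map_inv, map_inv]
          exact K.mul_mem ((Subgroup.mem_normalizer_iff.mp (hDK hζD) _).mp hk) (K.inv_mem hk)
        obtain ⟨j, hj⟩ := hES'.two ⟨_, hwQ'⟩
        have hj' : (z * (x : G) * z⁻¹ * (x : G)⁻¹) ^ (2 ^ j) = 1 := by
          have := congrArg Subtype.val hj
          rw [Subgroup.coe_pow, Subgroup.coe_one] at this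
          exact this
        have hpow : (QuotientGroup.mk' (A.subgroupOf M) (⟨z, hzM⟩ * x * ⟨z, hzM⟩⁻¹ * x⁻¹)) ^ (2 ^ j)
            = 1 := by
          rw [← map_pow]
          have : (⟨z, hzM⟩ * x * ⟨z, hzM⟩⁻¹ * x⁻¹ : ↥M) ^ (2 ^ j) = 1 := by
            apply Subtype.ext
            rw [Subgroup.coe_pow, Subgroup.coe_mul, Subgroup.coe_mul, Subgroup.coe_mul,
              Subgroup.coe_inv, Subgroup.coe_inv]
            exact hj'
          rw [this, map_one]
        have hw1 := eq_one_of_pow_two_pow_of_odd hK hwK hpow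
        have hwA := (hone _).mp hw1
        rw [Subgroup.coe_mul, Subgroup.coe_mul, Subgroup.coe_mul, Subgroup.coe_inv,
          Subgroup.coe_inv] at hwA
        have hw : z * (x : G) * z⁻¹ * (x : G)⁻¹ ∈
            A ⊓ Q.map (MulAut.conj g).toMonoidHom := ⟨hwA, hwQ'⟩
        rw [inf_eq_bot_of_odd_of_isPGroup hAodd hES'.two, Subgroup.mem_bot] at hw
        calc (x : G) * z = (z * (x : G) * z⁻¹ * (x : G)⁻¹)⁻¹ * (z * x) := by group
          _ = z * x := by rw [hw, inv_one, one_mul]
      have hqu : QuotientGroup.mk' (A.subgroupOf M) ⟨r, hrM⟩ *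
          QuotientGroup.mk' (A.subgroupOf M) ⟨u, huM⟩ *
          (QuotientGroup.mk' (A.subgroupOf M) ⟨r, hrM⟩)⁻¹ =
          QuotientGroup.mk' (A.subgroupOf M) ⟨z, hzM⟩ *
          QuotientGroup.mk' (A.subgroupOf M) ⟨u, huM⟩ := by
        rw [← map_inv, ← map_mul, ← map_mul, ← map_mul]
        congr 1
        exact Subtype.ext hru
      have h3 := eq_one_of_fpf_conj K (hDK (hDof ⟨r, hrM⟩ hrR)) hqu h2
      have huu' : QuotientGroup.mk' (A.subgroupOf M) ⟨u, huM⟩ *
          QuotientGroup.mk' (A.subgroupOf M) ⟨u, huM⟩ = 1 := by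
        rw [← map_mul]
        have : (⟨u, huM⟩ : ↥M) * ⟨u, huM⟩ = 1 := Subtype.ext hES'.zz
        rw [this, map_one]
      exact eq_bot_of_two_inverting K _ _ hζζ huu' (hDK hζD) (hDK (hDof ⟨u, huM⟩ hgR)) h1 h2 h3
    · -- extraspecial
      apply isExtraspecial_two_subgroup _ (QuotientGroup.mk' (A.subgroupOf M) ⟨z, hzM⟩) hζD hζ1 hD2 hζc
      · intro x hx hall
        obtain ⟨r₀, hr₀, rfl⟩ := hDmem x hx
        have hcen : ∀ y ∈ Q ⊓ Subgroup.centralizer (A : Set G), y * (r₀ : G) = r₀ * y := by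
          intro y hy
          exact hcommR ⟨y, hRM hy⟩ r₀ hy hr₀ (hall _ (hDof ⟨y, hRM hy⟩ hy))
        rcases hZR _ hr₀ hcen with h | h
        · left
          have : r₀ = 1 := Subtype.ext h
          rw [this, map_one]
        · right
          congr 1
          exact Subtype.ext h
      · intro a ha b hb
        obtain ⟨a', ha', rfl⟩ := hDmem a ha
        obtain ⟨b', hb', rfl⟩ := hDmem b hb
        rw [← map_inv, ← map_inv, ← map_mul, ← map_mul, ← map_mul]
        rcases hES.comm _ ha'.1 _ hb'.1 with h | h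
        · left
          have e : a' * b' * a'⁻¹ * b'⁻¹ = 1 := Subtype.ext (by simpa using h)
          rw [e, map_one]
        · right
          congr 1
          exact Subtype.ext (by simpa using h)
      · intro a ha
        obtain ⟨a', ha', rfl⟩ := hDmem a ha
        rw [← map_mul]
        rcases hsq _ ha'.1 with h | h
        · left
          have e : a' * a' = 1 := Subtype.ext (by simpa using h)
          rw [e, map_one]
        · right
          congr 1
          exact Subtype.ext (by simpa using h)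
      · refine ⟨_, hDof ⟨r, hrM⟩ hrR, _, hDof ⟨u, huM⟩ hgR, ?_⟩
        intro h
        have h' : r * u = u * r := hcommR ⟨r, hrM⟩ ⟨u, huM⟩ hrR hgR h
        apply hzne
        calc z = (r * u * r⁻¹) * u⁻¹ := by rw [hru]; group
          _ = 1 := by rw [h']; group
  · -- (iii)
    have e1 : r' * u * r'⁻¹ = u := by
      rw [hES'.zc r' hr'R.1]; group
    calc r' * r * u * (r' * r)⁻¹ = r' * (r * u * r⁻¹) * r'⁻¹ := by group
      _ = r' * (z * u) * r'⁻¹ := by rw [hru]
      _ = (r' * z * r'⁻¹) * (r' * u * r'⁻¹) := by group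
      _ = (u * z) * u := by rw [hr'z, e1]
      _ = z * (u * u) := by rw [hES.zc u huQ, mul_assoc]
      _ = z := by rw [hES'.zz, mul_one]

end Cfsg.Agent.S5428
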