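import Cfsg.Statements.S5429
import Cfsg.Agent.S5427
import Cfsg.Agent.Lib.Helper48.QuotInv
import Cfsg.Agent.Lib.Helper90.ESCentral
import Cfsg.Agent.Lib.Helper90.ESCriterion
import Cfsg.Agent.Lib.Helper90.LargeExtra

set_option autoImplicit false
open Cfsg

namespace Cfsg.Agent.S5429

open Cfsg.Agent.Lib.Helper48 Cfsg.Agent.Lib.Helper90

/-- dictionary for the quotient of `C_G(t)` by `⟨t⟩` -/
theorem mk_eq_mk_iff {G : Type*} [Group G] (t : G) (htt : t * t = 1)
    [hn : ((Subgroup.zpowers t).subgroupOf (Subgroup.centralizer ({t} : Set G))).Normal]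
    (a b : ↥(Subgroup.centralizer ({t} : Set G))) :
    QuotientGroup.mk' ((Subgroup.zpowers t).subgroupOf (Subgroup.centralizer ({t} : Set G))) a =
      QuotientGroup.mk' ((Subgroup.zpowers t).subgroupOf (Subgroup.centralizer ({t} : Set G))) b ↔
    ((b : G) = a ∨ (b : G) = a * t) := by
  rw [QuotientGroup.mk'_apply, QuotientGroup.mk'_apply, QuotientGroup.eq, Subgroup.mem_subgroupOf,
    mem_zpowers_of_involution t htt]
  rw [Subgroup.coe_mul, Subgroup.coe_inv]
  constructor
  · rintro (h | h)
    · left; exact (inv_mul_eq_one.mp h).symm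
    · right
      calc (b : G) = a * ((a : G)⁻¹ * b) := by group
        _ = a * t := by rw [h]
  · rintro (h | h)
    · left; rw [h]; group
    · right; rw [h]; group

theorem mk_eq_one_iff {G : Type*} [Group G] (t : G) (htt : t * t = 1)
    [hn : ((Subgroup.zpowers t).subgroupOf (Subgroup.centralizer ({t} : Set G))).Normal]
    (a : ↥(Subgroup.centralizer ({t} : Set G))) :
    QuotientGroup.mk' ((Subgroup.zpowers t).subgroupOf (Subgroup.centralizer ({t} : Set G))) a = 1 ↔
    ((a : G) = 1 ∨ (a : G) = t) := by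
  have := mk_eq_mk_iff t htt 1 a
  rw [map_one, Subgroup.coe_one, one_mul] at this
  rw [← this]
  exact eq_comm

/-- the odd order part -/
theorem odd_part {G : Type*} [Group G] [Finite G] {Q Q' : Subgroup G} {z u t q : G}
    (hES : ESData Q z) (hES' : ESData Q' u) (hzQ' : z ∈ Q')
    (htQ : t ∈ Q) (huQ : u ∈ Q) (hut : u * t = t * u) (hqQ : q ∈ Q) (hqt : q * t = t * q)
    (hqu : q * u * q⁻¹ = z * u)
    (hCP : ∀ c ∈ Subgroup.centralizer ({z} : Set G),
      (∀ x ∈ Q ⊓ Subgroup.centralizer ({t} : Set G),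
        ∃ y ∈ Subgroup.closure ({t, z} : Set G), c * x * c⁻¹ = x * y) → c ∈ Q)
    (X : Subgroup G) (hX : Odd (Nat.card X)) (hXt : X ≤ Subgroup.centralizer ({t} : Set G))
    (hPX : Q ⊓ Subgroup.centralizer ({t} : Set G) ≤ Subgroup.normalizer (X : Set G)) : X = ⊥ := by
  have hzP : z ∈ Q ⊓ Subgroup.centralizer ({t} : Set G) :=
    ⟨hES.zQ, Subgroup.mem_centralizer_singleton_iff.mpr (hES.zc t htQ).symm⟩
  have huP : u ∈ Q ⊓ Subgroup.centralizer ({t} : Set G) :=
    ⟨huQ, Subgroup.mem_centralizer_singleton_iff.mpr hut⟩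
  have hqP : q ∈ Q ⊓ Subgroup.centralizer ({t} : Set G) :=
    ⟨hqQ, Subgroup.mem_centralizer_singleton_iff.mpr hqt⟩
  -- `C_X(z) = 1`
  have h1 : ∀ x ∈ X, z * x = x * z → x = 1 := by
    intro x hx hxz
    set P := Q ⊓ Subgroup.centralizer ({t} : Set G) with hP
    set Y := X ⊓ Subgroup.centralizer ({z} : Set G) with hY
    have hYodd : Odd (Nat.card Y) := hX.of_dvd_nat (Subgroup.card_dvd_of_le inf_le_left)
    have hPz : P ≤ Subgroup.centralizer ({z} : Set G) := by
      intro p hp
      exact Subgroup.mem_centralizer_singleton_iff.mpr (hES.zc p hp.1)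
    have hPY : P ≤ Subgroup.normalizer (Y : Set G) := by
      apply le_normalizer_of_forall_conj_mem
      intro p hp y hy
      refine ⟨(Subgroup.mem_normalizer_iff.mp (hPX hp) y).mp hy.1, ?_⟩
      exact Subgroup.mul_mem _ (Subgroup.mul_mem _ (hPz hp) hy.2) (Subgroup.inv_mem _ (hPz hp))
    have hYP : Y ≤ Subgroup.normalizer (P : Set G) := by
      apply le_normalizer_of_forall_conj_mem
      intro y hy p hp
      have hyz : y * z = z * y := Subgroup.mem_centralizer_singleton_iff.mp hy.2
      refine ⟨(Subgroup.mem_normalizer_iff.mp (hES.norm y hyz) p).mp hp.1, ?_⟩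
      exact Subgroup.mul_mem _ (Subgroup.mul_mem _ (hXt hy.1) hp.2) (Subgroup.inv_mem _ (hXt hy.1))
    have hinf : Y ⊓ P = ⊥ := inf_eq_bot_of_odd_of_isPGroup hYodd (hES.two.to_le inf_le_left)
    have hxY : x ∈ Y := ⟨hx, Subgroup.mem_centralizer_singleton_iff.mpr hxz.symm⟩
    have hxQ : x ∈ Q := by
      apply hCP x hxY.2
      intro p hp
      refine ⟨1, Subgroup.one_mem _, ?_⟩
      have := commute_of_normalize_of_inf_eq_bot P Y hPY hYP hinf hp hxY
      rw [mul_one, ← this]; group
    have : x ∈ Y ⊓ P := ⟨hxY, hxQ, hXt hx⟩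
    rw [hinf, Subgroup.mem_bot] at this
    exact this
  have hzN := hPX hzP
  have hzinv := inverts_of_fixedPointFree X z hES.zz hzN h1
  -- `C_X(u) = 1`
  have h2 : ∀ x ∈ X, u * x = x * u → x = 1 := by
    intro x hx hxu
    have hxN : x ∈ Subgroup.normalizer (Q' : Set G) := hES'.norm x hxu.symm
    have hw : z * x * z⁻¹ * x⁻¹ ∈ Q' := comm_mem_of_mem_normalizer' Q' hxN hzQ'
    rw [hzinv x hx] at hw
    have hw2 : x⁻¹ * x⁻¹ ∈ X ⊓ Q' := ⟨X.mul_mem (X.inv_mem hx) (X.inv_mem hx), hw⟩
    rw [inf_eq_bot_of_odd_of_isPGroup hX hES'.two, Subgroup.mem_bot] at hw2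
    apply eq_one_of_sq_of_odd hX hx
    calc x * x = (x⁻¹ * x⁻¹)⁻¹ := by rw [mul_inv_rev, inv_inv]
      _ = 1 := by rw [hw2, inv_one]
  -- `C_X(zu) = 1`
  have h3 : ∀ x ∈ X, (z * u) * x = x * (z * u) → x = 1 := by
    intro x hx hxzu
    have hx' : q⁻¹ * x * q ∈ X := by
      have := (Subgroup.mem_normalizer_iff.mp (hPX (Subgroup.inv_mem _ hqP)) x).mp hx
      rwa [inv_inv] at this
    have hcomm : u * (q⁻¹ * x * q) = (q⁻¹ * x * q) * u := by
      calc u * (q⁻¹ * x * q) = q⁻¹ * ((q * u * q⁻¹) * x) * q := by group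
        _ = q⁻¹ * ((z * u) * x) * q := by rw [hqu]
        _ = q⁻¹ * (x * (z * u)) * q := by rw [hxzu]
        _ = q⁻¹ * (x * (q * u * q⁻¹)) * q := by rw [hqu]
        _ = (q⁻¹ * x * q) * u := by group
    have := h2 _ hx' hcomm
    calc x = q * (q⁻¹ * x * q) * q⁻¹ := by group
      _ = 1 := by rw [this]; group
  exact eq_bot_of_two_inverting X z u hES.zz hES'.zz hzN (hPX huP) h1 h2 h3

/-- Let z be an involution of the finite group G with centralizer C whose generalized Fitting subgroup Q is extraspecial of width at least 3 (order 2^(2w+1), w ≥ 3); let g be an element of G with g z g⁻¹ in Q but outside the centre Z of Q, and t an involution lying in both Q and g Q g⁻¹ that is not conjugate to z; write P for the centralizer of t in Q and suppose that the elements of C acting trivially by conjugation on P modulo the subgroup generated by t and z are exactly the elements of Q. Then the image of P in the centralizer of t modulo the subgroup generated by t is a large extraspecial 2-subgroup there,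 and g z g⁻¹ is conjugate to z inside the subgroup generated by P and the centralizer of t in g Q g⁻¹. -/
theorem result {G : Type*} [Group G] [Finite G] (z : G) (hz : orderOf z = 2) (Q : Subgroup G) (hQC : Q ≤ Subgroup.centralizer ({z} : Set G)) (hF : (Cfsg.generalizedFittingSubgroup ↥(Subgroup.centralizer ({z} : Set G))).map (Subgroup.centralizer ({z} : Set G)).subtype = Q) (hQ : Cfsg.IsExtraspecial 2 ↥Q) (w : ℕ) (hw : 3 ≤ w) (hcard : Nat.card ↥Q = 2 ^ (2 * w + 1)) (g : G) (hgQ : g * z * g⁻¹ ∈ Q) (hgZ : g * z * g⁻¹ ∉ ((Subgroup.center ↥Q).map Q.subtype)) (t : G) (ht : orderOf t = 2) (htQ : t ∈ Q ⊓ (Q).map (MulAut.conj g).toMonoidHom) (htz : ¬ IsConj z t) (P : Subgroup G) (hP : P = Q ⊓ Subgroup.centralizer ({t} : Set G)) (hCP : ∀ c ∈ Subgroup.centralizer ({z} : Set G), (∀ x ∈ P, ∃ y ∈ Subgroup.closure ({t, z} : Set G), c * x * c⁻¹ = x * y) ↔ c ∈ Q) [hn : ((Subgroup.zpowers t).subgroupOf (Subgroup.centralizer ({t} : Set G))).Normal] : Cfsg.IsLargeExtraspecial ((P.subgroupOf (Subgroup.centralizer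 ({t} : Set G))).map (QuotientGroup.mk' ((Subgroup.zpowers t).subgroupOf (Subgroup.centralizer ({t} : Set G))))) ∧ ∃ x ∈ P ⊔ ((Q).map (MulAut.conj g).toMonoidHom ⊓ Subgroup.centralizer ({t} : Set G)), x * (g * z * g⁻¹) * x⁻¹ = z := by
  have : Fact (Nat.Prime 2) := ⟨Nat.prime_two⟩
  obtain ⟨hZeq, hL2, hL3, -⟩ := Cfsg.Agent.S5427.basic z hz Q hF hQ
  have hzsq : z * z = 1 := by rw [← pow_two, ← hz]; exact pow_orderOf_eq_one z
  have hzne : z ≠ 1 := by
    intro h1; rw [h1, orderOf_one] at hz; omega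
  have hZmem : ∀ x : G, x ∈ (Subgroup.center ↥Q).map Q.subtype ↔ (x = 1 ∨ x = z) := by
    intro x; rw [hZeq]; exact mem_zpowers_of_involution z hzsq x
  have hzZ : z ∈ (Subgroup.center ↥Q).map Q.subtype := (hZmem z).mpr (Or.inr rfl)
  -- the elementwise package
  have hES : ESData Q z := by
    obtain ⟨z', hES0, hiff⟩ := ESData.of_hyps Q hQ hL2 hL3
    have e : z' = z := by
      rcases (hiff z).mp hzZ with h | h
      · exact absurd h hzne
      · exact h.symm
    rw [e] at hES0
    exact hES0
  -- `Q` is large and `z ∈ Q^g`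
  have hgN : g ∉ Subgroup.normalizer (((Subgroup.center ↥Q).map Q.subtype : Subgroup G) : Set G) :=
    fun hk => hgZ ((Subgroup.mem_normalizer_iff.mp hk z).mp hzZ)
  have hZg : ((Subgroup.center ↥Q).map Q.subtype).map (MulAut.conj g).toMonoidHom ≤ Q := by
    rw [hZeq, Subgroup.map_le_iff_le_comap, Subgroup.zpowers_le, Subgroup.mem_comap]
    exact hgQ
  obtain ⟨hZQg, -, hLarge⟩ :=
    Cfsg.Agent.S5422.result Q hQ hL2 hL3 w (by omega) hcard g hgN hZg
  have hLES : LES Q z := les_of_hyps hLarge hZeq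
  have hES' : ESData (Q.map (MulAut.conj g).toMonoidHom) (g * z * g⁻¹) := hES.conj g
  have hzQ' : z ∈ Q.map (MulAut.conj g).toMonoidHom := hZQg hzZ
  -- the involution `t`
  have htt : t * t = 1 := by rw [← pow_two, ← ht]; exact pow_orderOf_eq_one t
  have ht1 : t ≠ 1 := by
    intro h1; rw [h1, orderOf_one] at ht; omega
  have htinv : t⁻¹ = t := inv_eq_of_mul_eq_one_left htt
  have htQ1 : t ∈ Q := htQ.1
  have htQ2 : t ∈ Q.map (MulAut.conj g).toMonoidHom := htQ.2
  have hnc : ∀ c : G, c * z * c⁻¹ ≠ t := fun c hc => htz (isConj_iff.mpr ⟨c, hc⟩)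
  have htz1 : t ≠ z := by
    intro h
    apply hnc 1
    rw [h]; group
  have hnc2 : ∀ c : G, c * z * c⁻¹ ≠ z * t := by
    intro c hc
    obtain ⟨a, haQ, hat⟩ := hES.exists_conj_noncentral htQ1 ht1 htz1
    apply hnc (a⁻¹ * c)
    calc a⁻¹ * c * z * (a⁻¹ * c)⁻¹ = a⁻¹ * (c * z * c⁻¹) * a := by group
      _ = a⁻¹ * (a * t * a⁻¹) * a := by rw [hc, hat]
      _ = t := by group
  -- the conjugate `u`
  generalize hu : g * z * g⁻¹ = u at *
  have huQ : u ∈ Q := hgQ
  have hut : u * t = t * u := (hES'.zc t htQ2).symm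
  have hu1 : u ≠ 1 := hES'.z1
  have huz : u ≠ z := fun h => hgZ ((hZmem u).mpr (Or.inr h))
  have hu_t : u ≠ t := by rw [← hu]; exact hnc g
  have hu_zt : u ≠ z * t := by rw [← hu]; exact hnc2 g
  have htu : t ≠ u := fun h => hu_t h.symm
  have hq : ∃ q ∈ Q, q * t = t * q ∧ q * u * q⁻¹ = z * u := by
    by_contra hcon
    push Not at hcon
    have hall : ∀ p ∈ Q, p * t = t * p → p * u = u * p := by
      intro p hp hpt
      rcases hES.commute_or_conj hp huQ with h1 | h1
      · exact h1
      · exact absurd h1 (hcon p hp hpt)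
    rcases hES.double_centralizer htQ1 htt ht1 htz1 huQ hall with h | h | h | h
    exacts [hu1 h, huz h, hu_t h, hu_zt h]
  obtain ⟨q, hqQ, hqt, hqu⟩ := hq
  have hz_ut : z ≠ u * t := by
    intro h
    obtain ⟨a, haQ, hat⟩ := hES'.exists_conj_noncentral htQ2 ht1 htu
    apply hnc a⁻¹
    calc a⁻¹ * z * a⁻¹⁻¹ = a⁻¹ * (u * t) * a := by rw [h, inv_inv]
      _ = a⁻¹ * (a * t * a⁻¹) * a := by rw [hat]
      _ = t := by group
  have hq' : ∃ q' ∈ Q.map (MulAut.conj g).toMonoidHom, q' * t = t * q' ∧ q' * z * q'⁻¹ = u * z := by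
    by_contra hcon
    push Not at hcon
    have hall : ∀ p ∈ Q.map (MulAut.conj g).toMonoidHom, p * t = t * p → p * z = z * p := by
      intro p hp hpt
      rcases hES'.commute_or_conj hp hzQ' with h1 | h1
      · exact h1
      · exact absurd h1 (hcon p hp hpt)
    rcases hES'.double_centralizer htQ2 htt ht1 htu hzQ' hall with h | h | h | h
    exacts [hzne h, huz h.symm, htz1 h.symm, hz_ut h]
  obtain ⟨q', hq'Q, hq't, hq'z⟩ := hq'
  subst hP
  refine ⟨?_, q' * q, Subgroup.mul_mem _
    (Subgroup.mem_sup_right ⟨hq'Q, Subgroup.mem_centralizer_singleton_iff.mpr hq't⟩)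
    (Subgroup.mem_sup_left ⟨hqQ, Subgroup.mem_centralizer_singleton_iff.mpr hqt⟩), ?_⟩
  swap
  · have e1 : q' * u * q'⁻¹ = u := by
      rw [hES'.zc q' hq'Q]; group
    calc q' * q * u * (q' * q)⁻¹ = q' * (q * u * q⁻¹) * q'⁻¹ := by group
      _ = q' * (z * u) * q'⁻¹ := by rw [hqu]
      _ = (q' * z * q'⁻¹) * (q' * u * q'⁻¹) := by group
      _ = (u * z) * u := by rw [hq'z, e1]
      _ = z * (u * u) := by rw [hES.zc u huQ, mul_assoc]
      _ = z := by rw [hES'.zz, mul_one]
  -- the large extraspecial subgroup of the quotient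
  have hmemCt : ∀ x : G, x ∈ Subgroup.centralizer ({t} : Set G) ↔ x * t = t * x :=
    fun x => Subgroup.mem_centralizer_singleton_iff
  have hzCt : z ∈ Subgroup.centralizer ({t} : Set G) := (hmemCt z).mpr (hES.zc t htQ1).symm
  have htCt : t ∈ Subgroup.centralizer ({t} : Set G) := (hmemCt t).mpr rfl
  have huCt : u ∈ Subgroup.centralizer ({t} : Set G) := (hmemCt u).mpr hut
  have hqCt : q ∈ Subgroup.centralizer ({t} : Set G) := (hmemCt q).mpr hqt
  have hD : ∀ a : ↥(Subgroup.centralizer ({t} : Set G)),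
      QuotientGroup.mk' ((Subgroup.zpowers t).subgroupOf (Subgroup.centralizer ({t} : Set G))) a ∈
        ((Q ⊓ Subgroup.centralizer ({t} : Set G)).subgroupOf
          (Subgroup.centralizer ({t} : Set G))).map (QuotientGroup.mk'
            ((Subgroup.zpowers t).subgroupOf (Subgroup.centralizer ({t} : Set G)))) ↔
      (a : G) ∈ Q := by
    intro a
    constructor
    · rintro ⟨b, hb, hba⟩
      have hb' : (b : G) ∈ Q := (Subgroup.mem_subgroupOf.mp hb).1
      rcases (mk_eq_mk_iff t htt b a).mp hba with h | h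
      · rw [h]; exact hb'
      · rw [h]; exact Q.mul_mem hb' htQ1
    · intro h
      exact ⟨a, Subgroup.mem_subgroupOf.mpr ⟨h, a.2⟩, rfl⟩
  -- commuting in the quotient means commuting
  have key : ∀ x' : ↥(Subgroup.centralizer ({t} : Set G)), (x' : G) ∈ Q →
      ∀ p : ↥(Subgroup.centralizer ({t} : Set G)), (p : G) ∈ Q →
      QuotientGroup.mk' ((Subgroup.zpowers t).subgroupOf (Subgroup.centralizer ({t} : Set G))) p *
        QuotientGroup.mk' ((Subgroup.zpowers t).subgroupOf (Subgroup.centralizer ({t} : Set G))) x' =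
      QuotientGroup.mk' ((Subgroup.zpowers t).subgroupOf (Subgroup.centralizer ({t} : Set G))) x' *
        QuotientGroup.mk' ((Subgroup.zpowers t).subgroupOf (Subgroup.centralizer ({t} : Set G))) p →
      (p : G) * x' = x' * p := by
    intro x' hx' p hp h
    rw [← map_mul, ← map_mul] at h
    rcases (mk_eq_mk_iff t htt _ _).mp h with h | h
    · rw [Subgroup.coe_mul, Subgroup.coe_mul] at h
      exact h.symm
    · exfalso
      rw [Subgroup.coe_mul, Subgroup.coe_mul] at h
      have ht' : (x' : G)⁻¹ * (p : G)⁻¹ * ((x' : G)⁻¹)⁻¹ * ((p : G)⁻¹)⁻¹ = t := by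
        rw [inv_inv, inv_inv]
        calc (x' : G)⁻¹ * (p : G)⁻¹ * x' * p = ((p : G) * x')⁻¹ * (x' * p) := by group
          _ = ((p : G) * x')⁻¹ * (p * x' * t) := by rw [h]
          _ = t := by group
      rcases hES.comm _ (Q.inv_mem hx') _ (Q.inv_mem hp) with h1 | h1
      · exact ht1 (ht'.symm.trans h1)
      · exact htz1 (ht'.symm.trans h1)
  have key2 : ∀ x' : ↥(Subgroup.centralizer ({t} : Set G)), (x' : G) ∈ Q →
      (∀ y ∈ ((Q ⊓ Subgroup.centralizer ({t} : Set G)).subgroupOf
          (Subgroup.centralizer ({t} : Set G))).map (QuotientGroup.mk'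
            ((Subgroup.zpowers t).subgroupOf (Subgroup.centralizer ({t} : Set G)))),
        y * QuotientGroup.mk' ((Subgroup.zpowers t).subgroupOf (Subgroup.centralizer ({t} : Set G))) x' =
        QuotientGroup.mk' ((Subgroup.zpowers t).subgroupOf (Subgroup.centralizer ({t} : Set G))) x' * y) →
      QuotientGroup.mk' ((Subgroup.zpowers t).subgroupOf (Subgroup.centralizer ({t} : Set G))) x' = 1 ∨
      QuotientGroup.mk' ((Subgroup.zpowers t).subgroupOf (Subgroup.centralizer ({t} : Set G))) x' =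
      QuotientGroup.mk' ((Subgroup.zpowers t).subgroupOf (Subgroup.centralizer ({t} : Set G))) ⟨z, hzCt⟩ := by
    intro x' hx' hall
    have hxP : ∀ p ∈ Q, p * t = t * p → p * (x' : G) = x' * p := by
      intro p hpQ hpt
      exact key x' hx' ⟨p, (hmemCt p).mpr hpt⟩ hpQ (hall _ ((hD _).mpr hpQ))
    rcases hES.double_centralizer htQ1 htt ht1 htz1 hx' hxP with h | h | h | h
    · left; exact (mk_eq_one_iff t htt x').mpr (Or.inl h)
    · right; congr 1; exact Subtype.ext h
    · left; exact (mk_eq_one_iff t htt x').mpr (Or.inr h)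
    · right; exact ((mk_eq_mk_iff t htt ⟨z, hzCt⟩ x').mpr (Or.inr h)).symm
  -- commuting with the image of `z` in the quotient means commuting with `z`
  have stepA : ∀ c' : ↥(Subgroup.centralizer ({t} : Set G)),
      QuotientGroup.mk' ((Subgroup.zpowers t).subgroupOf (Subgroup.centralizer ({t} : Set G))) c' *
        QuotientGroup.mk' ((Subgroup.zpowers t).subgroupOf (Subgroup.centralizer ({t} : Set G))) ⟨z, hzCt⟩ =
      QuotientGroup.mk' ((Subgroup.zpowers t).subgroupOf (Subgroup.centralizer ({t} : Set G))) ⟨z, hzCt⟩ *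
        QuotientGroup.mk' ((Subgroup.zpowers t).subgroupOf (Subgroup.centralizer ({t} : Set G))) c' →
      (c' : G) * z = z * c' := by
    intro c' h
    rw [← map_mul, ← map_mul] at h
    have hc't : (c' : G) * t = t * c' := (hmemCt _).mp c'.2
    rcases (mk_eq_mk_iff t htt _ _).mp h with h | h
    · rw [Subgroup.coe_mul, Subgroup.coe_mul] at h
      exact h.symm
    · exfalso
      rw [Subgroup.coe_mul, Subgroup.coe_mul] at h
      have h' : z * (c' : G) = c' * z * t := h
      apply hnc2 (c' : G)⁻¹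
      calc (c' : G)⁻¹ * z * ((c' : G)⁻¹)⁻¹ = (c' : G)⁻¹ * (z * c') := by rw [inv_inv, mul_assoc]
        _ = (c' : G)⁻¹ * (c' * z * t) := by rw [h']
        _ = z * t := by group
  have hsurj := QuotientGroup.mk'_surjective
    ((Subgroup.zpowers t).subgroupOf (Subgroup.centralizer ({t} : Set G)))
  have hζD : QuotientGroup.mk' ((Subgroup.zpowers t).subgroupOf (Subgroup.centralizer ({t} : Set G)))
      ⟨z, hzCt⟩ ∈ ((Q ⊓ Subgroup.centralizer ({t} : Set G)).subgroupOf
          (Subgroup.centralizer ({t} : Set G))).map (QuotientGroup.mk'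
            ((Subgroup.zpowers t).subgroupOf (Subgroup.centralizer ({t} : Set G)))) :=
    (hD _).mpr hES.zQ
  have hζc : ∀ y ∈ ((Q ⊓ Subgroup.centralizer ({t} : Set G)).subgroupOf
          (Subgroup.centralizer ({t} : Set G))).map (QuotientGroup.mk'
            ((Subgroup.zpowers t).subgroupOf (Subgroup.centralizer ({t} : Set G)))),
      y * QuotientGroup.mk' ((Subgroup.zpowers t).subgroupOf (Subgroup.centralizer ({t} : Set G)))
        ⟨z, hzCt⟩ =
      QuotientGroup.mk' ((Subgroup.zpowers t).subgroupOf (Subgroup.centralizer ({t} : Set G)))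
        ⟨z, hzCt⟩ * y := by
    intro y hy
    obtain ⟨y', rfl⟩ := hsurj y
    have hy' := (hD y').mp hy
    rw [← map_mul, ← map_mul]
    congr 1
    exact Subtype.ext (hES.zc _ hy')
  apply isLargeExtraspecial_of_elementwise _
    (QuotientGroup.mk' ((Subgroup.zpowers t).subgroupOf (Subgroup.centralizer ({t} : Set G)))
      ⟨z, hzCt⟩) ?_ hζD hζc
  · -- centralizer
    intro c hc
    obtain ⟨c', rfl⟩ := hsurj c
    have hc'z : (c' : G) * z = z * c' := stepA c' (hc _ hζD).symm
    have hc't : (c' : G) * t = t * c' := (hmemCt _).mp c'.2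
    have hc'Q : (c' : G) ∈ Q := by
      apply (hCP c' (Subgroup.mem_centralizer_singleton_iff.mpr hc'z)).mp
      intro x hx
      have hx2 := hc _ ((hD ⟨x, hx.2⟩).mpr hx.1)
      rw [← map_mul, ← map_mul] at hx2
      rcases (mk_eq_mk_iff t htt _ _).mp hx2 with h | h
      · rw [Subgroup.coe_mul, Subgroup.coe_mul] at h
        refine ⟨1, Subgroup.one_mem _, ?_⟩
        have h' : (c' : G) * x = x * c' := h
        rw [h', mul_one]; group
      · rw [Subgroup.coe_mul, Subgroup.coe_mul] at h
        refine ⟨t, Subgroup.subset_closure (by simp), ?_⟩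
        have h' : (c' : G) * x = x * c' * t := h
        calc (c' : G) * x * (c' : G)⁻¹ = x * (c' * t) * (c' : G)⁻¹ := by rw [h']; group
          _ = x * (t * c') * (c' : G)⁻¹ := by rw [hc't]
          _ = x * t := by group
    exact key2 c' hc'Q hc
  · -- normalizer
    intro c hc y hy
    obtain ⟨c', rfl⟩ := hsurj c
    obtain ⟨y', rfl⟩ := hsurj y
    have hy' := (hD y').mp hy
    have hc'z : (c' : G) * z = z * c' := stepA c' hc
    rw [← map_inv, ← map_mul, ← map_mul]
    apply (hD _).mpr
    rw [Subgroup.coe_mul, Subgroup.coe_mul, Subgroup.coe_inv]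
    exact (Subgroup.mem_normalizer_iff.mp (hES.norm _ hc'z) _).mp hy'
  · -- odd order subgroups
    intro K hK hDK
    have hNmem : ∀ n : ↥(Subgroup.centralizer ({t} : Set G)),
        n ∈ (Subgroup.zpowers t).subgroupOf (Subgroup.centralizer ({t} : Set G)) ↔
          ((n : G) = 1 ∨ (n : G) = t) := by
      intro n
      rw [Subgroup.mem_subgroupOf, mem_zpowers_of_involution t htt]
    have hNc : ∀ n ∈ (Subgroup.zpowers t).subgroupOf (Subgroup.centralizer ({t} : Set G)),
        ∀ x : ↥(Subgroup.centralizer ({t} : Set G)), n * x = x * n := by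
      intro n hn x
      apply Subtype.ext
      rw [Subgroup.coe_mul, Subgroup.coe_mul]
      rcases (hNmem n).mp hn with h | h
      · rw [h, one_mul, mul_one]
      · rw [h]; exact ((hmemCt _).mp x.2).symm
    have hN2 : ∀ n ∈ (Subgroup.zpowers t).subgroupOf (Subgroup.centralizer ({t} : Set G)),
        n * n = 1 := by
      intro n hn
      apply Subtype.ext
      rw [Subgroup.coe_mul, Subgroup.coe_one]
      rcases (hNmem n).mp hn with h | h
      · rw [h, one_mul]
      · rw [h]; exact htt
    have hcardN : Nat.card ((Subgroup.zpowers t).subgroupOf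
        (Subgroup.centralizer ({t} : Set G))) = 2 := by
      have hle : Subgroup.zpowers t ≤ Subgroup.centralizer ({t} : Set G) := by
        rw [Subgroup.zpowers_le]; exact htCt
      rw [Nat.card_congr (Subgroup.subgroupOfEquivOfLe hle).toEquiv, Nat.card_zpowers, ht]
    obtain ⟨X, hXcard, hXmap, hXmem⟩ := exists_odd_lift _ hNc hN2 hcardN K hK
    have hXGodd : Odd (Nat.card (X.map (Subgroup.centralizer ({t} : Set G)).subtype)) := by
      rw [Subgroup.card_map_of_injective (Subgroup.subtype_injective _), hXcard]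
      exact hK
    have hPXG : Q ⊓ Subgroup.centralizer ({t} : Set G) ≤
        Subgroup.normalizer ((X.map (Subgroup.centralizer ({t} : Set G)).subtype : Subgroup G) : Set G) := by
      apply le_normalizer_of_forall_conj_mem
      rintro p hp _ ⟨x₀, hx₀, rfl⟩
      obtain ⟨hx₀K, hx₀m⟩ := (hXmem x₀).mp hx₀
      refine ⟨⟨p, hp.2⟩ * x₀ * ⟨p, hp.2⟩⁻¹, (hXmem _).mpr ⟨?_, ?_⟩, ?_⟩
      · rw [map_mul, map_mul, map_inv]
        exact (Subgroup.mem_normalizer_iff.mp (hDK ((hD ⟨p, hp.2⟩).mpr hp.1)) _).mp hx₀K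
      · rw [conj_pow, hx₀m, mul_one, mul_inv_cancel]
      · simp
    have hXG := odd_part hES hES' hzQ' htQ1 huQ hut hqQ hqt hqu
      (fun c hc h => (hCP c hc).mp h) _ hXGodd (Subgroup.map_subtype_le _) hPXG
    have hX : X = ⊥ :=
      (Subgroup.map_eq_bot_iff_of_injective _ (Subgroup.subtype_injective _)).mp hXG
    rw [← hXmap, hX, Subgroup.map_bot]
  · -- extraspecial
    apply isExtraspecial_two_subgroup _
      (QuotientGroup.mk' ((Subgroup.zpowers t).subgroupOf (Subgroup.centralizer ({t} : Set G)))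
        ⟨z, hzCt⟩) hζD
    · intro h
      rcases (mk_eq_one_iff t htt _).mp h with h1 | h1
      · exact hzne h1
      · exact htz1 h1.symm
    · exact ((hES.two.to_le inf_le_left).comap_subtype).map _
    · exact hζc
    · intro x hx hall
      obtain ⟨x', rfl⟩ := hsurj x
      exact key2 x' ((hD x').mp hx) hall
    · intro a ha b hb
      obtain ⟨a', rfl⟩ := hsurj a
      obtain ⟨b', rfl⟩ := hsurj b
      have ha' := (hD a').mp ha
      have hb' := (hD b').mp hb
      rw [← map_inv, ← map_inv, ← map_mul, ← map_mul, ← map_mul]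
      rcases hES.comm _ ha' _ hb' with h | h
      · left
        have e : a' * b' * a'⁻¹ * b'⁻¹ = 1 := Subtype.ext (by simpa using h)
        rw [e, map_one]
      · right
        congr 1
        exact Subtype.ext (by simpa using h)
    · intro a ha
      obtain ⟨a', rfl⟩ := hsurj a
      have ha' := (hD a').mp ha
      rw [← map_mul]
      rcases hLES.sq_mem _ ha' with h | h
      · left
        have e : a' * a' = 1 := Subtype.ext (by simpa using h)
        rw [e, map_one]
      · right
        congr 1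
        exact Subtype.ext (by simpa using h)
    · refine ⟨_, (hD ⟨q, hqCt⟩).mpr hqQ, _, (hD ⟨u, huCt⟩).mpr huQ, ?_⟩
      intro h
      rw [← map_mul, ← map_mul] at h
      have hquq : q * u = z * u * q := by
        calc q * u = (q * u * q⁻¹) * q := by group
          _ = z * u * q := by rw [hqu]
      rcases (mk_eq_mk_iff t htt _ _).mp h with h | h
      · have h' : u * q = q * u := h
        apply hzne
        calc z = (z * u * q) * (u * q)⁻¹ := by group
          _ = (q * u) * (u * q)⁻¹ := by rw [hquq]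
          _ = 1 := by rw [h']; group
      · have h' : u * q = q * u * t := h
        apply htz1
        have hcomm' : z * t * (u * q) = z * u * q * t := by
          calc z * t * (u * q) = z * ((t * u) * q) := by group
            _ = z * ((u * t) * q) := by rw [hut]
            _ = z * (u * (t * q)) := by group
            _ = z * (u * (q * t)) := by rw [hqt]
            _ = z * u * q * t := by group
        have e : z * t = 1 := by
          calc z * t = (z * t * (u * q)) * (u * q)⁻¹ := by group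
            _ = (z * u * q * t) * (u * q)⁻¹ := by rw [hcomm']
            _ = (q * u * t) * (u * q)⁻¹ := by rw [hquq]
            _ = (u * q) * (u * q)⁻¹ := by rw [h']
            _ = 1 := by group
        have := mul_eq_one_iff_eq_inv.mp e
        rw [htinv] at this
        exact this.symm

end Cfsg.Agent.S5429
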