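import Cfsg.Statements.S5431
import Cfsg.Agent.Lib.Helper90.ESPairV

set_option autoImplicit false
open Cfsg

namespace Cfsg.Agent.S5431

open Cfsg.Agent.Lib.Helper90
open scoped commutatorElement

/-- Let Q be a large extraspecial 2-subgroup of the finite group G (extraspecial; centralizer equal to its centre; normal in the centralizer of its centre; normalizing no non-trivial subgroup of odd order) with centre generated by z, an involution, of width w ≥ 2 (order 2^(2w+1)); let g be an element outside the centralizer H of z with g z g⁻¹ in Q; write V for the subgroup generated by z and g z g⁻¹, X for the subgroup generated by Q and g Q g⁻¹, R for the subgroup generated by the centralizer of z in g Q g⁻¹ and the centralizer of g z g⁻¹ in Q, and E for the intersection of Q and g Q g⁻¹. Then V is the centre of R, E lies in the second centre of R, R is nilpotent of class at most 3, E and R/E are elementary abelian, R/E is the direct product of the images of the centralizer of g z g⁻¹ in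 Q and of the centralizer of z in g Q g⁻¹ (R is their product and they meet in E), and the commutator subgroup of X and E lies in V. -/
theorem result {G : Type*} [Group G] [Finite G] (Q : Subgroup G) (hQ : Cfsg.IsLargeExtraspecial Q) (z : G) (hz : ((Subgroup.center ↥Q).map Q.subtype) = Subgroup.zpowers z) (hz2 : orderOf z = 2) (w : ℕ) (hw : 2 ≤ w) (hcard : Nat.card ↥Q = 2 ^ (2 * w + 1)) (g : G) (hgH : g ∉ Subgroup.centralizer ({z} : Set G)) (hgQ : g * z * g⁻¹ ∈ Q) (V X R E : Subgroup G) (hV : V = Subgroup.closure ({z, g * z * g⁻¹} : Set G)) (hX : X = Q ⊔ (Q).map (MulAut.conj g).toMonoidHom) (hR : R = ((Q).map (MulAut.conj g).toMonoidHom ⊓ Subgroup.centralizer ({z} : Set G)) ⊔ (Q ⊓ Subgroup.centralizer ({g * z * g⁻¹} : Set G))) (hE : E = Q ⊓ (Q).map (MulAut.conj g).toMonoidHom) : (Subgroup.center ↥R).map R.subtype = V ∧ E ≤ (Subgroup.upperCentralSeries ↥R 2).map R.subtype ∧ Subgroup.upperCentralSeries ↥R 3 = ⊤ ∧ Cfsg.IsElementaryAbelian 2 E ∧ (∀ x ∈ R, ∀ y ∈ R, x * y * x⁻¹ * y⁻¹ ∈ E ∧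 x ^ 2 ∈ E) ∧ ((Q).map (MulAut.conj g).toMonoidHom ⊓ Subgroup.centralizer ({z} : Set G)) ⊓ (Q ⊓ Subgroup.centralizer ({g * z * g⁻¹} : Set G)) = E ∧ ⁅X, E⁆ ≤ V := by
  obtain ⟨hL1, hL2, hL3, _⟩ := hQ
  have hp := ESPair.of_hyps Q hL1 hL2 hL3 z hz hz2 g hgH hgQ
  subst hV hX hR hE
  set s := g * z * g⁻¹ with hs
  set Q₂ := Q.map (MulAut.conj g).toMonoidHom with hQ₂
  set R := (Q₂ ⊓ Subgroup.centralizer ({z} : Set G)) ⊔ (Q ⊓ Subgroup.centralizer ({s} : Set G))
    with hR
  have hRX : R ≤ Q ⊔ Q₂ := by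
    rw [hR, sup_le_iff]
    exact ⟨inf_le_left.trans le_sup_right, inf_le_left.trans le_sup_left⟩
  have hER : Q ⊓ Q₂ ≤ R := fun e he => (le_sup_right : (Q ⊓ Subgroup.centralizer ({s} : Set G)) ≤ R)
    (hp.E_le_P₁ he)
  -- elements of R lying in E are in the second centre
  have hE2 : ∀ r : R, (r : G) ∈ Q ⊓ Q₂ → r ∈ Subgroup.upperCentralSeries R 2 := by
    intro r hr
    rw [Subgroup.mem_upperCentralSeries_succ_iff]
    intro y
    rw [Subgroup.upperCentralSeries_one, Subgroup.mem_center_iff]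
    intro t
    apply Subtype.ext
    have hV : ((⁅r, y⁆ : R) : G) ∈ Subgroup.closure ({z, s} : Set G) := by
      have h1 := hp.comm_X_E_mem_V (hRX y.2) hr
      have h2 := Subgroup.inv_mem _ h1
      have e : ((y : G) * r * (y : G)⁻¹ * (r : G)⁻¹)⁻¹ = ((⁅r, y⁆ : R) : G) := by
        simp only [commutatorElement_def, Subgroup.coe_mul, Subgroup.coe_inv]
        group
      rwa [e] at h2
    exact hp.V_central hV (hp.R_le_CV t.2)
  refine ⟨?_, ?_, ?_, ?_, ?_, ?_, ?_⟩
  · ext x
    constructor
    · rintro ⟨y, hy, rfl⟩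
      apply hp.center_R_mem_V y.2
      intro r hr
      exact congrArg Subtype.val (Subgroup.mem_center_iff.mp hy ⟨r, hr⟩)
    · intro hx
      refine ⟨⟨x, hp.V_le_R hx⟩, ?_, rfl⟩
      rw [SetLike.mem_coe, Subgroup.mem_center_iff]
      intro r
      apply Subtype.ext
      exact hp.V_central hx (hp.R_le_CV r.2)
  · intro e he
    exact ⟨⟨e, hER he⟩, hE2 _ he, rfl⟩
  · rw [eq_top_iff]
    intro x _
    rw [Subgroup.mem_upperCentralSeries_succ_iff]
    intro y
    apply hE2
    have := (hp.R_comm_sq x.2 y.2).1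
    simpa [commutatorElement_def] using this
  · refine ⟨⟨⟨fun a b => Subtype.ext (hp.E_comm a.2 b.2)⟩⟩, ?_⟩
    intro a ha
    rw [pow_two]
    exact hp.E_sq ha
  · intro x hx y hy
    have := hp.R_comm_sq hx hy
    rw [pow_two]
    exact this
  · ext x
    constructor
    · intro hx
      exact ⟨hx.2.1, hx.1.1⟩
    · intro hx
      refine ⟨?_, hp.E_le_P₁ hx⟩
      have := hp.symm.E_le_P₁ ⟨hx.2, hx.1⟩
      exact this
  · rw [Subgroup.commutator_le]
    intro x hx e he
    exact hp.comm_X_E_mem_V hx he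

end Cfsg.Agent.S5431
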