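import Cfsg.Statements.S5437
import Cfsg.Agent.Lib.Helper90.Conj

set_option autoImplicit false
open Cfsg

namespace Cfsg.Agent.S5437

open Cfsg.Agent.Lib.Helper90

theorem one_imp_two {G : Type*} [Group G] (I : Set G)
    (hIc : ∀ g : G, ∀ x ∈ I, g * x * g⁻¹ ∈ I) (H : Subgroup G)
    (h1 : ∀ x ∈ I, x ∈ H → (∀ g : G, g * x * g⁻¹ ∈ H → ∃ h ∈ H, h * x * h⁻¹ = g * x * g⁻¹) ∧
      Subgroup.centralizer ({x} : Set G) ≤ H) :
    ∀ g : G, g ∉ H → ∀ x ∈ I, ¬ (x ∈ H ∧ x ∈ (H : Subgroup G).map (MulAut.conj g).toMonoidHom) := by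
  intro g hg x hxI ⟨hxH, hxg⟩
  rw [mem_map_conj_iff] at hxg
  apply hg
  have hyI : g⁻¹ * x * g ∈ I := by
    have := hIc g⁻¹ x hxI
    rwa [inv_inv] at this
  obtain ⟨hA, hB⟩ := h1 _ hyI hxg
  have hxx : g * (g⁻¹ * x * g) * g⁻¹ = x := by group
  obtain ⟨h, hh, hhe⟩ := hA g (by rw [hxx]; exact hxH)
  have hc : h⁻¹ * g ∈ Subgroup.centralizer ({g⁻¹ * x * g} : Set G) := by
    rw [Subgroup.mem_centralizer_iff]
    intro y hy
    rw [Set.mem_singleton_iff] at hy
    subst hy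
    have e1 : g⁻¹ * x * g * (h⁻¹ * g) = h⁻¹ * (h * (g⁻¹ * x * g) * h⁻¹) * g := by group
    rw [e1, hhe]
    group
  have := H.mul_mem hh (hB hc)
  have e2 : h * (h⁻¹ * g) = g := by group
  rwa [e2] at this

theorem two_imp_one {G : Type*} [Group G] (I : Set G)
    (hIc : ∀ g : G, ∀ x ∈ I, g * x * g⁻¹ ∈ I) (H : Subgroup G)
    (h2 : ∀ g : G, g ∉ H → ∀ x ∈ I, ¬ (x ∈ H ∧ x ∈ (H : Subgroup G).map (MulAut.conj g).toMonoidHom)) :
    ∀ x ∈ I, x ∈ H → (∀ g : G, g * x * g⁻¹ ∈ H → ∃ h ∈ H, h * x * h⁻¹ = g * x * g⁻¹) ∧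
      Subgroup.centralizer ({x} : Set G) ≤ H := by
  intro x hxI hxH
  constructor
  · intro g hg
    refine ⟨g, ?_, rfl⟩
    by_contra hgH
    exact h2 g hgH (g * x * g⁻¹) (hIc g x hxI) ⟨hg, conj_mem_map_conj H g hxH⟩
  · intro c hc
    by_contra hcH
    rw [Subgroup.mem_centralizer_iff] at hc
    have hcx : c * x = x * c := (hc x (Set.mem_singleton x)).symm
    refine h2 c hcH x hxI ⟨hxH, ?_⟩
    rw [mem_map_conj_iff]
    have : c⁻¹ * x * c = x := by
      calc c⁻¹ * x * c = c⁻¹ * (x * c) := by group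
        _ = c⁻¹ * (c * x) := by rw [hcx]
        _ = x := by group
    rw [this]; exact hxH

theorem two_iff_three {G : Type*} [Group G] (I : Set G) (H : Subgroup G) :
    (∀ g : G, g ∉ H → ∀ x ∈ I, ¬ (x ∈ H ∧ x ∈ (H : Subgroup G).map (MulAut.conj g).toMonoidHom)) ↔
      ∀ x ∈ I, x ∈ H → ∃! c : G ⧸ H, x • c = c := by
  constructor
  · intro h2 x hxI hxH
    refine ⟨((1 : G) : G ⧸ H), ?_, ?_⟩
    · show x • ((1 : G) : G ⧸ H) = ((1 : G) : G ⧸ H)
      rw [smul_coset_eq_iff]; simpa using hxH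
    · intro c hc
      induction c using QuotientGroup.induction_on with
      | H g =>
        rw [smul_coset_eq_iff] at hc
        by_contra hne
        have hgH : g ∉ H := by
          intro hg
          apply hne
          rw [QuotientGroup.eq]
          simpa using H.inv_mem hg
        exact h2 g hgH x hxI ⟨hxH, (mem_map_conj_iff H g x).mpr hc⟩
  · intro h3 g hg x hxI ⟨hxH, hxg⟩
    obtain ⟨c, _, huniq⟩ := h3 x hxI hxH
    have e1 : ((1 : G) : G ⧸ H) = c := huniq _ (by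
      show x • ((1 : G) : G ⧸ H) = ((1 : G) : G ⧸ H)
      rw [smul_coset_eq_iff]; simpa using hxH)
    have e2 : ((g : G) : G ⧸ H) = c := huniq _ (by
      show x • ((g : G) : G ⧸ H) = ((g : G) : G ⧸ H)
      rw [smul_coset_eq_iff]; exact (mem_map_conj_iff H g x).mp hxg)
    apply hg
    have := e2.trans e1.symm
    rw [QuotientGroup.eq] at this
    simpa using H.inv_mem this

/-- Let I be a set of involutions of the finite group G closed under conjugation, and H a subgroup of G. The following are equivalent: (1) for every member x of I lying in H, the conjugates of x lying in H form a single H-class and the centralizer of x lies in H; (2) for every g outside H, no member of I lies in both H and g H g⁻¹; (3) every member of I lying in H fixes exactly one coset in the action of G on the cosets of H. -/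
theorem result {G : Type*} [Group G] [Finite G] (I : Set G) (hI : ∀ x ∈ I, orderOf x = 2) (hIc : ∀ g : G, ∀ x ∈ I, g * x * g⁻¹ ∈ I) (H : Subgroup G) : ((∀ x ∈ I, x ∈ H → (∀ g : G, g * x * g⁻¹ ∈ H → ∃ h ∈ H, h * x * h⁻¹ = g * x * g⁻¹) ∧ Subgroup.centralizer ({x} : Set G) ≤ H) ↔ (∀ g : G, g ∉ H → ∀ x ∈ I, ¬ (x ∈ H ∧ x ∈ (H : Subgroup G).map (MulAut.conj g).toMonoidHom))) ∧ ((∀ g : G, g ∉ H → ∀ x ∈ I, ¬ (x ∈ H ∧ x ∈ (H : Subgroup G).map (MulAut.conj g).toMonoidHom)) ↔ ∀ x ∈ I, x ∈ H → ∃! c : G ⧸ H, x • c = c) := by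
  exact ⟨⟨one_imp_two I hIc H, two_imp_one I hIc H⟩, two_iff_three I H⟩

end Cfsg.Agent.S5437
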