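import Cfsg.Statements.S5438
import Cfsg.Agent.Lib.Helper90.SylowConj

set_option autoImplicit false
open Cfsg

namespace Cfsg.Agent.S5438

open Cfsg.Agent.Lib.Helper90

/-- Commuting conjugates of `z` fix the same coset. -/
theorem cc_lemma {G : Type*} [Group G] (z : G) (H : Subgroup G) (hzH : z ∈ H)
    (hfix : ∀ g : G, g⁻¹ * z * g ∈ H → g ∈ H) (b k : G)
    (hcomm : (b * z * b⁻¹) * (k * z * k⁻¹) = (k * z * k⁻¹) * (b * z * b⁻¹)) : b⁻¹ * k ∈ H := by
  apply hfix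
  -- (b⁻¹ k)⁻¹ z (b⁻¹ k) = k⁻¹ (b z b⁻¹) k commutes with z, hence lies in H
  have e : (b⁻¹ * k)⁻¹ * z * (b⁻¹ * k) = k⁻¹ * (b * z * b⁻¹) * k := by group
  rw [e]
  apply hfix
  have e2 : (k⁻¹ * (b * z * b⁻¹) * k)⁻¹ * z * (k⁻¹ * (b * z * b⁻¹) * k) = z := by
    calc (k⁻¹ * (b * z * b⁻¹) * k)⁻¹ * z * (k⁻¹ * (b * z * b⁻¹) * k)
      = k⁻¹ * ((b * z * b⁻¹)⁻¹ * ((k * z * k⁻¹) * (b * z * b⁻¹))) * k := by group
      _ = k⁻¹ * ((b * z * b⁻¹)⁻¹ * ((b * z * b⁻¹) * (k * z * k⁻¹))) * k := by rw [hcomm]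
      _ = z := by group
  rw [e2]; exact hzH

/-- A subgroup all of whose elements square to one is a 2-group. -/
theorem isPGroup_two_of_sq {G : Type*} [Group G] (S : Subgroup G) (h : ∀ s ∈ S, s * s = 1) :
    IsPGroup 2 S := by
  intro g
  refine ⟨1, ?_⟩
  rw [pow_one, pow_two]
  exact Subtype.ext (h g g.2)

theorem isPGroup_two_zpowers {G : Type*} [Group G] (w : G) (hw : w * w = 1) :
    IsPGroup 2 (Subgroup.zpowers w) := by
  apply isPGroup_two_of_sq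
  intro s hs
  obtain ⟨i, rfl⟩ := Subgroup.mem_zpowers_iff.mp hs
  rw [← zpow_add, ← two_mul, zpow_mul, zpow_two, hw, one_zpow]

/-- Let z be a 2-central involution of the finite group G (an involution central in some Sylow 2-subgroup) and H a subgroup containing z such that the coset H is the only coset of H fixed by z (in the action of G on the cosets of H). Then H has odd index in G, and for every 2-element x of H the conjugates of x lying in H form a single H-class. -/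
theorem result {G : Type*} [Group G] [Finite G] (z : G) (hz : Cfsg.IsTwoCentralInvolution z) (H : Subgroup G) (hzH : z ∈ H) (hfix : ∀ g : G, g⁻¹ * z * g ∈ H → g ∈ H) : Odd H.index ∧ ∀ x ∈ H, (∃ k : ℕ, orderOf x = 2 ^ k) → ∀ g : G, g * x * g⁻¹ ∈ H → ∃ h ∈ H, h * x * h⁻¹ = g * x * g⁻¹ := by
  obtain ⟨hz2, P, hzP, hzc⟩ := hz
  have hPH : (P : Subgroup G) ≤ H := by
    intro x hx
    apply hfix
    have h1 := hzc x hx
    have : x⁻¹ * z * x = z := by
      calc x⁻¹ * z * x = x⁻¹ * (z * x) := by group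
        _ = x⁻¹ * (x * z) := by rw [h1]
        _ = z := by group
    rw [this]; exact hzH
  refine ⟨?_, ?_⟩
  · have h1 : H.index ∣ (P : Subgroup G).index := Subgroup.index_dvd_of_le hPH
    have h2 : ¬ 2 ∣ (P : Subgroup G).index := P.not_dvd_index
    rw [← Nat.not_even_iff_odd, even_iff_two_dvd]
    intro h3
    exact h2 (h3.trans h1)
  · intro x hxH ⟨n, hn⟩ g hgH
    -- zpowers x, zpowers (g x g⁻¹) are 2-groups in H
    have hSx : IsPGroup 2 (Subgroup.zpowers x) :=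
      IsPGroup.of_card (n := n) (by rw [Nat.card_zpowers, hn])
    have hoy : orderOf (g * x * g⁻¹) = 2 ^ n := by
      rw [← hn]
      have : g * x * g⁻¹ = MulAut.conj g x := by simp [MulAut.conj_apply]
      rw [this, MulEquiv.orderOf_eq]
    have hSy : IsPGroup 2 (Subgroup.zpowers (g * x * g⁻¹)) :=
      IsPGroup.of_card (n := n) (by rw [Nat.card_zpowers, hoy])
    obtain ⟨h₁, hh₁, hc₁⟩ := exists_conj_central_in z P hzc H hPH _
      ((Subgroup.zpowers_le).mpr hxH) hSx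
    obtain ⟨h₂, hh₂, hc₂⟩ := exists_conj_central_in z P hzc H hPH _
      ((Subgroup.zpowers_le).mpr hgH) hSy
    have hx1 : x * (h₁ * z * h₁⁻¹) = (h₁ * z * h₁⁻¹) * x := hc₁ x (Subgroup.mem_zpowers x)
    have hy2 : (g * x * g⁻¹) * (h₂ * z * h₂⁻¹) = (h₂ * z * h₂⁻¹) * (g * x * g⁻¹) :=
      hc₂ _ (Subgroup.mem_zpowers _)
    -- w₁, w₂ in C = C_G(x)
    set C := Subgroup.centralizer ({x} : Set G) with hC
    set w₁ := h₁ * z * h₁⁻¹ with hw₁
    set w₂ := (g⁻¹ * h₂) * z * (g⁻¹ * h₂)⁻¹ with hw₂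
    have hw₁C : w₁ ∈ C := by
      rw [hC, Subgroup.mem_centralizer_singleton_iff]; exact hx1.symm
    have hw₂C : w₂ ∈ C := by
      rw [hC, Subgroup.mem_centralizer_singleton_iff]
      have e : w₂ = g⁻¹ * (h₂ * z * h₂⁻¹) * g := by rw [hw₂]; group
      rw [e]
      calc g⁻¹ * (h₂ * z * h₂⁻¹) * g * x = g⁻¹ * ((h₂ * z * h₂⁻¹) * (g * x * g⁻¹)) * g := by group
        _ = g⁻¹ * ((g * x * g⁻¹) * (h₂ * z * h₂⁻¹)) * g := by rw [hy2]
        _ = x * (g⁻¹ * (h₂ * z * h₂⁻¹) * g) := by group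
    have hzz : z * z = 1 := by
      have := pow_orderOf_eq_one z
      rw [hz2, pow_two] at this; exact this
    have hw₁2 : w₁ * w₁ = 1 := by
      calc w₁ * w₁ = h₁ * (z * z) * h₁⁻¹ := by rw [hw₁]; group
        _ = 1 := by rw [hzz]; group
    have hw₂2 : w₂ * w₂ = 1 := by
      calc w₂ * w₂ = (g⁻¹ * h₂) * (z * z) * (g⁻¹ * h₂)⁻¹ := by rw [hw₂]; group
        _ = 1 := by rw [hzz]; group
    -- Sylow 2-subgroups of C containing w₁, w₂
    have hp1 : IsPGroup 2 (Subgroup.zpowers (⟨w₁, hw₁C⟩ : C)) :=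
      isPGroup_two_zpowers _ (Subtype.ext hw₁2)
    have hp2 : IsPGroup 2 (Subgroup.zpowers (⟨w₂, hw₂C⟩ : C)) :=
      isPGroup_two_zpowers _ (Subtype.ext hw₂2)
    obtain ⟨S₁, hS₁⟩ := hp1.exists_le_sylow
    obtain ⟨S₂, hS₂⟩ := hp2.exists_le_sylow
    obtain ⟨a, ha⟩ := MulAction.exists_smul_eq C S₁ S₂
    have hmap : IsPGroup 2 ((S₁ : Subgroup C).map C.subtype) := S₁.isPGroup'.map _
    obtain ⟨k, hk⟩ := exists_conj_central z P hzc _ hmap
    have hw₁S : w₁ ∈ (S₁ : Subgroup C).map C.subtype :=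
      ⟨⟨w₁, hw₁C⟩, hS₁ (Subgroup.mem_zpowers _), rfl⟩
    have hkH : k ∈ H := by
      have h1 := cc_lemma z H hzH hfix h₁ k (hk w₁ hw₁S)
      have := H.mul_mem hh₁ h1
      have e : h₁ * (h₁⁻¹ * k) = k := by group
      rwa [e] at this
    have hw₂S : (⟨w₂, hw₂C⟩ : C) ∈ (a • S₁ : Sylow 2 C) := by
      rw [ha]; exact hS₂ (Subgroup.mem_zpowers _)
    rw [mem_sylow_smul_iff] at hw₂S
    have hw₂S' : (a : G)⁻¹ * w₂ * a ∈ (S₁ : Subgroup C).map C.subtype :=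
      ⟨_, hw₂S, by simp⟩
    have h3 := hk _ hw₂S'
    have h4 : w₂ * ((a * k) * z * (a * k)⁻¹) = ((a * k) * z * (a * k)⁻¹) * w₂ := by
      calc w₂ * ((a * k) * z * (a * k)⁻¹)
          = a * (((a : G)⁻¹ * w₂ * a) * (k * z * k⁻¹)) * (a : G)⁻¹ := by group
        _ = a * ((k * z * k⁻¹) * ((a : G)⁻¹ * w₂ * a)) * (a : G)⁻¹ := by rw [h3]
        _ = ((a * k) * z * (a * k)⁻¹) * w₂ := by group
    have h5 := cc_lemma z H hzH hfix (g⁻¹ * h₂) (a * k) h4
    have hgaH : g * a ∈ H := by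
      have h6 := H.mul_mem (H.mul_mem hh₂ h5) (H.inv_mem hkH)
      have e : h₂ * ((g⁻¹ * h₂)⁻¹ * (a * k)) * k⁻¹ = g * a := by group
      rwa [e] at h6
    refine ⟨g * a, hgaH, ?_⟩
    have hax : (a : G) * x = x * a := by
      have h7 : (a : G) ∈ Subgroup.centralizer ({x} : Set G) := a.2
      exact Subgroup.mem_centralizer_singleton_iff.mp h7
    calc g * a * x * (g * a)⁻¹ = g * ((a : G) * x) * (a : G)⁻¹ * g⁻¹ := by group
      _ = g * (x * a) * (a : G)⁻¹ * g⁻¹ := by rw [hax]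
      _ = g * x * g⁻¹ := by group

end Cfsg.Agent.S5438
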