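import Cfsg.Statements.S5439
import Cfsg.Agent.Lib.Helper90.Conj
import Cfsg.Agent.Lib.Helper90.Dihedral

set_option autoImplicit false
open Cfsg

namespace Cfsg.Agent.S5439

open Cfsg.Agent.Lib.Helper90

theorem mul_self_of_orderOf_two {G : Type*} [Group G] {x : G} (h : orderOf x = 2) :
    x * x = 1 ∧ x ≠ 1 := by
  constructor
  · have := pow_orderOf_eq_one x
    rw [h, pow_two] at this; exact this
  · intro h1
    rw [h1, orderOf_one] at h
    omega

theorem conj_mul_self {G : Type*} [Group G] {x y : G} (h : IsConj x y) (hx : x * x = 1 ∧ x ≠ 1) :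
    y * y = 1 ∧ y ≠ 1 := by
  rw [isConj_iff] at h
  obtain ⟨c, rfl⟩ := h
  constructor
  · calc c * x * c⁻¹ * (c * x * c⁻¹) = c * (x * x) * c⁻¹ := by group
      _ = 1 := by rw [hx.1]; group
  · intro h1
    apply hx.2
    calc x = c⁻¹ * (c * x * c⁻¹) * c := by group
      _ = 1 := by rw [h1]; group

theorem mem_of_coset_eq {G : Type*} [Group G] (H : Subgroup G) {x : G} {d : G ⧸ H}
    (e1 : ((1 : G) : G ⧸ H) = d) (e2 : ((x : G) : G ⧸ H) = d) : x ∈ H := by
  have := e1.trans e2.symm
  rw [QuotientGroup.eq] at this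
  simpa using this

/-- Let I and J be two different conjugacy classes of involutions of the finite group G and H a subgroup such that every member of I ∪ J fixes exactly one coset in the action on the cosets of H, and such that for every a in I ∩ H and every b in (I ∪ J) ∩ H different from a and commuting with it, the centralizer of a b lies in H. Then H = G. -/
theorem result {G : Type*} [Group G] [Finite G] (I J : Set G) (a₀ b₀ : G) (ha₀ : orderOf a₀ = 2) (hb₀ : orderOf b₀ = 2) (hI : I = {x | IsConj a₀ x}) (hJ : J = {x | IsConj b₀ x}) (hIJ : I ≠ J) (H : Subgroup G) (hfix : ∀ x ∈ I ∪ J, ∃! c : G ⧸ H, x • c = c) (hcent : ∀ a ∈ I, a ∈ H → ∀ b ∈ I ∪ J, b ∈ H → a ≠ b → a * b = b * a → Subgroup.centralizer ({a * b} : Set G) ≤ H) : H = ⊤ := by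
  have ha₀I : a₀ ∈ I := by rw [hI]; exact IsConj.refl a₀
  have hb₀J : b₀ ∈ J := by rw [hJ]; exact IsConj.refl b₀
  have hIinv : ∀ x ∈ I, x * x = 1 ∧ x ≠ 1 := by
    intro x hx
    rw [hI] at hx
    exact conj_mul_self hx (mul_self_of_orderOf_two ha₀)
  have hJinv : ∀ x ∈ J, x * x = 1 ∧ x ≠ 1 := by
    intro x hx
    rw [hJ] at hx
    exact conj_mul_self hx (mul_self_of_orderOf_two hb₀)
  have hIconj : ∀ x ∈ I, ∀ y, IsConj x y → y ∈ I := by
    intro x hx y hxy
    rw [hI] at hx ⊢
    exact IsConj.trans hx hxy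
  have hJconj : ∀ x ∈ J, ∀ y, IsConj x y → y ∈ J := by
    intro x hx y hxy
    rw [hJ] at hx ⊢
    exact IsConj.trans hx hxy
  have hdisj : ∀ a ∈ I, ∀ b ∈ J, ¬ IsConj a b := by
    intro a ha b hb hab
    apply hIJ
    rw [hI] at ha
    rw [hJ] at hb
    have h0 : IsConj a₀ b₀ := (ha.trans hab).trans hb.symm
    rw [hI, hJ]
    ext x
    simp only [Set.mem_ofPred_eq]
    exact ⟨fun h => h0.symm.trans h, fun h => h0.trans h⟩
  have key : ∀ a ∈ I, a ∈ H → ∀ b ∈ J, b ∈ H := by
    intro a haI haH b hbJ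
    obtain ⟨c, hcc, hc1, hca, hac, hbc, hconj⟩ := dihedral_central_involution a b
      (hIinv a haI).1 (hJinv b hbJ).1 (hJinv b hbJ).2 (hdisj a haI b hbJ)
    have hcH : c ∈ H := by
      obtain ⟨d, hd, huniq⟩ := hfix a (Or.inl haI)
      have e1 : ((1 : G) : G ⧸ H) = d := huniq _ (by
        show a • ((1 : G) : G ⧸ H) = ((1 : G) : G ⧸ H)
        rw [smul_coset_eq_iff]; simpa using haH)
      have e2 : ((c : G) : G ⧸ H) = d := huniq _ (by
        show a • ((c : G) : G ⧸ H) = ((c : G) : G ⧸ H)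
        rw [smul_coset_eq_iff]
        have : c⁻¹ * a * c = a := by
          calc c⁻¹ * a * c = c⁻¹ * (a * c) := by group
            _ = c⁻¹ * (c * a) := by rw [hac]
            _ = a := by group
        rw [this]; exact haH)
      exact mem_of_coset_eq H e1 e2
    have hacIJ : a * c ∈ I ∪ J := by
      rcases hconj with h | h
      · exact Or.inl (hIconj a haI _ h)
      · exact Or.inr (hJconj b hbJ _ h)
    have hne : a ≠ a * c := by
      intro h
      apply hc1
      have : a * c = a * 1 := by rw [mul_one]; exact h.symm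
      exact mul_left_cancel this
    have hcomm : a * (a * c) = (a * c) * a := by
      rw [mul_assoc, ← hac]
    have h1 := hcent a haI haH (a * c) hacIJ (H.mul_mem haH hcH) hne hcomm
    have e : a * (a * c) = c := by rw [← mul_assoc, (hIinv a haI).1, one_mul]
    rw [e] at h1
    apply h1
    rw [Subgroup.mem_centralizer_singleton_iff]
    exact hbc
  obtain ⟨d, hd, _⟩ := hfix a₀ (Or.inl ha₀I)
  induction d using QuotientGroup.induction_on with
  | H g =>
    rw [smul_coset_eq_iff] at hd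
    have h1 : g⁻¹ * a₀ * g ∈ I := by
      apply hIconj a₀ ha₀I
      rw [isConj_iff]
      exact ⟨g⁻¹, by rw [inv_inv]⟩
    have hJH : ∀ b ∈ J, b ∈ H := key _ h1 hd
    obtain ⟨d', _, huniq'⟩ := hfix b₀ (Or.inr hb₀J)
    rw [eq_top_iff]
    intro x _
    have e1 : ((1 : G) : G ⧸ H) = d' := huniq' _ (by
      show b₀ • ((1 : G) : G ⧸ H) = ((1 : G) : G ⧸ H)
      rw [smul_coset_eq_iff]; simpa using hJH b₀ hb₀J)
    have e2 : ((x : G) : G ⧸ H) = d' := huniq' _ (by
      show b₀ • ((x : G) : G ⧸ H) = ((x : G) : G ⧸ H)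
      rw [smul_coset_eq_iff]
      apply hJH
      apply hJconj b₀ hb₀J
      rw [isConj_iff]
      exact ⟨x⁻¹, by rw [inv_inv]⟩)
    exact mem_of_coset_eq H e1 e2

end Cfsg.Agent.S5439
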