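import Cfsg.Statements.S5459
-- import your own Cfsg.Agent.* helpers here

set_option autoImplicit false
open Cfsg
open scoped commutatorElement

namespace Cfsg.Agent.S5459

section aux

variable {G : Type*} [Group G]

/-- Elementwise reachability relation on the class of `d`. -/
def Step (d : G) (x y : G) : Prop := x ∈ conjugatesOf d ∧ y ∈ conjugatesOf d ∧ Commute x y

abbrev Reach (d : G) (x y : G) : Prop := Relation.ReflTransGen (Step d) x y

theorem reach_refl (d x : G) : Reach d x x := Relation.ReflTransGen.refl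

theorem reach_symm {d x y : G} (h : Reach d x y) : Reach d y x := by
  induction h with
  | refl => exact Relation.ReflTransGen.refl
  | tail _ hstep ih =>
    exact Relation.ReflTransGen.head ⟨hstep.2.1, hstep.1, hstep.2.2.symm⟩ ih

theorem reach_trans {d x y z : G} (h1 : Reach d x y) (h2 : Reach d y z) : Reach d x z :=
  Relation.ReflTransGen.trans h1 h2

theorem conj_mem_conjugatesOf {d x : G} (g : G) (hx : x ∈ conjugatesOf d) :
    g * x * g⁻¹ ∈ conjugatesOf d := by
  have hx' : IsConj d x := hx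
  obtain ⟨c, rfl⟩ := isConj_iff.mp hx'
  show IsConj d _
  exact isConj_iff.mpr ⟨g * c, by group⟩

theorem reach_conj {d x y : G} (g : G) (h : Reach d x y) :
    Reach d (g * x * g⁻¹) (g * y * g⁻¹) := by
  induction h with
  | refl => exact Relation.ReflTransGen.refl
  | @tail a b _ hab ih =>
    refine Relation.ReflTransGen.tail ih ?_
    refine ⟨conj_mem_conjugatesOf g hab.1, conj_mem_conjugatesOf g hab.2.1, ?_⟩
    have := hab.2.2
    unfold Commute SemiconjBy at this ⊢
    calc g * a * g⁻¹ * (g * b * g⁻¹) = g * (a * b) * g⁻¹ := by group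
      _ = g * (b * a) * g⁻¹ := by rw [this]
      _ = g * b * g⁻¹ * (g * a * g⁻¹) := by group

/-- The subgroup of elements `g` such that `g d g⁻¹` is reachable from `d`. -/
def reachSubgroup (d : G) : Subgroup G where
  carrier := {g | Reach d d (g * d * g⁻¹)}
  one_mem' := by
    show Reach d d (1 * d * 1⁻¹)
    simpa using reach_refl d d
  mul_mem' := by
    intro a b ha hb
    show Reach d d (a * b * d * (a * b)⁻¹)
    have h1 : Reach d (a * d * a⁻¹) (a * (b * d * b⁻¹) * a⁻¹) := reach_conj a hb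
    have h2 : a * (b * d * b⁻¹) * a⁻¹ = a * b * d * (a * b)⁻¹ := by group
    rw [h2] at h1
    exact reach_trans ha h1
  inv_mem' := by
    intro a ha
    show Reach d d (a⁻¹ * d * a⁻¹⁻¹)
    have h1 : Reach d (a⁻¹ * d * a⁻¹⁻¹) (a⁻¹ * (a * d * a⁻¹) * a⁻¹⁻¹) := reach_conj a⁻¹ ha
    have h2 : a⁻¹ * (a * d * a⁻¹) * a⁻¹⁻¹ = d := by group
    rw [h2] at h1
    exact reach_symm h1

theorem mem_reachSubgroup {d g : G} : g ∈ reachSubgroup d ↔ Reach d d (g * d * g⁻¹) := Iff.rfl

/-- Convert elementwise reachability into reachability in the commuting graph. -/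
theorem reach_to_graph {d x y : G} (hx : x ∈ conjugatesOf d) (h : Reach d x y) :
    ∃ hy : y ∈ conjugatesOf d,
      (Cfsg.commutingGraph (conjugatesOf d)).Reachable ⟨x, hx⟩ ⟨y, hy⟩ := by
  induction h with
  | refl => exact ⟨hx, SimpleGraph.Reachable.refl _⟩
  | @tail b c _ hstep ih =>
    obtain ⟨hb, hreach⟩ := ih
    refine ⟨hstep.2.1, ?_⟩
    by_cases hbc : b = c
    · subst hbc
      exact hreach
    · refine hreach.trans (SimpleGraph.Adj.reachable ?_)
      unfold Cfsg.commutingGraph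
      rw [SimpleGraph.fromRel_adj]
      refine ⟨?_, Or.inl hstep.2.2⟩
      intro h
      exact hbc (congrArg Subtype.val h)

end aux

section main

variable {G : Type*} [Group G]

theorem conj_inverts {Z : Subgroup G} [Z.Normal] {d : G}
    (hinv : ∀ c ∈ Z, d * c * d⁻¹ = c⁻¹) {a : G} (ha : a ∈ conjugatesOf d) :
    ∀ c ∈ Z, a * c * a⁻¹ = c⁻¹ := by
  have ha' : IsConj d a := ha
  obtain ⟨g, rfl⟩ := isConj_iff.mp ha'
  intro c hc
  have h1 : g⁻¹ * c * g ∈ Z := by
    have := (inferInstance : Z.Normal).conj_mem c hc g⁻¹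
    simpa using this
  have h2 := hinv _ h1
  calc g * d * g⁻¹ * c * (g * d * g⁻¹)⁻¹ = g * (d * (g⁻¹ * c * g) * d⁻¹) * g⁻¹ := by group
    _ = g * (g⁻¹ * c * g)⁻¹ * g⁻¹ := by rw [h2]
    _ = c⁻¹ := by group

theorem conj_sq {d : G} (hd : d * d = 1) {a : G} (ha : a ∈ conjugatesOf d) : a * a = 1 := by
  have ha' : IsConj d a := ha
  obtain ⟨g, rfl⟩ := isConj_iff.mp ha'
  calc g * d * g⁻¹ * (g * d * g⁻¹) = g * (d * d) * g⁻¹ := by group
    _ = 1 := by rw [hd]; group

/-- In a subgroup of odd order every element is a square (of an element of the subgroup). -/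
theorem exists_sq_root {Z : Subgroup G} (hodd : Odd (Nat.card Z)) {u : G} (hu : u ∈ Z) :
    ∃ z ∈ Z, z ^ 2 = u := by
  obtain ⟨k, hk⟩ := hodd
  refine ⟨u ^ (k + 1), Z.pow_mem hu _, ?_⟩
  have h1 : u ^ Nat.card Z = 1 := by
    have h2 : (⟨u, hu⟩ : Z) ^ Nat.card Z = 1 := pow_card_eq_one'
    have h3 := congrArg Subtype.val h2
    rwa [Subgroup.coe_pow, Subgroup.coe_one] at h3
  calc (u ^ (k + 1)) ^ 2 = u ^ (2 * k + 1) * u := by
        rw [← pow_mul, ← pow_succ]; congr 1; ring
    _ = u := by rw [← hk, h1, one_mul]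

theorem exists_fourth_root {Z : Subgroup G} (hodd : Odd (Nat.card Z)) {u : G} (hu : u ∈ Z) :
    ∃ z ∈ Z, z ^ 4 = u := by
  obtain ⟨w, hw, hw2⟩ := exists_sq_root hodd hu
  obtain ⟨z, hz, hz2⟩ := exists_sq_root hodd hw
  refine ⟨z, hz, ?_⟩
  calc z ^ 4 = (z ^ 2) ^ 2 := by rw [← pow_mul]
    _ = u := by rw [hz2, hw2]

/-- Lifting a commuting pair from the quotient: some `Z`-conjugate of `b` commutes with `a`. -/
theorem lift_commute {Z : Subgroup G} [Z.Normal] {d : G}
    (hodd : Odd (Nat.card Z)) (hinv : ∀ c ∈ Z, d * c * d⁻¹ = c⁻¹)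
    {a b : G} (ha : a ∈ conjugatesOf d) (hb : b ∈ conjugatesOf d)
    (hab : Commute (QuotientGroup.mk a : G ⧸ Z) (QuotientGroup.mk b)) :
    ∃ z ∈ Z, Commute a (z * b * z⁻¹) := by
  have hu : a * b * a⁻¹ * b⁻¹ ∈ Z := by
    rw [← QuotientGroup.eq_one_iff]
    have h1 : ((a * b * a⁻¹ * b⁻¹ : G) : G ⧸ Z)
        = (a : G ⧸ Z) * (b : G ⧸ Z) * (a : G ⧸ Z)⁻¹ * (b : G ⧸ Z)⁻¹ := by
      simp
    rw [h1, hab.eq]
    group
  obtain ⟨z, hz, hz4⟩ := exists_fourth_root hodd hu
  refine ⟨z, hz, ?_⟩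
  have ia := conj_inverts hinv ha z hz
  have ib := conj_inverts hinv hb z hz
  have e1 : a * z = z⁻¹ * a := by
    calc a * z = (a * z * a⁻¹) * a := by group
      _ = z⁻¹ * a := by rw [ia]
  have e2 : b * z⁻¹ = z * b := by
    calc b * z⁻¹ = (b * z * b⁻¹)⁻¹ * b := by group
      _ = z * b := by rw [ib, inv_inv]
  have e3 : z * z * z * z = a * b * a⁻¹ * b⁻¹ := by
    rw [← hz4, pow_succ, pow_succ, pow_succ, pow_one]
  show a * (z * b * z⁻¹) = z * b * z⁻¹ * a
  calc a * (z * b * z⁻¹) = a * (z * (b * z⁻¹)) := by group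
    _ = a * (z * (z * b)) := by rw [e2]
    _ = (a * z) * (z * b) := by group
    _ = (z⁻¹ * a) * (z * b) := by rw [e1]
    _ = z⁻¹ * ((a * z) * b) := by group
    _ = z⁻¹ * ((z⁻¹ * a) * b) := by rw [e1]
    _ = z⁻¹ * z⁻¹ * (a * b * a⁻¹ * b⁻¹) * b * a := by group
    _ = z⁻¹ * z⁻¹ * (z * z * z * z) * b * a := by rw [e3]
    _ = z * (z * b) * a := by simp only [mul_assoc, inv_mul_cancel_left]
    _ = z * (b * z⁻¹) * a := by rw [e2]
    _ = z * b * z⁻¹ * a := by group

/-- Two conjugates of `d` with the same image in `G ⧸ Z` are conjugate under `Z`. -/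
theorem same_fiber {Z : Subgroup G} [Z.Normal] {d : G} (hd : d * d = 1)
    (hodd : Odd (Nat.card Z)) (hinv : ∀ c ∈ Z, d * c * d⁻¹ = c⁻¹)
    {a b : G} (ha : a ∈ conjugatesOf d) (hb : b ∈ conjugatesOf d)
    (hab : (QuotientGroup.mk a : G ⧸ Z) = QuotientGroup.mk b) :
    ∃ z ∈ Z, z * b * z⁻¹ = a := by
  have hw : a⁻¹ * b ∈ Z := QuotientGroup.eq.mp hab
  obtain ⟨z, hz, hz2⟩ := exists_sq_root hodd hw
  refine ⟨z, hz, ?_⟩
  have ib := conj_inverts hinv hb z hz
  have haa := conj_sq hd ha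
  have hbb := conj_sq hd hb
  have e2 : b * z⁻¹ = z * b := by
    calc b * z⁻¹ = (b * z * b⁻¹)⁻¹ * b := by group
      _ = z * b := by rw [ib, inv_inv]
  calc z * b * z⁻¹ = z * (b * z⁻¹) := by group
    _ = z * (z * b) := by rw [e2]
    _ = z ^ 2 * b := by rw [sq, mul_assoc]
    _ = a⁻¹ * b * b := by rw [hz2]
    _ = a⁻¹ * (b * b) := by group
    _ = a⁻¹ := by rw [hbb, mul_one]
    _ = a := inv_eq_of_mul_eq_one_left haa

theorem exists_lift_conj {Z : Subgroup G} [Z.Normal] {d : G} {y : G ⧸ Z}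
    (hy : y ∈ conjugatesOf (QuotientGroup.mk d : G ⧸ Z)) :
    ∃ c ∈ conjugatesOf d, (QuotientGroup.mk c : G ⧸ Z) = y := by
  have hy' : IsConj (QuotientGroup.mk d : G ⧸ Z) y := hy
  obtain ⟨q, rfl⟩ := isConj_iff.mp hy'
  obtain ⟨g, rfl⟩ := QuotientGroup.mk_surjective q
  refine ⟨g * d * g⁻¹, conj_mem_conjugatesOf g mem_conjugatesOf_self, ?_⟩
  simp

/-- Walks in the commuting graph of the quotient class lift, up to `Z`-conjugacy of the endpoint. -/
theorem lift_walk {Z : Subgroup G} [Z.Normal] {d : G} (hd : d * d = 1)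
    (hodd : Odd (Nat.card Z)) (hinv : ∀ c ∈ Z, d * c * d⁻¹ = c⁻¹)
    {x y : conjugatesOf (QuotientGroup.mk d : G ⧸ Z)}
    (p : (Cfsg.commutingGraph (conjugatesOf (QuotientGroup.mk d : G ⧸ Z))).Walk x y) :
    ∀ a ∈ conjugatesOf d, (QuotientGroup.mk a : G ⧸ Z) = x.val →
    ∀ b ∈ conjugatesOf d, (QuotientGroup.mk b : G ⧸ Z) = y.val →
      ∃ z ∈ Z, Reach d a (z * b * z⁻¹) := by
  induction p with
  | nil =>
    intro a ha hax b hb hby
    obtain ⟨z, hz, hzb⟩ := same_fiber hd hodd hinv ha hb (hax.trans hby.symm)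
    exact ⟨z, hz, by rw [hzb]⟩
  | @cons u v w hadj p ih =>
    intro a ha hax b hb hby
    obtain ⟨c, hc, hcv⟩ := exists_lift_conj v.property
    have hcomm : Commute (QuotientGroup.mk a : G ⧸ Z) (QuotientGroup.mk c) := by
      rw [hax, hcv]
      unfold Cfsg.commutingGraph at hadj
      rw [SimpleGraph.fromRel_adj] at hadj
      rcases hadj.2 with h | h
      · exact h
      · exact h.symm
    obtain ⟨z, hz, hzc⟩ := lift_commute hodd hinv ha hc hcomm
    have hc' : z * c * z⁻¹ ∈ conjugatesOf d := conj_mem_conjugatesOf z hc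
    have hc'v : (QuotientGroup.mk (z * c * z⁻¹) : G ⧸ Z) = v.val := by
      rw [← hcv]
      have hz1 : (QuotientGroup.mk z : G ⧸ Z) = 1 := (QuotientGroup.eq_one_iff z).mpr hz
      simp [hz1]
    obtain ⟨z', hz', hr⟩ := ih _ hc' hc'v b hb hby
    refine ⟨z', hz', ?_⟩
    exact Relation.ReflTransGen.head ⟨ha, hc', hzc⟩ hr

theorem commutator_central_left {z x w : G} (h1 : Commute z x) (h2 : Commute z w) :
    ⁅z * x, w⁆ = ⁅x, w⁆ := by
  have hc : Commute z (x * w * x⁻¹) := (h1.mul_right h2).mul_right h1.inv_right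
  rw [commutatorElement_def, commutatorElement_def]
  calc z * x * w * (z * x)⁻¹ * w⁻¹ = z * (x * w * x⁻¹) * z⁻¹ * w⁻¹ := by group
    _ = (x * w * x⁻¹) * z * z⁻¹ * w⁻¹ := by rw [hc.eq]
    _ = x * w * x⁻¹ * w⁻¹ := by group

theorem commutator_central_right {z x w : G} (h1 : Commute z x) (h2 : Commute z w) :
    ⁅x, z * w⁆ = ⁅x, w⁆ := by
  rw [← commutatorElement_inv (z * w) x, commutator_central_left h2 h1, commutatorElement_inv]

end main

theorem result {G : Type*} [Group G] [Finite G] (L : Subgroup G) [L.Normal] (hL : Cfsg.IsQuasisimple ↥L) (d : G) (hd : orderOf d = 2) (hgen : L ⊔ Subgroup.zpowers d = ⊤) (hodd : Odd (Nat.card ↥(Subgroup.center ↥L))) (hinv : ∀ c ∈ (Subgroup.center ↥L).map L.subtype, d * c * d⁻¹ = c⁻¹) [hn : ((Subgroup.center ↥L).map L.subtype).Normal] (hconn : (Cfsg.commutingGraph (conjugatesOf (QuotientGroup.mk d : G ⧸ (Subgroup.center ↥L).map L.subtype))).Connected) : (Cfsg.commutingGraph (conjugatesOf d)).Connected := by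
  have hdd : d * d = 1 := by
    have := pow_orderOf_eq_one d
    rw [hd, sq] at this
    exact this
  have hodd' : Odd (Nat.card ↥((Subgroup.center ↥L).map L.subtype)) := by
    have e := (Subgroup.equivMapOfInjective (Subgroup.center ↥L) L.subtype L.subtype_injective)
    rw [← Nat.card_congr e.toEquiv]
    exact hodd
  have hZL : (Subgroup.center ↥L).map L.subtype ≤ L := Subgroup.map_subtype_le _
  -- central elements commute with L
  have hcentral : ∀ z ∈ (Subgroup.center ↥L).map L.subtype, ∀ x ∈ L, Commute z x := by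
    intro z hz x hx
    obtain ⟨c, hc, rfl⟩ := Subgroup.mem_map.mp hz
    have h1 : c * ⟨x, hx⟩ = ⟨x, hx⟩ * c := by
      have := Subgroup.mem_center_iff.mp hc ⟨x, hx⟩
      exact this.symm
    have h2 : (c : G) * x = x * (c : G) := by simpa using congrArg Subtype.val h1
    exact h2
  -- every element can be corrected by a central element to lie in the reach subgroup
  have hkey : ∀ g : G, ∃ z ∈ (Subgroup.center ↥L).map L.subtype, z * g ∈ reachSubgroup d := by
    intro g
    have hx : (QuotientGroup.mk d : G ⧸ (Subgroup.center ↥L).map L.subtype)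
        ∈ conjugatesOf (QuotientGroup.mk d : G ⧸ (Subgroup.center ↥L).map L.subtype) :=
      mem_conjugatesOf_self
    have hb : g * d * g⁻¹ ∈ conjugatesOf d := conj_mem_conjugatesOf g mem_conjugatesOf_self
    have hy : (QuotientGroup.mk (g * d * g⁻¹) : G ⧸ (Subgroup.center ↥L).map L.subtype)
        ∈ conjugatesOf (QuotientGroup.mk d : G ⧸ (Subgroup.center ↥L).map L.subtype) := by
      show IsConj _ _
      refine isConj_iff.mpr ⟨QuotientGroup.mk g, ?_⟩
      simp
    obtain ⟨p⟩ := hconn.preconnected ⟨_, hx⟩ ⟨_, hy⟩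
    obtain ⟨z, hz, hr⟩ := lift_walk hdd hodd' hinv p d mem_conjugatesOf_self rfl
      (g * d * g⁻¹) hb rfl
    refine ⟨z, hz, ?_⟩
    rw [mem_reachSubgroup]
    have : z * g * d * (z * g)⁻¹ = z * (g * d * g⁻¹) * z⁻¹ := by group
    rw [this]
    exact hr
  -- L is contained in the reach subgroup, by perfectness
  have hperf : ⁅L, L⁆ = L := Subgroup.isPerfect_iff.mp hL.1
  have hLH : L ≤ reachSubgroup d := by
    rw [← hperf, Subgroup.commutator_le]
    intro x hx y hy
    obtain ⟨z, hz, hzx⟩ := hkey x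
    obtain ⟨z', hz', hzy⟩ := hkey y
    have hcomm : ⁅z * x, z' * y⁆ ∈ reachSubgroup d := by
      rw [commutatorElement_def]
      exact Subgroup.mul_mem _ (Subgroup.mul_mem _ (Subgroup.mul_mem _ hzx hzy)
        (Subgroup.inv_mem _ hzx)) (Subgroup.inv_mem _ hzy)
    have e1 : ⁅z * x, z' * y⁆ = ⁅x, z' * y⁆ :=
      commutator_central_left (hcentral z hz x hx)
        (hcentral z hz (z' * y) (L.mul_mem (hZL hz') hy))
    have e2 : ⁅x, z' * y⁆ = ⁅x, y⁆ :=
      commutator_central_right (hcentral z' hz' x hx) (hcentral z' hz' y hy)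
    rw [e1, e2] at hcomm
    exact hcomm
  have hdH : d ∈ reachSubgroup d := by
    rw [mem_reachSubgroup]
    have : d * d * d⁻¹ = d := by group
    rw [this]
  have htop : reachSubgroup d = ⊤ := by
    apply top_unique
    rw [← hgen]
    exact sup_le hLH ((Subgroup.zpowers_le).mpr hdH)
  rw [SimpleGraph.connected_iff_exists_forall_reachable]
  refine ⟨⟨d, mem_conjugatesOf_self⟩, ?_⟩
  rintro ⟨w, hw⟩
  have hw' : IsConj d w := hw
  obtain ⟨g, rfl⟩ := isConj_iff.mp hw'
  have hg : g ∈ reachSubgroup d := by rw [htop]; trivial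
  rw [mem_reachSubgroup] at hg
  obtain ⟨_, hreach⟩ := reach_to_graph (mem_conjugatesOf_self (a := d)) hg
  exact hreach

end Cfsg.Agent.S5459
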