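import Cfsg.Statements.S5515
import Cfsg.Agent.S2608
import Cfsg.Agent.S1265
import Cfsg.Agent.Lib.Helper36.Tri.SymThree
import Cfsg.Agent.Lib.Helper36.AutO.AutCount
-- import your own Cfsg.Agent.* helpers here

set_option autoImplicit false
open Cfsg

namespace Cfsg.Agent.S5515

/-- Let G and G′ be finite groups whose generalized Fitting subgroups are isomorphic to PΩ⁺(8, 3) (the commutator subgroup of the isometry group of the hyperbolic quadratic form in dimension 8 over the field with three elements, modulo its centre) with quotients isomorphic to the symmetric group of degree 3. Then G and G′ are isomorphic. -/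
theorem result {G G' : Type*} [Group G] [Finite G] [Group G'] [Finite G'] (hF : Nonempty (↥(Cfsg.generalizedFittingSubgroup G) ≃* Cfsg.POmega (ZMod 3) (Cfsg.quadFormPlus 4 (ZMod 3)))) (hF' : Nonempty (↥(Cfsg.generalizedFittingSubgroup G') ≃* Cfsg.POmega (ZMod 3) (Cfsg.quadFormPlus 4 (ZMod 3)))) [hn : (Cfsg.generalizedFittingSubgroup G).Normal] [hn' : (Cfsg.generalizedFittingSubgroup G').Normal] (hq : Nonempty (G ⧸ Cfsg.generalizedFittingSubgroup G ≃* Equiv.Perm (Fin 3))) (hq' : Nonempty (G' ⧸ Cfsg.generalizedFittingSubgroup G' ≃* Equiv.Perm (Fin 3))) : Nonempty (G ≃* G') := by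
  classical
  obtain ⟨e⟩ := hF
  obtain ⟨e'⟩ := hF'
  have hcard : Fintype.card (Fin 4 ⊕ Fin 4) = 8 := by
    rw [Fintype.card_sum, Fintype.card_fin]
  have h7 : 7 ≤ Fintype.card (Fin 4 ⊕ Fin 4) := by rw [hcard]; norm_num
  have hZ : Subgroup.center (Cfsg.POmega (ZMod 3) (Cfsg.quadFormPlus 4 (ZMod 3))) = ⊥ :=
    Cfsg.Agent.Lib.Helper36.AutO.center_POmega_eq_bot (Cfsg.Agent.Lib.Helper44.hypQF 4 (ZMod 3))
      Cfsg.Agent.Lib.Helper44.hypQF_nondeg h7
  have : Fact (Nat.Prime 3) := ⟨Nat.prime_three⟩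
  have hout := Cfsg.Agent.S2608.result (F := ZMod 3) (p := 3) (f := 1) (m := 4) le_rfl
    (by rw [ZMod.card, pow_one]) (by norm_num) le_rfl
  rw [if_pos rfl] at hout
  obtain ⟨ε₀⟩ := hout
  have : Unique (Multiplicative (ZMod 1)) := inferInstanceAs (Unique (Fin 1))
  set ε : Cfsg.Out (Cfsg.POmega (ZMod 3) (Cfsg.quadFormPlus 4 (ZMod 3))) ≃* Equiv.Perm (Fin 4) :=
    ε₀.trans MulEquiv.prodUnique with hε
  obtain ⟨ρ, hρ, hL⟩ := Cfsg.Agent.Lib.Helper36.Tri.exists_hom_aut_of_self_centralizing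
    (Cfsg.generalizedFittingSubgroup G) e Cfsg.Agent.S1265.result hZ
  obtain ⟨ρ', hρ', hL'⟩ := Cfsg.Agent.Lib.Helper36.Tri.exists_hom_aut_of_self_centralizing
    (Cfsg.generalizedFittingSubgroup G') e' Cfsg.Agent.S1265.result hZ
  exact Cfsg.Agent.Lib.Helper36.Tri.equiv_of_conj_images
    (Cfsg.Inn (Cfsg.POmega (ZMod 3) (Cfsg.quadFormPlus 4 (ZMod 3)))) ε
    Cfsg.Agent.Lib.Helper36.Tri.perm4_conj_of_equiv_perm3
    (Cfsg.generalizedFittingSubgroup G) (Cfsg.generalizedFittingSubgroup G')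
    ρ hρ hL ρ' hρ' hL' hq hq'

end Cfsg.Agent.S5515
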