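import Cfsg.Statements.S5541
-- import your own Cfsg.Agent.* helpers here

set_option autoImplicit false
open Cfsg

namespace Cfsg.Agent.S5541

/-- Let ρ be a representation of a group H on a finite-dimensional real vector space U whose only ρ-invariant subspaces are the zero subspace and U, and suppose U carries a non-zero ρ-invariant symmetric bilinear form. Then the following are equivalent: (1) there is a non-zero ρ-equivariant commutative bilinear product on U of which every ρ-equivariant bilinear product is a scalar multiple; (2) there is a non-zero ρ-invariant trilinear form on U that is symmetric under all permutations of its arguments and of which every ρ-invariant trilinear form is a scalar multiple. -/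
theorem result {H : Type*} [Group H] {U : Type*} [AddCommGroup U] [Module ℝ U] [FiniteDimensional ℝ U] (ρ : Representation ℝ H U) (hirr : ∀ W : Submodule ℝ U, (∀ g : H, W.map (ρ g) ≤ W) → W = ⊥ ∨ W = ⊤) (B : LinearMap.BilinForm ℝ U) (hB0 : B ≠ 0) (hBs : ∀ u v, B u v = B v u) (hBi : ∀ (g : H) (u v : U), B (ρ g u) (ρ g v) = B u v) : (∃ m : U →ₗ[ℝ] U →ₗ[ℝ] U, m ≠ 0 ∧ (∀ u v, m u v = m v u) ∧ (∀ (g : H) (u v : U), m (ρ g u) (ρ g v) = ρ g (m u v)) ∧ ∀ m' : U →ₗ[ℝ] U →ₗ[ℝ] U, (∀ (g : H) (u v : U), m' (ρ g u) (ρ g v) = ρ g (m' u v)) → ∃ c : ℝ, m' = c • m) ↔ (∃ t : U →ₗ[ℝ] U →ₗ[ℝ] U →ₗ[ℝ] ℝ, t ≠ 0 ∧ (∀ u v w, t u v w = t v u w ∧ t u v w = t u w v) ∧ (∀ (g : H) (u v w : U), t (ρ g u) (ρ g v) (ρ g w) = t u v w) ∧ ∀ t' : U →ₗ[ℝ] U →ₗ[ℝ] U →ₗ[ℝ] ℝ, (∀ (g : H) (u v w : U), t' (ρ g u) (ρ g v) (ρ g w) = t' u v w) → ∃ c : ℝ, t' = c • t) := by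
  classical
  -- the kernel of B is invariant, hence trivial
  have hρinv : ∀ (g : H) (v : U), ρ g (ρ g⁻¹ v) = v := by
    intro g v
    have : (ρ g * ρ g⁻¹) v = v := by
      rw [← map_mul, mul_inv_cancel, map_one]; rfl
    exact this
  have hker : LinearMap.ker B = ⊥ := by
    have hinvar : ∀ g : H, (LinearMap.ker B).map (ρ g) ≤ LinearMap.ker B := by
      intro g
      rintro _ ⟨u, hu, rfl⟩
      rw [SetLike.mem_coe, LinearMap.mem_ker] at hu
      rw [LinearMap.mem_ker]
      ext v
      have h1 : B (ρ g u) v = B (ρ g u) (ρ g (ρ g⁻¹ v)) := by rw [hρinv]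
      rw [h1, hBi, hu]
      rfl
    rcases hirr (LinearMap.ker B) hinvar with h | h
    · exact h
    · exfalso
      apply hB0
      ext u v
      have : u ∈ LinearMap.ker B := by rw [h]; trivial
      rw [LinearMap.mem_ker] at this
      rw [this]
      rfl
  have hinj : Function.Injective B := LinearMap.ker_eq_bot.mp hker
  have hnd : ∀ x y : U, (∀ w, B x w = B y w) → x = y := by
    intro x y h
    apply hinj
    ext w
    exact h w
  let e : U ≃ₗ[ℝ] Module.Dual ℝ U :=
    LinearMap.linearEquivOfInjective B hinj Subspace.dual_finrank_eq.symm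
  have he : ∀ (f : Module.Dual ℝ U) (w : U), B (e.symm f) w = f w := by
    intro f w
    have h1 : e (e.symm f) = f := e.apply_symm_apply f
    have h2 : e (e.symm f) = B (e.symm f) := LinearMap.linearEquivOfInjective_apply _ _ _
    rw [← h2, h1]
  -- equivariance <-> invariance
  have equiv_of_inv : ∀ m : U →ₗ[ℝ] U →ₗ[ℝ] U,
      (∀ (g : H) (u v w : U), B (m (ρ g u) (ρ g v)) (ρ g w) = B (m u v) w) →
      ∀ (g : H) (u v : U), m (ρ g u) (ρ g v) = ρ g (m u v) := by
    intro m hm g u v
    apply hnd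
    intro w'
    have hw : w' = ρ g (ρ g⁻¹ w') := (hρinv g w').symm
    rw [hw, hm, hBi]
  have inv_of_equiv : ∀ m : U →ₗ[ℝ] U →ₗ[ℝ] U,
      (∀ (g : H) (u v : U), m (ρ g u) (ρ g v) = ρ g (m u v)) →
      ∀ (g : H) (u v w : U), B (m (ρ g u) (ρ g v)) (ρ g w) = B (m u v) w := by
    intro m hm g u v w
    rw [hm, hBi]
  constructor
  · -- (1) → (2)
    rintro ⟨m, hm0, hmc, hme, hmu⟩
    -- t = Φ m
    set t : U →ₗ[ℝ] U →ₗ[ℝ] U →ₗ[ℝ] ℝ := m.compr₂ B with ht
    have htapp : ∀ u v w, t u v w = B (m u v) w := fun u v w => by rw [ht, LinearMap.compr₂_apply]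
    have ht0 : t ≠ 0 := by
      intro h0
      apply hm0
      ext u v
      apply hnd
      intro w
      rw [← htapp, h0]
      simp
    have htinv : ∀ (g : H) (u v w : U), t (ρ g u) (ρ g v) (ρ g w) = t u v w := by
      intro g u v w
      rw [htapp, htapp]
      exact inv_of_equiv m hme g u v w
    have htuniq : ∀ t' : U →ₗ[ℝ] U →ₗ[ℝ] U →ₗ[ℝ] ℝ,
        (∀ (g : H) (u v w : U), t' (ρ g u) (ρ g v) (ρ g w) = t' u v w) → ∃ c : ℝ, t' = c • t := by
      intro t' ht'
      set m' : U →ₗ[ℝ] U →ₗ[ℝ] U := t'.compr₂ (e.symm : Module.Dual ℝ U →ₗ[ℝ] U) with hm'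
      have hm'app : ∀ u v w, B (m' u v) w = t' u v w := by
        intro u v w
        rw [hm', LinearMap.compr₂_apply]
        exact he _ _
      have hm'e : ∀ (g : H) (u v : U), m' (ρ g u) (ρ g v) = ρ g (m' u v) := by
        apply equiv_of_inv
        intro g u v w
        rw [hm'app, hm'app, ht']
      obtain ⟨c, hc⟩ := hmu m' hm'e
      refine ⟨c, ?_⟩
      ext u v w
      rw [← hm'app, hc]
      simp only [LinearMap.smul_apply, map_smul, htapp]
    have hsym1 : ∀ u v w, t u v w = t v u w := by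
      intro u v w
      rw [htapp, htapp, hmc]
    -- the flipped form
    set t' : U →ₗ[ℝ] U →ₗ[ℝ] U →ₗ[ℝ] ℝ := (LinearMap.lflip (R := ℝ) (R₂ := ℝ) (M := U) (N := U) (P := ℝ)).comp t with ht'
    have ht'app : ∀ u v w, t' u v w = t u w v := by
      intro u v w
      rw [ht']
      rfl
    have ht'inv : ∀ (g : H) (u v w : U), t' (ρ g u) (ρ g v) (ρ g w) = t' u v w := by
      intro g u v w
      rw [ht'app, ht'app, htinv]
    obtain ⟨c, hc⟩ := htuniq t' ht'inv
    have hflip : ∀ u v w, t u w v = c * t u v w := by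
      intro u v w
      rw [← ht'app, hc]
      simp
    -- some nonzero value
    have hex : ∃ u v w, t u v w ≠ 0 := by
      by_contra hno
      push Not at hno
      apply ht0
      ext u v w
      rw [hno]
      simp
    obtain ⟨u0, v0, w0, h0⟩ := hex
    have hc2 : c * c = 1 := by
      have h1 := hflip u0 v0 w0
      have h2 := hflip u0 w0 v0
      rw [h1] at h2
      have : (c * c - 1) * t u0 v0 w0 = 0 := by linarith
      rcases mul_eq_zero.mp this with h | h
      · linarith
      · exact absurd h h0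
    have hc1 : c = 1 := by
      have : (c - 1) * (c + 1) = 0 := by ring_nf; linarith
      rcases mul_eq_zero.mp this with h | h
      · linarith
      · exfalso
        have hcm : c = -1 := by linarith
        have hanti : ∀ u v w, t u w v = - t u v w := by
          intro u v w
          rw [hflip, hcm]
          ring
        apply h0
        have e1 : t u0 v0 w0 = - t u0 w0 v0 := by rw [hanti u0 v0 w0]; ring
        have e2 : t u0 w0 v0 = t w0 u0 v0 := hsym1 _ _ _
        have e3 : t w0 u0 v0 = - t w0 v0 u0 := by rw [hanti w0 u0 v0]; ring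
        have e4 : t w0 v0 u0 = t v0 w0 u0 := hsym1 _ _ _
        have e5 : t v0 w0 u0 = - t v0 u0 w0 := by rw [hanti v0 w0 u0]; ring
        have e6 : t v0 u0 w0 = t u0 v0 w0 := hsym1 _ _ _
        linarith
    refine ⟨t, ht0, ?_, htinv, htuniq⟩
    intro u v w
    refine ⟨hsym1 u v w, ?_⟩
    have := hflip u v w
    rw [hc1, one_mul] at this
    exact this.symm
  · -- (2) → (1)
    rintro ⟨t, ht0, hts, htinv, htu⟩
    set m : U →ₗ[ℝ] U →ₗ[ℝ] U := t.compr₂ (e.symm : Module.Dual ℝ U →ₗ[ℝ] U) with hm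
    have hmapp : ∀ u v w, B (m u v) w = t u v w := by
      intro u v w
      rw [hm, LinearMap.compr₂_apply]
      exact he _ _
    have hm0 : m ≠ 0 := by
      intro h0
      apply ht0
      ext u v w
      rw [← hmapp, h0]
      simp
    have hmc : ∀ u v, m u v = m v u := by
      intro u v
      apply hnd
      intro w
      rw [hmapp, hmapp]
      exact (hts u v w).1
    have hme : ∀ (g : H) (u v : U), m (ρ g u) (ρ g v) = ρ g (m u v) := by
      apply equiv_of_inv
      intro g u v w
      rw [hmapp, hmapp, htinv]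
    refine ⟨m, hm0, hmc, hme, ?_⟩
    intro m' hm'e
    set t' : U →ₗ[ℝ] U →ₗ[ℝ] U →ₗ[ℝ] ℝ := m'.compr₂ B with ht'
    have ht'app : ∀ u v w, t' u v w = B (m' u v) w := fun u v w => by
      rw [ht', LinearMap.compr₂_apply]
    have ht'inv : ∀ (g : H) (u v w : U), t' (ρ g u) (ρ g v) (ρ g w) = t' u v w := by
      intro g u v w
      rw [ht'app, ht'app]
      exact inv_of_equiv m' hm'e g u v w
    obtain ⟨c, hc⟩ := htu t' ht'inv
    refine ⟨c, ?_⟩
    ext u v
    apply hnd
    intro w
    rw [← ht'app, hc]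
    simp only [LinearMap.smul_apply, map_smul, hmapp]

end Cfsg.Agent.S5541
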