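import Cfsg.Statements.S5543
-- import your own Cfsg.Agent.* helpers here

set_option autoImplicit false
open Cfsg

namespace Cfsg.Agent.S5543

open Cfsg.Axial in
/-- Eigenvectors of `mul a` for distinct eigenvalues are orthogonal for an associating symmetric form. -/
theorem eigen_orth {V : Type*} [AddCommGroup V] [Module ℝ V] (mul : V →ₗ[ℝ] V →ₗ[ℝ] V)
    (B : LinearMap.BilinForm ℝ V) (hcomm : IsCommMul mul)
    (hassoc : ∀ u v w : V, B u (mul v w) = B (mul u v) w) (a : V) (c d : ℝ) (hcd : c ≠ d)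
    (s t : V) (hs : s ∈ eigen mul a c) (ht : t ∈ eigen mul a d) : B s t = 0 := by
  have hs' : mul a s = c • s := Module.End.mem_eigenspace_iff.mp hs
  have ht' : mul a t = d • t := Module.End.mem_eigenspace_iff.mp ht
  have e1 : B s (mul a t) = d * B s t := by rw [ht']; simp
  have e2 : B (mul s a) t = c * B s t := by rw [hcomm s a, hs']; simp
  have e3 : d * B s t = c * B s t := by rw [← e1, ← e2]; exact hassoc s a t
  have : (d - c) * B s t = 0 := by linarith
  rcases mul_eq_zero.mp this with h | h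
  · exact absurd (by linarith : c = d) hcd
  · exact h

open Cfsg.Axial in
theorem monsterLaw_quarter : monsterLaw (1 / 4 : ℝ) (1 / 32) (1 / 4) (1 / 4) = {1, 0} := by
  unfold monsterLaw
  rw [if_neg (by norm_num), if_neg (by norm_num), if_pos (by norm_num)]

open Cfsg.Axial in
theorem eigenSum_pair {V : Type*} [AddCommGroup V] [Module ℝ V] (mul : V →ₗ[ℝ] V →ₗ[ℝ] V) (a : V) (c d : ℝ) :
    eigenSum mul a {c, d} = eigen mul a c ⊔ eigen mul a d := by
  unfold eigenSum
  rw [iSup_insert, iSup_singleton]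

/-- A subgroup all of whose elements lie in a finset has at most that many elements. -/
theorem card_le_of_subset_finset {G : Type*} [Group G] (X : Subgroup G) (S : Finset G)
    (h : ∀ g ∈ X, g ∈ S) : Nat.card ↥X ≤ S.card := by
  have h1 : Nat.card ↥X = (X : Set G).ncard := (Nat.card_coe_set_eq (X : Set G))
  rw [h1, ← Set.ncard_coe_finset S]
  exact Set.ncard_le_ncard (fun g hg => h g hg) (Finset.finite_toSet S)


/-- Let V be a finite-dimensional real vector space with a commutative bilinear product and a positive-definite symmetric bilinear form that associates with the product and satisfies the Norton inequality (the Majorana setting of the definitions). Let X be a group of linear automorphisms of V in which every element squares to the identity, and suppose every non-identity element x of X is a Majorana involution with an axial vector a(x) of squared length 1, such that for any two distinct non-identity x, y the product a(x) ∘ a(y) equals (1/8)(a(x) + a(y) − a(xy)) (the dihedral subalgebra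 of type 2A whose third axis belongs to the involution xy). Then X has order at most 4. -/
theorem result {V : Type*} [AddCommGroup V] [Module ℝ V] [FiniteDimensional ℝ V] (mul : V →ₗ[ℝ] V →ₗ[ℝ] V) (B : LinearMap.BilinForm ℝ V) (hV : Cfsg.Axial.IsMajoranaAmbient mul B) (X : Subgroup (V ≃ₗ[ℝ] V)) (hX : ∀ x ∈ X, x * x = 1) (ax : (V ≃ₗ[ℝ] V) → V) (hax : ∀ x ∈ X, x ≠ 1 → Cfsg.Axial.IsMajoranaPair mul B x (ax x)) (h1 : ∀ x ∈ X, x ≠ 1 → B (ax x) (ax x) = 1) (h2A : ∀ x ∈ X, ∀ y ∈ X, x ≠ 1 → y ≠ 1 → x ≠ y → mul (ax x) (ax y) = (1 / 8 : ℝ) • (ax x + ax y - ax (x * y))) : Nat.card ↥X ≤ 4 := by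
  classical
  by_contra hcard
  push Not at hcard
  obtain ⟨hcommM, hsymm, hpos, hassoc, -⟩ := hV
  -- basic group facts in X
  have hinv : ∀ g ∈ X, g⁻¹ = g := fun g hg => inv_eq_of_mul_eq_one_left (hX g hg)
  have hcm : ∀ g ∈ X, ∀ h ∈ X, g * h = h * g := by
    intro g hg h hh
    have h1 := hX (g * h) (X.mul_mem hg hh)
    have h2 : (g * h)⁻¹ = g * h := inv_eq_of_mul_eq_one_left h1
    rw [mul_inv_rev, hinv g hg, hinv h hh] at h2
    exact h2.symm
  -- pick three independent elements
  obtain ⟨x, hxX, hx1⟩ : ∃ x ∈ X, x ≠ 1 := by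
    by_contra hno
    push Not at hno
    have := card_le_of_subset_finset X {1} (fun g hg => by simp [hno g hg])
    simp at this
    omega
  obtain ⟨y, hyX, hy⟩ : ∃ y ∈ X, y ∉ ({1, x} : Finset (V ≃ₗ[ℝ] V)) := by
    by_contra hno
    push Not at hno
    have := card_le_of_subset_finset X {1, x} hno
    have h2 : ({1, x} : Finset (V ≃ₗ[ℝ] V)).card ≤ 2 := Finset.card_le_two
    omega
  obtain ⟨z, hzX, hz⟩ : ∃ z ∈ X, z ∉ ({1, x, y, x * y} : Finset (V ≃ₗ[ℝ] V)) := by
    by_contra hno
    push Not at hno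
    have := card_le_of_subset_finset X {1, x, y, x * y} hno
    have h2 : ({1, x, y, x * y} : Finset (V ≃ₗ[ℝ] V)).card ≤ 4 := Finset.card_le_four
    omega
  simp only [Finset.mem_insert, Finset.mem_singleton, not_or] at hy hz
  obtain ⟨hy1, hyx⟩ := hy
  obtain ⟨hz1, hzx, hzy, hzxy⟩ := hz
  have hxx : x * x = 1 := hX x hxX
  have hyy : y * y = 1 := hX y hyX
  have hzz : z * z = 1 := hX z hzX
  -- the eigenvector lemma
  have L1 : ∀ g ∈ X, ∀ h ∈ X, g ≠ 1 → h ≠ 1 → g ≠ h →
      mul (ax g) (ax h - ax (g * h)) = (1 / 4 : ℝ) • (ax h - ax (g * h)) := by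
    intro g hg h hh hg1 hh1 hgh
    have hgg : g * g = 1 := hX g hg
    have e1 := h2A g hg h hh hg1 hh1 hgh
    have hgh1 : g * h ≠ 1 := by
      intro hcon
      apply hgh
      have : h = g⁻¹ := (inv_eq_of_mul_eq_one_right hcon).symm
      rw [this, hinv g hg]
    have hggh : g ≠ g * h := by
      intro hcon
      apply hh1
      have : g * 1 = g * h := by rw [mul_one]; exact hcon
      exact (mul_left_cancel this).symm
    have e2 := h2A g hg (g * h) (X.mul_mem hg hh) hg1 hgh1 hggh
    have e3 : g * (g * h) = h := by rw [← mul_assoc, hgg, one_mul]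
    rw [e3] at e2
    rw [map_sub, e1, e2]
    module
  -- group identities
  have hxyX : x * y ∈ X := X.mul_mem hxX hyX
  have hxzX : x * z ∈ X := X.mul_mem hxX hzX
  have hyzX : y * z ∈ X := X.mul_mem hyX hzX
  have hxy_comm : x * y = y * x := hcm x hxX y hyX
  have hxz_comm : x * z = z * x := hcm x hxX z hzX
  have hyz_comm : y * z = z * y := hcm y hyX z hzX
  have id1 : y * (x * z) = x * (y * z) := by
    rw [← mul_assoc, ← mul_assoc, hxy_comm]
  have id2 : (x * y) * z = x * (y * z) := mul_assoc x y z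
  have id3 : (x * y) * (x * z) = y * z := by
    calc (x * y) * (x * z) = (y * x) * (x * z) := by rw [hxy_comm]
      _ = y * (x * x) * z := by group
      _ = y * z := by rw [hxx, mul_one]
  -- nontriviality facts
  have hxy1 : x * y ≠ 1 := by
    intro hcon
    apply hyx
    have : y = x⁻¹ := (inv_eq_of_mul_eq_one_right hcon).symm
    rw [this, hinv x hxX]
  have hxz1 : x * z ≠ 1 := by
    intro hcon
    apply hzx
    have : z = x⁻¹ := (inv_eq_of_mul_eq_one_right hcon).symm
    rw [this, hinv x hxX]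
  have hyz1 : y * z ≠ 1 := by
    intro hcon
    apply hzy
    have : z = y⁻¹ := (inv_eq_of_mul_eq_one_right hcon).symm
    rw [this, hinv y hyX]
  have hyz_ne : y ≠ z := fun h => hzy h.symm
  have hy_xz : y ≠ x * z := by
    intro hcon
    apply hzxy
    calc z = (x * x) * z := by rw [hxx, one_mul]
      _ = x * (x * z) := by group
      _ = x * y := by rw [← hcon]
  have hxy_z : x * y ≠ z := fun h => hzxy h.symm
  have hxy_xz : x * y ≠ x * z := fun h => hyz_ne (mul_left_cancel h)
  have hx_yz : x ≠ y * z := by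
    intro hcon
    apply hzxy
    calc z = (y * y) * z := by rw [hyy, one_mul]
      _ = y * (y * z) := by group
      _ = y * x := by rw [← hcon]
      _ = x * y := hxy_comm.symm
  -- the three 1/4-eigenvectors for ax x
  have hu := L1 x hxX y hyX hx1 hy1 (fun h => hyx h.symm)
  have hv := L1 x hxX z hzX hx1 hz1 (fun h => hzx h.symm)
  have hw := L1 x hxX (y * z) hyzX hx1 hyz1 hx_yz
  set u : V := ax y - ax (x * y) with hu_def
  set v : V := ax z - ax (x * z) with hv_def
  set w : V := ax (y * z) - ax (x * (y * z)) with hw_def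
  -- the product u v
  have p1 := h2A y hyX z hzX hy1 hz1 hyz_ne
  have p2 := h2A y hyX (x * z) hxzX hy1 hxz1 hy_xz
  have p3 := h2A (x * y) hxyX z hzX hxy1 hz1 hxy_z
  have p4 := h2A (x * y) hxyX (x * z) hxzX hxy1 hxz1 hxy_xz
  rw [id1] at p2
  rw [id2] at p3
  rw [id3] at p4
  have huv : mul u v = (-(1 / 4) : ℝ) • w := by
    rw [hu_def, hv_def, hw_def]
    simp only [map_sub, LinearMap.sub_apply]
    rw [p1, p2, p3, p4]
    module
  -- fusion law
  obtain ⟨-, -, ⟨⟨hne0, hidem, -, hfus⟩, -⟩, -⟩ := hax x hxX hx1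
  have hqS : (1 / 4 : ℝ) ∈ Cfsg.Axial.majoranaSpectrum := by
    unfold Cfsg.Axial.majoranaSpectrum
    simp
  have hu_mem : u ∈ Cfsg.Axial.eigen mul (ax x) (1 / 4) := Module.End.mem_eigenspace_iff.mpr hu
  have hv_mem : v ∈ Cfsg.Axial.eigen mul (ax x) (1 / 4) := Module.End.mem_eigenspace_iff.mpr hv
  have hw_mem : w ∈ Cfsg.Axial.eigen mul (ax x) (1 / 4) := Module.End.mem_eigenspace_iff.mpr hw
  have hfuv := hfus (1 / 4) hqS (1 / 4) hqS u hu_mem v hv_mem
  rw [monsterLaw_quarter, eigenSum_pair, huv] at hfuv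
  have hw_sum : w ∈ Cfsg.Axial.eigen mul (ax x) 1 ⊔ Cfsg.Axial.eigen mul (ax x) 0 := by
    have := Submodule.smul_mem _ (-4 : ℝ) hfuv
    rw [smul_smul] at this
    norm_num at this
    exact this
  obtain ⟨w1, hw1, w0, hw0, hsum⟩ := Submodule.mem_sup.mp hw_sum
  have o1 : B w w1 = 0 := eigen_orth mul B hcommM hassoc (ax x) (1 / 4) 1 (by norm_num) w w1 hw_mem hw1
  have o0 : B w w0 = 0 := eigen_orth mul B hcommM hassoc (ax x) (1 / 4) 0 (by norm_num) w w0 hw_mem hw0
  have hBww : B w w = 0 := by
    have : B w w = B w (w1 + w0) := by rw [hsum]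
    rw [this, map_add, o1, o0, add_zero]
  have hw0' : w = 0 := by
    by_contra hne
    have := hpos w hne
    linarith
  -- so ax (y*z) = ax (x*(y*z))
  have heq : ax (y * z) = ax (x * (y * z)) := sub_eq_zero.mp hw0'
  -- contradiction from the product of these two axes
  have hq1 : x * (y * z) ≠ 1 := by
    intro hcon
    apply hx_yz
    have : y * z = x⁻¹ := (inv_eq_of_mul_eq_one_right hcon).symm
    rw [this, hinv x hxX]
  have hpq : y * z ≠ x * (y * z) := by
    intro hcon
    apply hx1
    have : 1 * (y * z) = x * (y * z) := by rw [one_mul]; exact hcon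
    exact (mul_right_cancel this).symm
  have hxyzX : x * (y * z) ∈ X := X.mul_mem hxX hyzX
  have p5 := h2A (y * z) hyzX (x * (y * z)) hxyzX hyz1 hq1 hpq
  have id5 : (y * z) * (x * (y * z)) = x := by
    calc (y * z) * (x * (y * z)) = (x * (y * z)) * (y * z) := hcm _ hyzX _ hxyzX
      _ = x * ((y * z) * (y * z)) := by group
      _ = x := by rw [hX _ hyzX, mul_one]
  rw [id5, ← heq] at p5
  obtain ⟨-, -, ⟨⟨-, hidem_p, -, -⟩, -⟩, -⟩ := hax (y * z) hyzX hyz1
  rw [hidem_p] at p5
  -- p5 : ax (y*z) = (1/8) • (ax (y*z) + ax (y*z) - ax x)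
  have hax_x : ax x = (-6 : ℝ) • ax (y * z) := by
    have h8 : (8 : ℝ) • ax (y * z) = ax (y * z) + ax (y * z) - ax x := by
      conv_lhs => rw [p5]
      rw [smul_smul]
      norm_num
    have : ax x = ax (y * z) + ax (y * z) - (8 : ℝ) • ax (y * z) := by
      rw [h8]; abel
    rw [this]
    module
  have n1 := h1 x hxX hx1
  have n2 := h1 (y * z) hyzX hyz1
  rw [hax_x] at n1
  simp only [map_smul, LinearMap.smul_apply, smul_eq_mul] at n1
  rw [n2] at n1
  norm_num at n1

end Cfsg.Agent.S5543
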