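import Cfsg.Statements.S5545
-- import your own Cfsg.Agent.* helpers here

set_option autoImplicit false
open Cfsg

namespace Cfsg.Agent.S5545

open Cfsg.Axial

section Helpers

variable {V : Type*} [AddCommGroup V] [Module ℝ V]

/-- Eigenvectors of `mul a` for distinct eigenvalues are orthogonal for an associating form. -/
theorem eigen_orth (mul : V →ₗ[ℝ] V →ₗ[ℝ] V)
    (B : LinearMap.BilinForm ℝ V) (hcomm : IsCommMul mul)
    (hassoc : ∀ u v w : V, B u (mul v w) = B (mul u v) w) (a : V) (c d : ℝ) (hcd : c ≠ d)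
    (s t : V) (hs : s ∈ eigen mul a c) (ht : t ∈ eigen mul a d) : B s t = 0 := by
  have hs' : mul a s = c • s := Module.End.mem_eigenspace_iff.mp hs
  have ht' : mul a t = d • t := Module.End.mem_eigenspace_iff.mp ht
  have e1 : B s (mul a t) = d * B s t := by rw [ht']; simp
  have e2 : B (mul s a) t = c * B s t := by rw [hcomm s a, hs']; simp
  have e3 : d * B s t = c * B s t := by rw [← e1, ← e2]; exact hassoc s a t
  have : (d - c) * B s t = 0 := by linarith
  rcases mul_eq_zero.mp this with h | h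
  · exact absurd (by linarith : c = d) hcd
  · exact h

theorem monsterLaw_quarter_quarter : monsterLaw (1 / 4 : ℝ) (1 / 32) (1 / 4) (1 / 4) = {1, 0} := by
  unfold monsterLaw
  rw [if_neg (by norm_num), if_neg (by norm_num), if_pos (by norm_num)]

theorem monsterLaw_zero_zero : monsterLaw (1 / 4 : ℝ) (1 / 32) 0 0 = {0} := by
  unfold monsterLaw
  rw [if_neg (by norm_num), if_neg (by norm_num), if_neg (by norm_num), if_neg (by norm_num),
    if_pos rfl]

theorem monsterLaw_zero_quarter : monsterLaw (1 / 4 : ℝ) (1 / 32) 0 (1 / 4) = {1 / 4} := by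
  unfold monsterLaw
  rw [if_neg (by norm_num), if_neg (by norm_num), if_neg (by norm_num), if_pos (by norm_num)]

theorem eigenSum_single (mul : V →ₗ[ℝ] V →ₗ[ℝ] V) (a : V) (c : ℝ) :
    eigenSum mul a {c} = eigen mul a c := by
  unfold eigenSum
  rw [iSup_singleton]

theorem eigenSum_pair (mul : V →ₗ[ℝ] V →ₗ[ℝ] V) (a : V) (c d : ℝ) :
    eigenSum mul a {c, d} = eigen mul a c ⊔ eigen mul a d := by
  unfold eigenSum
  rw [iSup_insert, iSup_singleton]

theorem eigenSum_four (mul : V →ₗ[ℝ] V →ₗ[ℝ] V) (a : V) (c d e f : ℝ) :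
    eigenSum mul a {c, d, e, f} = eigen mul a c ⊔ (eigen mul a d ⊔ (eigen mul a e ⊔ eigen mul a f)) := by
  unfold eigenSum
  rw [iSup_insert, iSup_insert, iSup_insert, iSup_singleton]

theorem eigen_le_eigenSum (mul : V →ₗ[ℝ] V →ₗ[ℝ] V) (a : V) (S : Set ℝ) (c : ℝ) (hc : c ∈ S) :
    eigen mul a c ≤ eigenSum mul a S := by
  unfold eigenSum
  exact le_iSup₂_of_le c hc le_rfl

/-- Transport of eigenspaces along an automorphism of the product. -/
theorem eigen_map (mul : V →ₗ[ℝ] V →ₗ[ℝ] V) (σ : V ≃ₗ[ℝ] V)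
    (hσ : ∀ u v : V, σ (mul u v) = mul (σ u) (σ v)) (a : V) (c : ℝ) :
    eigen mul (σ a) c = (eigen mul a c).map (σ : V →ₗ[ℝ] V) := by
  ext v
  simp only [eigen, Module.End.mem_eigenspace_iff, Submodule.mem_map, LinearEquiv.coe_coe]
  constructor
  · intro h
    refine ⟨σ.symm v, ?_, σ.apply_symm_apply v⟩
    apply σ.injective
    rw [hσ, σ.apply_symm_apply, h, map_smul, σ.apply_symm_apply]
  · rintro ⟨w, hw, rfl⟩
    rw [← hσ, hw, map_smul]

theorem eigenSum_map (mul : V →ₗ[ℝ] V →ₗ[ℝ] V) (σ : V ≃ₗ[ℝ] V)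
    (hσ : ∀ u v : V, σ (mul u v) = mul (σ u) (σ v)) (a : V) (S : Set ℝ) :
    eigenSum mul (σ a) S = (eigenSum mul a S).map (σ : V →ₗ[ℝ] V) := by
  unfold eigenSum
  rw [Submodule.map_iSup]
  congr 1
  ext c : 1
  rw [Submodule.map_iSup]
  congr 1
  ext _ : 1
  exact eigen_map mul σ hσ a c

/-- Transport of a Majorana pair along a commuting automorphism. -/
theorem majorana_transport (mul : V →ₗ[ℝ] V →ₗ[ℝ] V) (B : LinearMap.BilinForm ℝ V)
    (μ σ : V ≃ₗ[ℝ] V) (a : V) (h : IsMajoranaPair mul B μ a)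
    (hσ : ∀ u v : V, σ (mul u v) = mul (σ u) (σ v)) (hc : μ * σ = σ * μ) :
    IsMajoranaPair mul B μ (σ a) := by
  obtain ⟨hm, hB, ⟨⟨hne, hid, htop, hfus⟩, hprim⟩, hmiy1, hmiy2⟩ := h
  have hcomm : ∀ v, μ (σ v) = σ (μ v) := by
    intro v
    have := congrArg (fun f : V ≃ₗ[ℝ] V => f v) hc
    simpa [LinearEquiv.mul_apply] using this
  refine ⟨hm, hB, ⟨⟨?_, ?_, ?_, ?_⟩, ?_⟩, ?_, ?_⟩
  · intro h0
    apply hne
    apply σ.injective
    rw [h0, map_zero]
  · rw [← hσ, hid]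
  · rw [eigenSum_map mul σ hσ, htop, Submodule.map_top]
    exact LinearMap.range_eq_top.mpr σ.surjective
  · intro c hcS d hdS u hu v hv
    rw [eigen_map mul σ hσ] at hu hv
    obtain ⟨u', hu', rfl⟩ := hu
    obtain ⟨v', hv', rfl⟩ := hv
    rw [eigenSum_map mul σ hσ]
    refine ⟨mul u' v', hfus c hcS d hdS u' hu' v' hv', ?_⟩
    simp only [LinearEquiv.coe_coe]
    exact hσ u' v'
  · rw [eigen_map mul σ hσ, hprim, Submodule.map_span, Set.image_singleton]
    rfl
  · intro v hv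
    rw [eigenSum_map mul σ hσ] at hv
    obtain ⟨v', hv', rfl⟩ := hv
    have := hmiy1 v' hv'
    simp only [LinearEquiv.coe_coe] at this ⊢
    rw [hcomm, this]
  · intro v hv
    rw [eigen_map mul σ hσ] at hv
    obtain ⟨v', hv', rfl⟩ := hv
    have := hmiy2 v' hv'
    simp only [LinearEquiv.coe_coe] at this ⊢
    rw [hcomm, this, map_neg]

/-- Decomposition of a vector `a` fixed by the Majorana involution of `b`. -/
theorem decomp (mul : V →ₗ[ℝ] V →ₗ[ℝ] V) (B : LinearMap.BilinForm ℝ V)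
    (hV : IsMajoranaAmbient mul B) (μ : V ≃ₗ[ℝ] V) (a b : V)
    (h : IsMajoranaPair mul B μ b) (hfix : μ a = a) (hn : B b b = 1) :
    mul b ((4 : ℝ) • mul a b - (4 * B a b) • b) = (1 / 4 : ℝ) • ((4 : ℝ) • mul a b - (4 * B a b) • b) ∧
    mul b (a + (3 * B a b) • b - (4 : ℝ) • mul a b) = 0 := by
  obtain ⟨hcommM, hsymm, hpos, hassoc, -⟩ := hV
  obtain ⟨-, -, ⟨⟨-, hid, htop, -⟩, hprim⟩, hmiy1, hmiy2⟩ := h
  have hatop : a ∈ eigenSum mul b majoranaSpectrum := by rw [htop]; trivial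
  unfold majoranaSpectrum at hatop
  rw [eigenSum_four] at hatop
  obtain ⟨c1, hc1, r1, hr1, hsum1⟩ := Submodule.mem_sup.mp hatop
  obtain ⟨c0, hc0, r2, hr2, hsum2⟩ := Submodule.mem_sup.mp hr1
  obtain ⟨c4, hc4, c32, hc32, hsum3⟩ := Submodule.mem_sup.mp hr2
  have ha_eq : a = c1 + (c0 + (c4 + c32)) := by rw [hsum3, hsum2, hsum1]
  -- μ fixes c1, c0, c4 and negates c32
  have f1 : μ c1 = c1 := by
    have := hmiy1 c1 (eigen_le_eigenSum mul b _ 1 (by simp) hc1)
    simpa using this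
  have f0 : μ c0 = c0 := by
    have := hmiy1 c0 (eigen_le_eigenSum mul b _ 0 (by simp) hc0)
    simpa using this
  have f4 : μ c4 = c4 := by
    have := hmiy1 c4 (eigen_le_eigenSum mul b _ (1 / 4) (by simp) hc4)
    simpa using this
  have f32 : μ c32 = -c32 := by
    have := hmiy2 c32 hc32
    simpa using this
  have hc32z : c32 = 0 := by
    have h1 : μ a = c1 + (c0 + (c4 + -c32)) := by
      rw [ha_eq, map_add, map_add, map_add, f1, f0, f4, f32]
    rw [hfix] at h1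
    have h2 : c32 = -c32 := by
      have : c1 + (c0 + (c4 + c32)) = c1 + (c0 + (c4 + -c32)) := by rw [← ha_eq]; exact h1
      exact add_left_cancel (add_left_cancel (add_left_cancel this))
    have h3 : (2 : ℝ) • c32 = 0 := by
      linear_combination (norm := module) h2
    rcases smul_eq_zero.mp h3 with h | h
    · norm_num at h
    · exact h
  rw [hprim] at hc1
  obtain ⟨k, rfl⟩ := Submodule.mem_span_singleton.mp hc1
  rw [hc32z, add_zero] at ha_eq
  have e0 : mul b c0 = 0 := by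
    have := Module.End.mem_eigenspace_iff.mp hc0
    simpa using this
  have e4 : mul b c4 = (1 / 4 : ℝ) • c4 := Module.End.mem_eigenspace_iff.mp hc4
  have hb1 : b ∈ eigen mul b 1 := by
    apply Module.End.mem_eigenspace_iff.mpr
    rw [hid, one_smul]
  have o0 : B c0 b = 0 := eigen_orth mul B hcommM hassoc b 0 1 (by norm_num) c0 b hc0 hb1
  have o4 : B c4 b = 0 := eigen_orth mul B hcommM hassoc b (1 / 4) 1 (by norm_num) c4 b hc4 hb1
  have hk : B a b = k := by
    rw [ha_eq]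
    simp only [map_add, map_smul, LinearMap.add_apply, LinearMap.smul_apply, smul_eq_mul]
    rw [o0, o4, hn]
    ring
  have hs : mul a b = k • b + (1 / 4 : ℝ) • c4 := by
    rw [hcommM a b, ha_eq]
    simp only [map_add, map_smul]
    rw [hid, e0, e4, zero_add]
  have hc4_eq : c4 = (4 : ℝ) • mul a b - (4 * B a b) • b := by
    rw [hs, hk]
    module
  have hc0_eq : c0 = a + (3 * B a b) • b - (4 : ℝ) • mul a b := by
    rw [hs, hk]
    conv_rhs => rw [ha_eq]
    module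
  rw [← hc4_eq, ← hc0_eq]
  exact ⟨e4, e0⟩

/-- The fusion law consequence: the `1/4`-component of `a = a * a`. -/
theorem fusionK (mul : V →ₗ[ℝ] V →ₗ[ℝ] V) (B : LinearMap.BilinForm ℝ V)
    (hV : IsMajoranaAmbient mul B) (μ : V ≃ₗ[ℝ] V) (a b : V)
    (h : IsMajoranaPair mul B μ b) (haa : mul a a = a) (l : ℝ) (c0 c4 : V)
    (ha : a = l • b + c0 + c4)
    (e4 : mul b c4 = (1 / 4 : ℝ) • c4) (e0 : mul b c0 = 0) :
    (2 : ℝ) • mul c0 c4 = (1 - l / 2) • c4 := by
  obtain ⟨hcommM, hsymm, hpos, hassoc, -⟩ := hV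
  obtain ⟨-, -, ⟨⟨-, hid, -, hfus⟩, -⟩, -, -⟩ := h
  have hc0 : c0 ∈ eigen mul b 0 := by
    apply Module.End.mem_eigenspace_iff.mpr
    rw [e0, zero_smul]
  have hc4 : c4 ∈ eigen mul b (1 / 4) := Module.End.mem_eigenspace_iff.mpr e4
  have hb1 : b ∈ eigen mul b 1 := by
    apply Module.End.mem_eigenspace_iff.mpr
    rw [hid, one_smul]
  have hS0 : (0 : ℝ) ∈ majoranaSpectrum := by unfold majoranaSpectrum; simp
  have hS4 : (1 / 4 : ℝ) ∈ majoranaSpectrum := by unfold majoranaSpectrum; simp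
  have h00 := hfus 0 hS0 0 hS0 c0 hc0 c0 hc0
  have h04 := hfus 0 hS0 (1 / 4) hS4 c0 hc0 c4 hc4
  have h44 := hfus (1 / 4) hS4 (1 / 4) hS4 c4 hc4 c4 hc4
  rw [monsterLaw_zero_zero, eigenSum_single] at h00
  rw [monsterLaw_zero_quarter, eigenSum_single] at h04
  rw [monsterLaw_quarter_quarter, eigenSum_pair] at h44
  -- expand a = a * a
  have hexp : mul a a = (l * l) • b + (l / 2) • c4 + mul c0 c0 + (2 : ℝ) • mul c0 c4 + mul c4 c4 := by
    have e0' : mul c0 b = 0 := by rw [hcommM c0 b]; exact e0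
    have e4' : mul c4 b = (1 / 4 : ℝ) • c4 := by rw [hcommM c4 b]; exact e4
    have e40 : mul c4 c0 = mul c0 c4 := hcommM c4 c0
    conv_lhs => rw [ha]
    simp only [map_add, map_smul, LinearMap.add_apply, LinearMap.smul_apply]
    rw [hid, e0, e4, e0', e4', e40]
    module
  -- the 1/4 part Q and the rest P
  set Q : V := c4 - (l / 2) • c4 - (2 : ℝ) • mul c0 c4 with hQ
  set P : V := l • b - (l * l) • b + c0 - mul c0 c0 - mul c4 c4 with hP
  have hPQ : P + Q = 0 := by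
    have : a - mul a a = 0 := by rw [haa, sub_self]
    rw [hexp] at this
    conv at this => lhs; lhs; rw [ha]
    rw [← this, hP, hQ]
    abel
  have hQmem : Q ∈ eigen mul b (1 / 4) := by
    rw [hQ]
    exact Submodule.sub_mem _ (Submodule.sub_mem _ hc4 (Submodule.smul_mem _ _ hc4))
      (Submodule.smul_mem _ _ h04)
  have hPmem : P ∈ eigen mul b 1 ⊔ eigen mul b 0 := by
    rw [hP]
    have i1 : eigen mul b 1 ≤ eigen mul b 1 ⊔ eigen mul b 0 := le_sup_left
    have i0 : eigen mul b 0 ≤ eigen mul b 1 ⊔ eigen mul b 0 := le_sup_right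
    refine Submodule.sub_mem _ (Submodule.sub_mem _ (Submodule.add_mem _ (Submodule.sub_mem _ ?_ ?_) ?_) ?_) h44
    · exact i1 (Submodule.smul_mem _ _ hb1)
    · exact i1 (Submodule.smul_mem _ _ hb1)
    · exact i0 hc0
    · exact i0 h00
  obtain ⟨p1, hp1, p0, hp0, hsum⟩ := Submodule.mem_sup.mp hPmem
  have o1 : B Q p1 = 0 := eigen_orth mul B hcommM hassoc b (1 / 4) 1 (by norm_num) Q p1 hQmem hp1
  have o0 : B Q p0 = 0 := eigen_orth mul B hcommM hassoc b (1 / 4) 0 (by norm_num) Q p0 hQmem hp0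
  have hBQP : B Q P = 0 := by rw [← hsum, map_add, o1, o0, add_zero]
  have hQ0 : Q = 0 := by
    by_contra hne
    have hpos' := hpos Q hne
    have hQP : Q = -P := by
      have := hPQ
      rw [add_comm] at this
      exact eq_neg_of_add_eq_zero_left this
    have : B Q Q = 0 := by
      have h2 : B Q Q = B Q (-P) := by rw [← hQP]
      rw [h2, map_neg, hBQP, neg_zero]
    linarith
  rw [hQ] at hQ0
  have : (2 : ℝ) • mul c0 c4 = c4 - (l / 2) • c4 := by
    have := sub_eq_zero.mp hQ0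
    exact this.symm
  rw [this]
  module

/-- Core algebra: from relation `K` deduce the value of `s * s`. -/
theorem alg_core (mul : V →ₗ[ℝ] V →ₗ[ℝ] V) (hcomm : IsCommMul mul) (a b s : V) (l : ℝ)
    (hbb : mul b b = b) (hab : mul a b = s)
    (has : mul a s = (1 / 4 : ℝ) • (s + (3 * l) • a)) (hbs : mul b s = (1 / 4 : ℝ) • (s + (3 * l) • b))
    (K : (2 : ℝ) • mul (a + (3 * l) • b - (4 : ℝ) • s) ((4 : ℝ) • s - (4 * l) • b)
      = (1 - l / 2) • ((4 : ℝ) • s - (4 * l) • b)) :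
    (32 : ℝ) • mul s s = (8 * l - 2) • s + (6 * l) • a + (16 * l * l + 4 * l) • b := by
  have hsb : mul s b = (1 / 4 : ℝ) • (s + (3 * l) • b) := by rw [hcomm s b]; exact hbs
  simp only [map_add, map_sub, map_smul, LinearMap.add_apply, LinearMap.sub_apply,
    LinearMap.smul_apply] at K
  rw [hbb, hab, has, hbs, hsb] at K
  linear_combination (norm := module) (-1 : ℝ) • K

end Helpers


/-- Let V be a finite-dimensional real vector space with a commutative bilinear product and a positive-definite symmetric bilinear form that associates with the product and satisfies the Norton inequality (the Majorana setting of the definitions). Let μ₀, μ₁ be commuting Majorana involutions with distinct axial vectors a₀ ≠ a₁ of squared length 1, each involution having no other axial vector. Then either a₀ and a₁ are orthogonal with a₀ ∘ a₁ = 0 (type 2B), or their inner product is 1/8 and, with a₂ = a₀ + a₁ − 8 a₀ ∘ a₁, the vector a₂ is an idempotent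 and a₀ ∘ a₂ = (1/8)(a₀ + a₂ − a₁), a₁ ∘ a₂ = (1/8)(a₁ + a₂ − a₀) (type 2A: the three idempotents span a subalgebra with aᵢ ∘ aⱼ = (1/8)(aᵢ + aⱼ − aₖ)). -/
theorem result {V : Type*} [AddCommGroup V] [Module ℝ V] [FiniteDimensional ℝ V] (mul : V →ₗ[ℝ] V →ₗ[ℝ] V) (B : LinearMap.BilinForm ℝ V) (hV : Cfsg.Axial.IsMajoranaAmbient mul B) (μ₀ μ₁ : V ≃ₗ[ℝ] V) (a₀ a₁ : V) (h₀ : Cfsg.Axial.IsMajoranaPair mul B μ₀ a₀) (h₁ : Cfsg.Axial.IsMajoranaPair mul B μ₁ a₁) (hu₀ : ∀ a : V, Cfsg.Axial.IsMajoranaPair mul B μ₀ a → a = a₀) (hu₁ : ∀ a : V, Cfsg.Axial.IsMajoranaPair mul B μ₁ a → a = a₁) (hn₀ : B a₀ a₀ = 1) (hn₁ : B a₁ a₁ = 1) (hc : μ₀ * μ₁ = μ₁ * μ₀) (hne : a₀ ≠ a₁) : (B a₀ a₁ = 0 ∧ mul a₀ a₁ = 0) ∨ (B a₀ a₁ = 1 / 8 ∧ mul (a₀ + a₁ - (8 : ℝ) • mul a₀ a₁) (a₀ + a₁ - (8 : ℝ) • mul a₀ a₁) = a₀ + a₁ - (8 : ℝ) • mul a₀ a₁ ∧ mul a₀ (a₀ + a₁ - (8 : ℝ) • mul a₀ a₁) = (1 / 8 : ℝ) • (a₀ + (a₀ + a₁ - (8 : ℝ) • mul a₀ a₁) - a₁) ∧ mul a₁ (a₀ + a₁ - (8 :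 ℝ) • mul a₀ a₁) = (1 / 8 : ℝ) • (a₁ + (a₀ + a₁ - (8 : ℝ) • mul a₀ a₁) - a₀)) := by
  have hVfull := hV
  obtain ⟨hcommM, hsymm, hpos, hassoc, -⟩ := hV
  -- μ₁ fixes a₀ and μ₀ fixes a₁
  have hfix0 : μ₁ a₀ = a₀ := hu₀ (μ₁ a₀) (majorana_transport mul B μ₀ μ₁ a₀ h₀ h₁.1 hc)
  have hfix1 : μ₀ a₁ = a₁ := hu₁ (μ₀ a₁) (majorana_transport mul B μ₁ μ₀ a₁ h₁ h₀.1 hc.symm)
  have hid0 : mul a₀ a₀ = a₀ := h₀.2.2.1.1.2.1
  have hid1 : mul a₁ a₁ = a₁ := h₁.2.2.1.1.2.1
  set l : ℝ := B a₀ a₁ with hl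
  have hl' : B a₁ a₀ = l := by rw [hl]; exact hsymm a₁ a₀
  set s : V := mul a₀ a₁ with hs
  have hs' : mul a₁ a₀ = s := by rw [hs]; exact hcommM a₁ a₀
  -- decompositions
  obtain ⟨d4, d0⟩ := decomp mul B hVfull μ₁ a₀ a₁ h₁ hfix0 hn₁
  obtain ⟨d4', d0'⟩ := decomp mul B hVfull μ₀ a₁ a₀ h₀ hfix1 hn₀
  rw [hs', hl'] at d4' d0'
  -- products with s
  have hbs : mul a₁ s = (1 / 4 : ℝ) • (s + (3 * l) • a₁) := by
    have := d0
    simp only [map_add, map_sub, map_smul] at this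
    rw [hid1, hs'] at this
    have h4 : (4 : ℝ) • mul a₁ s = s + (3 * l) • a₁ := by
      linear_combination (norm := module) (-1 : ℝ) • this
    rw [← h4]
    module
  have has : mul a₀ s = (1 / 4 : ℝ) • (s + (3 * l) • a₀) := by
    have := d0'
    simp only [map_add, map_sub, map_smul] at this
    rw [hid0] at this
    have h4 : (4 : ℝ) • mul a₀ s = s + (3 * l) • a₀ := by
      linear_combination (norm := module) (-1 : ℝ) • this
    rw [← h4]
    module
  -- fusion relations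
  have K := fusionK mul B hVfull μ₁ a₀ a₁ h₁ hid0 l (a₀ + (3 * l) • a₁ - (4 : ℝ) • s)
    ((4 : ℝ) • s - (4 * l) • a₁) (by module) d4 d0
  have K' := fusionK mul B hVfull μ₀ a₁ a₀ h₀ hid1 l (a₁ + (3 * l) • a₀ - (4 : ℝ) • s)
    ((4 : ℝ) • s - (4 * l) • a₀) (by module) d4' d0'
  have R := alg_core mul hcommM a₀ a₁ s l hid1 rfl has hbs K
  have R' := alg_core mul hcommM a₁ a₀ s l hid0 hs' hbs has K'
  -- l (1 - 8 l) = 0
  have hdich : (2 * l - 16 * l * l) • (a₀ - a₁) = 0 := by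
    have : (8 * l - 2) • s + (6 * l) • a₀ + (16 * l * l + 4 * l) • a₁
        = (8 * l - 2) • s + (6 * l) • a₁ + (16 * l * l + 4 * l) • a₀ := by rw [← R, ← R']
    linear_combination (norm := module) this
  have hsub : a₀ - a₁ ≠ 0 := sub_ne_zero.mpr hne
  have hl_cases : l = 0 ∨ l = 1 / 8 := by
    rcases smul_eq_zero.mp hdich with h | h
    · have : l * (1 - 8 * l) = 0 := by linarith
      rcases mul_eq_zero.mp this with h0 | h1
      · left; exact h0
      · right; linarith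
    · exact absurd h hsub
  -- norm of s
  have hBas : B a₀ s = l := by
    rw [hs, hassoc a₀ a₀ a₁, hid0]
  have hss_norm : B s s = (l + 3 * l * l) / 4 := by
    have h1 : B s s = B a₀ (mul a₁ s) := by
      conv_lhs => rw [hs]
      rw [← hassoc a₀ a₁ (mul a₀ a₁)]
    rw [h1, hbs]
    simp only [map_add, map_smul, smul_eq_mul]
    rw [hBas]
    ring
  rcases hl_cases with h0 | h8
  · left
    refine ⟨h0, ?_⟩
    by_contra hsne
    have := hpos s hsne
    rw [hss_norm, h0] at this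
    norm_num at this
  · right
    refine ⟨h8, ?_⟩
    rw [h8] at R has hbs
    have hsa : mul s a₀ = (1 / 4 : ℝ) • (s + ((3 : ℝ) * (1 / 8)) • a₀) := by rw [hcommM s a₀]; exact has
    have hsb : mul s a₁ = (1 / 4 : ℝ) • (s + ((3 : ℝ) * (1 / 8)) • a₁) := by rw [hcommM s a₁]; exact hbs
    have hss : mul s s = (-(1 / 32) : ℝ) • s + (3 / 128 : ℝ) • (a₀ + a₁) := by
      have : mul s s = (1 / 32 : ℝ) • ((32 : ℝ) • mul s s) := by module
      rw [this, R]
      module
    refine ⟨?_, ?_, ?_⟩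
    · simp only [map_add, map_sub, map_smul, LinearMap.add_apply, LinearMap.sub_apply,
        LinearMap.smul_apply]
      rw [hid0, hid1, hs', has, hbs, hsa, hsb, hss]
      module
    · simp only [map_add, map_sub, map_smul]
      rw [hid0, has]
      module
    · simp only [map_add, map_sub, map_smul]
      rw [hid1, hs', hbs]
      module

end Cfsg.Agent.S5545
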