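import Cfsg.Statements.S5546
-- import your own Cfsg.Agent.* helpers here

set_option autoImplicit false
open Cfsg

namespace Cfsg.Agent.S5546

open Cfsg.Spor

/-- A vector all of whose coordinates are divisible by 4, with coordinate sum divisible by 8, is in the lattice. -/
theorem mem_lattice_of_four (x : GolayPt → ℤ) (h4 : ∀ i, (4 : ℤ) ∣ x i) (h8 : (8 : ℤ) ∣ ∑ i, x i) :
    x ∈ leechLattice := by
  apply AddSubgroup.subset_closure
  refine mem_leechSet_of_const_mod_four x 0 0 (Int.ModEq.refl _) (fun i => ?_) ?_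
  · exact (Int.modEq_zero_iff_dvd).mpr (h4 i)
  · rw [mul_zero]
    exact (Int.modEq_zero_iff_dvd).mpr h8

/-- `a e_i + b e_j` -/
def vec2 (i j : GolayPt) (a b : ℤ) : GolayPt → ℤ := fun p => (if p = i then a else 0) + (if p = j then b else 0)

theorem sum_vec2 (i j : GolayPt) (a b : ℤ) : ∑ p, vec2 i j a b p = a + b := by
  unfold vec2
  rw [Finset.sum_add_distrib, Finset.sum_ite_eq', Finset.sum_ite_eq']
  simp

theorem vec2_mem (i j : GolayPt) (a b : ℤ) (ha : (4 : ℤ) ∣ a) (hb : (4 : ℤ) ∣ b) (hab : (8 : ℤ) ∣ a + b) :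
    vec2 i j a b ∈ leechLattice := by
  apply mem_lattice_of_four
  · intro p
    unfold vec2
    split_ifs <;> simp [ha, hb, dvd_add]
  · rw [sum_vec2]; exact hab

theorem sqNorm_vec2 (i j : GolayPt) (hij : i ≠ j) (a b : ℤ) : sqNorm (vec2 i j a b) = a ^ 2 + b ^ 2 := by
  unfold sqNorm vec2
  have : ∀ p : GolayPt, ((if p = i then a else 0) + (if p = j then b else 0)) ^ 2
      = (if p = i then a ^ 2 else 0) + (if p = j then b ^ 2 else 0) := by
    intro p
    by_cases h1 : p = i
    · subst h1
      simp [hij]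
    · by_cases h2 : p = j
      · subst h2
        simp [h1]
      · simp [h1, h2]
  simp_rw [this]
  rw [Finset.sum_add_distrib, Finset.sum_ite_eq', Finset.sum_ite_eq']
  simp


/-- `8 e_i` as a lattice vector. -/
def E8 (i : GolayPt) : leechLattice :=
  ⟨fun p => if p = i then 8 else 0, by
    apply mem_lattice_of_four
    · intro p
      split_ifs
      · exact ⟨2, rfl⟩
      · exact dvd_zero _
    · rw [Finset.sum_ite_eq']
      simp⟩

theorem E8_apply (i p : GolayPt) : ((E8 i : leechLattice) : GolayPt → ℤ) p = if p = i then 8 else 0 := rfl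

/-- The additive hom underlying an additive permutation of the lattice. -/
def addHom (g : Equiv.Perm leechLattice) (hadd : ∀ v w, g (v + w) = g v + g w) :
    leechLattice →+ leechLattice := AddMonoidHom.mk' g hadd

theorem addHom_apply (g : Equiv.Perm leechLattice) (hadd : ∀ v w, g (v + w) = g v + g w)
    (v : leechLattice) : addHom g hadd v = g v := rfl

theorem eight_smul_eq_sum (v : leechLattice) :
    (8 : ℤ) • v = ∑ j, ((v : GolayPt → ℤ) j) • E8 j := by
  apply Subtype.ext
  funext p
  simp only [AddSubgroup.coe_zsmul, AddSubgroup.val_finsetSum, Pi.smul_apply, Finset.sum_apply,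
    E8_apply, smul_eq_mul]
  rw [Finset.sum_eq_single p]
  · simp [mul_comm]
  · intro b _ hb
    simp [Ne.symm hb]
  · intro h
    exact absurd (Finset.mem_univ p) h

/-- Coordinates of `8 • g v` in terms of the images of the `8 e_j`. -/
theorem eight_mul_apply (g : Equiv.Perm leechLattice) (hadd : ∀ v w, g (v + w) = g v + g w)
    (v : leechLattice) (i : GolayPt) :
    8 * ((g v : leechLattice) : GolayPt → ℤ) i
      = ∑ j, (v : GolayPt → ℤ) j * ((g (E8 j) : leechLattice) : GolayPt → ℤ) i := by
  have h1 : (8 : ℤ) • g v = ∑ j, ((v : GolayPt → ℤ) j) • g (E8 j) := by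
    have := congrArg (addHom g hadd) (eight_smul_eq_sum v)
    rw [map_zsmul, map_sum] at this
    simp only [map_zsmul, addHom_apply] at this
    exact this
  have h2 := congrArg (fun w : leechLattice => (w : GolayPt → ℤ) i) h1
  simp only [AddSubgroup.coe_zsmul, AddSubgroup.val_finsetSum, Pi.smul_apply, Finset.sum_apply,
    smul_eq_mul] at h2
  exact h2


/-- Reduction modulo 13 of the coordinates of a lattice vector. -/
def red (v : leechLattice) : GolayPt → ZMod 13 := fun p => (((v : GolayPt → ℤ) p : ℤ) : ZMod 13)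

/-- The matrix modulo 13 of an additive permutation of the lattice (`5 = 8⁻¹` in `ZMod 13`). -/
def Mat (g : Equiv.Perm leechLattice) : Matrix GolayPt GolayPt (ZMod 13) :=
  fun i j => (5 : ZMod 13) * red (g (E8 j)) i

theorem five_mul_eight : (5 : ZMod 13) * 8 = 1 := by decide

theorem red_apply (g : Equiv.Perm leechLattice) (hadd : ∀ v w, g (v + w) = g v + g w)
    (v : leechLattice) : red (g v) = (Mat g).mulVec (red v) := by
  funext i
  have h := eight_mul_apply g hadd v i
  have h' := congrArg (fun z : ℤ => (z : ZMod 13)) h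
  simp only [Int.cast_mul, Int.cast_sum, Int.cast_ofNat] at h'
  have h2 : (Mat g).mulVec (red v) i = 5 * ∑ j, red v j * red (g (E8 j)) i := by
    simp only [Matrix.mulVec, dotProduct, Mat, Finset.mul_sum]
    apply Finset.sum_congr rfl
    intro j _
    ring
  rw [h2]
  have h3 : ∑ j, red v j * red (g (E8 j)) i = 8 * red (g v) i := by
    rw [show red (g v) i = (((g v : leechLattice) : GolayPt → ℤ) i : ZMod 13) from rfl, h']
    rfl
  rw [h3, ← mul_assoc, five_mul_eight, one_mul]

theorem Mat_mul (g h : Equiv.Perm leechLattice) (hg : ∀ v w, g (v + w) = g v + g w) :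
    Mat (g * h) = Mat g * Mat h := by
  ext i j
  rw [Matrix.mul_apply]
  have h1 : Mat (g * h) i j = 5 * red (g (h (E8 j))) i := rfl
  rw [h1, red_apply g hg (h (E8 j))]
  simp only [Matrix.mulVec, dotProduct, Mat, Finset.mul_sum]
  apply Finset.sum_congr rfl
  intro k _
  ring

theorem Mat_one : Mat 1 = 1 := by
  ext i j
  have h1 : Mat 1 i j = 5 * (((if i = j then 8 else 0 : ℤ)) : ZMod 13) := rfl
  rw [h1, Matrix.one_apply]
  split_ifs
  · rw [Int.cast_ofNat]; exact five_mul_eight
  · simp


theorem co0_add {g : Equiv.Perm leechLattice} (hg : g ∈ Co0) : ∀ v w, g (v + w) = g v + g w := hg.1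

theorem co0_norm {g : Equiv.Perm leechLattice} (hg : g ∈ Co0) :
    ∀ v : leechLattice, sqNorm ((g v : leechLattice) : GolayPt → ℤ) = sqNorm (v : GolayPt → ℤ) := hg.2

theorem co2_co0 (g : Co2) : (g : Equiv.Perm leechLattice) ∈ Co0 := (Subgroup.mem_inf.mp g.2).1

theorem co2_fix (g : Co2) : (g : Equiv.Perm leechLattice) leechU = leechU :=
  MulAction.mem_stabilizer_iff.mp (Subgroup.mem_inf.mp g.2).2

/-- The monoid hom from `Co2` to `24 × 24` matrices over `ZMod 13`. -/
def matHom : Co2 →* Matrix GolayPt GolayPt (ZMod 13) where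
  toFun g := Mat (g : Equiv.Perm leechLattice)
  map_one' := Mat_one
  map_mul' g h := Mat_mul _ _ (co0_add (co2_co0 g))

/-- The line spanned by the reduction of the fixed vector. -/
def W : Submodule (ZMod 13) (GolayPt → ZMod 13) := Submodule.span (ZMod 13) {red leechU}

theorem W_le (g : Co2) : W ≤ W.comap (Matrix.toLin' (matHom g)) := by
  unfold W
  rw [Submodule.span_le]
  intro x hx
  rw [Set.mem_singleton_iff] at hx
  subst hx
  show Matrix.toLin' (matHom g) (red leechU) ∈ Submodule.span (ZMod 13) {red leechU}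
  rw [Matrix.toLin'_apply]
  have : (matHom g).mulVec (red leechU) = red leechU := by
    show (Mat (g : Equiv.Perm leechLattice)).mulVec (red leechU) = red leechU
    rw [← red_apply _ (co0_add (co2_co0 g)), co2_fix]
  rw [this]
  exact Submodule.subset_span rfl

/-- The representation on the 23-dimensional quotient. -/
def quotHom : Co2 →* Module.End (ZMod 13) ((GolayPt → ZMod 13) ⧸ W) where
  toFun g := W.mapQ W (Matrix.toLin' (matHom g)) (W_le g)
  map_one' := by
    apply Submodule.linearMap_qext
    refine LinearMap.ext fun x => ?_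
    simp only [LinearMap.comp_apply, Submodule.mkQ_apply, Submodule.mapQ_apply, map_one,
      Matrix.toLin'_one, LinearMap.id_apply]
    rfl
  map_mul' g h := by
    apply Submodule.linearMap_qext
    refine LinearMap.ext fun x => ?_
    simp only [LinearMap.comp_apply, Submodule.mkQ_apply, Submodule.mapQ_apply, map_mul,
      Matrix.toLin'_mul, Module.End.mul_apply]


/-- Polarization: an additive norm-preserving map fixing `u` preserves dot products with `u`. -/
theorem polar {g : Equiv.Perm leechLattice} (hg : g ∈ Co0) (u : leechLattice) (hu : g u = u)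
    (v : leechLattice) :
    ∑ p, (((g v : leechLattice) : GolayPt → ℤ) p - (v : GolayPt → ℤ) p) * (u : GolayPt → ℤ) p = 0 := by
  have h1 := co0_norm hg (v + u)
  rw [co0_add hg, hu] at h1
  have h2 := co0_norm hg v
  unfold sqNorm at h1 h2
  simp only [AddSubgroup.coe_add, Pi.add_apply] at h1
  have key : 2 * ∑ p, (((g v : leechLattice) : GolayPt → ℤ) p - (v : GolayPt → ℤ) p) * (u : GolayPt → ℤ) p
      = (∑ p, (((g v : leechLattice) : GolayPt → ℤ) p + (u : GolayPt → ℤ) p) ^ 2)
        - (∑ p, ((v : GolayPt → ℤ) p + (u : GolayPt → ℤ) p) ^ 2)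
        - (∑ p, (((g v : leechLattice) : GolayPt → ℤ) p) ^ 2) + ∑ p, ((v : GolayPt → ℤ) p) ^ 2 := by
    rw [Finset.mul_sum, ← Finset.sum_sub_distrib, ← Finset.sum_sub_distrib, ← Finset.sum_add_distrib]
    apply Finset.sum_congr rfl
    intro p _
    ring
  rw [h1, h2] at key
  linarith

theorem sqNorm_leechU : ∑ p, ((leechU : leechLattice) : GolayPt → ℤ) p * ((leechU : leechLattice) : GolayPt → ℤ) p = 32 := by
  show ∑ p, vecU p * vecU p = 32
  decide

theorem zmod13_cancel : ∀ c : ZMod 13, c * 32 = 0 → c = 0 := by decide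

/-- If `g` acts trivially on the quotient then `g v ≡ v` modulo 13 coordinatewise. -/
theorem dvd_of_trivial (g : Co2)
    (htriv : ∀ x : GolayPt → ZMod 13, Matrix.toLin' (matHom g) x - x ∈ W) (v : leechLattice) (p : GolayPt) :
    (13 : ℤ) ∣ (((g : Equiv.Perm leechLattice) v : leechLattice) : GolayPt → ℤ) p - (v : GolayPt → ℤ) p := by
  have hg := co2_co0 g
  have h1 := htriv (red v)
  rw [Matrix.toLin'_apply] at h1
  have h2 : (matHom g).mulVec (red v) = red ((g : Equiv.Perm leechLattice) v) :=
    (red_apply _ (co0_add hg) v).symm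
  rw [h2] at h1
  obtain ⟨c, hc⟩ := Submodule.mem_span_singleton.mp h1
  have hcp : ∀ q, c * red leechU q = red ((g : Equiv.Perm leechLattice) v) q - red v q := by
    intro q
    have := congrFun hc q
    simpa using this
  have hpol := polar hg leechU (co2_fix g) v
  have hpol' := congrArg (fun z : ℤ => (z : ZMod 13)) hpol
  simp only [Int.cast_sum, Int.cast_mul, Int.cast_sub, Int.cast_zero] at hpol'
  have hpol2 : ∑ q, (red ((g : Equiv.Perm leechLattice) v) q - red v q) * red leechU q = 0 := hpol'
  have h32 : ∑ q, red leechU q * red leechU q = 32 := by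
    have := congrArg (fun z : ℤ => (z : ZMod 13)) sqNorm_leechU
    simp only [Int.cast_sum, Int.cast_mul, Int.cast_ofNat] at this
    exact this
  have hc0 : c = 0 := by
    apply zmod13_cancel
    rw [← h32, Finset.mul_sum, ← hpol2]
    apply Finset.sum_congr rfl
    intro q _
    rw [← hcp q]
    ring
  have hred : red ((g : Equiv.Perm leechLattice) v) p - red v p = 0 := by
    rw [← hcp p, hc0, zero_mul]
  have : ((((((g : Equiv.Perm leechLattice) v : leechLattice) : GolayPt → ℤ) p - (v : GolayPt → ℤ) p : ℤ)) : ZMod 13) = 0 := by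
    rw [Int.cast_sub]
    exact hred
  exact (ZMod.intCast_zmod_eq_zero_iff_dvd _ 13).mp this


/-- Short vectors are fixed by an element acting trivially on the quotient. -/
theorem fix_short (g : Co2)
    (htriv : ∀ x : GolayPt → ZMod 13, Matrix.toLin' (matHom g) x - x ∈ W) (v : leechLattice)
    (hv : sqNorm (v : GolayPt → ℤ) ≤ 42) : (g : Equiv.Perm leechLattice) v = v := by
  have hg := co2_co0 g
  set w : leechLattice := (g : Equiv.Perm leechLattice) v with hw
  have hnorm : sqNorm (w : GolayPt → ℤ) = sqNorm (v : GolayPt → ℤ) := co0_norm hg v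
  have hdvd : ∀ p, (13 : ℤ) ∣ (w : GolayPt → ℤ) p - (v : GolayPt → ℤ) p := dvd_of_trivial g htriv v
  -- bound on the norm of the difference
  have hbound : ∑ p, ((w : GolayPt → ℤ) p - (v : GolayPt → ℤ) p) ^ 2 ≤ 168 := by
    have h1 : ∑ p, ((w : GolayPt → ℤ) p - (v : GolayPt → ℤ) p) ^ 2
        ≤ ∑ p, (2 * (w : GolayPt → ℤ) p ^ 2 + 2 * (v : GolayPt → ℤ) p ^ 2) := by
      apply Finset.sum_le_sum
      intro p _
      nlinarith [sq_nonneg ((w : GolayPt → ℤ) p + (v : GolayPt → ℤ) p)]
    rw [Finset.sum_add_distrib, ← Finset.mul_sum, ← Finset.mul_sum] at h1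
    unfold sqNorm at hnorm hv
    rw [hnorm] at h1
    linarith
  apply Subtype.ext
  funext p
  by_contra hne
  have hd : (w : GolayPt → ℤ) p - (v : GolayPt → ℤ) p ≠ 0 := sub_ne_zero.mpr hne
  obtain ⟨k, hk⟩ := hdvd p
  have hk0 : k ≠ 0 := by
    intro h0
    apply hd
    rw [hk, h0, mul_zero]
  have hk2 : 1 ≤ k ^ 2 := by
    have : 0 < k ^ 2 := by positivity
    linarith
  have hterm : (169 : ℤ) ≤ ((w : GolayPt → ℤ) p - (v : GolayPt → ℤ) p) ^ 2 := by
    rw [hk]
    nlinarith
  have hsingle : ((w : GolayPt → ℤ) p - (v : GolayPt → ℤ) p) ^ 2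
      ≤ ∑ q, ((w : GolayPt → ℤ) q - (v : GolayPt → ℤ) q) ^ 2 :=
    Finset.single_le_sum (f := fun q => ((w : GolayPt → ℤ) q - (v : GolayPt → ℤ) q) ^ 2)
      (fun q _ => sq_nonneg _) (Finset.mem_univ p)
  linarith

/-- `4 e_i + b e_j` as a lattice vector, `b = ± 4`. -/
def V2 (i j : GolayPt) (b : ℤ) (hb : (4 : ℤ) ∣ b) (hab : (8 : ℤ) ∣ 4 + b) : leechLattice :=
  ⟨vec2 i j 4 b, vec2_mem i j 4 b ⟨1, rfl⟩ hb hab⟩

theorem E8_eq (i j : GolayPt) (hij : i ≠ j) :
    E8 i = V2 i j 4 ⟨1, rfl⟩ ⟨1, rfl⟩ + V2 i j (-4) ⟨-1, rfl⟩ ⟨0, rfl⟩ := by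
  apply Subtype.ext
  funext p
  simp only [AddSubgroup.coe_add, Pi.add_apply, E8_apply, V2, vec2]
  split_ifs <;> simp

/-- An element acting trivially on the quotient is the identity. -/
theorem eq_one_of_trivial (g : Co2)
    (htriv : ∀ x : GolayPt → ZMod 13, Matrix.toLin' (matHom g) x - x ∈ W) : g = 1 := by
  have hg := co2_co0 g
  have hE8 : ∀ i, (g : Equiv.Perm leechLattice) (E8 i) = E8 i := by
    intro i
    obtain ⟨j, hj⟩ := exists_ne i
    rw [E8_eq i j hj.symm, co0_add hg]
    congr 1
    · apply fix_short g htriv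
      show sqNorm (vec2 i j 4 4) ≤ 42
      rw [sqNorm_vec2 i j hj.symm]
      norm_num
    · apply fix_short g htriv
      show sqNorm (vec2 i j 4 (-4)) ≤ 42
      rw [sqNorm_vec2 i j hj.symm]
      norm_num
  apply Subtype.ext
  apply Equiv.ext
  intro v
  show (g : Equiv.Perm leechLattice) v = v
  apply Subtype.ext
  funext p
  have h := eight_mul_apply (g : Equiv.Perm leechLattice) (co0_add hg) v p
  simp only [hE8] at h
  have h2 : (8 : ℤ) * (v : GolayPt → ℤ) p = ∑ j, (v : GolayPt → ℤ) j * ((E8 j : leechLattice) : GolayPt → ℤ) p := by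
    have := congrArg (fun w : leechLattice => (w : GolayPt → ℤ) p) (eight_smul_eq_sum v)
    simp only [AddSubgroup.coe_zsmul, AddSubgroup.val_finsetSum, Pi.smul_apply, Finset.sum_apply,
      smul_eq_mul] at this
    exact this
  rw [← h2] at h
  linarith


theorem red_leechU_ne : red leechU ≠ 0 := by
  intro h
  have h1 := congrFun h none
  have h2 : red leechU none = (4 : ZMod 13) := by
    show ((vecU none : ℤ) : ZMod 13) = 4
    simp [vecU]
  rw [h2] at h1
  revert h1
  decide


/-- The second Conway group (the stabilizer in the Leech lattice automorphism group of the short vector fixed in the definitions) is isomorphic to a subgroup of the general linear group of degree 23 over the field with 13 elements: there is an injective homomorphism into it. -/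
theorem result : ∃ f : ↥Cfsg.Spor.Co2 →* GL (Fin 23) (ZMod 13), Function.Injective f := by
  have : Fact (Nat.Prime 13) := ⟨by norm_num⟩
  have h23 : Module.finrank (ZMod 13) ((GolayPt → ZMod 13) ⧸ W) = 23 := by
    have h1 := Submodule.finrank_quotient_add_finrank W
    have h2 : Module.finrank (ZMod 13) W = 1 := finrank_span_singleton red_leechU_ne
    have h3 : Module.finrank (ZMod 13) (GolayPt → ZMod 13) = 24 := by
      rw [Module.finrank_fintype_fun_eq_card]
      rfl
    omega
  let b := Module.finBasisOfFinrankEq (ZMod 13) ((GolayPt → ZMod 13) ⧸ W) h23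
  let ψ : Co2 →* Matrix (Fin 23) (Fin 23) (ZMod 13) :=
    ((LinearMap.toMatrixAlgEquiv b : _ ≃ₐ[ZMod 13] _) : _ →* _).comp quotHom
  refine ⟨ψ.toHomUnits, ?_⟩
  rw [injective_iff_map_eq_one]
  intro g hg1
  apply eq_one_of_trivial
  intro x
  have h1 : ψ g = 1 := by
    have := congrArg (fun u : GL (Fin 23) (ZMod 13) => (u : Matrix (Fin 23) (Fin 23) (ZMod 13))) hg1
    simpa using this
  have h2 : quotHom g = 1 := by
    have h : (LinearMap.toMatrixAlgEquiv b) (quotHom g) = 1 := h1
    exact (map_eq_one_iff _ (LinearMap.toMatrixAlgEquiv b).injective).mp h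
  have h3 := congrArg (fun T : Module.End (ZMod 13) ((GolayPt → ZMod 13) ⧸ W) =>
    T (Submodule.Quotient.mk x)) h2
  have h4 : Submodule.Quotient.mk (p := W) (Matrix.toLin' (matHom g) x) = Submodule.Quotient.mk x := by
    simpa [quotHom, Submodule.mapQ_apply] using h3
  exact (Submodule.Quotient.eq W).mp h4

end Cfsg.Agent.S5546
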