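import Cfsg.Statements.S5549
import Cfsg.Agent.Lib.Helper92.GolayDual

set_option autoImplicit false
open Cfsg

namespace Cfsg.Agent.S5549
open Cfsg.Agent.Lib.Helper7 Cfsg.Agent.Lib.Helper92 Cfsg.Agent.S5550 Cfsg.Agent.S5548
open Cfsg.Agent.Lib.Helper93 (IsGolayLike supp)
open scoped Pointwise


/-! ### Transitivity of `M24` on lists and sets of at most five points -/

theorem exists_map_list : ∀ (l1 l2 : List GolayPt), l1.Nodup → l2.Nodup → l1.length = l2.length →
    l1.length ≤ 5 → ∃ σ ∈ M24, l1.map σ = l2 := by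
  intro l1
  induction l1 with
  | nil =>
    intro l2 _ _ hlen _
    have : l2 = [] := List.length_eq_zero_iff.mp hlen.symm
    exact ⟨1, one_mem _, by rw [this]; rfl⟩
  | cons a l1 ih =>
    intro l2 h1 h2 hlen h5
    cases l2 with
    | nil => simp at hlen
    | cons b l2 =>
      rw [List.nodup_cons] at h1 h2
      simp only [List.length_cons, add_left_inj] at hlen
      simp only [List.length_cons] at h5
      obtain ⟨σ', hσ', hmap⟩ := ih l2 h1.2 h2.2 hlen (by omega)
      have hF : l2.toFinset.card ≤ 4 := by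
        rw [List.toFinset_card_of_nodup h2.2]; omega
      have haF : σ' a ∉ l2.toFinset := by
        rw [List.mem_toFinset, ← hmap, List.mem_map]
        rintro ⟨q, hq, hqa⟩
        exact h1.1 (σ'.injective hqa ▸ hq)
      have hbF : b ∉ l2.toFinset := by
        rw [List.mem_toFinset]; exact h2.1
      obtain ⟨τ, hτ, hfix, hmove⟩ := exists_fix_move l2.toFinset hF haF hbF
      refine ⟨τ * σ', mul_mem hτ hσ', ?_⟩
      rw [List.map_cons, Equiv.Perm.mul_apply, hmove]
      congr 1
      rw [← hmap]
      apply List.map_congr_left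
      intro q hq
      rw [Equiv.Perm.mul_apply]
      apply hfix
      rw [List.mem_toFinset, ← hmap]
      exact List.mem_map_of_mem hq

theorem exists_smul_eq_of_card {s t : Finset GolayPt} (hst : s.card = t.card) (h5 : s.card ≤ 5) :
    ∃ σ ∈ M24, σ • s = t := by
  obtain ⟨σ, hσ, hmap⟩ := exists_map_list s.toList t.toList s.nodup_toList t.nodup_toList
    (by rw [Finset.length_toList, Finset.length_toList, hst]) (by rw [Finset.length_toList]; exact h5)
  refine ⟨σ, hσ, ?_⟩
  ext q
  rw [Finset.mem_smul_finset]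
  constructor
  · rintro ⟨r, hr, rfl⟩
    rw [← Finset.mem_toList, ← hmap]
    exact List.mem_map_of_mem (Finset.mem_toList.mpr hr)
  · intro hq
    rw [← Finset.mem_toList, ← hmap, List.mem_map] at hq
    obtain ⟨r, hr, rfl⟩ := hq
    exact ⟨r, Finset.mem_toList.mp hr, rfl⟩

/-- The count for any word of weight 2 is 407, for any word of weight 4 is 375. -/
theorem cnt_of_weight {l : GolayPt → ZMod 2} (m : ℕ) (hm : hammingNorm l = pc m) (h5 : pc m ≤ 5) :
    cnt (dotf l) = cnt (dotf (wordOf m)) := by
  have hcard : (Cfsg.Agent.Lib.Helper7.setOf m).card = (support₂ l).card := by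
    rw [card_setOf, card_support₂_eq_hammingNorm, hm]
  obtain ⟨σ, hσ, hs⟩ := exists_smul_eq_of_card hcard (by rw [card_setOf]; exact h5)
  have : act σ (wordOf m) = l := by
    apply support₂_injective
    rw [support₂_act, support₂_wordOf, hs]
  rw [← this, cnt_dotf_act hσ]

/-! ### Words orthogonal to the code -/

theorem cnt_congr {φ φ' : (GolayPt → ZMod 2) → ZMod 2} (h : ∀ c ∈ oct8, φ c = φ' c) :
    cnt φ = cnt φ' := by
  unfold cnt
  congr 1
  apply Finset.filter_congr
  intro c hc
  rw [h c hc]

theorem hammingNorm_e_add_e {a b : GolayPt} (hab : a ≠ b) : hammingNorm (e a + e b) = 2 := by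
  classical
  rw [← card_support₂_eq_hammingNorm]
  have : support₂ (e a + e b) = {a, b} := by
    ext q
    rw [mem_support₂, Finset.mem_insert, Finset.mem_singleton, Pi.add_apply, e_apply, e_apply]
    by_cases h1 : q = a
    · subst h1; simp [hab]
    · by_cases h2 : q = b
      · subst h2; simp [h1]
      · simp [h1, h2]
  rw [this, Finset.card_pair hab]

/-- The count determined by the weight of a light even word. -/
theorem cnt_light {l : GolayPt → ZMod 2} (hl : hammingNorm l ≤ 4) (heven : dotf l 1 = 0) :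
    (hammingNorm l = 0 ∧ cnt (dotf l) = 759) ∨ (hammingNorm l = 2 ∧ cnt (dotf l) = 407) ∨
      (hammingNorm l = 4 ∧ cnt (dotf l) = 375) := by
  rw [dotf_one, ZMod.natCast_eq_zero_iff_even, Nat.even_iff] at heven
  have h : hammingNorm l = 0 ∨ hammingNorm l = 2 ∨ hammingNorm l = 4 := by omega
  rcases h with h | h | h
  · left
    refine ⟨h, ?_⟩
    rw [hammingNorm_eq_zero.mp h]; exact cnt_zero
  · right; left
    refine ⟨h, ?_⟩
    rw [cnt_of_weight 3 (by rw [h]; decide) (by decide)]; exact cnt_pair
  · right; right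
    refine ⟨h, ?_⟩
    rw [cnt_of_weight 15 (by rw [h]; decide) (by decide)]; exact cnt_tetrad

/-- A word orthogonal to the code lies in the code. -/
theorem mem_code_of_orth {u : GolayPt → ZMod 2} (hu : ∀ c ∈ golayCode, dotf u c = 0) :
    u ∈ golayCode := by
  obtain ⟨A, hA, _, l, hlA⟩ := exists_light_set u
  obtain ⟨hlu, hl4⟩ := (hA l).mp hlA
  have hl : ∀ c ∈ golayCode, dotf l c = 0 := by
    intro c hc
    have h1 : dotf (l - u) c = 0 := golay_orth _ _ hlu hc
    rw [Cfsg.Agent.Lib.Helper93.sub_eq_add_zmod2, dotf_add_left, hu c hc, add_zero] at h1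
    exact h1
  have hcnt : cnt (dotf l) = 759 := by
    rw [cnt_congr (φ' := dotf 0) (fun c hc => by
      rw [hl c (mem_oct8.mp hc).1]; simp [dotf])]
    exact cnt_zero
  have hl0 : l = 0 := by
    rcases cnt_light hl4 (hl 1 golay_one_mem') with ⟨h, _⟩ | ⟨_, h⟩ | ⟨_, h⟩
    · exact hammingNorm_eq_zero.mp h
    · omega
    · omega
  rw [hl0, zero_sub] at hlu
  have := golayCode.neg_mem hlu
  rwa [neg_neg] at this

/-- A word of weight at most 7 orthogonal to the code is zero. -/
theorem eq_zero_of_orth {u : GolayPt → ZMod 2} (hu : ∀ c ∈ golayCode, dotf u c = 0)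
    (h7 : hammingNorm u ≤ 7) : u = 0 := by
  by_contra h0
  have := golay_min_weight (mem_code_of_orth hu) h0
  rw [card_support₂_eq_hammingNorm] at this
  omega

/-! ### Linear automorphisms of the code preserving weights up to complement -/

/-- The all-ones word as an element of the code. -/
def one' : ↥golayCode := ⟨1, golay_one_mem'⟩

/-- The hypotheses on an automorphism `x` of the code that we use. -/
structure Nice (x : ↥golayCode ≃ₗ[ZMod 2] ↥golayCode) : Prop where
  one : x one' = one'
  wt : ∀ c : ↥golayCode, hammingNorm ((x c : ↥golayCode) : GolayPt → ZMod 2) = 8 →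
    hammingNorm (c : GolayPt → ZMod 2) = 8 ∨ hammingNorm (c : GolayPt → ZMod 2) = 16
  wt' : ∀ c : ↥golayCode, hammingNorm (c : GolayPt → ZMod 2) = 8 →
    hammingNorm ((x c : ↥golayCode) : GolayPt → ZMod 2) = 8 ∨
      hammingNorm ((x c : ↥golayCode) : GolayPt → ZMod 2) = 16

/-- The action of `x` on all words (zero outside the code). -/
noncomputable def xv (x : ↥golayCode ≃ₗ[ZMod 2] ↥golayCode) (c : GolayPt → ZMod 2) :
    GolayPt → ZMod 2 := by
  classical
  exact if h : c ∈ golayCode then ((x ⟨c, h⟩ : ↥golayCode) : GolayPt → ZMod 2) else 0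

theorem xv_eq (x : ↥golayCode ≃ₗ[ZMod 2] ↥golayCode) {c : GolayPt → ZMod 2} (h : c ∈ golayCode) :
    xv x c = ((x ⟨c, h⟩ : ↥golayCode) : GolayPt → ZMod 2) := by
  unfold xv
  simp [h]

theorem xv_coe (x : ↥golayCode ≃ₗ[ZMod 2] ↥golayCode) (c : ↥golayCode) :
    xv x (c : GolayPt → ZMod 2) = ((x c : ↥golayCode) : GolayPt → ZMod 2) := by
  rw [xv_eq x c.2]

/-- The map on octad words induced by `x`: complement the image if it has weight 16. -/
noncomputable def xt (x : ↥golayCode ≃ₗ[ZMod 2] ↥golayCode) (c : GolayPt → ZMod 2) :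
    GolayPt → ZMod 2 := by
  classical
  exact if hammingNorm (xv x c) = 8 then xv x c else xv x c + 1

theorem xt_cases (x : ↥golayCode ≃ₗ[ZMod 2] ↥golayCode) (c : GolayPt → ZMod 2) :
    (xt x c = xv x c ∧ hammingNorm (xv x c) = 8) ∨
      (xt x c = xv x c + 1 ∧ hammingNorm (xv x c) ≠ 8) := by
  unfold xt
  by_cases h : hammingNorm (xv x c) = 8
  · left; simp [h]
  · right; simp [h]

theorem coe_add_one' (c : ↥golayCode) :
    ((c + one' : ↥golayCode) : GolayPt → ZMod 2) = (c : GolayPt → ZMod 2) + 1 := rfl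

/-- Composition with a nice `x` does not increase the count of an even functional. -/
theorem cnt_comp_le {x : ↥golayCode ≃ₗ[ZMod 2] ↥golayCode} (hx : Nice x)
    (φ : (GolayPt → ZMod 2) → ZMod 2) (hφ : ∀ w ∈ golayCode, φ (w + 1) = φ w) :
    cnt (fun c => φ (xv x c)) ≤ cnt φ := by
  apply cnt_le_of_map (xt x)
  · intro c hc
    rw [mem_oct8] at hc ⊢
    have h1 := hx.wt' ⟨c, hc.1⟩ hc.2
    rw [← xv_coe] at h1
    rcases xt_cases x c with ⟨h, h8⟩ | ⟨h, h8⟩
    · rw [h, xv_eq x hc.1]
      exact ⟨(x ⟨c, hc.1⟩).2, by rw [← xv_eq x hc.1]; exact h8⟩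
    · rw [h, xv_eq x hc.1]
      refine ⟨golayCode.add_mem (x ⟨c, hc.1⟩).2 golay_one_mem', ?_⟩
      have h16 : hammingNorm (xv x c) = 16 := by
        rcases h1 with h1 | h1
        · exact absurd h1 h8
        · exact h1
      have := hammingNorm_add_one (xv x c)
      rw [← xv_eq x hc.1]
      omega
  · intro c hc c' hc' h
    rw [mem_oct8] at hc hc'
    -- x c and x c' differ by 0 or 1
    have hdiff : xv x c = xv x c' ∨ xv x c = xv x c' + 1 := by
      rcases xt_cases x c with ⟨h1, _⟩ | ⟨h1, _⟩ <;> rcases xt_cases x c' with ⟨h2, _⟩ | ⟨h2, _⟩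
      · left; rw [← h1, ← h2, h]
      · right; rw [← h1, h, h2]
      · right
        rw [h1, h2] at h
        have : xv x c = xv x c + 1 + 1 := by rw [add_assoc, add_self_word, add_zero]
        rw [this, h]
      · left
        rw [h1, h2] at h
        exact add_right_cancel h
    rw [xv_eq x hc.1, xv_eq x hc'.1] at hdiff
    rcases hdiff with hd | hd
    · have := x.injective (Subtype.ext hd)
      exact congrArg Subtype.val this
    · exfalso
      have h2 : x ⟨c, hc.1⟩ = x (⟨c', hc'.1⟩ + one') := by
        apply Subtype.ext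
        rw [map_add, hx.one]
        exact hd
      have h3 := congrArg Subtype.val (x.injective h2)
      simp only [coe_add_one'] at h3
      have h4 := hammingNorm_add_one c'
      rw [← h3] at h4
      omega
  · intro c hc
    rw [mem_oct8] at hc
    rcases xt_cases x c with ⟨h, _⟩ | ⟨h, _⟩
    · rw [h]
    · rw [h, hφ]
      rw [xv_eq x hc.1]
      exact (x ⟨c, hc.1⟩).2

theorem nice_symm_apply {x : ↥golayCode ≃ₗ[ZMod 2] ↥golayCode} {c : GolayPt → ZMod 2}
    (hc : c ∈ golayCode) : xv x (xv x.symm c) = c := by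
  rw [xv_eq x.symm hc, xv_coe]
  simp

/-- Composition with a nice `x` (with nice inverse) preserves the count of an even functional. -/
theorem cnt_comp_eq {x : ↥golayCode ≃ₗ[ZMod 2] ↥golayCode} (hx : Nice x) (hx' : Nice x.symm)
    (φ : (GolayPt → ZMod 2) → ZMod 2) (hφ : ∀ w ∈ golayCode, φ (w + 1) = φ w) :
    cnt (fun c => φ (xv x c)) = cnt φ := by
  apply le_antisymm (cnt_comp_le hx φ hφ)
  have h1 := cnt_comp_le hx' (fun c => φ (xv x c)) (by
    intro w hw
    have : xv x (w + 1) = xv x w + 1 := by
      rw [xv_eq x (golayCode.add_mem hw golay_one_mem'), xv_eq x hw]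
      have : (⟨w + 1, golayCode.add_mem hw golay_one_mem'⟩ : ↥golayCode) = ⟨w, hw⟩ + one' := rfl
      rw [this, map_add, hx.one]
      rfl
    show φ (xv x (w + 1)) = φ (xv x w)
    rw [this, hφ]
    rw [xv_eq x hw]
    exact (x ⟨w, hw⟩).2)
  have h2 : cnt (fun c => φ (xv x (xv x.symm c))) = cnt φ := by
    apply cnt_congr
    intro c hc
    rw [nice_symm_apply (mem_oct8.mp hc).1]
  rw [← h2]
  exact h1

/-- A word of weight 2 is `e a + e b`. -/
theorem eq_e_add_e_of_weight_two {l : GolayPt → ZMod 2} (h : hammingNorm l = 2) :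
    ∃ a b, a ≠ b ∧ l = e a + e b := by
  classical
  rw [← card_support₂_eq_hammingNorm, Finset.card_eq_two] at h
  obtain ⟨a, b, hab, hs⟩ := h
  refine ⟨a, b, hab, ?_⟩
  apply support₂_injective
  rw [hs]
  ext q
  rw [mem_support₂, Finset.mem_insert, Finset.mem_singleton, Pi.add_apply, e_apply, e_apply]
  by_cases h1 : q = a
  · subst h1; simp [hab]
  · by_cases h2 : q = b
    · subst h2; simp [h1]
    · simp [h1, h2]

/-- Key lemma: a nice `x` maps each pair functional to a pair functional. -/
theorem key_pair {x : ↥golayCode ≃ₗ[ZMod 2] ↥golayCode} (hx : Nice x) (hx' : Nice x.symm)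
    {p q : GolayPt} (hpq : p ≠ q) : ∃ a b, a ≠ b ∧ ∀ c : ↥golayCode,
      dotf (e p + e q) ((x c : ↥golayCode) : GolayPt → ZMod 2) =
        dotf (e a + e b) (c : GolayPt → ZMod 2) := by
  -- the functional
  let pr : GolayPt → ((GolayPt → ZMod 2) →ₗ[ZMod 2] ZMod 2) := fun r =>
    LinearMap.proj (R := ZMod 2) (φ := fun _ : GolayPt => ZMod 2) r
  let ψ : ↥golayCode →ₗ[ZMod 2] ZMod 2 :=
    ((pr p + pr q) ∘ₗ golayCode.subtype) ∘ₗ x.toLinearMap
  have hψ : ∀ c : ↥golayCode, ψ c = dotf (e p + e q) ((x c : ↥golayCode) : GolayPt → ZMod 2) := by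
    intro c
    rw [dotf_add_left, dotf_e, dotf_e]
    rfl
  obtain ⟨l, hl4, hl⟩ := exists_light_repr ψ
  have heven : dotf l 1 = 0 := by
    have h1 := hl one'
    rw [hψ, hx.one] at h1
    have h2 : dotf (e p + e q) ((one' : ↥golayCode) : GolayPt → ZMod 2) = 0 := by
      rw [dotf_add_left, dotf_e, dotf_e]
      show (1 : ZMod 2) + 1 = 0
      decide
    rw [h2] at h1
    exact h1.symm
  have hcnt : cnt (dotf l) = 407 := by
    have h1 : cnt (dotf l) = cnt (fun c => dotf (e p + e q) (xv x c)) := by
      apply cnt_congr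
      intro c hc
      have hcC := (mem_oct8.mp hc).1
      rw [xv_eq x hcC, ← hψ, hl]
    rw [h1, cnt_comp_eq hx hx' (dotf (e p + e q)) (by
      intro w _
      rw [dotf_add_right]
      have : dotf (e p + e q) 1 = 0 := by
        rw [dotf_add_left, dotf_e, dotf_e]
        show (1 : ZMod 2) + 1 = 0
        decide
      rw [this, add_zero])]
    rw [cnt_of_weight 3 (by rw [hammingNorm_e_add_e hpq]; decide) (by decide)]
    exact cnt_pair
  have hl2 : hammingNorm l = 2 := by
    rcases cnt_light hl4 heven with ⟨_, h⟩ | ⟨h, _⟩ | ⟨_, h⟩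
    · omega
    · exact h
    · omega
  obtain ⟨a, b, hab, rfl⟩ := eq_e_add_e_of_weight_two hl2
  exact ⟨a, b, hab, fun c => by rw [← hψ, hl]⟩

/-! ### The combinatorial core: an adjacency-preserving map on pairs comes from a map on points -/

theorem pair_eq_of_mem {A : Finset GolayPt} (hA : A.card = 2) {a b : GolayPt} (ha : a ∈ A)
    (hb : b ∈ A) (hab : a ≠ b) : A = {a, b} := by
  symm
  apply Finset.eq_of_subset_of_card_le
  · intro q hq
    rw [Finset.mem_insert, Finset.mem_singleton] at hq
    rcases hq with rfl | rfl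
    · exact ha
    · exact hb
  · rw [hA, Finset.card_pair hab]

theorem card_inter_of_symmDiff {A B : Finset GolayPt} (hA : A.card = 2) (hB : B.card = 2)
    (hAB : (symmDiff A B).card = 2) : (A ∩ B).card = 1 := by
  have := Cfsg.Agent.Lib.Helper93.card_symmDiff_add A B
  omega

theorem star_lemma (S : GolayPt → GolayPt → Finset GolayPt)
    (h2 : ∀ p q, p ≠ q → (S p q).card = 2)
    (hsym : ∀ p q, S p q = S q p)
    (htri : ∀ p q r, p ≠ q → p ≠ r → q ≠ r → S q r = symmDiff (S p q) (S p r))
    (hinj : ∀ p q r s, p ≠ q → r ≠ s → S p q = S r s → ({p, q} : Finset GolayPt) = {r, s}) :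
    ∃ π : GolayPt → GolayPt, Function.Injective π ∧ ∀ p q, p ≠ q → S p q = {π p, π q} := by
  classical
  -- adjacent pairs meet in exactly one point
  have hadj : ∀ p q r, p ≠ q → p ≠ r → q ≠ r → (S p q ∩ S p r).card = 1 := by
    intro p q r hpq hpr hqr
    apply card_inter_of_symmDiff (h2 p q hpq) (h2 p r hpr)
    rw [← htri p q r hpq hpr hqr]
    exact h2 q r hqr
  -- the centre of the star at `p`
  have hstar : ∀ p, ∃ s, ∀ q, q ≠ p → s ∈ S p q := by
    intro p
    obtain ⟨q1, hq1⟩ := exists_not_mem_of_card_lt {p} (by simp)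
    obtain ⟨q2, hq2⟩ := exists_not_mem_of_card_lt {p, q1} (by
      have := Finset.card_le_two (a := p) (b := q1); omega)
    rw [Finset.mem_singleton] at hq1
    rw [Finset.mem_insert, Finset.mem_singleton, not_or] at hq2
    have hpq1 : p ≠ q1 := Ne.symm hq1
    have hpq2 : p ≠ q2 := Ne.symm hq2.1
    have hq12 : q1 ≠ q2 := Ne.symm hq2.2
    obtain ⟨s, hs⟩ := Finset.card_eq_one.mp (hadj p q1 q2 hpq1 hpq2 hq12)
    have hs1 : s ∈ S p q1 := (Finset.mem_inter.mp (hs ▸ Finset.mem_singleton_self s)).1
    have hs2 : s ∈ S p q2 := (Finset.mem_inter.mp (hs ▸ Finset.mem_singleton_self s)).2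
    refine ⟨s, ?_⟩
    intro q hqp
    by_cases hqq1 : q = q1
    · rw [hqq1]; exact hs1
    by_cases hqq2 : q = q2
    · rw [hqq2]; exact hs2
    by_contra hsq
    have hpq : p ≠ q := Ne.symm hqp
    -- the points of `S p q` in `S p q1` and `S p q2`
    obtain ⟨a, ha⟩ := Finset.card_eq_one.mp (hadj p q q1 hpq hpq1 hqq1)
    obtain ⟨b, hb⟩ := Finset.card_eq_one.mp (hadj p q q2 hpq hpq2 hqq2)
    have ha1 : a ∈ S p q := (Finset.mem_inter.mp (ha ▸ Finset.mem_singleton_self a)).1
    have ha2 : a ∈ S p q1 := (Finset.mem_inter.mp (ha ▸ Finset.mem_singleton_self a)).2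
    have hb1 : b ∈ S p q := (Finset.mem_inter.mp (hb ▸ Finset.mem_singleton_self b)).1
    have hb2 : b ∈ S p q2 := (Finset.mem_inter.mp (hb ▸ Finset.mem_singleton_self b)).2
    have has : a ≠ s := fun h => hsq (h ▸ ha1)
    have hbs : b ≠ s := fun h => hsq (h ▸ hb1)
    have hab : a ≠ b := by
      intro h
      have : a ∈ S p q1 ∩ S p q2 := Finset.mem_inter.mpr ⟨ha2, h ▸ hb2⟩
      rw [hs, Finset.mem_singleton] at this
      exact has this
    have e1 : S p q1 = {s, a} := pair_eq_of_mem (h2 p q1 hpq1) hs1 ha2 (Ne.symm has)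
    have e2 : S p q2 = {s, b} := pair_eq_of_mem (h2 p q2 hpq2) hs2 hb2 (Ne.symm hbs)
    have e3 : S p q = {a, b} := pair_eq_of_mem (h2 p q hpq) ha1 hb1 hab
    have e4 : S q1 q2 = {a, b} := by
      rw [htri p q1 q2 hpq1 hpq2 hq12, e1, e2]
      ext z
      simp only [Finset.mem_symmDiff, Finset.mem_insert, Finset.mem_singleton]
      constructor
      · rintro (⟨h1 | h1, h2⟩ | ⟨h1 | h1, h2⟩)
        · exact absurd (Or.inl h1) h2
        · exact Or.inl h1
        · exact absurd (Or.inl h1) h2
        · exact Or.inr h1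
      · rintro (h1 | h1)
        · left
          refine ⟨Or.inr h1, ?_⟩
          rintro (h | h)
          · exact has (h1 ▸ h)
          · exact hab (h1 ▸ h)
        · right
          refine ⟨Or.inr h1, ?_⟩
          rintro (h | h)
          · exact hbs (h1 ▸ h)
          · exact hab (h1 ▸ h).symm
    have := hinj p q q1 q2 hpq hq12 (by rw [e3, e4])
    have hp : p ∈ ({q1, q2} : Finset GolayPt) := by
      rw [← this]; exact Finset.mem_insert_self p _
    rw [Finset.mem_insert, Finset.mem_singleton] at hp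
    rcases hp with h | h
    · exact hpq1 h
    · exact hpq2 h
  choose π hπ using hstar
  have hne : ∀ p q, p ≠ q → π p ≠ π q := by
    intro p q hpq heq
    obtain ⟨r, hr⟩ := exists_not_mem_of_card_lt {p, q} (by
      have := Finset.card_le_two (a := p) (b := q); omega)
    rw [Finset.mem_insert, Finset.mem_singleton, not_or] at hr
    have h1 : π p ∈ S p q := hπ p q (Ne.symm hpq)
    have h2' : π p ∈ S p r := hπ p r hr.1
    have h3 : π q ∈ S q r := hπ q r hr.2
    rw [htri p q r hpq (Ne.symm hr.1) (Ne.symm hr.2), ← heq, Finset.mem_symmDiff] at h3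
    rcases h3 with ⟨_, h⟩ | ⟨_, h⟩
    · exact h h2'
    · exact h h1
  refine ⟨π, ?_, ?_⟩
  · intro p q h
    by_contra hpq
    exact hne p q hpq h
  · intro p q hpq
    apply pair_eq_of_mem (h2 p q hpq) (hπ p q (Ne.symm hpq)) _ (hne p q hpq)
    rw [hsym]
    exact hπ q p hpq

/-! ### From a nice automorphism to a permutation of the points -/

theorem support₂_e_add_e {a b : GolayPt} (hab : a ≠ b) :
    support₂ (e a + e b) = ({a, b} : Finset GolayPt) := by
  classical
  ext q
  rw [mem_support₂, Finset.mem_insert, Finset.mem_singleton, Pi.add_apply, e_apply, e_apply]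
  by_cases h1 : q = a
  · subst h1; simp [hab]
  · by_cases h2 : q = b
    · subst h2; simp [h1]
    · simp [h1, h2]

theorem hammingNorm_add_le' (u v : GolayPt → ZMod 2) :
    hammingNorm (u + v) ≤ hammingNorm u + hammingNorm v := by
  have := Cfsg.Agent.Lib.Helper93.hammingNorm_add_eq u v
  omega

/-- A nice automorphism acts on the pair functionals through an injective map of the points. -/
theorem exists_point_map {x : ↥golayCode ≃ₗ[ZMod 2] ↥golayCode} (hx : Nice x)
    (hx' : Nice x.symm) : ∃ π : GolayPt → GolayPt, Function.Injective π ∧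
      ∀ p q, ∀ c : ↥golayCode, dotf (e p + e q) ((x c : ↥golayCode) : GolayPt → ZMod 2) =
        dotf (e (π p) + e (π q)) (c : GolayPt → ZMod 2) := by
  classical
  have hkey := fun p q (hpq : p ≠ q) => key_pair hx hx' hpq
  choose A B hAB using hkey
  -- the image word
  let L : GolayPt → GolayPt → GolayPt → ZMod 2 := fun p q =>
    if h : p ≠ q then e (A p q h) + e (B p q h) else 0
  have hL : ∀ p q (h : p ≠ q), L p q = e (A p q h) + e (B p q h) := by
    intro p q h; simp only [L, dif_pos h]
  have hLw : ∀ p q, p ≠ q → hammingNorm (L p q) = 2 := by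
    intro p q h
    rw [hL p q h]; exact hammingNorm_e_add_e (hAB p q h).1
  have hLf : ∀ p q, p ≠ q → ∀ c : ↥golayCode,
      dotf (e p + e q) ((x c : ↥golayCode) : GolayPt → ZMod 2) =
        dotf (L p q) (c : GolayPt → ZMod 2) := by
    intro p q h c
    rw [hL p q h]; exact (hAB p q h).2 c
  -- every code word is an image
  have hsurj : ∀ c ∈ golayCode, ∃ c' : ↥golayCode,
      ((x c' : ↥golayCode) : GolayPt → ZMod 2) = c := by
    intro c hc
    exact ⟨x.symm ⟨c, hc⟩, by simp⟩
  have hsym : ∀ p q, L p q = L q p := by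
    intro p q
    by_cases h : p = q
    · rw [h]
    · have hu : L p q + L q p = 0 := by
        apply eq_zero_of_orth
        · intro c hc
          rw [dotf_add_left, ← hLf p q h ⟨c, hc⟩, ← hLf q p (Ne.symm h) ⟨c, hc⟩,
            add_comm (e q) (e p), zmod2_add_self]
        · have := hammingNorm_add_le' (L p q) (L q p)
          rw [hLw p q h, hLw q p (Ne.symm h)] at this
          omega
      have : L p q = L p q + (L q p + L q p) := by rw [add_self_word, add_zero]
      rw [this, ← add_assoc, hu, zero_add]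
  have htri : ∀ p q r, p ≠ q → p ≠ r → q ≠ r → L q r = L p q + L p r := by
    intro p q r hpq hpr hqr
    have hu : L q r + (L p q + L p r) = 0 := by
      apply eq_zero_of_orth
      · intro c hc
        rw [dotf_add_left, dotf_add_left, ← hLf q r hqr ⟨c, hc⟩, ← hLf p q hpq ⟨c, hc⟩,
          ← hLf p r hpr ⟨c, hc⟩, ← dotf_add_left, ← dotf_add_left]
        have : e q + e r + (e p + e q + (e p + e r)) = 0 := by
          have : e q + e r + (e p + e q + (e p + e r))
              = (e p + e p) + (e q + e q) + (e r + e r) := by abel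
          rw [this, add_self_word (e p), add_self_word (e q), add_self_word (e r)]
          simp
        rw [this]
        simp [dotf]
      · have h1 := hammingNorm_add_le' (L q r) (L p q + L p r)
        have h2 := hammingNorm_add_le' (L p q) (L p r)
        rw [hLw q r hqr] at h1
        rw [hLw p q hpq, hLw p r hpr] at h2
        omega
    have : L q r = L q r + ((L p q + L p r) + (L p q + L p r)) := by
      rw [add_self_word, add_zero]
    rw [this, ← add_assoc, hu, zero_add]
  have hinj : ∀ p q r s, p ≠ q → r ≠ s → L p q = L r s → e p + e q = e r + e s := by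
    intro p q r s hpq hrs h
    have hu : (e p + e q) + (e r + e s) = 0 := by
      apply eq_zero_of_orth
      · intro c hc
        obtain ⟨c', rfl⟩ := hsurj c hc
        rw [dotf_add_left, hLf p q hpq, hLf r s hrs, h, zmod2_add_self]
      · have := hammingNorm_add_le' (e p + e q) (e r + e s)
        rw [hammingNorm_e_add_e hpq, hammingNorm_e_add_e hrs] at this
        omega
    have : e p + e q = e p + e q + ((e r + e s) + (e r + e s)) := by
      rw [add_self_word, add_zero]
    rw [this, ← add_assoc, hu, zero_add]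
  -- apply the star lemma to the supports
  obtain ⟨π, hπinj, hπ⟩ := star_lemma (fun p q => support₂ (L p q))
    (fun p q h => by rw [card_support₂_eq_hammingNorm]; exact hLw p q h)
    (fun p q => by rw [hsym])
    (fun p q r hpq hpr hqr => by
      rw [htri p q r hpq hpr hqr]
      exact Cfsg.Agent.Lib.Helper93.supp_add _ _)
    (fun p q r s hpq hrs h => by
      have := hinj p q r s hpq hrs (support₂_injective h)
      rw [← support₂_e_add_e hpq, ← support₂_e_add_e hrs, this])
  refine ⟨π, hπinj, ?_⟩
  intro p q c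
  by_cases hpq : p = q
  · rw [hpq, add_self_word, add_self_word]
    simp [dotf]
  · rw [hLf p q hpq c]
    congr 1
    apply support₂_injective
    rw [hπ p q hpq, support₂_e_add_e (fun h => hpq (hπinj h))]

/-- Let X be a group of linear automorphisms of the length-24 binary Golay code of the definitions that fix the all-ones word, containing the coordinate-permutation action of every element of the code's automorphism group (the Mathieu group of degree 24), and such that every element of X sends each codeword into its orbit under that Mathieu group up to adding the all-ones word (X has the same orbits as the Mathieu group on the code modulo the all-ones word). Then every element of X agrees, modulo the all-ones word, with the action of a single element of the Mathieu group: X induces exactly the Mathieu group on the code modulo the all-ones word. -/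
theorem result (X : Subgroup (↥Cfsg.golayCode ≃ₗ[ZMod 2] ↥Cfsg.golayCode)) (h1 : ∀ x ∈ X, ∀ e : ↥Cfsg.golayCode, (e : (Cfsg.GolayPt → ZMod 2)) = (fun _ => (1 : ZMod 2)) → x e = e) (hM : ∀ σ ∈ Cfsg.M24, ∃ x ∈ X, ∀ c : ↥Cfsg.golayCode, ((x c : ↥Cfsg.golayCode) : (Cfsg.GolayPt → ZMod 2)) = fun p => (c : (Cfsg.GolayPt → ZMod 2)) (σ.symm p)) (horb : ∀ x ∈ X, ∀ c : ↥Cfsg.golayCode, ∃ σ ∈ Cfsg.M24, ((x c : ↥Cfsg.golayCode) : (Cfsg.GolayPt → ZMod 2)) = (fun p => (c : (Cfsg.GolayPt → ZMod 2)) (σ.symm p)) ∨ ((x c : ↥Cfsg.golayCode) : (Cfsg.GolayPt → ZMod 2)) = (fun p => (c : (Cfsg.GolayPt → ZMod 2)) (σ.symm p)) + fun _ => (1 : ZMod 2)) (x : ↥Cfsg.golayCode ≃ₗ[ZMod 2] ↥Cfsg.golayCode) (hx : x ∈ X) : ∃ σ ∈ Cfsg.M24, ∀ c : ↥Cfsg.golayCode, ((x c : ↥Cfsg.golayCode) : (Cfsg.GolayPt → ZMod 2)) = (fun p => (c : (Cfsg.GolayPt → ZMod 2)) (σ.symm p)) ∨ ((x c : ↥Cfsg.golayCode) : (Cfsg.GolayPt → ZMod 2)) = (fun p => (c : (Cfsg.GolayPt → ZMod 2)) (σ.symm p)) + fun _ => (1 : ZMod 2) := by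
  -- `x` and its inverse are nice
  have hnice : ∀ y ∈ X, Nice y := by
    intro y hy
    have hwt : ∀ c : ↥golayCode,
        hammingNorm ((y c : ↥golayCode) : GolayPt → ZMod 2) = hammingNorm (c : GolayPt → ZMod 2) ∨
        hammingNorm ((y c : ↥golayCode) : GolayPt → ZMod 2) + hammingNorm (c : GolayPt → ZMod 2)
          = 24 := by
      intro c
      obtain ⟨σ, _, h | h⟩ := horb y hy c
      · left
        rw [h]; exact hammingNorm_act σ _
      · right
        rw [h]
        have := hammingNorm_add_one (act σ (c : GolayPt → ZMod 2))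
        rw [hammingNorm_act] at this
        exact this
    refine ⟨h1 y hy one' rfl, ?_, ?_⟩
    · intro c h8
      rcases hwt c with h | h <;> omega
    · intro c h8
      rcases hwt c with h | h <;> omega
  have hx1 : Nice x := hnice x hx
  have hx2 : Nice x.symm := hnice x.symm (X.inv_mem hx)
  obtain ⟨π, hπinj, hπ⟩ := exists_point_map hx1 hx2
  -- the permutation
  let τ : Equiv.Perm GolayPt := Equiv.ofBijective π ⟨hπinj, Finite.injective_iff_surjective.mp hπinj⟩
  have hτ : ∀ p, τ p = π p := fun p => rfl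
  -- the dichotomy for each code word
  have hdich : ∀ c : ↥golayCode,
      ((x c : ↥golayCode) : GolayPt → ZMod 2) = (fun p => (c : GolayPt → ZMod 2) (τ p)) ∨
      ((x c : ↥golayCode) : GolayPt → ZMod 2) =
        (fun p => (c : GolayPt → ZMod 2) (τ p)) + fun _ => (1 : ZMod 2) := by
    intro c
    have hrel : ∀ p q, ((x c : ↥golayCode) : GolayPt → ZMod 2) p +
        ((x c : ↥golayCode) : GolayPt → ZMod 2) q =
        (c : GolayPt → ZMod 2) (π p) + (c : GolayPt → ZMod 2) (π q) := by
      intro p q
      have := hπ p q c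
      rwa [dotf_add_left, dotf_e, dotf_e, dotf_add_left, dotf_e, dotf_e] at this
    by_cases h0 : ((x c : ↥golayCode) : GolayPt → ZMod 2) none = (c : GolayPt → ZMod 2) (π none)
    · left
      funext q
      have := hrel none q
      rw [h0] at this
      rw [hτ]
      exact add_left_cancel this
    · right
      funext q
      have := hrel none q
      have h1' : ((x c : ↥golayCode) : GolayPt → ZMod 2) none
          = (c : GolayPt → ZMod 2) (π none) + 1 := by
        generalize ((x c : ↥golayCode) : GolayPt → ZMod 2) none = a at h0 ⊢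
        generalize (c : GolayPt → ZMod 2) (π none) = b at h0 ⊢
        revert a b; decide
      rw [h1'] at this
      simp only [Pi.add_apply, hτ]
      generalize ((x c : ↥golayCode) : GolayPt → ZMod 2) q = a at this ⊢
      generalize (c : GolayPt → ZMod 2) (π q) = b at this ⊢
      generalize (c : GolayPt → ZMod 2) (π none) = d at this
      revert a b d; decide
  -- `τ` is in `M24`
  have hτmem : τ ∈ M24 := by
    apply mem_M24_of_forall_qrWord
    intro t
    rcases hdich ⟨qrWord t, golay_qrWord_mem t⟩ with h | h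
    · have h2 : (fun i => qrWord t (τ i)) =
          ((x ⟨qrWord t, golay_qrWord_mem t⟩ : ↥golayCode) : GolayPt → ZMod 2) := h.symm
      rw [h2]; exact (x _).2
    · have h2 : (fun i => qrWord t (τ i)) =
          ((x ⟨qrWord t, golay_qrWord_mem t⟩ : ↥golayCode) : GolayPt → ZMod 2) + 1 := by
        rw [h]
        funext q
        simp only [Pi.add_apply, Pi.one_apply]
        rw [add_assoc, zmod2_add_self, add_zero]
      rw [h2]; exact golayCode.add_mem (x _).2 golay_one_mem'
  refine ⟨τ⁻¹, inv_mem hτmem, ?_⟩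
  intro c
  have : ∀ p, (τ⁻¹).symm p = τ p := fun p => rfl
  simp only [this]
  exact hdich c

end Cfsg.Agent.S5549
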