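import Cfsg.Statements.S5552
import Cfsg.Agent.Lib.Helper8.CrossStab
import Cfsg.Agent.Lib.Helper8.Co0Orbit
import Cfsg.Agent.Lib.Helper8.LeechMod2
import Cfsg.Agent.Lib.Helper7.LeechNorm
import Cfsg.Agent.S0400
import Cfsg.Agent.S0401
import Cfsg.Agent.S5593

set_option autoImplicit false
open Cfsg

namespace Cfsg.Agent.S5552

open Cfsg.Agent.Lib.Helper8 Cfsg.Agent.Lib.Helper7

/-- a vector given by an explicit function passing the decidable lattice test -/
def mk (x : GolayPt → ℤ) (h : leechTest x) : leechLattice :=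
  ⟨x, (mem_leechLattice_iff _).2 (mem_leechSet_of_test h)⟩

/-- `(4, 4, 0, ...)` at `∞, 0` -/
def f1 : GolayPt → ℤ := fun j => if j = none ∨ j = some 0 then 4 else 0
/-- `(4, 4)` at `2, 13` -/
def f2 : GolayPt → ℤ := fun j => if j = some 2 ∨ j = some 13 then 4 else 0
/-- `(-4, -4)` at `∞, 2` -/
def f3 : GolayPt → ℤ := fun j => if j = none ∨ j = some 2 then -4 else 0
/-- `(-4, 4)` at `∞, 2` -/
def f4 : GolayPt → ℤ := fun j => if j = none then -4 else if j = some 2 then 4 else 0
/-- `2` on the octad `{0, 2, 13, 14, 15, 16, 17, 20}` with `-2` at `0, 2` -/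
def f5 : GolayPt → ℤ := fun j =>
  if j = some 0 ∨ j = some 2 then -2
  else if j = some 13 ∨ j = some 14 ∨ j = some 15 ∨ j = some 16 ∨ j = some 17 ∨ j = some 20 then 2
  else 0

theorem t1 : leechTest f1 := by decide +kernel
theorem t2 : leechTest f2 := by decide +kernel
theorem t3 : leechTest f3 := by decide +kernel
theorem t4 : leechTest f4 := by decide +kernel
theorem t5 : leechTest f5 := by decide +kernel

theorem n1 : sqNorm f1 = 32 := by decide +kernel
theorem n2 : sqNorm f2 = 32 := by decide +kernel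
theorem n3 : sqNorm f3 = 32 := by decide +kernel
theorem n4 : sqNorm f4 = 32 := by decide +kernel
theorem n5 : sqNorm f5 = 32 := by decide +kernel
theorem n12 : sqNorm (f1 + f2) = 64 := by decide +kernel
theorem n13 : sqNorm (f1 + f3) = 32 := by decide +kernel
theorem n23 : sqNorm (f2 + f3) = 32 := by decide +kernel
theorem n123 : sqNorm (f1 + f2 + f3) = 32 := by decide +kernel
theorem n51 : sqNorm (f5 + f1) = 48 := by decide +kernel
theorem n54 : sqNorm (f5 + f4) = 48 := by decide +kernel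
theorem n14 : sqNorm (f1 + f4) = 32 := by decide +kernel
theorem n514 : sqNorm (f5 + f1 + f4) = 32 := by decide +kernel

theorem dot_dvd {y z : GolayPt → ℤ} (hy : y ∈ leechLattice) (hz : z ∈ leechLattice) :
    (8 : ℤ) ∣ dotInt y z := by
  have h1 := sqNorm_dvd_of_mem_leechLattice (leechLattice.add_mem hy hz)
  have h2 := sqNorm_dvd_of_mem_leechLattice hy
  have h3 := sqNorm_dvd_of_mem_leechLattice hz
  rw [sqNorm_add'] at h1
  omega

theorem zl0 : ∀ q : ZMod 2, q + q + q + q = q + q + q → q = 0 := by decide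
theorem zl1 : ∀ a c : ZMod 2, a + a + a + a = c + a + a → c = 0 := by decide
theorem zl2 : ∀ a b : ZMod 2, a + a + a + a = b + b + a → a = 0 := by decide

/-- On the Leech lattice of the definitions, let Q be a function to the field with two elements that is constant on cosets of twice the lattice, is a quadratic form there (Q(u+v+w) + Q(u) + Q(v) + Q(w) = Q(u+v) + Q(u+w) + Q(v+w) for all u, v, w), is invariant under every lattice automorphism, and is not identically zero. Then Q(v) is the squared length of v divided by 16, reduced modulo 2, for every lattice vector v (squared lengths of lattice vectors are multiples of 16). -/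
theorem result (Q : ↥Cfsg.leechLattice → ZMod 2) (hcoset : ∀ v w : ↥Cfsg.leechLattice, Q (v + (w + w)) = Q v) (hquad : ∀ u v w : ↥Cfsg.leechLattice, Q (u + v + w) + Q u + Q v + Q w = Q (u + v) + Q (u + w) + Q (v + w)) (hinv : ∀ (g : ↥Cfsg.Co0) (v : ↥Cfsg.leechLattice), Q (g • v) = Q v) (hne : ∃ v : ↥Cfsg.leechLattice, Q v ≠ 0) (v : ↥Cfsg.leechLattice) : Q v = ((Cfsg.sqNorm (v : Cfsg.GolayPt → ℤ) / 16 : ℤ) : ZMod 2) := by
  -- constancy on the three short types
  have c32 : ∀ x y : leechLattice, sqNorm (x : GolayPt → ℤ) = 32 → sqNorm (y : GolayPt → ℤ) = 32 →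
      Q x = Q y := by
    intro x y hx hy
    obtain ⟨g, rfl⟩ := Cfsg.Agent.S0400.result x y hx hy
    exact (hinv g x).symm
  have c48 : ∀ x y : leechLattice, sqNorm (x : GolayPt → ℤ) = 48 → sqNorm (y : GolayPt → ℤ) = 48 →
      Q x = Q y := by
    intro x y hx hy
    obtain ⟨g, rfl⟩ := Cfsg.Agent.S0401.result x y hx hy
    exact (hinv g x).symm
  have c64 : ∀ x y : leechLattice, sqNorm (x : GolayPt → ℤ) = 64 → sqNorm (y : GolayPt → ℤ) = 64 →
      Q x = Q y := by
    intro x y hx hy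
    obtain ⟨g, hg⟩ := (Cfsg.Agent.S5593.rel_a0 x hx).trans (Cfsg.Agent.S5593.rel_a0 y hy).symm
    rw [← hg]
    exact (hinv g x).symm
  have hQ0 : Q 0 = 0 := by
    have h := hquad 0 0 0
    simp only [add_zero] at h
    exact zl0 _ h
  -- the three values
  set a := Q (mk f1 t1) with ha
  have hA : ∀ x : leechLattice, sqNorm (x : GolayPt → ℤ) = 32 → Q x = a :=
    fun x hx => c32 x (mk f1 t1) hx n1
  -- `c = 0`
  have hc0 : ∀ x : leechLattice, sqNorm (x : GolayPt → ℤ) = 64 → Q x = 0 := by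
    intro x hx
    have h := hquad (mk f1 t1) (mk f2 t2) (mk f3 t3)
    rw [hA (mk f1 t1 + mk f2 t2 + mk f3 t3) n123, hA _ n1, hA _ n2, hA _ n3, hA (mk f1 t1 + mk f3 t3) n13,
      hA (mk f2 t2 + mk f3 t3) n23] at h
    rw [c64 x (mk f1 t1 + mk f2 t2) hx n12]
    exact zl1 _ _ h
  -- `a = 0`
  have ha0 : a = 0 := by
    have h := hquad (mk f5 t5) (mk f1 t1) (mk f4 t4)
    rw [hA (mk f5 t5 + mk f1 t1 + mk f4 t4) n514, hA _ n5, hA _ n1, hA _ n4,
      c48 (mk f5 t5 + mk f1 t1) (mk f5 t5 + mk f4 t4) n51 n54, hA (mk f1 t1 + mk f4 t4) n14] at h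
    exact zl2 _ _ h
  -- reduction to short vectors
  have hred : ∀ x : leechLattice, ∃ y : leechLattice, sqNorm (y : GolayPt → ℤ) ≤ 64 ∧ Q x = Q y ∧
      ((sqNorm (x : GolayPt → ℤ) / 16 : ℤ) : ZMod 2) = ((sqNorm (y : GolayPt → ℤ) / 16 : ℤ) : ZMod 2) := by
    intro x
    obtain ⟨y, hy, hyn, z, hz, hxyz⟩ := exists_short_rep x.1 x.2
    refine ⟨⟨y, hy⟩, hyn, ?_, ?_⟩
    · have e : x = (⟨y, hy⟩ : leechLattice) + ((⟨z, hz⟩ : leechLattice) + ⟨z, hz⟩) := by
        apply Subtype.ext
        show (x : GolayPt → ℤ) = y + (z + z)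
        have : (x : GolayPt → ℤ) = y + 2 • z := by rw [← hxyz]; abel
        rw [this, two_smul]
      rw [e, hcoset]
    · have e : (x : GolayPt → ℤ) = y + 2 • z := by rw [← hxyz]; abel
      show ((sqNorm (x : GolayPt → ℤ) / 16 : ℤ) : ZMod 2) = ((sqNorm y / 16 : ℤ) : ZMod 2)
      rw [e, sqNorm_add', sqNorm_two_smul]
      obtain ⟨k1, hk1⟩ := sqNorm_dvd_of_mem_leechLattice hy
      obtain ⟨k2, hk2⟩ := sqNorm_dvd_of_mem_leechLattice hz
      obtain ⟨k3, hk3⟩ := dot_dvd hy (leechLattice.nsmul_mem hz 2)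
      rw [hk1, hk2, hk3]
      have e1 : (16 * k1 + 4 * (16 * k2) + 2 * (8 * k3)) / 16 = k1 + 2 * (2 * k2) + k3 := by omega
      have e2 : 16 * k1 / 16 = k1 := by omega
      rw [e1, e2]
      -- k3 is even: dot y (2z) = 2 dot y z
      have hk3even : ∃ m, k3 = 2 * m := by
        obtain ⟨m, hm⟩ := dot_dvd hy hz
        have : dotInt y (2 • z) = 2 * dotInt y z := by
          unfold dotInt
          rw [Finset.mul_sum]
          refine Finset.sum_congr rfl fun i _ => ?_
          simp only [Pi.smul_apply, nsmul_eq_mul, Nat.cast_ofNat]; ring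
        rw [this, hm] at hk3
        exact ⟨m, by omega⟩
      obtain ⟨m, rfl⟩ := hk3even
      push_cast
      have h2 : (2 : ZMod 2) = 0 := by decide
      rw [h2]; ring
  -- `b = 1`
  have hb1 : ∀ x : leechLattice, sqNorm (x : GolayPt → ℤ) = 48 → Q x = 1 := by
    intro x hx
    by_contra hcon
    have hb0 : Q x = 0 := by
      rcases zmod2_cases (Q x) with h | h
      · exact h
      · exact absurd h hcon
    obtain ⟨w, hw⟩ := hne
    obtain ⟨y, hyn, hQy, -⟩ := hred w
    rcases sqNorm_cases y.2 hyn with h | h | h | h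
    · have : y = 0 := Subtype.ext ((sqNorm_eq_zero_iff _).1 h)
      rw [this, hQ0] at hQy
      exact hw hQy
    · rw [hA y h, ha0] at hQy
      exact hw hQy
    · rw [c48 y x h hx, hb0] at hQy
      exact hw hQy
    · rw [hc0 y h] at hQy
      exact hw hQy
  obtain ⟨y, hyn, hQy, hny⟩ := hred v
  rw [hQy, hny]
  rcases sqNorm_cases y.2 hyn with h | h | h | h
  · have : y = 0 := Subtype.ext ((sqNorm_eq_zero_iff _).1 h)
    rw [h, this, hQ0]; rfl
  · rw [hA y h, ha0, h]; rfl
  · rw [hb1 y h, h]; rfl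
  · rw [hc0 y h, h]; rfl

end Cfsg.Agent.S5552
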