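import Cfsg.Statements.S5553
import Cfsg.Prelude.Def_Spor_Conway
import Cfsg.Agent.Lib.Helper7.LeechSet
import Cfsg.Agent.Lib.Helper7.GolayFacts

set_option autoImplicit false
open Cfsg

namespace Cfsg.Agent.S5553

open Cfsg.Agent.Lib.Helper7

/-- Coordinates of a lattice vector all have the same parity. -/
theorem parity_of_mem {x : GolayPt → ℤ} (hx : x ∈ leechLattice) (i j : GolayPt) :
    (2 : ℤ) ∣ x i - x j := by
  rw [mem_leechLattice_iff] at hx
  obtain ⟨m, hpar, -, -⟩ := hx
  have h1 := hpar i
  have h2 := hpar j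
  unfold Int.ModEq at h1 h2
  omega

/-- The word attached to a lattice vector. -/
def wordOf (x : GolayPt → ℤ) : GolayPt → ZMod 2 :=
  fun i => (((x i - x none) / 2 : ℤ) : ZMod 2) + ((x none : ℤ) : ZMod 2)

theorem intCast_zmod2_eq_one_iff (a : ℤ) : ((a : ℤ) : ZMod 2) = 1 ↔ a % 2 = 1 := by
  rw [← Int.cast_one, ZMod.intCast_eq_intCast_iff]
  unfold Int.ModEq
  omega

theorem intCast_zmod2_eq_zero_iff (a : ℤ) : ((a : ℤ) : ZMod 2) = 0 ↔ a % 2 = 0 := by
  rw [← Int.cast_zero, ZMod.intCast_eq_intCast_iff]
  unfold Int.ModEq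
  omega

theorem wordOf_mem {x : GolayPt → ℤ} (hx : x ∈ leechLattice) : wordOf x ∈ golayCode := by
  have hpar := parity_of_mem hx
  rw [mem_leechLattice_iff] at hx
  obtain ⟨m, -, -, hsets⟩ := hx
  obtain ⟨w, hw, hwi⟩ := exists_word_of_mem_supports (hsets (x none + 2))
  have h1 : (fun i => (((x i - x none) / 2 : ℤ) : ZMod 2)) = w := by
    funext i
    obtain ⟨t, ht⟩ := hpar i none
    rcases zmod2_cases (w i) with h | h
    · rw [h, intCast_zmod2_eq_zero_iff]
      have := (hwi i).not.mp (by rw [h]; decide)
      unfold Int.ModEq at this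
      omega
    · rw [h, intCast_zmod2_eq_one_iff]
      have := (hwi i).mp h
      unfold Int.ModEq at this
      omega
  have h2 : wordOf x = w + ((x none : ℤ) : ZMod 2) • (1 : GolayPt → ZMod 2) := by
    funext i
    have := congrFun h1 i
    simp only [wordOf, Pi.add_apply, Pi.smul_apply, Pi.one_apply, smul_eq_mul, mul_one]
    rw [this]
  rw [h2]
  exact golayCode.add_mem hw (golayCode.smul_mem _ golay_one_mem)

theorem wordOf_add {x y : GolayPt → ℤ} (hx : x ∈ leechLattice) (hy : y ∈ leechLattice) :
    wordOf (x + y) = wordOf x + wordOf y := by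
  funext i
  obtain ⟨s, hs⟩ := parity_of_mem hx i none
  obtain ⟨t, ht⟩ := parity_of_mem hy i none
  simp only [wordOf, Pi.add_apply]
  have : (x i + y i - (x none + y none)) / 2 = (x i - x none) / 2 + (y i - y none) / 2 := by omega
  rw [this]
  push_cast
  ring

/-- The additive hom from the lattice to the code. -/
def phi : leechLattice →+ golayCode where
  toFun x := ⟨wordOf (x : GolayPt → ℤ), wordOf_mem x.2⟩
  map_zero' := by
    apply Subtype.ext
    funext i
    simp [wordOf]
  map_add' x y := by
    apply Subtype.ext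
    exact wordOf_add x.2 y.2

theorem phi_apply (x : leechLattice) : ((phi x : golayCode) : GolayPt → ZMod 2) = wordOf (x : GolayPt → ℤ) := rfl


/-- Vectors in the kernel: all coordinates are congruent to an even `r` modulo 4. -/
theorem ker_cond {x : GolayPt → ℤ} (hx : x ∈ leechLattice) (h0 : wordOf x = 0) :
    x none % 2 = 0 ∧ ∀ i, (x i - x none) % 4 = 0 := by
  have hnone : x none % 2 = 0 := by
    have := congrFun h0 none
    simp only [wordOf, sub_self, Int.zero_ediv, Int.cast_zero, zero_add, Pi.zero_apply] at this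
    exact (intCast_zmod2_eq_zero_iff _).mp this
  refine ⟨hnone, fun i => ?_⟩
  have := congrFun h0 i
  simp only [wordOf, Pi.zero_apply] at this
  rw [(intCast_zmod2_eq_zero_iff (x none)).mpr hnone, add_zero, intCast_zmod2_eq_zero_iff] at this
  obtain ⟨t, ht⟩ := parity_of_mem hx i none
  omega

theorem sq_mod_32_of_zero (a : ℤ) (h : a % 4 = 0) : (a ^ 2 - 4 * a) % 32 = 0 := by
  obtain ⟨z, rfl⟩ : ∃ z, a = 4 * z := ⟨a / 4, by omega⟩
  have : (4 * z) ^ 2 - 4 * (4 * z) = 16 * (z * (z - 1)) := by ring
  rw [this]
  have h2 : (z * (z - 1)) % 2 = 0 := by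
    rcases Int.emod_two_eq_zero_or_one z with hz | hz
    · rw [Int.mul_emod, hz]; simp
    · have : (z - 1) % 2 = 0 := by omega
      rw [Int.mul_emod, this]; simp
  omega

theorem sq_mod_32_of_two (a : ℤ) (h : a % 4 = 2) : (a ^ 2 - 8 * a + 12) % 32 = 0 := by
  obtain ⟨z, rfl⟩ : ∃ z, a = 4 * z + 2 := ⟨a / 4, by omega⟩
  have : (4 * z + 2) ^ 2 - 8 * (4 * z + 2) + 12 = 16 * (z * (z - 1)) := by ring
  rw [this]
  have h2 : (z * (z - 1)) % 2 = 0 := by
    rcases Int.emod_two_eq_zero_or_one z with hz | hz
    · rw [Int.mul_emod, hz]; simp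
    · have : (z - 1) % 2 = 0 := by omega
      rw [Int.mul_emod, this]; simp
  omega

/-- Squared lengths of kernel vectors are divisible by 32. -/
theorem norm_dvd {x : GolayPt → ℤ} (hx : x ∈ leechLattice) (h0 : wordOf x = 0) :
    (32 : ℤ) ∣ sqNorm x := by
  obtain ⟨hnone, hall⟩ := ker_cond hx h0
  have hx' := hx
  rw [mem_leechLattice_iff] at hx'
  obtain ⟨m, hpar, hsum, -⟩ := hx'
  have hm : m % 2 = 0 := by
    have := hpar none
    unfold Int.ModEq at this
    omega
  have hsum8 : (∑ i, x i) % 8 = 0 := by
    unfold Int.ModEq at hsum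
    omega
  have hcardZ : ((Finset.univ : Finset GolayPt).card : ℤ) = 24 := by
    have : (Finset.univ : Finset GolayPt).card = 24 := by decide
    rw [this]; rfl
  unfold sqNorm
  rcases (by omega : x none % 4 = 0 ∨ x none % 4 = 2) with h | h
  · have hi : ∀ i, x i % 4 = 0 := fun i => by have := hall i; omega
    have hs : (∑ i, (x i ^ 2 - 4 * x i)) % 32 = 0 := by
      apply Int.emod_eq_zero_of_dvd
      apply Finset.dvd_sum
      intro i _
      exact Int.dvd_of_emod_eq_zero (sq_mod_32_of_zero (x i) (hi i))
    rw [Finset.sum_sub_distrib, ← Finset.mul_sum] at hs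
    apply Int.dvd_of_emod_eq_zero
    omega
  · have hi : ∀ i, x i % 4 = 2 := fun i => by have := hall i; omega
    have hs : (∑ i, (x i ^ 2 - 8 * x i + 12)) % 32 = 0 := by
      apply Int.emod_eq_zero_of_dvd
      apply Finset.dvd_sum
      intro i _
      exact Int.dvd_of_emod_eq_zero (sq_mod_32_of_two (x i) (hi i))
    rw [Finset.sum_add_distrib, Finset.sum_sub_distrib, ← Finset.mul_sum, Finset.sum_const,
      nsmul_eq_mul, hcardZ] at hs
    apply Int.dvd_of_emod_eq_zero
    omega

/-- Twice a lattice vector is in the kernel. -/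
theorem wordOf_two_smul {x : GolayPt → ℤ} (hx : x ∈ leechLattice) : wordOf ((2 : ℤ) • x) = 0 := by
  have : (2 : ℤ) • x = x + x := two_smul ℤ x
  rw [this, wordOf_add hx hx]
  funext i
  simp only [Pi.add_apply, Pi.zero_apply]
  exact CharTwo.add_self_eq_zero _


/-- The odd vector `(-3, 1, ..., 1)`. -/
def xodd : GolayPt → ℤ := fun p => if p = none then -3 else 1

theorem xodd_mem : xodd ∈ leechLattice := by
  apply AddSubgroup.subset_closure
  exact Cfsg.Spor.mem_leechSet_of_const_mod_four xodd 1 1 (by decide) (by decide) (by decide)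

theorem wordOf_xodd : wordOf xodd = 1 := by
  funext i
  cases i with
  | none => simp [wordOf, xodd]; decide
  | some t => simp [wordOf, xodd]; decide

theorem gens_sum : ∀ t : ZMod 23, ∑ i, qrWord t i = 0 := by decide

theorem one_sum : ∑ i : GolayPt, (1 : GolayPt → ZMod 2) i = 0 := by decide

/-- Every codeword has even weight: the coordinate sum vanishes. -/
theorem sum_eq_zero_of_mem {c : GolayPt → ZMod 2} (hc : c ∈ golayCode) : ∑ i, c i = 0 := by
  unfold golayCode at hc
  induction hc using Submodule.span_induction with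
  | mem w hw =>
    rcases hw with ⟨t, rfl⟩ | hw
    · exact gens_sum t
    · rw [Set.mem_singleton_iff] at hw
      subst hw
      exact one_sum
  | zero => simp
  | add a b _ _ ha hb =>
    simp only [Pi.add_apply, Finset.sum_add_distrib, ha, hb, add_zero]
  | smul a w _ hw =>
    simp only [Pi.smul_apply, smul_eq_mul, ← Finset.mul_sum, hw, mul_zero]

/-- Integer lift of a binary word. -/
def lift (c : GolayPt → ZMod 2) : GolayPt → ℤ := fun i => if c i = 1 then 1 else 0

theorem lift_cast (c : GolayPt → ZMod 2) (i : GolayPt) : ((lift c i : ℤ) : ZMod 2) = c i := by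
  unfold lift
  rcases zmod2_cases (c i) with h | h <;> simp [h]

theorem lift_sum_even {c : GolayPt → ZMod 2} (hc : c ∈ golayCode) : (∑ i, lift c i) % 2 = 0 := by
  rw [← intCast_zmod2_eq_zero_iff, Int.cast_sum]
  simp only [lift_cast]
  exact sum_eq_zero_of_mem hc

/-- Preimage of a codeword vanishing at the extra point. -/
def pre (c : GolayPt → ZMod 2) : GolayPt → ℤ :=
  fun i => 2 * lift c i + (if i = none then 4 * (((∑ j, lift c j) % 4) / 2) else 0)

theorem pre_mod_four (c : GolayPt → ZMod 2) (i : GolayPt) :
    pre c i % 4 = if c i = 1 then 2 else 0 := by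
  unfold pre lift
  split_ifs <;> omega

theorem pre_mem {c : GolayPt → ZMod 2} (hc : c ∈ golayCode) : pre c ∈ leechLattice := by
  rw [mem_leechLattice_iff]
  have heven := lift_sum_even hc
  refine ⟨0, fun i => ?_, ?_, fun k => ?_⟩
  · have := pre_mod_four c i
    unfold Int.ModEq
    split_ifs at this <;> omega
  · have hsum : ∑ i, pre c i = 2 * ∑ i, lift c i + 4 * (((∑ j, lift c j) % 4) / 2) := by
      unfold pre
      rw [Finset.sum_add_distrib, ← Finset.mul_sum, Finset.sum_ite_eq']
      simp
    rw [hsum]
    unfold Int.ModEq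
    omega
  · rcases (by omega : k % 4 = 0 ∨ k % 4 = 2 ∨ k % 4 = 1 ∨ k % 4 = 3) with hk | hk | hk | hk
    · refine mem_supports_of_word (c + 1) (golayCode.add_mem hc golay_one_mem) (fun i => ?_)
      have := pre_mod_four c i
      simp only [Pi.add_apply, Pi.one_apply]
      unfold Int.ModEq
      rcases zmod2_cases (c i) with h | h
      · rw [h] at this ⊢
        simp only [zero_add, true_iff]
        simp at this
        omega
      · rw [h] at this ⊢
        simp only [zmod2_one_add_one]
        simp at this
        constructor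
        · intro h'; exact absurd h' (by decide)
        · intro h'; omega
    · refine mem_supports_of_word c hc (fun i => ?_)
      have := pre_mod_four c i
      unfold Int.ModEq
      rcases zmod2_cases (c i) with h | h
      · rw [h] at this ⊢
        simp at this
        constructor
        · intro h'; exact absurd h' (by decide)
        · intro h'; omega
      · rw [h] at this ⊢
        simp at this
        simp only [true_iff]
        omega
    · refine mem_supports_of_word 0 golayCode.zero_mem (fun i => ?_)
      have := pre_mod_four c i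
      unfold Int.ModEq
      simp only [Pi.zero_apply]
      constructor
      · intro h'; exact absurd h' (by decide)
      · intro h'; split_ifs at this <;> omega
    · refine mem_supports_of_word 0 golayCode.zero_mem (fun i => ?_)
      have := pre_mod_four c i
      unfold Int.ModEq
      simp only [Pi.zero_apply]
      constructor
      · intro h'; exact absurd h' (by decide)
      · intro h'; split_ifs at this <;> omega

theorem wordOf_pre {c : GolayPt → ZMod 2} (hc : c ∈ golayCode) (h0 : c none = 0) : wordOf (pre c) = c := by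
  have heven := lift_sum_even hc
  have hnone : pre c none = 4 * (((∑ j, lift c j) % 4) / 2) := by
    unfold pre lift
    rw [h0]
    simp
  funext i
  unfold wordOf
  rw [hnone]
  have h4 : ((4 * (((∑ j, lift c j) % 4) / 2) : ℤ) : ZMod 2) = 0 := by
    rw [intCast_zmod2_eq_zero_iff]; omega
  rw [h4, add_zero]
  cases i with
  | none =>
    rw [hnone, h0, sub_self]
    simp
  | some t =>
    have : pre c (some t) = 2 * lift c (some t) := by
      unfold pre
      simp
    rw [this]
    have h2 : (2 * lift c (some t) - 4 * (((∑ j, lift c j) % 4) / 2)) / 2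
        = lift c (some t) - 2 * (((∑ j, lift c j) % 4) / 2) := by omega
    rw [h2, Int.cast_sub, lift_cast]
    have h5 : ((2 * (((∑ j, lift c j) % 4) / 2) : ℤ) : ZMod 2) = 0 := by
      rw [intCast_zmod2_eq_zero_iff]; omega
    rw [h5, sub_zero]

theorem phi_surjective : Function.Surjective phi := by
  intro c
  rcases zmod2_cases ((c : GolayPt → ZMod 2) none) with h | h
  · refine ⟨⟨pre c, pre_mem c.2⟩, ?_⟩
    apply Subtype.ext
    rw [phi_apply]
    exact wordOf_pre c.2 h
  · -- c = (c + 1) + 1
    have hc1 : (c : GolayPt → ZMod 2) + 1 ∈ golayCode := golayCode.add_mem c.2 golay_one_mem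
    have h0 : ((c : GolayPt → ZMod 2) + 1) none = 0 := by
      simp only [Pi.add_apply, Pi.one_apply, h]
      exact zmod2_one_add_one
    refine ⟨⟨pre ((c : GolayPt → ZMod 2) + 1), pre_mem hc1⟩ + ⟨xodd, xodd_mem⟩, ?_⟩
    rw [map_add]
    apply Subtype.ext
    rw [Submodule.coe_add, phi_apply, phi_apply]
    show wordOf (pre ((c : GolayPt → ZMod 2) + 1)) + wordOf xodd = c
    rw [wordOf_pre hc1 h0, wordOf_xodd]
    funext i
    simp only [Pi.add_apply, Pi.one_apply, add_assoc, zmod2_one_add_one, add_zero]


theorem card_golay (hfr : Module.finrank (ZMod 2) golayCode = 12) : Nat.card golayCode = 2 ^ 12 := by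
  have : Fintype golayCode := Fintype.ofFinite _
  rw [Nat.card_eq_fintype_card, Module.card_eq_pow_finrank (K := ZMod 2), ZMod.card, hfr]


/-- The Leech lattice of the definitions has an additive subgroup A containing twice the lattice, of index 2^12 in the lattice, all of whose vectors have squared length divisible by 32: the invariant quadratic form 'squared length over 16 modulo 2' on the lattice modulo twice the lattice (a 24-dimensional space over the field with two elements) vanishes on a 12-dimensional subspace, so it is of plus type. -/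
theorem result : ∃ A : AddSubgroup (Cfsg.GolayPt → ℤ), A ≤ Cfsg.leechLattice ∧ (∀ v ∈ Cfsg.leechLattice, (2 : ℤ) • v ∈ A) ∧ (A.addSubgroupOf Cfsg.leechLattice).index = 2 ^ 12 ∧ ∀ v ∈ A, (32 : ℤ) ∣ Cfsg.sqNorm v := by
  have hfr : Module.finrank (ZMod 2) golayCode = 12 := Cfsg.Agent.Lib.Helper7.golay_finrank
  refine ⟨phi.ker.map leechLattice.subtype, ?_, ?_, ?_, ?_⟩
  · rintro _ ⟨x, -, rfl⟩
    exact x.2
  · intro v hv
    refine ⟨⟨(2 : ℤ) • v, leechLattice.zsmul_mem hv 2⟩, ?_, rfl⟩
    rw [SetLike.mem_coe, AddMonoidHom.mem_ker]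
    apply Subtype.ext
    rw [phi_apply]
    exact wordOf_two_smul hv
  · have h1 : (phi.ker.map leechLattice.subtype).addSubgroupOf leechLattice = phi.ker := by
      unfold AddSubgroup.addSubgroupOf
      exact AddSubgroup.comap_map_eq_self_of_injective (AddSubgroup.subtype_injective _) _
    rw [h1, AddSubgroup.index_ker, AddMonoidHom.range_eq_top.mpr phi_surjective, AddSubgroup.card_top]
    exact card_golay hfr
  · rintro _ ⟨x, hx, rfl⟩
    rw [SetLike.mem_coe, AddMonoidHom.mem_ker] at hx
    have h0 : wordOf (x : GolayPt → ℤ) = 0 := by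
      have := congrArg Subtype.val hx
      rw [phi_apply] at this
      exact this
    exact norm_dvd x.2 h0

end Cfsg.Agent.S5553
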