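import Cfsg.Statements.S5559
import Cfsg.Agent.S0444
import Cfsg.Agent.Lib.Helper90.TT232R
import Cfsg.Agent.Lib.Helper29.Rel54Abs
import Cfsg.Agent.Lib.Helper95.SU54
import Cfsg.Agent.Lib.Helper56.F4

set_option autoImplicit false
open Cfsg

namespace Cfsg.Agent.S5559

/-- Let H be a finite group generated by a conjugacy class E of 3-transpositions with at least two members, with F*(H) = O₂(H), and such that H/O₂(H) has a normal Sylow 3-subgroup of 2-power index (that is, H = O_{2,3,2}(H)). Then H/O₂(H) is isomorphic to the symmetric group of degree 3 or to the derived group of SU₃(2) (of order 54). -/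
theorem result {H : Type*} [Group H] [Finite H] {E : Set H} (hE : Cfsg.IsThreeTranspositionClass E)
    (hE2 : ∃ a ∈ E, ∃ b ∈ E, a ≠ b) (hF : Cfsg.generalizedFittingSubgroup H = Cfsg.pCore 2 H)
    (h232 : ∃ P : Sylow 3 (H ⧸ Cfsg.pCore 2 H), (P : Subgroup (H ⧸ Cfsg.pCore 2 H)).Normal ∧
      ∃ k : ℕ, (P : Subgroup (H ⧸ Cfsg.pCore 2 H)).index = 2 ^ k) :
    Nonempty (H ⧸ Cfsg.pCore 2 H ≃* Equiv.Perm (Fin 3)) ∨
      ∃ (F : Type) (_ : Field F) (_ : Fintype F), Fintype.card F = 4 ∧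
        Nonempty (H ⧸ Cfsg.pCore 2 H ≃* ↥(commutator ↥(Cfsg.SU 3 F 2))) := by
  classical
  obtain ⟨P, hPn, k, hidx⟩ := h232
  obtain ⟨e, he, _⟩ := id hE2
  let N := Cfsg.Agent.Lib.Helper90.TT232.redData hE hE2 hF P hPn k hidx
  have he₁ : (QuotientGroup.mk' ⁅Cfsg.pCore 2 H, Cfsg.pCore 2 H⁆ e) ∈ N.E := ⟨e, he, rfl⟩
  have hd : N.π (QuotientGroup.mk' ⁅Cfsg.pCore 2 H, Cfsg.pCore 2 H⁆ e) ∈ N.π '' N.E :=
    ⟨_, he₁, rfl⟩
  rcases N.core he₁ with ⟨t, ht, hne, hgen⟩ | ⟨x, y, z, hrel, hgen, hz1, hx, hy, hxy⟩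
  · left
    obtain ⟨φ⟩ := Cfsg.Agent.S0444.result N.D_tts hd ht (N.D_not_commute hd ht hne)
    exact ⟨(Subgroup.topEquiv.symm.trans (MulEquiv.subgroupCongr hgen.symm)).trans φ⟩
  · right
    refine ⟨Cfsg.Agent.Lib.Helper56.F4, inferInstance, inferInstance,
      Cfsg.Agent.Lib.Helper56.F4.card, ?_⟩
    obtain ⟨x', y', z', d', hrel', hgen', hcard'⟩ := Cfsg.Agent.Lib.Helper95.SU54.su54
    have hle := (Cfsg.Agent.Lib.Helper29.card_le_of_rel54 hrel hgen).2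
    have hcard : Nat.card (H ⧸ Cfsg.pCore 2 H) = 54 :=
      Cfsg.Agent.Lib.Helper90.TT232.card_eq_54 (P : Subgroup (H ⧸ Cfsg.pCore 2 H)) P.isPGroup'
        hx hy hxy (N.D_ne_one _ hd) (N.D_sq _ hd) hle
    exact Cfsg.Agent.Lib.Helper29.nonempty_mulEquiv_of_rel54 hrel hrel' hgen hgen' hcard hcard'

end Cfsg.Agent.S5559
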