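import Cfsg.Statements.S5562
-- import your own Cfsg.Agent.* helpers here

set_option autoImplicit false
open Cfsg

namespace Cfsg.Agent.S5562

/-- If `e * e = 1` and `e * u * e = u⁻¹` then `e * u ^ m * e = (u ^ m)⁻¹`. -/
theorem inv_pow_aux {G : Type*} [Group G] (e u : G) (hee : e * e = 1) (h : e * u * e = u⁻¹) (m : ℕ) :
    e * u ^ m * e = (u ^ m)⁻¹ := by
  have heinv : e⁻¹ = e := inv_eq_of_mul_eq_one_left hee
  have h1 : e * u ^ m * e⁻¹ = (e * u * e⁻¹) ^ m := (conj_pow).symm
  rw [heinv] at h1
  rw [h1, h, inv_pow]

/-- An element of odd order squaring to one is trivial. -/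
theorem eq_one_of_sq_of_odd {G : Type*} [Group G] (t : G) (h2 : t * t = 1) (hodd : Odd (orderOf t)) : t = 1 := by
  have hdvd : orderOf t ∣ 2 := orderOf_dvd_of_pow_eq_one (by rw [pow_two]; exact h2)
  have h1 : orderOf t = 1 := by
    have hle : orderOf t ≤ 2 := Nat.le_of_dvd (by norm_num) hdvd
    rcases hodd with ⟨k, hk⟩
    interval_cases h : orderOf t
    · omega
    · rfl
    · omega
  exact orderOf_eq_one_iff.mp h1

/-- Let G be a finite group, d an involution of G whose conjugates pairwise have products of odd order, and x any involution of G. Then the conjugacy class of d is the disjoint union, over the conjugates a of d commuting with x, of the sets of conjugates of d commuting with ax: every conjugate of d commutes with ax for exactly one conjugate a of d that commutes with x. -/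
theorem result {G : Type*} [Group G] [Finite G] (d : G) (hd : orderOf d = 2)
    (hodd : ∀ a ∈ conjugatesOf d, ∀ b ∈ conjugatesOf d, Odd (orderOf (a * b)))
    (x : G) (hx : orderOf x = 2) :
    ∀ e ∈ conjugatesOf d,
      ∃! a : G, a ∈ conjugatesOf d ∧ Commute a x ∧ Commute e (a * x) := by
  intro e he
  have hdd : d * d = 1 := by rw [← pow_two, ← hd]; exact pow_orderOf_eq_one d
  have hxx : x * x = 1 := by rw [← pow_two, ← hx]; exact pow_orderOf_eq_one x
  have hxinv : x⁻¹ = x := inv_eq_of_mul_eq_one_left hxx
  -- every conjugate of d squares to one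
  have hsq : ∀ a ∈ conjugatesOf d, a * a = 1 := by
    intro a ha
    have ha' : IsConj d a := ha
    rw [isConj_iff] at ha'
    obtain ⟨c, rfl⟩ := ha'
    calc c * d * c⁻¹ * (c * d * c⁻¹) = c * (d * d) * c⁻¹ := by group
      _ = 1 := by rw [hdd]; group
  have hee : e * e = 1 := hsq e he
  have heinv : e⁻¹ = e := inv_eq_of_mul_eq_one_left hee
  -- f = x e x
  set f : G := x * e * x with hf
  have hfD : f ∈ conjugatesOf d := by
    have he' : IsConj d e := he
    show IsConj d f
    refine he'.trans ?_
    rw [isConj_iff]
    exact ⟨x, by rw [hxinv]⟩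
  have hff : f * f = 1 := hsq f hfD
  have hxfx : x * f * x = e := by
    rw [hf]
    calc x * (x * e * x) * x = (x * x) * e * (x * x) := by group
      _ = e := by rw [hxx]; group
  -- u = e f has odd order
  set u : G := e * f with hu
  obtain ⟨k, hk⟩ := hodd e he f hfD
  have hun : u ^ (2 * k + 1) = 1 := by rw [← hk]; exact pow_orderOf_eq_one u
  have heue : e * u * e = u⁻¹ := by
    rw [hu, mul_inv_rev]
    have hfinv : f⁻¹ = f := inv_eq_of_mul_eq_one_left hff
    rw [hfinv, heinv]
    calc e * (e * f) * e = (e * e) * f * e := by group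
      _ = f * e := by rw [hee]; group
  have hxux : x * u * x = u⁻¹ := by
    rw [hu, mul_inv_rev]
    have hfinv : f⁻¹ = f := inv_eq_of_mul_eq_one_left hff
    rw [hfinv, heinv]
    calc x * (e * f) * x = (x * e * x) * (x⁻¹ * f * x) := by group
      _ = f * e := by rw [hxinv, hxfx]
  -- v = u^(k+1), v^2 = u
  set v : G := u ^ (k + 1) with hv
  have hvv : v * v = u := by
    rw [hv, ← pow_add]
    have : k + 1 + (k + 1) = (2 * k + 1) + 1 := by ring
    rw [this, pow_succ, hun, one_mul]
  have heve : e * v * e = v⁻¹ := inv_pow_aux e u hee heue (k + 1)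
  have hxvx : x * v * x = v⁻¹ := inv_pow_aux x u hxx hxux (k + 1)
  have hfeu : f = e * u := by
    rw [hu]
    calc f = (e * e) * f := by rw [hee, one_mul]
      _ = e * (e * f) := by group
  -- a = e v
  set a : G := e * v with ha
  have haa : a * a = 1 := by
    calc a * a = (e * v * e) * v := by rw [ha]; group
      _ = 1 := by rw [heve]; group
  have hainv : a⁻¹ = a := inv_eq_of_mul_eq_one_left haa
  -- a is conjugate to e
  have haD : a ∈ conjugatesOf d := by
    have he' : IsConj d e := he
    show IsConj d a
    refine he'.trans ?_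
    rw [isConj_iff]
    -- w = u ^ ((k+1)*(k+1)), w * w = v
    set w : G := v ^ (k + 1) with hw
    have hww : w * w = v := by
      rw [hw, ← pow_add]
      have : k + 1 + (k + 1) = (2 * k + 1) + 1 := by ring
      rw [this, pow_succ]
      have hvn : v ^ (2 * k + 1) = 1 := by
        rw [hv, ← pow_mul, mul_comm, pow_mul, hun, one_pow]
      rw [hvn, one_mul]
    have hewe : e * w * e = w⁻¹ := inv_pow_aux e v hee heve (k + 1)
    refine ⟨w⁻¹, ?_⟩
    rw [inv_inv]
    calc w⁻¹ * e * w = e * ((e * w * e)⁻¹) * w := by
            rw [mul_inv_rev, mul_inv_rev, heinv]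
            calc w⁻¹ * e * w = (e * e) * w⁻¹ * e * w := by rw [hee, one_mul]
              _ = e * (e * (w⁻¹ * e)) * w := by group
      _ = e * (w * w) := by rw [hewe, inv_inv]; group
      _ = a := by rw [hww]
  have hxax : x * a * x = a := by
    calc x * a * x = (x * e * x) * (x⁻¹ * v * x) := by rw [ha]; group
      _ = f * v⁻¹ := by rw [hxinv, hxvx]
      _ = e * (v * v) * v⁻¹ := by rw [hfeu, hvv]
      _ = a := by rw [ha]; group
  have hcomm_ax : Commute a x := by
    show a * x = x * a
    calc a * x = (x * x) * a * x := by rw [hxx, one_mul]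
      _ = x * (x * a * x) := by group
      _ = x * a := by rw [hxax]
  have hafa : a * f * a = e := by
    calc a * f * a = (e * v) * (e * (v * v)) * (e * v) := by rw [ha, hfeu, hvv]
      _ = (e * v * e) * v * (v * e * v) := by group
      _ = v⁻¹ * v * (v * e * v) := by rw [heve]
      _ = e * (e * v * e) * v := by
          calc v⁻¹ * v * (v * e * v) = (v * e) * v := by group
            _ = (e * e) * (v * e) * v := by rw [hee, one_mul]
            _ = e * (e * v * e) * v := by group
      _ = e := by rw [heve]; group
  have haea : a * e * a = f := by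
    calc a * e * a = a * (a * f * a) * a := by rw [hafa]
      _ = (a * a) * f * (a * a) := by group
      _ = f := by rw [haa]; group
  have hcomm_e : Commute e (a * x) := by
    show e * (a * x) = a * x * e
    calc e * (a * x) = (a * f * a) * (a * x) := by rw [hafa]
      _ = a * f * (a * a) * x := by group
      _ = a * (x * e * x) * x := by rw [haa, mul_one, hf]
      _ = a * x * e * (x * x) := by group
      _ = a * x * e := by rw [hxx, mul_one]
  refine ⟨a, ⟨haD, hcomm_ax, hcomm_e⟩, ?_⟩
  -- uniqueness
  rintro a' ⟨ha'D, hc1, hc2⟩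
  have ha'a' : a' * a' = 1 := hsq a' ha'D
  have ha'inv : a'⁻¹ = a' := inv_eq_of_mul_eq_one_left ha'a'
  have hc1' : a' * x = x * a' := hc1
  have hc2' : e * (a' * x) = a' * x * e := hc2
  have ha'ea' : a' * e * a' = f := by
    calc a' * e * a' = a' * (e * (a' * x)) * x⁻¹ := by group
      _ = a' * (a' * x * e) * x⁻¹ := by rw [hc2']
      _ = (a' * a') * (x * e * x⁻¹) := by group
      _ = f := by rw [ha'a', one_mul, hxinv]
  have ha'fa' : a' * f * a' = e := by
    calc a' * f * a' = a' * (a' * e * a') * a' := by rw [ha'ea']
      _ = (a' * a') * e * (a' * a') := by group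
      _ = e := by rw [ha'a']; group
  set t : G := a' * a with ht
  have htodd : Odd (orderOf t) := hodd a' ha'D a haD
  have hte : t * e = e * t := by
    calc t * e = a' * (a * e * a) * a⁻¹ := by rw [ht]; group
      _ = (a' * f * a') * a'⁻¹ * a⁻¹ := by rw [haea]; group
      _ = e * (a' * a) := by rw [ha'fa', ha'inv, hainv]; group
  have htf : t * f = f * t := by
    calc t * f = a' * (a * f * a) * a⁻¹ := by rw [ht]; group
      _ = (a' * e * a') * a'⁻¹ * a⁻¹ := by rw [hafa]; group
      _ = f * (a' * a) := by rw [ha'ea', ha'inv, hainv]; group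
  have htu : Commute t u := by
    have h1 : Commute t e := hte
    have h2 : Commute t f := htf
    exact h1.mul_right h2
  have htv : Commute t v := htu.pow_right (k + 1)
  have hta : Commute t a := (show Commute t e from hte).mul_right htv
  have hata : a * t * a = t⁻¹ := by
    rw [ht, mul_inv_rev, hainv, ha'inv]
    calc a * (a' * a) * a = a * a' * (a * a) := by group
      _ = a * a' := by rw [haa, mul_one]
  have htt : t * t = 1 := by
    have h3 : a * t * a = t := by
      have : a * t = t * a := hta.eq.symm
      calc a * t * a = t * (a * a) := by rw [this]; group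
        _ = t := by rw [haa, mul_one]
    have : t = t⁻¹ := by rw [← hata, h3]
    calc t * t = t * t⁻¹ := by rw [← this]
      _ = 1 := mul_inv_cancel t
  have ht1 : t = 1 := eq_one_of_sq_of_odd t htt htodd
  calc a' = a' * (a * a) := by rw [haa, mul_one]
    _ = t * a := by rw [ht]; group
    _ = a := by rw [ht1, one_mul]

end Cfsg.Agent.S5562
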