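import Cfsg.Statements.S5592
import Cfsg.Agent.S0391

set_option autoImplicit false
open Cfsg

namespace Cfsg.Agent.S5592

theorem sqNorm_add (x y : GolayPt → ℤ) : sqNorm (x + y) = sqNorm x + 2 * dotInt x y + sqNorm y := by
  unfold sqNorm dotInt
  rw [Finset.mul_sum, ← Finset.sum_add_distrib, ← Finset.sum_add_distrib]
  apply Finset.sum_congr rfl
  intro i _
  simp only [Pi.add_apply]
  ring

theorem sqNorm_sub (x y : GolayPt → ℤ) : sqNorm (x - y) = sqNorm x - 2 * dotInt x y + sqNorm y := by
  unfold sqNorm dotInt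
  rw [Finset.mul_sum, ← Finset.sum_sub_distrib, ← Finset.sum_add_distrib]
  apply Finset.sum_congr rfl
  intro i _
  simp only [Pi.sub_apply]
  ring

theorem sqNorm_two_smul (z : GolayPt → ℤ) : sqNorm (2 • z) = 4 * sqNorm z := by
  unfold sqNorm
  rw [Finset.mul_sum]
  apply Finset.sum_congr rfl
  intro i _
  simp only [Pi.smul_apply, smul_eq_mul]
  ring

theorem core (hmin : ∀ x : GolayPt → ℤ, x ∈ leechLattice → x ≠ 0 → 32 ≤ sqNorm x)
    (x y : GolayPt → ℤ) (hx : x ∈ leechLattice) (hy : y ∈ leechLattice) (hxy : x ≠ y)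
    (hxn : sqNorm x ≤ 64) (hyn : sqNorm y ≤ 64) (hc : ∃ z ∈ leechLattice, x - y = 2 • z) :
    x = -y ∨ (sqNorm x = 64 ∧ sqNorm y = 64 ∧ dotInt x y = 0) := by
  obtain ⟨z, hz, hxyz⟩ := hc
  by_cases hneg : x = -y
  · exact Or.inl hneg
  · right
    have hz0 : z ≠ 0 := by
      rintro rfl
      rw [smul_zero] at hxyz
      exact hxy (sub_eq_zero.1 hxyz)
    have h1 : 32 ≤ sqNorm z := hmin z hz hz0
    have hzy : z + y ∈ leechLattice := leechLattice.add_mem hz hy
    have hxy2 : x + y = 2 • (z + y) := by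
      have : x = 2 • z + y := by rw [← hxyz]; abel
      rw [this]
      rw [smul_add]; abel
    have hzy0 : z + y ≠ 0 := by
      intro h0
      rw [h0, smul_zero] at hxy2
      exact hneg (eq_neg_of_add_eq_zero_left hxy2)
    have h2 : 32 ≤ sqNorm (z + y) := hmin _ hzy hzy0
    have e1 : sqNorm (x - y) = 4 * sqNorm z := by rw [hxyz, sqNorm_two_smul]
    have e2 : sqNorm (x + y) = 4 * sqNorm (z + y) := by rw [hxy2, sqNorm_two_smul]
    rw [sqNorm_sub] at e1
    rw [sqNorm_add] at e2
    refine ⟨by omega, by omega, by omega⟩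


/-- In the Leech lattice (integer coordinates, sum of squares equal to 8 times the customary norm, so the shortest non-zero vectors have sum of squares 32): if two distinct vectors of sum of squares at most 64 are congruent modulo twice the lattice, then either they are negatives of each other, or both have sum of squares 64 and they are orthogonal. -/
theorem result (x y : Cfsg.GolayPt → ℤ) (hx : x ∈ Cfsg.leechLattice) (hy : y ∈ Cfsg.leechLattice) (hxy : x ≠ y) (hxn : Cfsg.sqNorm x ≤ 64) (hyn : Cfsg.sqNorm y ≤ 64) (hc : (∃ z ∈ Cfsg.leechLattice, x - y = 2 • z)) :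
    x = -y ∨ (Cfsg.sqNorm x = 64 ∧ Cfsg.sqNorm y = 64 ∧ Cfsg.dotInt x y = 0) := by
  exact core (fun x hx h0 => Cfsg.Agent.S0391.result x hx h0) x y hx hy hxy hxn hyn hc

end Cfsg.Agent.S5592
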