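import Cfsg.Statements.S5594
import Cfsg.Agent.S0372
import Cfsg.Agent.S0432
import Cfsg.Agent.S0433

set_option autoImplicit false
open Cfsg

namespace Cfsg.Agent.S5594

/-- The dodecad of squares modulo 23 (zero included). -/
def sqDodecad : Finset GolayPt := support₂ (qrWord 0)

theorem sqDodecad_mem : sqDodecad ∈ supports (golayCode : Set (GolayPt → ZMod 2)) :=
  ⟨qrWord 0, Submodule.subset_span (Or.inl ⟨0, rfl⟩), rfl⟩

theorem sqDodecad_swap : ∀ i : GolayPt, i ∈ sqDodecad ↔ projInv i ∉ sqDodecad := by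
  unfold sqDodecad support₂
  decide

theorem projInv_projInv : ∀ i : GolayPt, projInv (projInv i) = i := by decide

/-- The monomial map `x ↦ ε_S (x ∘ π)` for `π : t ↦ -1/t` and `S` the dodecad of squares. -/
def twist (x : GolayPt → ℤ) : GolayPt → ℤ :=
  fun i => if i ∈ sqDodecad then -x (projInv i) else x (projInv i)

theorem twist_mem {x : GolayPt → ℤ} (hx : x ∈ leechLattice) : twist x ∈ leechLattice :=
  Cfsg.Agent.S0433.result sqDodecad sqDodecad_mem (fun i => x (projInv i))
    (Cfsg.Agent.S0432.result projInv Cfsg.Agent.S0372.result x hx)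

theorem twist_add (x y : GolayPt → ℤ) : twist (x + y) = twist x + twist y := by
  funext i
  simp only [twist, Pi.add_apply]
  split_ifs <;> ring

theorem twist_neg (x : GolayPt → ℤ) : twist (-x) = -twist x := by
  funext i
  simp only [twist, Pi.neg_apply]
  split_ifs <;> ring

theorem twist_twist (x : GolayPt → ℤ) : twist (twist x) = -x := by
  funext i
  simp only [twist, Pi.neg_apply]
  by_cases hi : i ∈ sqDodecad
  · have h2 : projInv i ∉ sqDodecad := (sqDodecad_swap i).mp hi
    rw [if_pos hi, if_neg h2, projInv_projInv]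
  · have h2 : projInv i ∈ sqDodecad := by
      by_contra h
      exact hi ((sqDodecad_swap i).mpr h)
    rw [if_neg hi, if_pos h2, projInv_projInv]

theorem sqNorm_twist (x : GolayPt → ℤ) : sqNorm (twist x) = sqNorm x := by
  unfold sqNorm
  have h : ∀ i, (twist x i) ^ 2 = (x (projInv i)) ^ 2 := by
    intro i
    simp only [twist]
    split_ifs <;> ring
  simp only [h]
  exact Equiv.sum_comp projInv (fun j => x j ^ 2)

/-- The twist as a permutation of the lattice. -/
def twistPerm : Equiv.Perm ↥leechLattice where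
  toFun v := ⟨twist v, twist_mem v.2⟩
  invFun v := ⟨-twist v, leechLattice.neg_mem (twist_mem v.2)⟩
  left_inv v := by
    apply Subtype.ext
    show -twist (twist (v : GolayPt → ℤ)) = v
    rw [twist_twist, neg_neg]
  right_inv v := by
    apply Subtype.ext
    show twist (-twist (v : GolayPt → ℤ)) = v
    rw [twist_neg, twist_twist, neg_neg]

theorem twistPerm_mem : twistPerm ∈ Co0 :=
  ⟨fun v w => Subtype.ext (twist_add v w), fun v => sqNorm_twist v⟩

theorem sqNorm_neg' (x : GolayPt → ℤ) : sqNorm (-x) = sqNorm x := by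
  unfold sqNorm
  apply Finset.sum_congr rfl
  intro i _
  simp only [Pi.neg_apply]
  ring

theorem negPerm_mem : Equiv.neg ↥leechLattice ∈ Co0 :=
  ⟨fun v w => neg_add v w, fun v => sqNorm_neg' v⟩

theorem four_mem : (fun _ => 4 : GolayPt → ℤ) ∈ leechLattice := by
  rw [Cfsg.Agent.Lib.Helper7.mem_leechLattice_iff]
  refine ⟨0, fun i => by show (4 : ℤ) ≡ 0 [ZMOD 2]; decide, ?_, fun k => ?_⟩
  · rw [Finset.sum_const, Finset.card_univ]
    decide
  · by_cases hk : (4 : ℤ) ≡ k [ZMOD 4]
    · refine Cfsg.Agent.Lib.Helper7.mem_supports_of_word 1 Cfsg.Agent.Lib.Helper7.golay_one_mem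
        (fun i => ?_)
      simp [hk]
    · refine Cfsg.Agent.Lib.Helper7.mem_supports_of_word 0 golayCode.zero_mem (fun i => ?_)
      simp [hk]

/-- Elements of `Co0` commute with negation. -/
theorem map_neg_of_mem {g : Equiv.Perm ↥leechLattice} (hg : g ∈ Co0) (v : ↥leechLattice) :
    g (-v) = -g v := by
  have h0 : g 0 = 0 := by
    have := hg.1 0 0
    rw [add_zero] at this
    exact left_eq_add.mp this
  have := hg.1 (-v) v
  rw [neg_add_cancel, h0] at this
  exact eq_neg_of_add_eq_zero_left this.symm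

/-- The automorphism group of the Leech lattice contains the negation map, and the subgroup of order 2 it generates has no complement: the automorphism group is a non-split extension of its quotient by that subgroup (it is not the direct product of a group of order 2 with the first Conway group). -/
theorem result :
    ∃ n : ↥Cfsg.Co0, (∀ v : ↥Cfsg.leechLattice, ((n • v : ↥Cfsg.leechLattice) : Cfsg.GolayPt → ℤ) = -(v : Cfsg.GolayPt → ℤ)) ∧
    ∀ K : Subgroup ↥Cfsg.Co0, ¬ (Subgroup.zpowers n).IsComplement' K := by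
  let n : ↥Co0 := ⟨Equiv.neg ↥leechLattice, negPerm_mem⟩
  let m : ↥Co0 := ⟨twistPerm, twistPerm_mem⟩
  have hmm : m * m = n := by
    apply Subtype.ext
    apply Equiv.ext
    intro v
    apply Subtype.ext
    exact twist_twist v
  have hnn : n * n = 1 := by
    apply Subtype.ext
    apply Equiv.ext
    intro v
    show - -v = v
    exact neg_neg v
  have hcentral : ∀ g : ↥Co0, g * n = n * g := by
    intro g
    apply Subtype.ext
    apply Equiv.ext
    intro v
    show (g : Equiv.Perm ↥leechLattice) (-v) = -(g : Equiv.Perm ↥leechLattice) v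
    exact map_neg_of_mem g.2 v
  have hn1 : n ≠ 1 := by
    intro e
    have h1 : (n : Equiv.Perm ↥leechLattice) ⟨_, four_mem⟩ = ⟨_, four_mem⟩ := by
      rw [e]; rfl
    have h2 := congrArg (fun v : ↥leechLattice => (v : GolayPt → ℤ) none) h1
    simp only [n] at h2
    have h3 : (-(4 : ℤ)) = 4 := h2
    omega
  refine ⟨n, fun v => rfl, ?_⟩
  intro K hK
  have hzp : ∀ x ∈ Subgroup.zpowers n, x = 1 ∨ x = n := by
    intro x hx
    obtain ⟨j, rfl⟩ := Subgroup.mem_zpowers_iff.mp hx
    rcases Int.even_or_odd j with ⟨t, rfl⟩ | ⟨t, rfl⟩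
    · left
      rw [← two_mul, zpow_mul, zpow_two, hnn, one_zpow]
    · right
      rw [zpow_add, zpow_one, zpow_mul, zpow_two, hnn, one_zpow, one_mul]
  obtain ⟨⟨h, k⟩, hhk, _⟩ := (Subgroup.isComplement_iff_existsUnique.mp hK) m
  have hhk' : (h : ↥Co0) * (k : ↥Co0) = m := hhk
  have hnK : n ∈ K := by
    have hkk : n = (k : ↥Co0) * k := by
      rcases hzp h h.2 with h1 | h1
      · rw [← hmm, ← hhk', h1, one_mul]
      · rw [← hmm, ← hhk', h1]
        calc n * (k : ↥Co0) * (n * k) = n * ((k : ↥Co0) * n) * k := by group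
          _ = n * (n * (k : ↥Co0)) * k := by rw [hcentral]
          _ = (n * n) * ((k : ↥Co0) * k) := by group
          _ = (k : ↥Co0) * k := by rw [hnn, one_mul]
    rw [hkk]
    exact K.mul_mem k.2 k.2
  have hdisj := hK.disjoint
  have hmem : n ∈ Subgroup.zpowers n ⊓ K := Subgroup.mem_inf.mpr ⟨Subgroup.mem_zpowers n, hnK⟩
  rw [hdisj.eq_bot, Subgroup.mem_bot] at hmem
  exact hn1 hmem

end Cfsg.Agent.S5594
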