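import Cfsg.Statements.S5600
import Cfsg.Agent.Lib.Helper93.M24SixB

set_option autoImplicit false
open scoped Pointwise
open Cfsg

namespace Cfsg.Agent.S5600

open Cfsg.Agent.Lib.Helper7 Cfsg.Agent.Lib.Helper93
open scoped Pointwise

theorem card_subtype_eq (E : Finset GolayPt) :
    Nat.card {g : Equiv.Perm GolayPt // g ∈ M24 ∧ ∀ p ∈ E, g p = p} = Nat.card (fixM24 E) :=
  Nat.card_congr (Equiv.subtypeEquivRight fun _ => mem_fixM24.symm)

theorem mem_iff_of_smul_eq {g : Equiv.Perm GolayPt} {E : Finset GolayPt} (h : g • E = E)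
    (x : GolayPt) : g x ∈ E ↔ x ∈ E := by
  conv_lhs => rw [← h]
  exact apply_mem_perm_smul_finset g E x

theorem stab_smul_eq {E : Finset GolayPt} (g : ↥(MulAction.stabilizer M24 E)) :
    ((g : M24) : Equiv.Perm GolayPt) • E = E :=
  MulAction.mem_stabilizer_iff.mp g.2

/-- Restriction of the setwise stabilizer to the set. -/
noncomputable def restrictHom (E : Finset GolayPt) :
    ↥(MulAction.stabilizer M24 E) →* Equiv.Perm ↥E :=
  MonoidHom.mk' (fun g => Equiv.Perm.subtypePerm ((g : M24) : Equiv.Perm GolayPt)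
    (mem_iff_of_smul_eq (stab_smul_eq g))) (fun _ _ => by ext x; rfl)

theorem restrictHom_apply {E : Finset GolayPt} (g : ↥(MulAction.stabilizer M24 E)) (p : ↥E) :
    ((restrictHom E g p : ↥E) : GolayPt) = ((g : M24) : Equiv.Perm GolayPt) p := rfl

/-- The kernel of the restriction is the pointwise stabilizer. -/
noncomputable def kerEquiv (E : Finset GolayPt) : ↥(restrictHom E).ker ≃ ↥(fixM24 E) where
  toFun k := ⟨(((k : ↥(MulAction.stabilizer M24 E)) : M24) : Equiv.Perm GolayPt), by
    rw [mem_fixM24]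
    refine ⟨((k : ↥(MulAction.stabilizer M24 E)) : M24).2, fun p hp => ?_⟩
    have h1 : restrictHom E (k : ↥(MulAction.stabilizer M24 E)) = 1 := MonoidHom.mem_ker.mp k.2
    have h2 := restrictHom_apply (k : ↥(MulAction.stabilizer M24 E)) ⟨p, hp⟩
    rw [h1] at h2
    exact h2.symm⟩
  invFun g := ⟨⟨⟨(g : Equiv.Perm GolayPt), (mem_fixM24.mp g.2).1⟩, by
      rw [MulAction.mem_stabilizer_iff, M24_smul_finset_def]
      apply perm_smul_eq_of_forall_mem
      intro p hp
      show (g : Equiv.Perm GolayPt) p ∈ E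
      rw [(mem_fixM24.mp g.2).2 p hp]
      exact hp⟩, by
    rw [MonoidHom.mem_ker]
    apply Equiv.ext
    intro p
    apply Subtype.ext
    rw [restrictHom_apply]
    exact (mem_fixM24.mp g.2).2 p.1 p.2⟩
  left_inv k := by
    apply Subtype.ext
    apply Subtype.ext
    apply Subtype.ext
    rfl
  right_inv g := by
    apply Subtype.ext
    rfl

theorem restrictHom_surjective {E : Finset GolayPt} (hE : E.card = 6) :
    Function.Surjective (restrictHom E) := by
  intro σ
  obtain ⟨g, hg, hgσ⟩ := exists_M24_extend_six E hE σ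
  have hstab : (⟨g, hg⟩ : M24) ∈ MulAction.stabilizer M24 E := by
    rw [MulAction.mem_stabilizer_iff, M24_smul_finset_def]
    apply perm_smul_eq_of_forall_mem
    intro p hp
    show g p ∈ E
    rw [hgσ ⟨p, hp⟩]
    exact (σ ⟨p, hp⟩).2
  refine ⟨⟨⟨g, hg⟩, hstab⟩, ?_⟩
  apply Equiv.ext
  intro p
  apply Subtype.ext
  rw [restrictHom_apply]
  exact hgσ p

theorem card_stabilizer_six {E : Finset GolayPt} (hE : E.card = 6)
    (h3 : Nat.card (fixM24 E) = 3) : Nat.card ↥(MulAction.stabilizer M24 E) = 2160 := by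
  have h1 := Subgroup.card_eq_card_quotient_mul_card_subgroup (restrictHom E).ker
  have h2 : Nat.card (↥(MulAction.stabilizer M24 E) ⧸ (restrictHom E).ker) = 720 := by
    rw [Nat.card_congr (QuotientGroup.quotientKerEquivOfSurjective (restrictHom E)
      (restrictHom_surjective hE)).toEquiv, Nat.card_eq_fintype_card, Fintype.card_perm,
      Fintype.card_coe, hE]
    rfl
  rw [h2, Nat.card_congr (kerEquiv E), h3] at h1
  rw [h1]

/-- Although the group of the length-24 code is only 5-transitive on the 24 points, it induces the full symmetric group on every 6-element subset: every permutation of a 6-set E is the restriction of an element of the group mapping E to itself. The pointwise stabiliser of E has order 16 when E lies in an octad and order 3 otherwise; in the latter case the setwise stabiliser of E has order 2160. -/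
theorem result (E : Finset Cfsg.GolayPt) (hE : E.card = 6) : (∀ σ : Equiv.Perm ↥E, ∃ g ∈ Cfsg.M24, ∀ p : ↥E, g p = σ p) ∧ ((∃ o ∈ Cfsg.octads, E ⊆ o) → Nat.card {g : Equiv.Perm Cfsg.GolayPt // g ∈ Cfsg.M24 ∧ ∀ p ∈ E, g p = p} = 16) ∧ ((¬ ∃ o ∈ Cfsg.octads, E ⊆ o) → Nat.card {g : Equiv.Perm Cfsg.GolayPt // g ∈ Cfsg.M24 ∧ ∀ p ∈ E, g p = p} = 3 ∧ Nat.card ↥(MulAction.stabilizer Cfsg.M24 E) = 2160) := by
  refine ⟨fun σ => exists_M24_extend_six E hE σ, ?_, ?_⟩
  · rintro ⟨o, ho, hEo⟩
    rw [card_subtype_eq]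
    exact card_fixM24_six_inside ho hE hEo
  · intro hno
    obtain ⟨r, hr⟩ : E.Nonempty := by rw [← Finset.card_pos]; omega
    have hs : (E.erase r).card = 5 := by rw [Finset.card_erase_of_mem hr, hE]
    obtain ⟨o, ho, hso⟩ := exists_octad_of_five _ hs
    have hro : r ∉ o := by
      intro hro
      apply hno
      refine ⟨o, ho, fun p hp => ?_⟩
      by_cases hpr : p = r
      · rw [hpr]; exact hro
      · exact hso (Finset.mem_erase.mpr ⟨hpr, hp⟩)
    have h3 : Nat.card (fixM24 E) = 3 := by
      have := card_fixM24_six_outside ho hs hso hro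
      rwa [Finset.insert_erase hr] at this
    exact ⟨by rw [card_subtype_eq]; exact h3, card_stabilizer_six hE h3⟩

end Cfsg.Agent.S5600
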