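import Cfsg.Statements.S5602
-- import your own Cfsg.Agent.* helpers here
import Cfsg.Agent.Lib.Helper89.M24FixCount

set_option autoImplicit false
open scoped Pointwise
open Cfsg

namespace Cfsg.Agent.S5602

open Cfsg.Agent.Lib.Helper89 Cfsg.Agent.Lib.Helper7 Cfsg.Agent.S5394 Cfsg.Agent.S5601
open Cfsg.Agent.Lib

theorem cnt_octads : (Helper27.octL.filter fun m => Helper26.applyP pA3 m == m).length = 21 := by
  decide +kernel

theorem cnt_dodecads : (Helper27.dodL.filter fun m => Helper26.applyP pA3 m == m).length = 20 := by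
  decide +kernel

theorem cnt_trios : Helper26.countRange (fun j => decide (j < 3795) &&
      Helper26.subF ((Helper26.getF 3 Helper26.trB j).map (Helper26.applyP pA3))
        (Helper26.getF 3 Helper26.trB j)) 12 0 = 15 := by
  decide +kernel

theorem cnt_sextets : Helper26.countRange (fun j => decide (j < 1771) &&
      Helper26.subF ((Helper26.getF 6 Helper26.sxB j).map (Helper26.applyP pA3))
        (Helper26.getF 6 Helper26.sxB j)) 12 0 = 16 := by
  decide +kernel


/-- An element of order 3 of the group of the length-24 code having exactly 6 fixed points maps to themselves exactly 21 octads, exactly 15 trios, exactly 16 sextets and exactly 20 dodecads. -/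
theorem result (g : Equiv.Perm Cfsg.GolayPt) (hg : g ∈ Cfsg.M24) (h₃ : orderOf g = 3) (h₆ : (Finset.univ.filter fun p => g p = p).card = 6) : {o : Finset Cfsg.GolayPt | o ∈ Cfsg.octads ∧ g • o = o}.ncard = 21 ∧ {T : Finset (Finset Cfsg.GolayPt) | T ∈ Cfsg.trios ∧ g • T = T}.ncard = 15 ∧ {S : Finset (Finset Cfsg.GolayPt) | S ∈ Cfsg.sextets ∧ g • S = S}.ncard = 16 ∧ {d : Finset Cfsg.GolayPt | d ∈ Cfsg.dodecads ∧ g • d = d}.ncard = 20 := by
  obtain ⟨k, hk, hkg⟩ : ∃ k ∈ M24, k * g * k⁻¹ = wordP w3A := by
    rcases card_fix_cases hg h₃ with ⟨_, h⟩ | ⟨h0, _⟩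
    · exact h
    · exfalso; rw [h0] at h₆; omega
  refine ⟨?_, ?_, ?_, ?_⟩
  · exact (ncard_fixed_conj octads octads_inv hk hkg).trans
      ((ncard_fixed_octads matchesP_A3).trans cnt_octads)
  · exact (ncard_fixed_conj trios Helper26.trio_setup.hinv hk hkg).trans
      ((ncard_fixed_trios matchesP_A3).trans cnt_trios)
  · exact (ncard_fixed_conj sextets Helper26.sextet_setup.hinv hk hkg).trans
      ((ncard_fixed_sextets matchesP_A3).trans cnt_sextets)
  · exact (ncard_fixed_conj dodecads dodecads_inv hk hkg).trans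
      ((ncard_fixed_dodecads matchesP_A3).trans cnt_dodecads)

end Cfsg.Agent.S5602
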