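import Cfsg.Statements.S5606
-- import your own Cfsg.Agent.* helpers here
import Cfsg.Agent.Lib.Helper89.M24FixCount

set_option autoImplicit false
open scoped Pointwise
open Cfsg

namespace Cfsg.Agent.S5606

open Cfsg.Agent.Lib.Helper89 Cfsg.Agent.Lib.Helper7 Cfsg.Agent.S5394 Cfsg.Agent.S5601
open Cfsg.Agent.Lib

theorem cnt_octads : (Helper27.octL.filter fun m => Helper26.applyP pB2 m == m).length = 15 := by
  decide +kernel

theorem cnt_trios : Helper26.countRange (fun j => decide (j < 3795) &&
      Helper26.subF ((Helper26.getF 3 Helper26.trB j).map (Helper26.applyP pB2))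
        (Helper26.getF 3 Helper26.trB j)) 12 0 = 75 := by
  decide +kernel

theorem cnt_sextets : Helper26.countRange (fun j => decide (j < 1771) &&
      Helper26.subF ((Helper26.getF 6 Helper26.sxB j).map (Helper26.applyP pB2))
        (Helper26.getF 6 Helper26.sxB j)) 12 0 = 51 := by
  decide +kernel


/-- A fixed-point-free involution of the group of the length-24 code maps to themselves exactly 15 octads, exactly 75 trios and exactly 51 sextets. -/
theorem result (g : Equiv.Perm Cfsg.GolayPt) (hg : g ∈ Cfsg.M24) (h₂ : orderOf g = 2) (h₀ : ∀ p, g p ≠ p) : {o : Finset Cfsg.GolayPt | o ∈ Cfsg.octads ∧ g • o = o}.ncard = 15 ∧ {T : Finset (Finset Cfsg.GolayPt) | T ∈ Cfsg.trios ∧ g • T = T}.ncard = 75 ∧ {S : Finset (Finset Cfsg.GolayPt) | S ∈ Cfsg.sextets ∧ g • S = S}.ncard = 51 := by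
  obtain ⟨k, hk, hkg⟩ : ∃ k ∈ M24, k * g * k⁻¹ = wordP [1] := by
    rcases classify hg h₂ with ⟨k, hk, h⟩ | h
    · exfalso
      have h1 := fix_conj k g
      rw [h] at h1
      have h2 : (Finset.univ.filter fun p => g p = p) = ∅ := by
        rw [Finset.filter_eq_empty_iff]
        intro p _
        exact h₀ p
      rw [h2, Finset.smul_finset_empty] at h1
      have h3 := fixA_mem.2
      rw [h1] at h3
      simp at h3
    · exact h
  refine ⟨?_, ?_, ?_⟩
  · exact (ncard_fixed_conj octads octads_inv hk hkg).trans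
      ((ncard_fixed_octads matchesP_B2).trans cnt_octads)
  · exact (ncard_fixed_conj trios Helper26.trio_setup.hinv hk hkg).trans
      ((ncard_fixed_trios matchesP_B2).trans cnt_trios)
  · exact (ncard_fixed_conj sextets Helper26.sextet_setup.hinv hk hkg).trans
      ((ncard_fixed_sextets matchesP_B2).trans cnt_sextets)

end Cfsg.Agent.S5606
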