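import Cfsg.Statements.S5608
-- import your own Cfsg.Agent.* helpers here
import Cfsg.Agent.Lib.Helper93.M24Extra
import Cfsg.Agent.S5394
import Cfsg.Agent.S5601

set_option autoImplicit false
open scoped Pointwise
open Cfsg

namespace Cfsg.Agent.S5608

open Cfsg.Agent.Lib.Helper7 Cfsg.Agent.Lib.Helper93 Cfsg.Agent.S5394 Cfsg.Agent.S5601

/-- squares of the elements `u6 * u5` of the five-point stabilizer -/
def cands5 : List (List ℕ) :=
  ((List.range 24).filter (orbitOK 5)).flatMap fun q5 =>
  ((List.range 24).filter (orbitOK 6)).map fun q6 =>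
    compT (compT (uT 6 q6) (uT 5 q5)) (compT (uT 6 q6) (uT 5 q5))

/-- the elements of order three among them -/
def xs : List (List ℕ) := cands5.filter fun X => isOrd3T X && !eqT X idT

/-- the fixed-point-free involutions exchanging `∞, 0` and `1, 2` -/
def ts : List (List ℕ) := cands.filter fun t => isInvolT t && fixIs t 0

theorem no_commute : (xs.all fun X => ts.all fun t => !eqT (compT X t) (compT t X)) = true := by
  decide +kernel

theorem eqT_of_matches {g : Equiv.Perm GolayPt} {a b : List ℕ} (ha : Matches g a)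
    (hb : Matches g b) : eqT a b = true := by
  simp only [eqT, List.all_eq_true, List.mem_range, beq_iff_eq]
  intro i hi
  have h1 := ha (pt i)
  have h2 := hb (pt i)
  rw [idx_pt hi] at h1 h2
  rw [← h1, ← h2]

theorem fixIs_zero_of {g : Equiv.Perm GolayPt} {c : List ℕ} (hm : Matches g c)
    (h : ∀ p, g p ≠ p) : fixIs c 0 = true := by
  simp only [fixIs, List.all_eq_true, List.mem_range]
  intro i hi
  have h1 := hm (pt i)
  rw [idx_pt hi] at h1
  have : c.getD i 0 ≠ i := by
    intro e
    rw [e] at h1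
    have h2 : idx (g (pt i)) = idx (pt i) := by rw [h1, idx_pt hi]
    exact h (pt i) (idx_injective h2)
  have hb : (c.getD i 0 == i) = false := by
    rw [beq_eq_false_iff_ne]; exact this
  rw [hb, Nat.zero_testBit]
  rfl

theorem mem_cands5 {g : Equiv.Perm GolayPt} (hg : g ∈ M24) (hggg : g * g * g = 1)
    (hfix5 : ∀ j < 5, g (bp j) = bp j) : ∃ t ∈ cands5, Matches g t := by
  obtain ⟨q5, hq5, ok5, u5, hu5, m5, hfix6⟩ := sift_step (i := 5) (by decide) hg hfix5
  obtain ⟨q6, hq6, ok6, u6, hu6, m6, hfix7⟩ := sift_step (i := 6) (by decide)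
    (M24.mul_mem hu5 hg) hfix6
  have hone : u6 * (u5 * g) = 1 := eq_one_of_fixes_base (M24.mul_mem hu6 (M24.mul_mem hu5 hg)) hfix7
  have e : (u6 * u5) * g = 1 := by rw [← hone]; simp only [mul_assoc]
  have hinv : u6 * u5 = g * g := by
    calc u6 * u5 = (u6 * u5) * (g * g * g) := by rw [hggg, mul_one]
      _ = ((u6 * u5) * g) * (g * g) := by simp only [mul_assoc]
      _ = g * g := by rw [e, one_mul]
  have hX : (u6 * u5) * (u6 * u5) = g := by
    rw [hinv]
    calc g * g * (g * g) = (g * g * g) * g := by simp only [mul_assoc]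
      _ = g := by rw [hggg, one_mul]
  have mX : Matches (u6 * u5) (compT (uT 6 q6) (uT 5 q5)) := matches_mul m6 m5
  refine ⟨compT (compT (uT 6 q6) (uT 5 q5)) (compT (uT 6 q6) (uT 5 q5)), ?_, ?_⟩
  · simp only [cands5, List.mem_flatMap, List.mem_filter, List.mem_map, List.mem_range]
    exact ⟨q5, ⟨hq5, ok5⟩, q6, ⟨hq6, ok6⟩, rfl⟩
  · rw [← hX]
    exact matches_mul mX mX

/-- the key non-existence statement, in normalized position -/
theorem no_pair {x s : Equiv.Perm GolayPt} (hx : x ∈ M24) (hs : s ∈ M24)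
    (hxxx : x * x * x = 1) (hx1 : x ≠ 1) (hss : s * s = 1) (hfpf : ∀ p, s p ≠ p)
    (hfix5 : ∀ j < 5, x (bp j) = bp j)
    (h0 : s (bp 0) = bp 1) (h1 : s (bp 1) = bp 0) (h2 : s (bp 2) = bp 3) (h3 : s (bp 3) = bp 2)
    (hc : x * s = s * x) : False := by
  obtain ⟨X, hX, mX⟩ := mem_cands5 hx hxxx hfix5
  obtain ⟨t, ht, mt⟩ := mem_cands hs hss h0 h1 h2 h3
  have hXs : X ∈ xs := by
    rw [xs, List.mem_filter]
    refine ⟨hX, ?_⟩
    rw [Bool.and_eq_true]
    refine ⟨isOrd3T_of mX hxxx, ?_⟩
    rw [Bool.not_eq_true']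
    by_contra hne
    rw [Bool.not_eq_false] at hne
    exact hx1 (eq_of_eqT mX matches_one hne)
  have hts : t ∈ ts := by
    rw [ts, List.mem_filter]
    refine ⟨ht, ?_⟩
    rw [Bool.and_eq_true]
    exact ⟨isInvolT_of mt hss, fixIs_zero_of mt hfpf⟩
  have h := no_commute
  rw [List.all_eq_true] at h
  have h' := h X hXs
  rw [List.all_eq_true] at h'
  have h'' := h' t hts
  have m1 : Matches (x * s) (compT X t) := matches_mul mX mt
  have m2 : Matches (x * s) (compT t X) := by rw [hc]; exact matches_mul mt mX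
  rw [eqT_of_matches m1 m2] at h''
  simp at h''


/-- If an element of order 3 and an involution of the group of the length-24 code commute, then either the element of order 3 has exactly 6 fixed points and the involution exactly 8, or both are fixed-point-free. -/
theorem result (x s : Equiv.Perm Cfsg.GolayPt) (hx : x ∈ Cfsg.M24) (hs : s ∈ Cfsg.M24) (h₃ : orderOf x = 3) (h₂ : orderOf s = 2) (hc : Commute x s) : ((Finset.univ.filter fun p => x p = p).card = 6 ∧ (Finset.univ.filter fun p => s p = p).card = 8) ∨ ((Finset.univ.filter fun p => x p = p).card = 0 ∧ (Finset.univ.filter fun p => s p = p).card = 0) := by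
  have hss : s * s = 1 := by
    rw [← pow_two, ← h₂]; exact pow_orderOf_eq_one s
  have hxxx : x * x * x = 1 := by
    have := pow_orderOf_eq_one x
    rw [h₃, pow_succ, pow_two] at this
    exact this
  have hx1 : x ≠ 1 := by
    intro h; rw [h, orderOf_one] at h₃; omega
  have hcomm : ∀ p, x (s p) = s (x p) := by
    intro p
    have := congrArg (fun f : Equiv.Perm GolayPt => f p) hc.eq
    simpa [Equiv.Perm.mul_apply] using this
  have hs2 : ∀ p, s (s p) = p := by
    intro p
    have := congrArg (fun f : Equiv.Perm GolayPt => f p) hss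
    simpa [Equiv.Perm.mul_apply] using this
  have hx3 : ∀ p, x (x (x p)) = p := by
    intro p
    have := congrArg (fun f : Equiv.Perm GolayPt => f p) hxxx
    simpa [Equiv.Perm.mul_apply] using this
  rcases (Cfsg.Agent.S5394.result).1 s hs h₂ with hoct | hfpf
  · left
    have h8 : (Finset.univ.filter fun p => s p = p).card = 8 := hoct.2
    refine ⟨?_, h8⟩
    rcases card_fix_cases hx h₃ with ⟨h, _⟩ | ⟨h, _⟩
    · exact h
    · exfalso
      have hpres : ∀ p, s (x p) = x p ↔ s p = p := by
        intro p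
        rw [← hcomm p]
        exact ⟨fun h => x.injective h, fun h => by rw [h]⟩
      have : Fact (Nat.Prime 3) := ⟨Nat.prime_three⟩
      have hcard : ¬ 3 ∣ Fintype.card {p // s p = p} := by
        rw [Fintype.card_subtype, h8]; decide
      have hσ : (Equiv.Perm.subtypePerm (p := fun p => s p = p) x hpres) ^ 3 ^ 1 = 1 := by
        apply Equiv.ext
        intro a
        apply Subtype.ext
        simp only [pow_succ, pow_zero, one_mul, Equiv.Perm.mul_apply,
          Equiv.Perm.subtypePerm_apply, Equiv.Perm.one_apply]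
        exact hx3 a.1
      obtain ⟨a, ha⟩ := Equiv.Perm.exists_fixed_point_of_prime hcard hσ
      have ha' : x a.1 = a.1 := by
        have := congrArg Subtype.val ha
        simpa using this
      have hmem : a.1 ∈ (Finset.univ.filter fun p => x p = p) := by
        rw [Finset.mem_filter]; exact ⟨Finset.mem_univ _, ha'⟩
      rw [Finset.card_eq_zero] at h
      rw [h] at hmem
      exact absurd hmem (Finset.notMem_empty _)
  · right
    have hs0 : (Finset.univ.filter fun p => s p = p).card = 0 := by
      rw [Finset.card_eq_zero, Finset.filter_eq_empty_iff]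
      intro p _
      exact hfpf p
    refine ⟨?_, hs0⟩
    rcases card_fix_cases hx h₃ with ⟨h6, _⟩ | ⟨h, _⟩
    · exfalso
      set F := (Finset.univ.filter fun p => x p = p) with hF
      have memF : ∀ p, p ∈ F ↔ x p = p := by
        intro p; rw [hF, Finset.mem_filter]; simp
      have sF : ∀ p, p ∈ F → s p ∈ F := by
        intro p hp
        rw [memF] at hp ⊢
        rw [hcomm, hp]
      obtain ⟨f1, hf1⟩ : ∃ f1, f1 ∈ F := Finset.card_pos.mp (by rw [h6]; decide)
      have hf2 : s f1 ∈ F := sF f1 hf1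
      have h21 : s f1 ≠ f1 := hfpf f1
      have hE2 : ((F.erase f1).erase (s f1)).card = 4 := by
        rw [Finset.card_erase_of_mem, Finset.card_erase_of_mem hf1, h6]
        rw [Finset.mem_erase]; exact ⟨h21, hf2⟩
      obtain ⟨f3, hf3⟩ : ∃ f3, f3 ∈ (F.erase f1).erase (s f1) :=
        Finset.card_pos.mp (by rw [hE2]; decide)
      have hf3' := hf3
      rw [Finset.mem_erase, Finset.mem_erase] at hf3'
      obtain ⟨h32, h31, hf3F⟩ := hf3'
      have hf4 : s f3 ∈ F := sF f3 hf3F
      have h43 : s f3 ≠ f3 := hfpf f3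
      have h41 : s f3 ≠ f1 := by
        intro h; apply h32; rw [← hs2 f3, h]
      have h42 : s f3 ≠ s f1 := fun h => h31 (s.injective h)
      have hE4 : ((((F.erase f1).erase (s f1)).erase f3).erase (s f3)).card = 2 := by
        rw [Finset.card_erase_of_mem, Finset.card_erase_of_mem hf3, hE2]
        rw [Finset.mem_erase, Finset.mem_erase, Finset.mem_erase]
        exact ⟨h43, h42, h41, hf4⟩
      obtain ⟨f5, hf5⟩ : ∃ f5, f5 ∈ (((F.erase f1).erase (s f1)).erase f3).erase (s f3) :=
        Finset.card_pos.mp (by rw [hE4]; decide)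
      rw [Finset.mem_erase, Finset.mem_erase, Finset.mem_erase, Finset.mem_erase] at hf5
      obtain ⟨h54, h53, h52, h51, hf5F⟩ := hf5
      have hl : [f1, s f1, f3, s f3, f5].Nodup := by
        simp only [List.nodup_cons, List.mem_cons, List.not_mem_nil, or_false, not_or,
          List.nodup_nil, and_true, not_false_eq_true]
        exact ⟨⟨h21.symm, h31.symm, h41.symm, h51.symm⟩, ⟨h32.symm, h42.symm, h52.symm⟩,
          ⟨h43.symm, h53.symm⟩, h54.symm⟩
      obtain ⟨z, hz, hzl⟩ := exists_M24_map_list [f1, s f1, f3, s f3, f5]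
        [bp 0, bp 1, bp 2, bp 3, bp 4] hl base_nodup5 rfl (by simp)
      have z0 : z f1 = bp 0 := hzl 0 (by simp)
      have z1 : z (s f1) = bp 1 := hzl 1 (by simp)
      have z2 : z f3 = bp 2 := hzl 2 (by simp)
      have z3 : z (s f3) = bp 3 := hzl 3 (by simp)
      have z4 : z f5 = bp 4 := hzl 4 (by simp)
      have hzi : ∀ p q, z p = q → z⁻¹ q = p := by
        intro p q h; rw [← h]; simp
      have hx' : z * x * z⁻¹ ∈ M24 := M24.mul_mem (M24.mul_mem hz hx) (M24.inv_mem hz)
      have hs' : z * s * z⁻¹ ∈ M24 := M24.mul_mem (M24.mul_mem hz hs) (M24.inv_mem hz)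
      refine no_pair hx' hs' ?_ ?_ ?_ ?_ ?_ ?_ ?_ ?_ ?_ ?_
      · calc (z * x * z⁻¹) * (z * x * z⁻¹) * (z * x * z⁻¹) = z * (x * x * x) * z⁻¹ := by group
          _ = 1 := by rw [hxxx]; group
      · intro h
        apply hx1
        calc x = z⁻¹ * (z * x * z⁻¹) * z := by group
          _ = 1 := by rw [h]; group
      · calc (z * s * z⁻¹) * (z * s * z⁻¹) = z * (s * s) * z⁻¹ := by group
          _ = 1 := by rw [hss]; group
      · intro p hp
        simp only [Equiv.Perm.mul_apply] at hp
        apply hfpf (z⁻¹ p)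
        have := congrArg (fun q => z⁻¹ q) hp
        simpa using this
      · intro j hj
        simp only [Equiv.Perm.mul_apply]
        have : j = 0 ∨ j = 1 ∨ j = 2 ∨ j = 3 ∨ j = 4 := by omega
        rcases this with rfl | rfl | rfl | rfl | rfl
        · rw [hzi _ _ z0, (memF f1).mp hf1, z0]
        · rw [hzi _ _ z1, (memF _).mp hf2, z1]
        · rw [hzi _ _ z2, (memF _).mp hf3F, z2]
        · rw [hzi _ _ z3, (memF _).mp hf4, z3]
        · rw [hzi _ _ z4, (memF _).mp hf5F, z4]
      · simp only [Equiv.Perm.mul_apply]; rw [hzi _ _ z0, z1]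
      · simp only [Equiv.Perm.mul_apply]; rw [hzi _ _ z1, hs2, z0]
      · simp only [Equiv.Perm.mul_apply]; rw [hzi _ _ z2, z3]
      · simp only [Equiv.Perm.mul_apply]; rw [hzi _ _ z3, hs2, z2]
      · calc (z * x * z⁻¹) * (z * s * z⁻¹) = z * (x * s) * z⁻¹ := by group
          _ = z * (s * x) * z⁻¹ := by rw [hc.eq]
          _ = (z * s * z⁻¹) * (z * x * z⁻¹) := by group
    · exact h

end Cfsg.Agent.S5608
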