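import Cfsg.Statements.S5609
import Cfsg.Agent.Lib.Helper93.OctadGraph
import Cfsg.Agent.Lib.Helper7.GolayFacts

set_option autoImplicit false
open scoped Pointwise
open Cfsg

namespace Cfsg.Agent.S5609

open Cfsg.Agent.Lib.Helper93 (supp IsGolayLike hammingNorm_eq_card_supp)
open Cfsg.Agent.Lib.Helper7 (golay_isGolayLike golay_one_mem')

/-- A pair at distance two has a common neighbour. -/
theorem exists_adj_adj_of_dist_eq_two {V : Type*} (G : SimpleGraph V) {u v : V}
    (h : G.dist u v = 2) : ∃ m, G.Adj u m ∧ G.Adj m v := by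
  have hne : G.dist u v ≠ 0 := by omega
  obtain ⟨p, hp⟩ := SimpleGraph.exists_walk_of_dist_ne_zero hne
  rw [h] at hp
  cases p with
  | nil => simp at hp
  | cons h1 p1 =>
    cases p1 with
    | nil => simp at hp
    | cons h2 p2 =>
      cases p2 with
      | nil => exact ⟨_, h1, h2⟩
      | cons h3 p3 =>
        simp only [SimpleGraph.Walk.length_cons] at hp
        omega

theorem exists_word {o : Finset GolayPt} (ho : o ∈ octads) :
    ∃ c ∈ golayCode, supp c = o ∧ hammingNorm c = 8 := by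
  obtain ⟨w, hw, hwo, h8⟩ := (Cfsg.Agent.Lib.Helper7.mem_octads_iff o).mp ho
  refine ⟨w, hw, hwo, ?_⟩
  rw [hammingNorm_eq_card_supp]
  show (support₂ w).card = 8
  rw [hwo]; exact h8

theorem supp_mem_octads {c : GolayPt → ZMod 2} (hc : c ∈ golayCode) (h8 : hammingNorm c = 8) :
    supp c ∈ octads := by
  rw [Cfsg.Agent.Lib.Helper7.mem_octads_iff]
  refine ⟨c, hc, rfl, ?_⟩
  rw [← hammingNorm_eq_card_supp]; exact h8

theorem card_of_mem_octads {o : Finset GolayPt} (ho : o ∈ octads) : o.card = 8 := by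
  obtain ⟨w, _, _, h8⟩ := (Cfsg.Agent.Lib.Helper7.mem_octads_iff o).mp ho
  exact h8

theorem adj_of_disjoint {a b : ↥octads} (h : Disjoint (a : Finset GolayPt) (b : Finset GolayPt)) :
    (blockGraph octads).Adj a b := by
  unfold blockGraph
  rw [SimpleGraph.fromRel_adj]
  refine ⟨?_, Or.inl h⟩
  intro e
  rw [e] at h
  have h0 : (b : Finset GolayPt) = ∅ := by simpa using h
  have h8 := card_of_mem_octads b.2
  rw [h0] at h8
  simp at h8

theorem disjoint_of_adj {a b : ↥octads} (h : (blockGraph octads).Adj a b) :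
    Disjoint (a : Finset GolayPt) (b : Finset GolayPt) := by
  unfold blockGraph at h
  rw [SimpleGraph.fromRel_adj] at h
  rcases h.2 with h1 | h1
  · exact h1
  · exact h1.symm

theorem disjoint_iff_card {s t : Finset GolayPt} : Disjoint s t ↔ (s ∩ t).card = 0 := by
  rw [Finset.card_eq_zero, Finset.disjoint_iff_inter_eq_empty]

/-- The trichotomy for two distinct octads. -/
theorem trichotomy (a b : ↥octads) (hne : a ≠ b) :
    (((a : Finset GolayPt) ∩ b).card = 0 ∧ (blockGraph octads).Adj a b) ∨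
    (((a : Finset GolayPt) ∩ b).card = 4 ∧ ¬ (blockGraph octads).Adj a b ∧
      ∃ m, (blockGraph octads).Adj a m ∧ (blockGraph octads).Adj m b) ∨
    (((a : Finset GolayPt) ∩ b).card = 2 ∧ ¬ (blockGraph octads).Adj a b ∧
      (∃ m1 m2, (blockGraph octads).Adj a m1 ∧ (blockGraph octads).Adj m1 m2 ∧
        (blockGraph octads).Adj m2 b) ∧
      ¬ ∃ m, (blockGraph octads).Adj a m ∧ (blockGraph octads).Adj m b) := by
  obtain ⟨c, hc, hca, h8⟩ := exists_word a.2
  obtain ⟨c', hc', hcb, h8'⟩ := exists_word b.2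
  have hcc' : c ≠ c' := by
    intro e
    apply hne
    apply Subtype.ext
    rw [← hca, ← hcb, e]
  have hG := golay_isGolayLike
  rcases hG.octad_inter hc hc' h8 h8' hcc' with h0 | h2 | h4
  · left
    rw [hca, hcb] at h0
    exact ⟨h0, adj_of_disjoint (disjoint_iff_card.mpr h0)⟩
  · right; right
    have h2' := h2
    rw [hca, hcb] at h2'
    refine ⟨h2', ?_, ?_, ?_⟩
    · intro hadj
      have := disjoint_iff_card.mp (disjoint_of_adj hadj)
      omega
    · obtain ⟨x, hx, y, hy, hx8, hy8, hcx, hxy, hyc'⟩ := hG.exists_path_three hc hc' h8 h8' h2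
      refine ⟨⟨supp x, supp_mem_octads hx hx8⟩, ⟨supp y, supp_mem_octads hy hy8⟩, ?_, ?_, ?_⟩
      · apply adj_of_disjoint
        show Disjoint (a : Finset GolayPt) (supp x)
        rw [← hca]; exact hcx
      · apply adj_of_disjoint
        exact hxy
      · apply adj_of_disjoint
        show Disjoint (supp y) (b : Finset GolayPt)
        rw [← hcb]; exact hyc'
    · rintro ⟨m, hm1, hm2⟩
      obtain ⟨d, hd, hdm, hd8⟩ := exists_word m.2
      apply hG.no_octad_disjoint_both golay_one_mem' hc hc' h8 h8' h2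
      refine ⟨d, hd, hd8, ?_, ?_⟩
      · rw [hdm, hca]; exact (disjoint_of_adj hm1).symm
      · rw [hdm, hcb]; exact disjoint_of_adj hm2
  · right; left
    have h4' := h4
    rw [hca, hcb] at h4'
    refine ⟨h4', ?_, ?_⟩
    · intro hadj
      have := disjoint_iff_card.mp (disjoint_of_adj hadj)
      omega
    · obtain ⟨d, hd, hd8, hdc, hdc'⟩ := hG.exists_octad_disjoint_both hc hc' h8 h8' h4
      refine ⟨⟨supp d, supp_mem_octads hd hd8⟩, ?_, ?_⟩
      · apply adj_of_disjoint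
        show Disjoint (a : Finset GolayPt) (supp d)
        rw [← hca]; exact hdc.symm
      · apply adj_of_disjoint
        show Disjoint (supp d) (b : Finset GolayPt)
        rw [← hcb]; exact hdc'

theorem reachable (a b : ↥octads) : (blockGraph octads).Reachable a b := by
  by_cases hab : a = b
  · rw [hab]
  · rcases trichotomy a b hab with ⟨_, h⟩ | ⟨_, _, m, h1, h2⟩ | ⟨_, _, ⟨m1, m2, h1, h2, h3⟩, _⟩
    · exact h.reachable
    · exact h1.reachable.trans h2.reachable
    · exact (h1.reachable.trans h2.reachable).trans h3.reachable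

/-- In the graph on the 759 octads of the length-24 code in which two octads are adjacent when they are disjoint, the graph is connected (of diameter 3) and two distinct octads are at distance 1, 2 or 3 exactly when they meet in 0, 4 or 2 points respectively. -/
theorem result (o o' : Finset Cfsg.GolayPt) (ho : o ∈ Cfsg.octads) (ho' : o' ∈ Cfsg.octads) (hne : o ≠ o') : (Cfsg.blockGraph Cfsg.octads).Connected ∧ ((Cfsg.blockGraph Cfsg.octads).dist ⟨o, ho⟩ ⟨o', ho'⟩ = 1 ↔ (o ∩ o').card = 0) ∧ ((Cfsg.blockGraph Cfsg.octads).dist ⟨o, ho⟩ ⟨o', ho'⟩ = 2 ↔ (o ∩ o').card = 4) ∧ ((Cfsg.blockGraph Cfsg.octads).dist ⟨o, ho⟩ ⟨o', ho'⟩ = 3 ↔ (o ∩ o').card = 2) := by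
  have hconn : (Cfsg.blockGraph Cfsg.octads).Connected :=
    { preconnected := fun a b => reachable a b, nonempty := ⟨⟨o, ho⟩⟩ }
  have hne' : (⟨o, ho⟩ : ↥octads) ≠ ⟨o', ho'⟩ := fun e => hne (congrArg Subtype.val e)
  have hpos := hconn.pos_dist_of_ne hne'
  refine ⟨hconn, ?_⟩
  rcases trichotomy ⟨o, ho⟩ ⟨o', ho'⟩ hne' with ⟨hk, h⟩ | ⟨hk, hnadj, m, h1, h2⟩ |
      ⟨hk, hnadj, ⟨m1, m2, h1, h2, h3⟩, hno⟩
  · have hd : (Cfsg.blockGraph Cfsg.octads).dist ⟨o, ho⟩ ⟨o', ho'⟩ = 1 :=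
      SimpleGraph.dist_eq_one_iff_adj.mpr h
    have hk' : (o ∩ o').card = 0 := hk
    rw [hd, hk']
    refine ⟨by simp, by simp, by simp⟩
  · have hle : (Cfsg.blockGraph Cfsg.octads).dist ⟨o, ho⟩ ⟨o', ho'⟩ ≤ 2 :=
      SimpleGraph.dist_le (SimpleGraph.Walk.cons h1 (SimpleGraph.Walk.cons h2 SimpleGraph.Walk.nil))
    have hn1 : (Cfsg.blockGraph Cfsg.octads).dist ⟨o, ho⟩ ⟨o', ho'⟩ ≠ 1 :=
      fun e => hnadj (SimpleGraph.dist_eq_one_iff_adj.mp e)
    have hd : (Cfsg.blockGraph Cfsg.octads).dist ⟨o, ho⟩ ⟨o', ho'⟩ = 2 := by omega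
    have hk' : (o ∩ o').card = 4 := hk
    rw [hd, hk']
    refine ⟨by simp, by simp, by simp⟩
  · have hle : (Cfsg.blockGraph Cfsg.octads).dist ⟨o, ho⟩ ⟨o', ho'⟩ ≤ 3 :=
      SimpleGraph.dist_le (SimpleGraph.Walk.cons h1 (SimpleGraph.Walk.cons h2
        (SimpleGraph.Walk.cons h3 SimpleGraph.Walk.nil)))
    have hn1 : (Cfsg.blockGraph Cfsg.octads).dist ⟨o, ho⟩ ⟨o', ho'⟩ ≠ 1 :=
      fun e => hnadj (SimpleGraph.dist_eq_one_iff_adj.mp e)
    have hn2 : (Cfsg.blockGraph Cfsg.octads).dist ⟨o, ho⟩ ⟨o', ho'⟩ ≠ 2 :=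
      fun e => hno (exists_adj_adj_of_dist_eq_two _ e)
    have hd : (Cfsg.blockGraph Cfsg.octads).dist ⟨o, ho⟩ ⟨o', ho'⟩ = 3 := by omega
    have hk' : (o ∩ o').card = 2 := hk
    rw [hd, hk']
    refine ⟨by simp, by simp, by simp⟩

end Cfsg.Agent.S5609
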