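import Cfsg.Statements.S5610
import Cfsg.Agent.Lib.Helper93.FlagSxOct
import Cfsg.Agent.Lib.Helper93.FlagOctTrio

set_option autoImplicit false
open scoped Pointwise
open Cfsg

namespace Cfsg.Agent.S5610

open Cfsg.Agent.Lib.Helper7 Cfsg.Agent.Lib.Helper92 Cfsg.Agent.Lib.Helper93

/-- Class sizes on the sextet side, by double counting. -/
theorem ncard_cls_swap {o : Finset GolayPt} (ho : o ∈ octads) :
    (flagSxOct.swap.cls o 2).ncard = 35 ∧ (flagSxOct.swap.cls o 4).ncard = 840 ∧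
      (flagSxOct.swap.cls o 6).ncard = 896 := by
  have hA : flagSxOct.sA.Finite := Set.toFinite _
  have hB : flagSxOct.sB.Finite := Set.toFinite _
  have hnA : flagSxOct.sA.ncard = 1771 := Cfsg.Agent.S1550.result.2
  have hnB : flagSxOct.sB.ncard = 759 := Cfsg.Agent.Lib.Helper26.ncard_octads
  have hs := ncard_cls_sxOct sxS_mem_sextets
  have d2 := flagSxOct.double_count hA hB (a₀ := sxS) sxS_mem_sextets (b₀ := o) ho 2
  have d4 := flagSxOct.double_count hA hB (a₀ := sxS) sxS_mem_sextets (b₀ := o) ho 4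
  have d6 := flagSxOct.double_count hA hB (a₀ := sxS) sxS_mem_sextets (b₀ := o) ho 6
  rw [hnA, hnB, hs.1] at d2
  rw [hnA, hnB, hs.2.1] at d4
  rw [hnA, hnB, hs.2.2] at d6
  refine ⟨by omega, by omega, by omega⟩


/-- The stabiliser of an octad in the group of the length-24 code has exactly three orbits on the 3795 trios, of sizes 15, 420 and 3360, and exactly three orbits on the 1771 sextets, of sizes 35, 840 and 896. -/
theorem result (o : Finset Cfsg.GolayPt) (ho : o ∈ Cfsg.octads) : (∃ X₁ ∈ Cfsg.trios, ∃ X₂ ∈ Cfsg.trios, ∃ X₃ ∈ Cfsg.trios, (MulAction.orbit ↥(MulAction.stabilizer Cfsg.M24 o) X₁).ncard = 15 ∧ (MulAction.orbit ↥(MulAction.stabilizer Cfsg.M24 o) X₂).ncard = 420 ∧ (MulAction.orbit ↥(MulAction.stabilizer Cfsg.M24 o) X₃).ncard = 3360 ∧ Cfsg.trios = MulAction.orbit ↥(MulAction.stabilizer Cfsg.M24 o) X₁ ∪ MulAction.orbit ↥(MulAction.stabilizer Cfsg.M24 o) X₂ ∪ MulAction.orbit ↥(MulAction.stabilizer Cfsg.M24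 o) X₃) ∧ (∃ Y₁ ∈ Cfsg.sextets, ∃ Y₂ ∈ Cfsg.sextets, ∃ Y₃ ∈ Cfsg.sextets, (MulAction.orbit ↥(MulAction.stabilizer Cfsg.M24 o) Y₁).ncard = 35 ∧ (MulAction.orbit ↥(MulAction.stabilizer Cfsg.M24 o) Y₂).ncard = 840 ∧ (MulAction.orbit ↥(MulAction.stabilizer Cfsg.M24 o) Y₃).ncard = 896 ∧ Cfsg.sextets = MulAction.orbit ↥(MulAction.stabilizer Cfsg.M24 o) Y₁ ∪ MulAction.orbit ↥(MulAction.stabilizer Cfsg.M24 o) Y₂ ∪ MulAction.orbit ↥(MulAction.stabilizer Cfsg.M24 o) Y₃) := by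
  constructor
  · exact flagOctTrio.three_orbits (a := o) ho (k₁ := 1) (k₂ := 2) (k₃ := 3)
      (fun b hb => kOctTrio_cases ho hb) (ncard_cls_octTrio ho).1 (ncard_cls_octTrio ho).2.1
      (ncard_cls_octTrio ho).2.2 (by decide) (by decide) (by decide)
  · exact flagSxOct.swap.three_orbits (a := o) ho (k₁ := 2) (k₂ := 4) (k₃ := 6)
      (fun b hb => kSet_sextet_octad_cases hb ho) (ncard_cls_swap ho).1 (ncard_cls_swap ho).2.1
      (ncard_cls_swap ho).2.2 (by decide) (by decide) (by decide)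

end Cfsg.Agent.S5610
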