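import Cfsg.Statements.S5612
import Cfsg.Agent.Lib.Helper93.FlagOctTrio
import Cfsg.Agent.Lib.Helper93.FlagSxTrio

set_option autoImplicit false
open scoped Pointwise
open Cfsg

namespace Cfsg.Agent.S5612

open Cfsg.Agent.Lib.Helper7 Cfsg.Agent.Lib.Helper92 Cfsg.Agent.Lib.Helper93

/-- Class sizes of octads relative to a trio, by double counting. -/
theorem ncard_cls_oct {T : Finset (Finset GolayPt)} (hT : T ∈ trios) :
    (flagOctTrio.swap.cls T 1).ncard = 3 ∧ (flagOctTrio.swap.cls T 2).ncard = 84 ∧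
      (flagOctTrio.swap.cls T 3).ncard = 672 := by
  have hA : flagOctTrio.sA.Finite := Set.toFinite _
  have hB : flagOctTrio.sB.Finite := Set.toFinite _
  have hnA : flagOctTrio.sA.ncard = 759 := Cfsg.Agent.Lib.Helper26.ncard_octads
  have hnB : flagOctTrio.sB.ncard = 3795 := Cfsg.Agent.S1557.result.2
  have hO : Cfsg.Agent.Lib.Helper7.setOf octO ∈ flagOctTrio.sA := setOf_mem_octads isOctadMask_octO
  have hs := ncard_cls_octTrio hO
  have d1 := flagOctTrio.double_count hA hB hO (b₀ := T) hT 1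
  have d2 := flagOctTrio.double_count hA hB hO (b₀ := T) hT 2
  have d3 := flagOctTrio.double_count hA hB hO (b₀ := T) hT 3
  rw [hnA, hnB, hs.1] at d1
  rw [hnA, hnB, hs.2.1] at d2
  rw [hnA, hnB, hs.2.2] at d3
  refine ⟨by omega, by omega, by omega⟩

/-- Class sizes of sextets relative to a trio, by double counting. -/
theorem ncard_cls_sx {T : Finset (Finset GolayPt)} (hT : T ∈ trios) :
    (flagSxTrio.swap.cls T 6).ncard = 7 ∧ (flagSxTrio.swap.cls T 10).ncard = 84 ∧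
      (flagSxTrio.swap.cls T 12).ncard = 336 ∧ (flagSxTrio.swap.cls T 16).ncard = 1344 := by
  have hA : flagSxTrio.sA.Finite := Set.toFinite _
  have hB : flagSxTrio.sB.Finite := Set.toFinite _
  have hnA : flagSxTrio.sA.ncard = 1771 := Cfsg.Agent.S1550.result.2
  have hnB : flagSxTrio.sB.ncard = 3795 := Cfsg.Agent.S1557.result.2
  have hO : sxS ∈ flagSxTrio.sA := sxS_mem_sextets
  have hs := ncard_cls_sxTrio sxS_mem_sextets
  have d1 := flagSxTrio.double_count hA hB hO (b₀ := T) hT 6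
  have d2 := flagSxTrio.double_count hA hB hO (b₀ := T) hT 10
  have d3 := flagSxTrio.double_count hA hB hO (b₀ := T) hT 12
  have d4 := flagSxTrio.double_count hA hB hO (b₀ := T) hT 16
  rw [hnA, hnB, hs.1] at d1
  rw [hnA, hnB, hs.2.1] at d2
  rw [hnA, hnB, hs.2.2.1] at d3
  rw [hnA, hnB, hs.2.2.2] at d4
  refine ⟨by omega, by omega, by omega, by omega⟩


/-- The stabiliser of a trio in the group of the length-24 code has exactly three orbits on the 759 octads, of sizes 3, 84 and 672, and exactly four orbits on the 1771 sextets, of sizes 7, 84, 336 and 1344. -/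
theorem result (T : Finset (Finset Cfsg.GolayPt)) (hT : T ∈ Cfsg.trios) : (∃ X₁ ∈ Cfsg.octads, ∃ X₂ ∈ Cfsg.octads, ∃ X₃ ∈ Cfsg.octads, (MulAction.orbit ↥(MulAction.stabilizer Cfsg.M24 T) X₁).ncard = 3 ∧ (MulAction.orbit ↥(MulAction.stabilizer Cfsg.M24 T) X₂).ncard = 84 ∧ (MulAction.orbit ↥(MulAction.stabilizer Cfsg.M24 T) X₃).ncard = 672 ∧ Cfsg.octads = MulAction.orbit ↥(MulAction.stabilizer Cfsg.M24 T) X₁ ∪ MulAction.orbit ↥(MulAction.stabilizer Cfsg.M24 T) X₂ ∪ MulAction.orbit ↥(MulAction.stabilizer Cfsg.M24 T) X₃) ∧ (∃ Y₁ ∈ Cfsg.sextets, ∃ Y₂ ∈ Cfsg.sextets, ∃ Y₃ ∈ Cfsg.sextets, ∃ Y₄ ∈ Cfsg.sextets, (MulAction.orbit ↥(MulAction.stabilizer Cfsg.M24 T) Y₁).ncard = 7 ∧ (MulAction.orbit ↥(MulAction.stabilizer Cfsg.M24 T) Y₂).ncard = 84 ∧ (MulAction.orbit ↥(MulAction.stabilizer Cfsg.M24 T) Y₃).ncard = 336 ∧ (MulAction.orbit ↥(MulAction.stabilizer Cfsg.M24 T) Y₄).ncard = 1344 ∧ Cfsg.sextets = MulAction.orbit ↥(MulAction.stabilizer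 Cfsg.M24 T) Y₁ ∪ MulAction.orbit ↥(MulAction.stabilizer Cfsg.M24 T) Y₂ ∪ MulAction.orbit ↥(MulAction.stabilizer Cfsg.M24 T) Y₃ ∪ MulAction.orbit ↥(MulAction.stabilizer Cfsg.M24 T) Y₄) := by
  constructor
  · exact flagOctTrio.swap.three_orbits (a := T) hT (k₁ := 1) (k₂ := 2) (k₃ := 3)
      (fun b hb => kOctTrio_cases hb hT) (ncard_cls_oct hT).1 (ncard_cls_oct hT).2.1
      (ncard_cls_oct hT).2.2 (by decide) (by decide) (by decide)
  · exact flagSxTrio.swap.four_orbits (a := T) hT (k₁ := 6) (k₂ := 10) (k₃ := 12) (k₄ := 16)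
      (fun b hb => kSxTrio_cases hb hT) (ncard_cls_sx hT).1 (ncard_cls_sx hT).2.1
      (ncard_cls_sx hT).2.2.1 (ncard_cls_sx hT).2.2.2 (by decide) (by decide) (by decide)
      (by decide)

end Cfsg.Agent.S5612
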