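import Cfsg.Statements.S5614
import Cfsg.Agent.Lib.Helper93.OctadK0
import Cfsg.Agent.Lib.Helper93.M24SixB
import Cfsg.Agent.S5600

set_option autoImplicit false
open scoped Pointwise
open Cfsg

namespace Cfsg.Agent.S5614

open Cfsg.Agent.Lib.Helper7 Cfsg.Agent.Lib.Helper93

theorem sdiff_card {o o' : Finset GolayPt} (ho' : o' ∈ octads) (h₂ : (o ∩ o').card = 2) :
    (o' \ o).card = 6 := by
  have h := Finset.card_sdiff_add_card_inter o' o
  rw [Finset.inter_comm, h₂, ho'.2] at h
  omega

theorem joint_le (o o' : Finset GolayPt) :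
    MulAction.stabilizer M24 o ⊓ MulAction.stabilizer M24 o' ≤
      MulAction.stabilizer M24 (o' \ o) := by
  intro g hg
  rw [Subgroup.mem_inf, MulAction.mem_stabilizer_iff, MulAction.mem_stabilizer_iff] at hg
  rw [MulAction.mem_stabilizer_iff, Finset.smul_finset_sdiff, hg.1, hg.2]

/-- Restriction of the joint stabilizer to the six points of `o'` outside `o`. -/
noncomputable def rho (o o' : Finset GolayPt) :
    ↥(MulAction.stabilizer M24 o ⊓ MulAction.stabilizer M24 o') →* Equiv.Perm ↥(o' \ o) :=
  (Cfsg.Agent.S5600.restrictHom (o' \ o)).comp (Subgroup.inclusion (joint_le o o'))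

theorem rho_injective {o o' : Finset GolayPt} (ho : o ∈ octads) (ho' : o' ∈ octads)
    (h₂ : (o ∩ o').card = 2) : Function.Injective (rho o o') := by
  rw [injective_iff_map_eq_one]
  intro g hg
  have hE := sdiff_card ho' h₂
  have hfixE : ((g : M24) : Equiv.Perm GolayPt) ∈ fixM24 (o' \ o) := by
    rw [mem_fixM24]
    refine ⟨(g : M24).2, fun p hp => ?_⟩
    have h1 := Cfsg.Agent.S5600.restrictHom_apply (Subgroup.inclusion (joint_le o o') g) ⟨p, hp⟩
    have h2 : Cfsg.Agent.S5600.restrictHom (o' \ o) (Subgroup.inclusion (joint_le o o') g) = 1 := hg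
    rw [h2] at h1
    exact h1.symm
  have heq : fixM24 o' = fixM24 (o' \ o) := by
    apply Subgroup.eq_of_le_of_card_ge (fixM24_mono Finset.sdiff_subset)
    rw [(fixM24_octad ho').1, card_fixM24_six_inside ho' hE Finset.sdiff_subset]
  rw [← heq] at hfixE
  have hgo : ((g : M24) : Equiv.Perm GolayPt) • o = o :=
    MulAction.mem_stabilizer_iff.mp (Subgroup.mem_inf.mp g.2).1
  have h1 := eq_one_of_fix_octad_stab ho ho' h₂ hfixE hgo
  apply Subtype.ext
  apply Subtype.ext
  exact h1


/-- In the group of the length-24 code, the joint stabiliser of two octads meeting in exactly two points is isomorphic to the symmetric group of degree 6. -/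
theorem result (o o' : Finset Cfsg.GolayPt) (ho : o ∈ Cfsg.octads) (ho' : o' ∈ Cfsg.octads) (h₂ : (o ∩ o').card = 2) : Nonempty (↥(MulAction.stabilizer Cfsg.M24 o ⊓ MulAction.stabilizer Cfsg.M24 o') ≃* Equiv.Perm (Fin 6)) := by
  have hE := sdiff_card (o := o) ho' h₂
  have hcard : Nat.card ↥(MulAction.stabilizer M24 o ⊓ MulAction.stabilizer M24 o') = 720 :=
    (card_joint_stabilizer ho ho').2.2 h₂
  have hperm : Nat.card (Equiv.Perm ↥(o' \ o)) = 720 := by
    rw [Nat.card_eq_fintype_card, Fintype.card_perm, Fintype.card_coe, hE]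
    rfl
  have hbij : Function.Bijective (rho o o') :=
    (Nat.bijective_iff_injective_and_card _).mpr ⟨rho_injective ho ho' h₂, hcard.trans hperm.symm⟩
  exact ⟨(MulEquiv.ofBijective (rho o o') hbij).trans
    (Equiv.permCongrHom (Finset.equivFinOfCardEq hE))⟩

end Cfsg.Agent.S5614
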