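import Cfsg.Statements.S5615
import Cfsg.Agent.Lib.Helper93.OctadTrios
import Cfsg.Agent.Lib.Helper93.M24Extra

set_option autoImplicit false
open scoped Pointwise
open Cfsg

namespace Cfsg.Agent.S5615

open Cfsg.Agent.Lib.Helper7 Cfsg.Agent.Lib.Helper92 Cfsg.Agent.Lib.Helper93

/-- Octads in two different trios through `o` (other than `o`) meet in four points. -/
theorem inter_four {o : Finset GolayPt} (ho : o ∈ octads) {T₁ T₂ : Finset (Finset GolayPt)}
    (hT₁ : T₁ ∈ trios) (hT₂ : T₂ ∈ trios) (ho₁ : o ∈ T₁) (ho₂ : o ∈ T₂) (hne : T₁ ≠ T₂)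
    {a b : Finset GolayPt} (ha : a ∈ T₁) (hao : a ≠ o) (hb : b ∈ T₂) (hbo : b ≠ o) :
    (a ∩ b).card = 4 := by
  have hbT₁ : b ∉ T₁ := fun h => hne (trio_ext hT₁ hT₂ ho₁ ho₂ h hb hbo)
  have hT₁eq := trio_eq hT₁ ho₁ ha hao
  have hb_oct : b ∈ octads := hT₂.2.1 b hb
  have ha_oct : a ∈ octads := hT₁.2.1 a ha
  have hoa : Disjoint o a := hT₁.2.2 o ho₁ a ha hao.symm
  have hob : Disjoint o b := hT₂.2.2 o ho₂ b hb hbo.symm
  have hc_oct : (o ∪ a)ᶜ ∈ octads := compl_union_mem_octads ho ha_oct hoa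
  have hba : b ≠ a := fun h => hbT₁ (h ▸ ha)
  have hbc : b ≠ (o ∪ a)ᶜ := fun h => hbT₁ (by rw [hT₁eq, h]; simp)
  have hsum : (b ∩ a).card + (b ∩ (o ∪ a)ᶜ).card = 8 := by
    have hunion : b = (b ∩ a) ∪ (b ∩ (o ∪ a)ᶜ) := by
      ext p
      simp only [Finset.mem_union, Finset.mem_inter, Finset.mem_compl]
      constructor
      · intro hp
        by_cases hpa : p ∈ a
        · exact Or.inl ⟨hp, hpa⟩
        · refine Or.inr ⟨hp, ?_⟩
          rintro (hpo | hpa')
          · exact Finset.disjoint_left.mp hob hpo hp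
          · exact hpa hpa'
      · rintro (h | h)
        · exact h.1
        · exact h.1
    have hdisj : Disjoint (b ∩ a) (b ∩ (o ∪ a)ᶜ) := by
      rw [Finset.disjoint_left]
      intro p hp hp'
      rw [Finset.mem_inter] at hp hp'
      rw [Finset.mem_compl, Finset.mem_union] at hp'
      exact hp'.2 (Or.inr hp.2)
    rw [← Finset.card_union_of_disjoint hdisj, ← hunion, hb_oct.2]
  rw [Finset.inter_comm]
  rcases octad_inter_cases hb_oct ha_oct with h | h | h | h
  · rcases octad_inter_cases hb_oct hc_oct with h' | h' | h' | h'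
    · omega
    · omega
    · omega
    · exact absurd h' hbc
  · exact h
  · rcases octad_inter_cases hb_oct hc_oct with h' | h' | h' | h'
    · omega
    · omega
    · omega
    · exact absurd h' hbc
  · exact absurd h hba

theorem two_trans {o : Finset GolayPt} (ho : o ∈ octads)
    {T₁ T₂ T₁' T₂' : Finset (Finset GolayPt)} (hT₁ : T₁ ∈ trios) (hT₂ : T₂ ∈ trios)
    (hT₁' : T₁' ∈ trios) (hT₂' : T₂' ∈ trios) (ho₁ : o ∈ T₁) (ho₂ : o ∈ T₂) (ho₁' : o ∈ T₁')
    (ho₂' : o ∈ T₂') (hne : T₁ ≠ T₂) (hne' : T₁' ≠ T₂') :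
    ∃ g ∈ M24, g • o = o ∧ g • T₁ = T₁' ∧ g • T₂ = T₂' := by
  obtain ⟨a, ha, hao⟩ := exists_mem_trio_ne hT₁ o
  obtain ⟨b, hb, hbo⟩ := exists_mem_trio_ne hT₂ o
  obtain ⟨a', ha', hao'⟩ := exists_mem_trio_ne hT₁' o
  obtain ⟨b', hb', hbo'⟩ := exists_mem_trio_ne hT₂' o
  have h4 := inter_four ho hT₁ hT₂ ho₁ ho₂ hne ha hao hb hbo
  have h4' := inter_four ho hT₁' hT₂' ho₁' ho₂' hne' ha' hao' hb' hbo'
  obtain ⟨g, hg, hgo, hga, hgb⟩ := exists_stab_octad_map_pair ho (hT₁.2.1 a ha) (hT₂.2.1 b hb)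
    (hT₁'.2.1 a' ha') (hT₂'.2.1 b' hb') (hT₁.2.2 o ho₁ a ha hao.symm)
    (hT₂.2.2 o ho₂ b hb hbo.symm) (hT₁'.2.2 o ho₁' a' ha' hao'.symm)
    (hT₂'.2.2 o ho₂' b' hb' hbo'.symm) h4 h4'
  refine ⟨g, hg, hgo, ?_, ?_⟩
  · apply trio_ext (smul_mem_trios hg hT₁) hT₁' (o := o) (q := a')
    · rw [← hgo]; exact Finset.smul_mem_smul_finset ho₁
    · exact ho₁'
    · rw [← hga]; exact Finset.smul_mem_smul_finset ha
    · exact ha'
    · exact hao'
  · apply trio_ext (smul_mem_trios hg hT₂) hT₂' (o := o) (q := b')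
    · rw [← hgo]; exact Finset.smul_mem_smul_finset ho₂
    · exact ho₂'
    · rw [← hgb]; exact Finset.smul_mem_smul_finset hb
    · exact hb'
    · exact hbo'

theorem ncard_trios_through {o : Finset GolayPt} (ho : o ∈ octads) :
    {T : Finset (Finset GolayPt) | T ∈ trios ∧ o ∈ T}.ncard = 15 := by
  classical
  have h30 : {c : Finset GolayPt | c ∈ octads ∧ Disjoint o c}.ncard = 30 :=
    Cfsg.Agent.S0354.result card_golayPt24 octads_steiner ho
  set D : Finset (Finset GolayPt) := Finset.univ.filter (fun c => c ∈ octads ∧ Disjoint o c)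
    with hDdef
  set F : Finset (Finset (Finset GolayPt)) := Finset.univ.filter (fun T => T ∈ trios ∧ o ∈ T)
    with hFdef
  have hD : D.card = 30 := by
    rw [← h30, ← Set.ncard_coe_finset]
    congr 1
    ext c
    simp [hDdef]
  have hF : {T : Finset (Finset GolayPt) | T ∈ trios ∧ o ∈ T}.ncard = F.card := by
    rw [← Set.ncard_coe_finset]
    congr 1
    ext T
    simp [hFdef]
  have hmemD : ∀ c, c ∈ D ↔ c ∈ octads ∧ Disjoint o c := fun c => by simp [hDdef]
  have hmemF : ∀ T, T ∈ F ↔ T ∈ trios ∧ o ∈ T := fun T => by simp [hFdef]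
  let φ : Finset GolayPt → Finset (Finset GolayPt) := fun c => {o, c, (o ∪ c)ᶜ}
  have hφ : ∀ c ∈ D, φ c ∈ F := by
    intro c hc
    rw [hmemD] at hc
    rw [hmemF]
    exact ⟨trio_mk ho hc.1 hc.2, Finset.mem_insert_self _ _⟩
  have hfib : ∀ T ∈ F, (D.filter (fun c => φ c = T)).card = 2 := by
    intro T hT
    rw [hmemF] at hT
    obtain ⟨c₀, hc₀T, hc₀o⟩ := exists_mem_trio_ne hT.1 o
    have hTeq := trio_eq hT.1 hT.2 hc₀T hc₀o
    have hc₀oct : c₀ ∈ octads := hT.1.2.1 c₀ hc₀T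
    have hoc₀ : Disjoint o c₀ := hT.1.2.2 o hT.2 c₀ hc₀T hc₀o.symm
    have hcompl : (o ∪ c₀)ᶜ ∈ octads := compl_union_mem_octads ho hc₀oct hoc₀
    have hcT : (o ∪ c₀)ᶜ ∈ T := by rw [hTeq]; simp
    have hset : D.filter (fun c => φ c = T) = {c₀, (o ∪ c₀)ᶜ} := by
      ext c
      rw [Finset.mem_filter, hmemD, Finset.mem_insert, Finset.mem_singleton]
      constructor
      · rintro ⟨⟨_, hdc⟩, hφc⟩
        have hcT' : c ∈ T := by
          rw [← hφc]
          simp [φ]
        rw [hTeq, Finset.mem_insert, Finset.mem_insert, Finset.mem_singleton] at hcT'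
        rcases hcT' with h | h | h
        · exact absurd h.symm (octad_ne_of_disjoint ho hdc)
        · exact Or.inl h
        · exact Or.inr h
      · rintro (rfl | rfl)
        · exact ⟨⟨hc₀oct, hoc₀⟩, hTeq.symm⟩
        · refine ⟨⟨hcompl, disjoint_compl_union_left _ _⟩, ?_⟩
          apply trio_ext (trio_mk ho hcompl (disjoint_compl_union_left _ _)) hT.1 (o := o)
            (q := (o ∪ c₀)ᶜ)
          · simp
          · exact hT.2
          · simp
          · exact hcT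
          · exact (octad_ne_of_disjoint ho (disjoint_compl_union_left _ _)).symm
    rw [hset, Finset.card_pair]
    exact octad_ne_of_disjoint hc₀oct (disjoint_compl_union_right _ _)
  have hcount := Finset.card_eq_sum_card_fiberwise hφ
  rw [Finset.sum_congr rfl hfib, Finset.sum_const, smul_eq_mul, hD] at hcount
  rw [hF]
  omega

/-- Elements fixing `o` pointwise fix every trio through `o`. -/
theorem fix_trios {o : Finset GolayPt} (ho : o ∈ octads) {g : Equiv.Perm GolayPt}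
    (hg : g ∈ fixM24 o) {T : Finset (Finset GolayPt)} (hT : T ∈ trios) (hoT : o ∈ T) :
    g • T = T := by
  have hgM : g ∈ M24 := (mem_fixM24.mp hg).1
  have hgo : g • o = o := by
    apply perm_smul_eq_of_forall_mem
    intro p hp
    rw [(mem_fixM24.mp hg).2 p hp]
    exact hp
  obtain ⟨a, ha, hao⟩ := exists_mem_trio_ne hT o
  have ha_oct : a ∈ octads := hT.2.1 a ha
  have hoa : Disjoint o a := hT.2.2 o hoT a ha hao.symm
  have hoga : Disjoint o (g • a) := by
    rw [← hgo, smul_disjoint_iff]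
    exact hoa
  have hgaT : g • a ∈ T := by
    rcases fix_octad_disjoint ho hg ha_oct hoa with h | h
    · rw [h]; exact ha
    · have := eq_compl_union ho ha_oct (smul_mem_octads hgM ha_oct) hoa hoga h.symm
      rw [this, trio_eq hT hoT ha hao]
      simp
  apply trio_ext (smul_mem_trios hgM hT) hT (o := o) (q := g • a)
  · rw [← hgo]; exact Finset.smul_mem_smul_finset hoT
  · exact hoT
  · exact Finset.smul_mem_smul_finset ha
  · exact hgaT
  · exact (octad_ne_of_disjoint ho hoga).symm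

theorem exists_notMem_octad {o : Finset GolayPt} (ho : o ∈ octads) : ∃ p : GolayPt, p ∉ o := by
  by_contra h
  have h' : ∀ p : GolayPt, p ∈ o := fun p => by
    by_contra hp
    exact h ⟨p, hp⟩
  have : o = Finset.univ := Finset.eq_univ_iff_forall.mpr h'
  have h8 := ho.2
  rw [this, Finset.card_univ, card_golayPt24] at h8
  exact absurd h8 (by decide)

/-- Elements stabilizing `o` and fixing every trio through `o` fix `o` pointwise. -/
theorem fix_of_fix_trios {o : Finset GolayPt} (ho : o ∈ octads) {g : Equiv.Perm GolayPt}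
    (hg : g ∈ M24) (hgo : g • o = o) (hfix : ∀ T ∈ trios, o ∈ T → g • T = T) :
    ∀ p ∈ o, g p = p := by
  obtain ⟨p₀, hp₀⟩ := exists_notMem_octad ho
  have hout : ∀ {h : Equiv.Perm GolayPt}, h • o = o → ∀ {x : GolayPt}, x ∉ o → h x ∉ o := by
    intro h hh x hx hx'
    rw [← hh, apply_mem_perm_smul_finset] at hx'
    exact hx hx'
  obtain ⟨t, ht, htp⟩ := exists_fixM24_map ho hp₀ (hout hgo hp₀)
  have htM : t ∈ M24 := (mem_fixM24.mp ht).1
  have hto : t • o = o := by
    apply perm_smul_eq_of_forall_mem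
    intro p hp
    rw [(mem_fixM24.mp ht).2 p hp]
    exact hp
  set g' := t * g with hg'def
  have hg'M : g' ∈ M24 := mul_mem htM hg
  have hg'o : g' • o = o := by rw [hg'def, mul_smul, hgo, hto]
  have hg'p₀ : g' p₀ = p₀ := by rw [hg'def, Equiv.Perm.mul_apply, htp]
  have hg'fix : ∀ T ∈ trios, o ∈ T → g' • T = T := by
    intro T hT hoT
    rw [hg'def, mul_smul, hfix T hT hoT, fix_trios ho ht hT hoT]
  -- octads through `p₀` disjoint from `o` are fixed by `g'`
  have hstab : ∀ o₁ ∈ octads, Disjoint o o₁ → p₀ ∈ o₁ → g' • o₁ = o₁ := by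
    intro o₁ ho₁ hd hp₀o₁
    have hT := trio_mk ho ho₁ hd
    have hTfix := hg'fix _ hT (Finset.mem_insert_self _ _)
    have hmem : g' • o₁ ∈ ({o, o₁, (o ∪ o₁)ᶜ} : Finset (Finset GolayPt)) := by
      have h0 : g' • o₁ ∈ g' • ({o, o₁, (o ∪ o₁)ᶜ} : Finset (Finset GolayPt)) := by
        apply Finset.smul_mem_smul_finset
        simp
      rwa [hTfix] at h0
    have hp₀' : p₀ ∈ g' • o₁ := by
      rw [← hg'p₀]
      exact (apply_mem_perm_smul_finset _ _ _).mpr hp₀o₁
    rw [Finset.mem_insert, Finset.mem_insert, Finset.mem_singleton] at hmem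
    rcases hmem with h | h | h
    · rw [h] at hp₀'; exact absurd hp₀' hp₀
    · exact h
    · rw [h, Finset.mem_compl, Finset.mem_union] at hp₀'
      exact absurd (Or.inr hp₀o₁) hp₀'
  -- hence `g'` fixes every point outside `o`
  have hfixout : ∀ p, p ∉ o → g' p = p := by
    intro p hp
    by_contra hne
    have hp' : g' p ∉ o := hout hg'o hp
    have h₀ : p₀ ≠ g' p := by
      intro h
      apply hne
      have : g' p₀ = g' p := by rw [hg'p₀]; exact h
      exact (g'.injective this).symm ▸ hg'p₀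
    obtain ⟨o₁, ho₁, hd, m₀, m, m'⟩ := sep_octad ho hp₀ hp hp' h₀ (fun h => hne h.symm)
    apply m'
    rw [← hstab o₁ ho₁ hd m₀]
    exact (apply_mem_perm_smul_finset _ _ _).mpr m
  -- so `g'` is trivial
  have hne30 : {c : Finset GolayPt | c ∈ octads ∧ Disjoint o c}.Nonempty := by
    apply Set.nonempty_of_ncard_ne_zero
    rw [Cfsg.Agent.S0354.result card_golayPt24 octads_steiner ho]
    decide
  obtain ⟨o₁, ho₁, hd⟩ := hne30
  have hg'fix₁ : g' ∈ fixM24 o₁ := mem_fixM24.mpr ⟨hg'M, fun p hp =>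
    hfixout p (fun hpo => Finset.disjoint_left.mp hd hpo hp)⟩
  have hc : ((o ∪ o₁)ᶜ).Nonempty := by
    rw [← Finset.card_pos, (compl_union_mem_octads ho ho₁ hd).2]
    decide
  obtain ⟨q, hq⟩ := hc
  rw [Finset.mem_compl, Finset.mem_union, not_or] at hq
  have h1 : g' = 1 := eq_one_of_mem_fixM24 ho₁ hq.2 hg'fix₁ (hfixout q hq.1)
  intro p hp
  have hgt : g = t⁻¹ := by
    rw [hg'def] at h1
    exact eq_inv_of_mul_eq_one_right h1
  rw [hgt, Equiv.Perm.inv_eq_iff_eq]
  exact ((mem_fixM24.mp ht).2 p hp).symm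

/-- An octad of the length-24 code lies in exactly 15 trios; the stabiliser of the octad in the code's group acts doubly transitively on these 15 trios, and the kernel of this action is the pointwise stabiliser of the octad. -/
theorem result (o : Finset Cfsg.GolayPt) (ho : o ∈ Cfsg.octads) : {T : Finset (Finset Cfsg.GolayPt) | T ∈ Cfsg.trios ∧ o ∈ T}.ncard = 15 ∧ (∀ T₁ T₂ T₁' T₂' : Finset (Finset Cfsg.GolayPt), T₁ ∈ Cfsg.trios → T₂ ∈ Cfsg.trios → T₁' ∈ Cfsg.trios → T₂' ∈ Cfsg.trios → o ∈ T₁ → o ∈ T₂ → o ∈ T₁' → o ∈ T₂' → T₁ ≠ T₂ → T₁' ≠ T₂' → ∃ g ∈ Cfsg.M24, g • o = o ∧ g • T₁ = T₁' ∧ g • T₂ = T₂') ∧ ∀ g ∈ Cfsg.M24, g • o = o → ((∀ T ∈ Cfsg.trios, o ∈ T → g • T = T) ↔ ∀ p ∈ o, g p = p) := by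
  refine ⟨ncard_trios_through ho, ?_, ?_⟩
  · intro T₁ T₂ T₁' T₂' hT₁ hT₂ hT₁' hT₂' ho₁ ho₂ ho₁' ho₂' hne hne'
    exact two_trans ho hT₁ hT₂ hT₁' hT₂' ho₁ ho₂ ho₁' ho₂' hne hne'
  · intro g hg hgo
    constructor
    · exact fix_of_fix_trios ho hg hgo
    · intro hfix T hT hoT
      exact fix_trios ho (mem_fixM24.mpr ⟨hg, hfix⟩) hT hoT

end Cfsg.Agent.S5615
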