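import Cfsg.Statements.S5616
import Cfsg.Agent.Lib.Helper93.FlagSxThree

set_option autoImplicit false
open scoped Pointwise
open Cfsg

namespace Cfsg.Agent.S5616

open Cfsg.Agent.Lib.Helper7 Cfsg.Agent.Lib.Helper92 Cfsg.Agent.Lib.Helper93

theorem set_eq_cls (Y : Finset GolayPt) (k : ℕ) :
    {S : Finset (Finset GolayPt) | S ∈ sextets ∧ (S.filter fun t => (t ∩ Y).Nonempty).card = k} =
      flagSxThree.swap.cls Y k := by
  ext S
  show _ ↔ S ∈ sextets ∧ kSet S Y = k
  rw [kSet_eq_card_filter]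
  rfl


/-- Let Y be a set of 3 of the 24 points. The sextets of the length-24 code whose tetrads meeting Y number 1, 2 or 3 are respectively 21, 630 and 1120 in number, and two sextets with the same number of tetrads meeting Y are conjugate under the setwise stabiliser of Y in the code's group. -/
theorem result (Y : Finset Cfsg.GolayPt) (hY : Y.card = 3) : {S : Finset (Finset Cfsg.GolayPt) | S ∈ Cfsg.sextets ∧ (S.filter fun t => (t ∩ Y).Nonempty).card = 1}.ncard = 21 ∧ {S : Finset (Finset Cfsg.GolayPt) | S ∈ Cfsg.sextets ∧ (S.filter fun t => (t ∩ Y).Nonempty).card = 2}.ncard = 630 ∧ {S : Finset (Finset Cfsg.GolayPt) | S ∈ Cfsg.sextets ∧ (S.filter fun t => (t ∩ Y).Nonempty).card = 3}.ncard = 1120 ∧ ∀ S S' : Finset (Finset Cfsg.GolayPt), S ∈ Cfsg.sextets → S' ∈ Cfsg.sextets → (S.filter fun t => (t ∩ Y).Nonempty).card = (S'.filter fun t => (t ∩ Y).Nonempty).card → ∃ g ∈ Cfsg.M24, g • Y = Y ∧ g • S = S' := by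
  have hs := ncard_cls_three_swap hY
  refine ⟨?_, ?_, ?_, ?_⟩
  · rw [set_eq_cls]; exact hs.1
  · rw [set_eq_cls]; exact hs.2.1
  · rw [set_eq_cls]; exact hs.2.2
  · intro S S' hS hS' h
    rw [← kSet_eq_card_filter, ← kSet_eq_card_filter] at h
    obtain ⟨g, hgY, hgS⟩ := flagSxThree.swap.flag Y hY Y hY S hS S' hS' h
    exact ⟨(g : Equiv.Perm GolayPt), g.2, hgY, hgS⟩

end Cfsg.Agent.S5616
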