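import Cfsg.Statements.S5618
import Cfsg.Agent.S0384
import Cfsg.Agent.S5600

set_option autoImplicit false
open scoped Pointwise
open Cfsg

namespace Cfsg.Agent.S5618

open Cfsg.Agent.Lib.Helper7 Cfsg.Agent.Lib.Helper93

theorem smul_inter (g : Equiv.Perm GolayPt) (s t : Finset GolayPt) :
    g • (s ∩ t) = g • s ∩ g • t := by
  ext p
  simp only [Finset.mem_inter, mem_perm_smul_finset]

/-- An element of the dodecad stabilizer fixing five points of the dodecad is trivial. -/
theorem eq_one_of_fixes {d s : Finset GolayPt} (hd : d ∈ dodecads) (hs : s ⊆ d)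
    (h5 : 5 ≤ s.card) (g : ↥M24) (hg : g ∈ MulAction.stabilizer M24 d)
    (hfix : ∀ p ∈ s, ((g : ↥M24) : Equiv.Perm GolayPt) p = p) : g = 1 := by
  obtain ⟨x, hx⟩ := exists_emb_of_five_le_card h5
  obtain ⟨g0, _, huniq⟩ := Cfsg.Agent.S0384.result d hd x x (fun i => hs (hx i))
    (fun i => hs (hx i))
  have h1 := huniq ⟨g, hg⟩ (fun i => hfix _ (hx i))
  have h2 := huniq ⟨1, one_mem _⟩ (fun i => rfl)
  exact congrArg Subtype.val (h1.trans h2.symm)

/-- Restriction of the joint stabilizer to the hexad. -/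
noncomputable def rho (d C : Finset GolayPt) :
    ↥(MulAction.stabilizer M24 d ⊓ MulAction.stabilizer M24 C) →* Equiv.Perm ↥C :=
  (Cfsg.Agent.S5600.restrictHom C).comp (Subgroup.inclusion inf_le_right)

theorem rho_apply {d C : Finset GolayPt}
    (g : ↥(MulAction.stabilizer M24 d ⊓ MulAction.stabilizer M24 C)) (p : ↥C) :
    ((rho d C g p : ↥C) : GolayPt) = ((g : M24) : Equiv.Perm GolayPt) p := rfl

theorem rho_injective {d C : Finset GolayPt} (hd : d ∈ dodecads) (hC : C ∈ hexadsOn d) :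
    Function.Injective (rho d C) := by
  rw [injective_iff_map_eq_one]
  intro g hg
  obtain ⟨o, _, hoC⟩ := hC.2
  have hCd : C ⊆ d := hoC ▸ Finset.inter_subset_right
  have h1 : (g : M24) = 1 := by
    apply eq_one_of_fixes hd hCd (by rw [hC.1]; decide) _ (Subgroup.mem_inf.mp g.2).1
    intro p hp
    have h2 := rho_apply g ⟨p, hp⟩
    rw [hg] at h2
    exact h2.symm
  exact Subtype.ext h1

theorem perm_eq_of_five {α : Type*} [Fintype α] [DecidableEq α] (h6 : Fintype.card α = 6)
    (σ τ : Equiv.Perm α) (x : Fin 5 ↪ α) (h : ∀ i, σ (x i) = τ (x i)) : σ = τ := by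
  have hsupp : (τ⁻¹ * σ).support ⊆ Finset.univ \ Finset.univ.map x := by
    intro p hp
    rw [Finset.mem_sdiff]
    refine ⟨Finset.mem_univ _, fun hmem => ?_⟩
    rw [Finset.mem_map] at hmem
    obtain ⟨i, _, rfl⟩ := hmem
    rw [Equiv.Perm.mem_support] at hp
    apply hp
    rw [Equiv.Perm.mul_apply, h i]
    simp
  have hcard : (Finset.univ \ Finset.univ.map x : Finset α).card = 1 := by
    rw [Finset.card_sdiff_of_subset (Finset.subset_univ _), Finset.card_univ, h6, Finset.card_map,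
      Finset.card_univ, Fintype.card_fin]
  have h1 : (τ⁻¹ * σ).support.card ≤ 1 := hcard ▸ Finset.card_le_card hsupp
  have h2 : (τ⁻¹ * σ).support.card ≠ 1 := Equiv.Perm.card_support_ne_one _
  have h3 : (τ⁻¹ * σ).support.card = 0 := by omega
  rw [Finset.card_eq_zero, Equiv.Perm.support_eq_empty_iff] at h3
  have : σ = τ * (τ⁻¹ * σ) := by group
  rw [this, h3, mul_one]

theorem rho_surjective {d C : Finset GolayPt} (hd : d ∈ dodecads) (hC : C ∈ hexadsOn d) :
    Function.Surjective (rho d C) := by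
  intro σ
  obtain ⟨o, ho, hoC⟩ := hC.2
  have hCd : C ⊆ d := hoC ▸ Finset.inter_subset_right
  have hCo : C ⊆ o := hoC ▸ Finset.inter_subset_left
  obtain ⟨x, hx⟩ := exists_emb_of_five_le_card (s := C) (by rw [hC.1]; decide)
  let y : Fin 5 ↪ GolayPt := ⟨fun i => ((σ ⟨x i, hx i⟩ : ↥C) : GolayPt), by
    intro i j hij
    have := σ.injective (Subtype.ext hij)
    exact x.injective (congrArg Subtype.val this)⟩
  have hy : ∀ i, y i ∈ C := fun i => (σ ⟨x i, hx i⟩).2
  obtain ⟨g, hg, _⟩ := Cfsg.Agent.S0384.result d hd x y (fun i => hCd (hx i))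
    (fun i => hCd (hy i))
  have hgd : ((g : M24) : Equiv.Perm GolayPt) • d = d := MulAction.mem_stabilizer_iff.mp g.2
  have hgo : ((g : M24) : Equiv.Perm GolayPt) • o = o := by
    symm
    apply octad_eq_of_five ho (smul_mem_octads (g : M24).2 ho)
    have hsub : Finset.univ.map y ⊆ o ∩ ((g : M24) : Equiv.Perm GolayPt) • o := by
      intro p hp
      rw [Finset.mem_map] at hp
      obtain ⟨i, _, rfl⟩ := hp
      rw [Finset.mem_inter]
      refine ⟨hCo (hy i), ?_⟩
      rw [← hg i]
      exact (apply_mem_perm_smul_finset _ _ _).mpr (hCo (hx i))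
    have := Finset.card_le_card hsub
    rwa [Finset.card_map, Finset.card_univ, Fintype.card_fin] at this
  have hgC : (g : M24) ∈ MulAction.stabilizer M24 C := by
    rw [MulAction.mem_stabilizer_iff, M24_smul_finset_def, ← hoC, smul_inter, hgo, hgd]
  refine ⟨⟨(g : M24), Subgroup.mem_inf.mpr ⟨g.2, hgC⟩⟩, ?_⟩
  have h6 : Fintype.card ↥C = 6 := by rw [Fintype.card_coe, hC.1]
  let x' : Fin 5 ↪ ↥C := ⟨fun i => ⟨x i, hx i⟩, fun i j hij =>
    x.injective (congrArg Subtype.val hij)⟩
  apply perm_eq_of_five h6 _ _ x'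
  intro i
  apply Subtype.ext
  rw [rho_apply]
  exact hg i


/-- For a dodecad d of the length-24 code and a hexad C on it (a 6-point intersection of d with an octad): the joint stabiliser of d and C in the code's group is isomorphic to the symmetric group of degree 6, and it acts faithfully both on the six points of C and on the six points of d outside C. -/
theorem result (d : Finset Cfsg.GolayPt) (hd : d ∈ Cfsg.dodecads) (C : Finset Cfsg.GolayPt) (hC : C ∈ Cfsg.hexadsOn d) : Nonempty (↥(MulAction.stabilizer Cfsg.M24 d ⊓ MulAction.stabilizer Cfsg.M24 C) ≃* Equiv.Perm (Fin 6)) ∧ (∀ g ∈ MulAction.stabilizer Cfsg.M24 d ⊓ MulAction.stabilizer Cfsg.M24 C, (∀ p ∈ C, ((g : ↥Cfsg.M24) : Equiv.Perm Cfsg.GolayPt) p = p) → g = 1) ∧ ∀ g ∈ MulAction.stabilizer Cfsg.M24 d ⊓ MulAction.stabilizer Cfsg.M24 C, (∀ p ∈ d \ C, ((g : ↥Cfsg.M24) : Equiv.Perm Cfsg.GolayPt) p = p) → g = 1 := by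
  refine ⟨?_, ?_, ?_⟩
  · have hbij : Function.Bijective (rho d C) := ⟨rho_injective hd hC, rho_surjective hd hC⟩
    exact ⟨(MulEquiv.ofBijective (rho d C) hbij).trans
      (Equiv.permCongrHom (Finset.equivFinOfCardEq hC.1))⟩
  · intro g hg hfix
    obtain ⟨o, _, hoC⟩ := hC.2
    have hCd : C ⊆ d := hoC ▸ Finset.inter_subset_right
    exact eq_one_of_fixes hd hCd (by rw [hC.1]; decide) g (Subgroup.mem_inf.mp hg).1 hfix
  · intro g hg hfix
    obtain ⟨o, _, hoC⟩ := hC.2
    have hCd : C ⊆ d := hoC ▸ Finset.inter_subset_right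
    have h12 : d.card = 12 := hd.2
    have hcard : (d \ C).card = 6 := by
      rw [Finset.card_sdiff_of_subset hCd, h12, hC.1]
    exact eq_one_of_fixes hd Finset.sdiff_subset (by rw [hcard]; decide) g
      (Subgroup.mem_inf.mp hg).1 hfix

end Cfsg.Agent.S5618
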