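import Cfsg.Statements.S5619
import Cfsg.Agent.S1600
import Cfsg.Agent.Lib.Helper92.M9Abstract
import Cfsg.Agent.Lib.Helper92.M9Data

set_option autoImplicit false
open Cfsg

namespace Cfsg.Agent.S5619
open Cfsg.Agent.Lib.Helper7 Cfsg.Agent.Lib.Helper92 Cfsg.Agent.Lib.Helper92.M9
open scoped Pointwise

theorem mem_Hs3_of_genOK {w : List ℕ} (h : genOK w) : m24Word w ∈ Hs 3 := by
  obtain ⟨h1, h23, h0, h1'⟩ := h
  rw [mem_Hs]
  refine ⟨?_, ?_⟩
  · show _ ∈ stabM24 d0
    rw [mem_stabM24]
    exact ⟨m24Word_mem _, m24Word_smul_setOf _ d0Mask d0Mask rfl h1⟩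
  · intro j hj
    interval_cases j
    · rw [Cfsg.Agent.S1600.bp0, m24Word_apply_pt _ (by norm_num), h23]
    · rw [Cfsg.Agent.S1600.bp1, m24Word_apply_pt _ (by norm_num), h0]
    · rw [Cfsg.Agent.S1600.bp2, m24Word_apply_pt _ (by norm_num), h1']

theorem wN_mem (i j : ℕ) : m24Word (wN i j) ∈ Hs 3 := by
  unfold wN
  rw [m24Word_append'', m24Word_pw, m24Word_pw]
  exact (Hs 3).mul_mem ((Hs 3).pow_mem (mem_Hs3_of_genOK gens_ok.1) _)
    ((Hs 3).pow_mem (mem_Hs3_of_genOK gens_ok.2.1) _)

theorem wQ_mem (b : Bool) (i : ℕ) : m24Word (wQ b i) ∈ Hs 3 := by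
  unfold wQ
  cases b
  · simp only [Bool.false_eq_true, if_false]
    rw [m24Word_pw]
    exact (Hs 3).pow_mem (mem_Hs3_of_genOK gens_ok.2.2.1) _
  · simp only [if_true]
    rw [m24Word_append'', m24Word_pw]
    exact (Hs 3).mul_mem (mem_Hs3_of_genOK gens_ok.2.2.2)
      ((Hs 3).pow_mem (mem_Hs3_of_genOK gens_ok.2.2.1) _)

/-- The embedding of `(ZMod 3)^2`. -/
noncomputable def phi0 : Multiplicative (ZMod 3 × ZMod 3) →* ↥(Hs 3) where
  toFun v := ⟨m24Word (wN (Multiplicative.toAdd v).1.val (Multiplicative.toAdd v).2.val),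
    wN_mem _ _⟩
  map_one' := Subtype.ext (by
    show m24Word (wN (0 : ZMod 3).val (0 : ZMod 3).val) = 1
    rfl)
  map_mul' v v' := by
    apply Subtype.ext
    show m24Word (wN ((Multiplicative.toAdd v).1 + (Multiplicative.toAdd v').1).val
        ((Multiplicative.toAdd v).2 + (Multiplicative.toAdd v').2).val) =
      m24Word (wN (Multiplicative.toAdd v).1.val (Multiplicative.toAdd v).2.val) *
        m24Word (wN (Multiplicative.toAdd v').1.val (Multiplicative.toAdd v').2.val)
    rw [← m24Word_append'', ZMod.val_add, ZMod.val_add]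
    apply m24Word_eq_of_eval
    exact n_hom _ (ZMod.val_lt _) _ (ZMod.val_lt _) _ (ZMod.val_lt _) _ (ZMod.val_lt _)

theorem phi0_injective : Function.Injective phi0 := by
  rw [injective_iff_map_eq_one]
  intro v hv
  have h1 : m24Word (wN (Multiplicative.toAdd v).1.val (Multiplicative.toAdd v).2.val) =
      m24Word [] := congrArg Subtype.val hv
  obtain ⟨ha, hb⟩ := n_inj _ (ZMod.val_lt _) _ (ZMod.val_lt _) (eval_eq_of_m24Word_eq h1)
  have ha' : (Multiplicative.toAdd v).1 = 0 := (ZMod.val_eq_zero _).mp ha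
  have hb' : (Multiplicative.toAdd v).2 = 0 := (ZMod.val_eq_zero _).mp hb
  have : Multiplicative.toAdd v = 0 := Prod.ext ha' hb'
  exact Multiplicative.toAdd.injective this

theorem val_sub4 : ∀ i j : ZMod (2 * 2), (j - i).val = (j.val + 4 - i.val) % 4 := by decide

theorem val_add4 : ∀ i j : ZMod (2 * 2), (i + j).val = (i.val + j.val) % 4 := by decide

theorem val_xx4 : ∀ i j : ZMod (2 * 2),
    (((2 : ℕ) : ZMod (2 * 2)) + j - i).val = (2 + j.val + 4 - i.val) % 4 := by decide

theorem val_lt4 : ∀ i : ZMod (2 * 2), i.val < 4 := by decide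

/-- The underlying function of the embedding of the quaternion group. -/
noncomputable def psiFun : QuaternionGroup 2 → ↥(Hs 3)
  | QuaternionGroup.a i => ⟨m24Word (wQ false i.val), wQ_mem _ _⟩
  | QuaternionGroup.xa i => ⟨m24Word (wQ true i.val), wQ_mem _ _⟩

/-- The embedding of the quaternion group. -/
noncomputable def psi0 : QuaternionGroup 2 →* ↥(Hs 3) where
  toFun := psiFun
  map_one' := Subtype.ext (by
    rw [QuaternionGroup.one_def]
    show m24Word (wQ false (0 : ZMod (2 * 2)).val) = 1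
    rfl)
  map_mul' x y := by
    apply Subtype.ext
    cases x with
    | a i =>
      cases y with
      | a j =>
        rw [QuaternionGroup.a_mul_a]
        show m24Word (wQ false (i + j).val) = m24Word (wQ false i.val) * m24Word (wQ false j.val)
        rw [← m24Word_append'', val_add4]
        exact m24Word_eq_of_eval (q_hom_aa _ (val_lt4 i) _ (val_lt4 j))
      | xa j =>
        rw [QuaternionGroup.a_mul_xa]
        show m24Word (wQ true (j - i).val) = m24Word (wQ false i.val) * m24Word (wQ true j.val)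
        rw [← m24Word_append'', val_sub4]
        exact m24Word_eq_of_eval (q_hom_ax _ (val_lt4 i) _ (val_lt4 j))
    | xa i =>
      cases y with
      | a j =>
        rw [QuaternionGroup.xa_mul_a]
        show m24Word (wQ true (i + j).val) = m24Word (wQ true i.val) * m24Word (wQ false j.val)
        rw [← m24Word_append'', val_add4]
        exact m24Word_eq_of_eval (q_hom_xa _ (val_lt4 i) _ (val_lt4 j))
      | xa j =>
        rw [QuaternionGroup.xa_mul_xa]
        show m24Word (wQ false (((2 : ℕ) : ZMod (2 * 2)) + j - i).val) =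
          m24Word (wQ true i.val) * m24Word (wQ true j.val)
        rw [← m24Word_append'', val_xx4]
        exact m24Word_eq_of_eval (q_hom_xx _ (val_lt4 i) _ (val_lt4 j))

theorem psi0_injective : Function.Injective psi0 := by
  rw [injective_iff_map_eq_one]
  intro x hx
  cases x with
  | a i =>
    have h1 : m24Word (wQ false i.val) = m24Word [] := congrArg Subtype.val hx
    obtain ⟨_, hi⟩ := q_inj false _ (val_lt4 i) (eval_eq_of_m24Word_eq h1)
    have : i = 0 := (ZMod.val_eq_zero _).mp hi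
    rw [this, QuaternionGroup.one_def]
  | xa i =>
    have h1 : m24Word (wQ true i.val) = m24Word [] := congrArg Subtype.val hx
    obtain ⟨hb, _⟩ := q_inj true _ (val_lt4 i) (eval_eq_of_m24Word_eq h1)
    exact absurd hb (by decide)

theorem conj0 : ∀ (x : QuaternionGroup 2) (v : Multiplicative (ZMod 3 × ZMod 3)),
    ∃ v', psi0 x * phi0 v = phi0 v' * psi0 x := by
  intro x v
  have key : ∀ (b : Bool) (i : ℕ), i < 4 →
      ∃ v', (⟨m24Word (wQ b i), wQ_mem b i⟩ : ↥(Hs 3)) * phi0 v =
        phi0 v' * ⟨m24Word (wQ b i), wQ_mem b i⟩ := by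
    intro b i hi
    obtain ⟨a', ha', c', hc', h⟩ := conj_ok b i hi _ (ZMod.val_lt (Multiplicative.toAdd v).1) _
      (ZMod.val_lt (Multiplicative.toAdd v).2)
    refine ⟨Multiplicative.ofAdd (((a' : ℕ) : ZMod 3), ((c' : ℕ) : ZMod 3)), ?_⟩
    apply Subtype.ext
    show m24Word (wQ b i) *
        m24Word (wN (Multiplicative.toAdd v).1.val (Multiplicative.toAdd v).2.val) =
      m24Word (wN ((a' : ℕ) : ZMod 3).val ((c' : ℕ) : ZMod 3).val) * m24Word (wQ b i)
    rw [ZMod.val_natCast_of_lt ha', ZMod.val_natCast_of_lt hc', ← m24Word_append'',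
      ← m24Word_append'']
    exact m24Word_eq_of_eval h
  cases x with
  | a i => exact key false i.val (val_lt4 i)
  | xa i => exact key true i.val (val_lt4 i)

/-- The conjugation isomorphism with the standard three-point stabilizer. -/
noncomputable def mulEquivHs {ρ : Equiv.Perm GolayPt} (hρ : ρ ∈ M24) {d : Finset GolayPt}
    {p q r : GolayPt} (hρd : ρ • d = d0) (hρp : ρ p = bp 0) (hρq : ρ q = bp 1)
    (hρr : ρ r = bp 2) :
    ↥(MulAction.stabilizer M24 d ⊓ MulAction.stabilizer M24 p ⊓ MulAction.stabilizer M24 q ⊓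
      MulAction.stabilizer M24 r) ≃* ↥(Hs 3) :=
  { Cfsg.Agent.S1600.equivHs hρ hρd hρp hρq hρr with
    map_mul' := by
      intro g h
      apply Subtype.ext
      have key : ∀ a b : Equiv.Perm GolayPt, ρ * (a * b) * ρ⁻¹ = (ρ * a * ρ⁻¹) * (ρ * b * ρ⁻¹) := by
        intro a b; group
      exact key _ _ }

/-- In the group of the length-24 code, the subgroup fixing a dodecad setwise and three of its points individually (a group of order 72) has a normal Sylow 3-subgroup that is elementary abelian of order 9, and its Sylow 2-subgroups are quaternion of order 8. -/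
theorem result (d : Finset Cfsg.GolayPt) (hd : d ∈ Cfsg.dodecads) (p q r : Cfsg.GolayPt) (hp : p ∈ d) (hq : q ∈ d) (hr : r ∈ d) (hpq : p ≠ q) (hpr : p ≠ r) (hqr : q ≠ r) : (∀ Q : Sylow 3 ↥(MulAction.stabilizer Cfsg.M24 d ⊓ MulAction.stabilizer Cfsg.M24 p ⊓ MulAction.stabilizer Cfsg.M24 q ⊓ MulAction.stabilizer Cfsg.M24 r), (Q : Subgroup ↥(MulAction.stabilizer Cfsg.M24 d ⊓ MulAction.stabilizer Cfsg.M24 p ⊓ MulAction.stabilizer Cfsg.M24 q ⊓ MulAction.stabilizer Cfsg.M24 r)).Normal ∧ Nat.card ↥Q = 9 ∧ ∀ x ∈ (Q : Subgroup ↥(MulAction.stabilizer Cfsg.M24 d ⊓ MulAction.stabilizer Cfsg.M24 p ⊓ MulAction.stabilizer Cfsg.M24 q ⊓ MulAction.stabilizer Cfsg.M24 r)), x ^ 3 = 1) ∧ ∀ P : Sylow 2 ↥(MulAction.stabilizer Cfsg.M24 d ⊓ MulAction.stabilizer Cfsg.M24 p ⊓ MulAction.stabilizer Cfsg.M24 q ⊓ MulAction.stabilizer Cfsg.M24 r), Nonempty (↥P ≃* QuaternionGroup 2) := by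
  obtain ⟨ρ, hρ, hρd, hρp, hρq, hρr⟩ := Cfsg.Agent.S1600.exists_to_std hd hp hq hr hpq hpr hqr
  have hcard := (Cfsg.Agent.S1600.result d hd p q r hp hq hr hpq hpr hqr).1
  let e := (mulEquivHs hρ hρd hρp hρq hρr).symm
  have hconj : ∀ x v, ∃ v', (e.toMonoidHom.comp psi0) x * (e.toMonoidHom.comp phi0) v =
      (e.toMonoidHom.comp phi0) v' * (e.toMonoidHom.comp psi0) x := by
    intro x v
    obtain ⟨v', hv'⟩ := conj0 x v
    refine ⟨v', ?_⟩
    simp only [MonoidHom.comp_apply, MulEquiv.coe_toMonoidHom]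
    rw [← map_mul, ← map_mul, hv']
  exact m9_structure hcard (e.toMonoidHom.comp phi0)
    (e.injective.comp phi0_injective) (e.toMonoidHom.comp psi0)
    (e.injective.comp psi0_injective) hconj

end Cfsg.Agent.S5619
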