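import Cfsg.Statements.S5620
import Cfsg.Agent.S0370
import Cfsg.Agent.S0371
import Cfsg.Agent.S0372
import Cfsg.Agent.S0373
import Cfsg.Agent.Lib.Helper7.M24Data

set_option autoImplicit false
open scoped Pointwise
open Cfsg

namespace Cfsg.Agent.S5620

open Cfsg.Spor Cfsg.Agent.Lib.Helper7
open scoped Pointwise

/-- A permutation mapping a finite set into itself stabilizes it. -/
theorem smul_eq_of_forall_mem {α : Type*} [DecidableEq α] {σ : Equiv.Perm α} {s : Finset α}
    (h : ∀ p ∈ s, σ p ∈ s) : σ • s = s := by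
  apply Finset.eq_of_subset_of_card_le
  · intro q hq
    rw [Finset.mem_smul_finset] at hq
    obtain ⟨p, hp, rfl⟩ := hq
    exact h p hp
  · rw [card_perm_smul_finset]

theorem apply_mem_of_smul_eq {α : Type*} [DecidableEq α] {σ : Equiv.Perm α} {s : Finset α}
    (h : σ • s = s) {p : α} (hp : p ∈ s) : σ p ∈ s := by
  rw [← h]
  exact (apply_mem_perm_smul_finset σ s p).mpr hp

/-- Stabilizing a set is the same as stabilizing its complement. -/
theorem smul_compl_eq_iff {α : Type*} [DecidableEq α] [Fintype α] (σ : Equiv.Perm α)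
    (s : Finset α) : σ • (Finset.univ \ s) = Finset.univ \ s ↔ σ • s = s := by
  have key : ∀ t : Finset α, σ • t = t → σ • (Finset.univ \ t) = Finset.univ \ t := by
    intro t ht
    rw [Finset.smul_finset_sdiff, Finset.smul_finset_univ, ht]
  constructor
  · intro h
    have := key _ h
    simpa using this
  · exact key s

/-- Conjugation transports point/set stabilizers. -/
theorem conj_smul_eq_iff {G α : Type*} [Group G] [MulAction G α] (g x : G) (a : α) :
    (g⁻¹ * x * g) • a = a ↔ x • (g • a) = g • a := by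
  rw [mul_smul, mul_smul, inv_smul_eq_iff]

theorem mem_conj_smul_iff {G : Type*} [Group G] (g x : G) (H : Subgroup G) :
    x ∈ MulAut.conj g • H ↔ g⁻¹ * x * g ∈ H := by
  rw [Subgroup.mem_pointwise_smul_iff_inv_smul_mem]
  rfl

theorem zero_mem_squareDodecad : (some 0 : GolayPt) ∈ squareDodecad := by
  unfold squareDodecad support₂
  decide

theorem projInv_smul_squareDodecad : projInv • squareDodecad = Finset.univ \ squareDodecad := by
  ext p
  rw [mem_perm_smul_finset]
  have h : ∀ p : GolayPt, projInvFun p ∈ squareDodecad ↔ p ∈ Finset.univ \ squareDodecad := by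
    unfold squareDodecad support₂
    decide
  exact h p

theorem mem_M12_stab_none_iff (x : Equiv.Perm GolayPt) :
    x ∈ M12 ⊓ MulAction.stabilizer (Equiv.Perm GolayPt) (none : GolayPt) ↔
      x ∈ M24 ∧ x • squareDodecad = squareDodecad ∧ x none = none := by
  show x ∈ (M24 ⊓ MulAction.stabilizer (Equiv.Perm GolayPt) squareDodecad) ⊓
    MulAction.stabilizer (Equiv.Perm GolayPt) (none : GolayPt) ↔ _
  rw [Subgroup.mem_inf, Subgroup.mem_inf]
  constructor
  · rintro ⟨⟨a, b⟩, c⟩
    exact ⟨a, MulAction.mem_stabilizer_iff.mp b, MulAction.mem_stabilizer_iff.mp c⟩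
  · rintro ⟨a, b, c⟩
    exact ⟨⟨a, MulAction.mem_stabilizer_iff.mpr b⟩, MulAction.mem_stabilizer_iff.mpr c⟩

/-- Conjugating `M11` by an element of `M24`. -/
theorem mem_conj_M11_iff {g : Equiv.Perm GolayPt} (hg : g ∈ M24) (x : Equiv.Perm GolayPt) :
    x ∈ MulAut.conj g • M11 ↔
      x ∈ M24 ∧ x • (g • squareDodecad) = g • squareDodecad ∧ x (g (some 0)) = g (some 0) := by
  rw [mem_conj_smul_iff]
  have h1 : g⁻¹ * x * g ∈ M24 ↔ x ∈ M24 := by
    constructor
    · intro h
      have := M24.mul_mem (M24.mul_mem hg h) (M24.inv_mem hg)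
      have e : g * (g⁻¹ * x * g) * g⁻¹ = x := by group
      rwa [e] at this
    · intro h
      exact M24.mul_mem (M24.mul_mem (M24.inv_mem hg) h) hg
  have h2 : g⁻¹ * x * g ∈ MulAction.stabilizer (Equiv.Perm GolayPt) squareDodecad ↔
      x • (g • squareDodecad) = g • squareDodecad := by
    rw [MulAction.mem_stabilizer_iff]
    exact conj_smul_eq_iff g x _
  have h3 : g⁻¹ * x * g ∈ MulAction.stabilizer (Equiv.Perm GolayPt) (some 0 : GolayPt) ↔
      x (g (some 0)) = g (some 0) := by
    rw [MulAction.mem_stabilizer_iff]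
    exact conj_smul_eq_iff g x _
  show g⁻¹ * x * g ∈ (M24 ⊓ MulAction.stabilizer (Equiv.Perm GolayPt) squareDodecad) ⊓
    MulAction.stabilizer (Equiv.Perm GolayPt) (some 0 : GolayPt) ↔ _
  rw [Subgroup.mem_inf, Subgroup.mem_inf]
  constructor
  · rintro ⟨⟨a, b⟩, c⟩
    exact ⟨h1.mp a, h2.mp b, h3.mp c⟩
  · rintro ⟨a, b, c⟩
    exact ⟨⟨h1.mpr a, h2.mpr b⟩, h3.mpr c⟩

theorem conj_projInv_M11 :
    MulAut.conj projInv • M11 =
      M12 ⊓ MulAction.stabilizer (Equiv.Perm GolayPt) (none : GolayPt) := by
  ext x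
  rw [mem_conj_M11_iff Cfsg.Agent.S0372.result, projInv_smul_squareDodecad, smul_compl_eq_iff,
    mem_M12_stab_none_iff]
  have h0 : projInv (some 0) = none := by decide
  rw [h0]

/-- Multiplication by 2 (a square modulo 23). -/
def unitTwo : (ZMod 23)ˣ := ⟨2, 12, by decide, by decide⟩

def multTwo : Equiv.Perm GolayPt := Equiv.optionCongr (Units.mulLeft unitTwo)

theorem multTwo_mem : multTwo ∈ M24 := by
  apply Cfsg.Agent.S0371.result
  refine ⟨⟨5, 14, by decide, by decide⟩, ?_⟩
  apply Units.ext
  decide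

theorem multTwo_apply (p : GolayPt) : multTwo p = p.map (fun x => 2 * x) := by
  cases p <;> rfl

theorem multTwo_none : multTwo none = none := rfl

theorem multTwo_smul : multTwo • squareDodecad = squareDodecad := by
  apply smul_eq_of_forall_mem
  intro p hp
  rw [multTwo_apply]
  revert p
  unfold squareDodecad support₂
  decide

theorem multTwo_fixed : ∀ p ∈ squareDodecad, multTwo p = p → p = some 0 := by
  intro p hp h
  rw [multTwo_apply] at h
  revert p
  unfold squareDodecad support₂
  decide

/-- An element of `M24` fixing the extra point, preserving the dodecad of squares and moving `0`. -/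
noncomputable def hElt : Equiv.Perm GolayPt :=
  shiftPerm * shiftPerm * cubeTwist * cubeTwist * shiftPerm * shiftPerm * cubeTwist * shiftPerm * shiftPerm * cubeTwist * shiftPerm

def hT : List ℕ :=
  [18, 4, 2, 8, 3, 22, 0, 20, 16, 13, 19, 10, 12, 6, 14, 21, 1, 5, 9, 7, 11, 17, 15, 23]

theorem matches_hElt : Matches hElt hT := by
  have h := (matches_mul (matches_mul (matches_mul (matches_mul (matches_mul (matches_mul (matches_mul (matches_mul (matches_mul (matches_mul matches_shiftPerm matches_shiftPerm) matches_cubeTwist) matches_cubeTwist) matches_shiftPerm) matches_shiftPerm) matches_cubeTwist) matches_shiftPerm) matches_shiftPerm) matches_cubeTwist) matches_shiftPerm)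
  have e : (compT (compT (compT (compT (compT (compT (compT (compT (compT (compT (gensT.getD 0 []) (gensT.getD 0 [])) (gensT.getD 2 [])) (gensT.getD 2 [])) (gensT.getD 0 [])) (gensT.getD 0 [])) (gensT.getD 2 [])) (gensT.getD 0 [])) (gensT.getD 0 [])) (gensT.getD 2 [])) (gensT.getD 0 [])) = hT := by
    decide
  rw [e] at h
  exact h

theorem hElt_mem : hElt ∈ M24 := by
  have ha : shiftPerm ∈ M24 := Cfsg.Agent.S0370.result
  have hc : cubeTwist ∈ M24 := Cfsg.Agent.S0373.result
  unfold hElt
  repeat first | exact ha | exact hc | apply Subgroup.mul_mem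

theorem hElt_apply (p : GolayPt) : hElt p = pt (hT.getD (idx p) 0) := by
  rw [← matches_hElt p, pt_idx]

theorem hElt_none : hElt none = none := by
  rw [hElt_apply]; decide

theorem hElt_zero : hElt (some 0) = some 18 := by
  rw [hElt_apply]; decide

theorem hElt_smul : hElt • squareDodecad = squareDodecad := by
  apply smul_eq_of_forall_mem
  intro p hp
  rw [hElt_apply]
  revert p
  unfold squareDodecad support₂
  decide

/-- Inside the stabiliser of the dodecad of squares (a Mathieu group of degree 12), the stabiliser of the residue 0 (a point of the dodecad) and the stabiliser of the extra point (a point outside the dodecad) are isomorphic but not conjugate; conjugation by a suitable element of the code's group that maps the dodecad of squares onto its complement carries the first onto the second. -/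
theorem result : Nonempty (↥(Cfsg.Spor.M12 ⊓ MulAction.stabilizer (Equiv.Perm Cfsg.GolayPt) (none : Cfsg.GolayPt)) ≃* ↥Cfsg.Spor.M11) ∧ (¬ ∃ k ∈ Cfsg.Spor.M12, MulAut.conj k • Cfsg.Spor.M11 = Cfsg.Spor.M12 ⊓ MulAction.stabilizer (Equiv.Perm Cfsg.GolayPt) (none : Cfsg.GolayPt)) ∧ ∃ g ∈ Cfsg.M24, g • Cfsg.Spor.squareDodecad = Finset.univ \ Cfsg.Spor.squareDodecad ∧ MulAut.conj g • Cfsg.Spor.M11 = Cfsg.Spor.M12 ⊓ MulAction.stabilizer (Equiv.Perm Cfsg.GolayPt) (none : Cfsg.GolayPt) := by
  have h3 := conj_projInv_M11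
  refine ⟨?_, ?_, ⟨projInv, Cfsg.Agent.S0372.result, projInv_smul_squareDodecad, h3⟩⟩
  · exact ⟨((Subgroup.equivSMul (MulAut.conj projInv) M11).trans
      (MulEquiv.subgroupCongr h3)).symm⟩
  · rintro ⟨k, hk, hconj⟩
    have hk' : k ∈ M24 ⊓ MulAction.stabilizer (Equiv.Perm GolayPt) squareDodecad := hk
    have hkM24 : k ∈ M24 := (Subgroup.mem_inf.mp hk').1
    have hkD : k • squareDodecad = squareDodecad :=
      MulAction.mem_stabilizer_iff.mp (Subgroup.mem_inf.mp hk').2
    have hfix : ∀ x ∈ M12 ⊓ MulAction.stabilizer (Equiv.Perm GolayPt) (none : GolayPt),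
        x (k (some 0)) = k (some 0) := by
      intro x hx
      rw [← hconj, mem_conj_M11_iff hkM24] at hx
      exact hx.2.2
    have hpD : k (some 0) ∈ squareDodecad := apply_mem_of_smul_eq hkD zero_mem_squareDodecad
    have hm2 : multTwo ∈ M12 ⊓ MulAction.stabilizer (Equiv.Perm GolayPt) (none : GolayPt) :=
      (mem_M12_stab_none_iff _).mpr ⟨multTwo_mem, multTwo_smul, multTwo_none⟩
    have hh : hElt ∈ M12 ⊓ MulAction.stabilizer (Equiv.Perm GolayPt) (none : GolayPt) :=
      (mem_M12_stab_none_iff _).mpr ⟨hElt_mem, hElt_smul, hElt_none⟩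
    have hp0 : k (some 0) = some 0 := multTwo_fixed _ hpD (hfix _ hm2)
    have := hfix _ hh
    rw [hp0, hElt_zero] at this
    revert this
    decide

end Cfsg.Agent.S5620
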