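import Cfsg.Statements.S5625
-- import your own Cfsg.Agent.* helpers here

set_option autoImplicit false
open Cfsg

namespace Cfsg.Agent.S5625

open Finset in
/-- In an S(5,8,24) given as a finset of blocks, the number of blocks through a set `I` of at most 5 points. -/
theorem blocks_through {α : Type*} [Fintype α] [DecidableEq α] (hα : Fintype.card α = 24)
    (Bf : Finset (Finset α)) (hB8 : ∀ b ∈ Bf, b.card = 8)
    (hB5 : ∀ s : Finset α, s.card = 5 → ∃! b, b ∈ Bf ∧ s ⊆ b) (I : Finset α) (hI : I.card ≤ 5) :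
    (Bf.filter (fun b => I ⊆ b)).card * (8 - I.card).choose (5 - I.card) =
      (24 - I.card).choose (5 - I.card) := by
  classical
  set t := Bf.filter (fun b => I ⊆ b) with ht
  set S := (powersetCard 5 (univ : Finset α)).filter (fun s => I ⊆ s) with hS
  have hScard : S.card = (24 - I.card).choose (5 - I.card) := by
    rw [hS, Finset.card_filter_powersetCard_subset I univ 5 (Finset.subset_univ _) hI, Finset.card_univ, hα]
  have hdc := Finset.sum_card_bipartiteAbove_eq_sum_card_bipartiteBelow
    (fun (s b : Finset α) => s ⊆ b) (s := S) (t := t)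
  have hleft : ∀ s ∈ S, (Finset.bipartiteAbove (fun (s b : Finset α) => s ⊆ b) t s).card = 1 := by
    intro s hs
    rw [hS, Finset.mem_filter, Finset.mem_powersetCard] at hs
    obtain ⟨b, ⟨hbB, hsb⟩, huniq⟩ := hB5 s hs.1.2
    rw [Finset.card_eq_one]
    refine ⟨b, ?_⟩
    ext b'
    simp only [Finset.bipartiteAbove, Finset.mem_filter, Finset.mem_singleton, ht]
    constructor
    · rintro ⟨⟨hb'B, _⟩, hsb'⟩
      exact huniq b' ⟨hb'B, hsb'⟩
    · rintro rfl
      exact ⟨⟨hbB, hs.2.trans hsb⟩, hsb⟩
  have hright : ∀ b ∈ t, (Finset.bipartiteBelow (fun (s b : Finset α) => s ⊆ b) S b).card =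
      (8 - I.card).choose (5 - I.card) := by
    intro b hb
    rw [ht, Finset.mem_filter] at hb
    have : Finset.bipartiteBelow (fun (s b : Finset α) => s ⊆ b) S b =
        (powersetCard 5 b).filter (fun s => I ⊆ s) := by
      ext s
      simp only [Finset.bipartiteBelow, Finset.mem_filter, Finset.mem_powersetCard, hS]
      constructor
      · rintro ⟨⟨⟨_, h5⟩, hIs⟩, hsb⟩
        exact ⟨⟨hsb, h5⟩, hIs⟩
      · rintro ⟨⟨hsb, h5⟩, hIs⟩
        exact ⟨⟨⟨Finset.subset_univ _, h5⟩, hIs⟩, hsb⟩
    rw [this, Finset.card_filter_powersetCard_subset I b 5 hb.2 hI, hB8 b hb.1]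
  rw [Finset.sum_congr rfl hleft, Finset.sum_congr rfl hright, Finset.sum_const, Finset.sum_const,
    smul_eq_mul, smul_eq_mul, mul_one] at hdc
  rw [← hScard, hdc]

open Finset in
/-- double counting of incidences between `j`-subsets of `Y` and blocks -/
theorem sum_choose_inter {α : Type*} [Fintype α] [DecidableEq α] (Bf : Finset (Finset α)) (Y : Finset α) (j : ℕ) :
    ∑ I ∈ powersetCard j Y, (Bf.filter (fun b => I ⊆ b)).card =
      ∑ b ∈ Bf, ((b ∩ Y).card).choose j := by
  classical
  have hdc := Finset.sum_card_bipartiteAbove_eq_sum_card_bipartiteBelow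
    (fun (s b : Finset α) => s ⊆ b) (s := powersetCard j Y) (t := Bf)
  have hright : ∀ b ∈ Bf, (Finset.bipartiteBelow (fun (s b : Finset α) => s ⊆ b) (powersetCard j Y) b).card =
      ((b ∩ Y).card).choose j := by
    intro b _
    have : Finset.bipartiteBelow (fun (s b : Finset α) => s ⊆ b) (powersetCard j Y) b =
        powersetCard j (b ∩ Y) := by
      ext s
      simp only [Finset.bipartiteBelow, Finset.mem_filter, Finset.mem_powersetCard, Finset.subset_inter_iff]
      tauto
    rw [this, Finset.card_powersetCard]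
  rw [Finset.sum_congr rfl hright] at hdc
  rw [← hdc]
  rfl

open Finset in
/-- regrouping the blocks by the size of their intersection with a 3-set -/
theorem sum_choose_regroup {α : Type*} [Fintype α] [DecidableEq α] (Bf : Finset (Finset α)) (Y : Finset α)
    (hY : Y.card = 3) (j : ℕ) :
    ∑ b ∈ Bf, ((b ∩ Y).card).choose j =
      ∑ k ∈ range 4, (Bf.filter (fun b => (b ∩ Y).card = k)).card * k.choose j := by
  classical
  have hmaps : ∀ b ∈ Bf, (b ∩ Y).card ∈ range 4 := by
    intro b _
    rw [Finset.mem_range]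
    have := Finset.card_le_card (Finset.inter_subset_right (s₁ := b) (s₂ := Y))
    omega
  rw [← Finset.sum_fiberwise_of_maps_to hmaps]
  apply Finset.sum_congr rfl
  intro k _
  rw [Finset.sum_congr rfl (fun b hb => by rw [(Finset.mem_filter.1 hb).2])]
  rw [Finset.sum_const, smul_eq_mul]

/-- In any Steiner system S(5, 8, 24) and for any set Y of three points, the blocks meeting Y in exactly 3, 2, 1 and 0 points number 21, 168, 360 and 210 respectively (so there are 759 blocks in all). -/
theorem result (α : Type*) [Fintype α] [DecidableEq α] (hα : Fintype.card α = 24) (B : Set (Finset α)) (hB : Cfsg.IsSteinerSystem 5 8 B) (Y : Finset α) (hY : Y.card = 3) : {b : Finset α | b ∈ B ∧ (b ∩ Y).card = 3}.ncard = 21 ∧ {b : Finset α | b ∈ B ∧ (b ∩ Y).card = 2}.ncard = 168 ∧ {b : Finset α | b ∈ B ∧ (b ∩ Y).card = 1}.ncard = 360 ∧ {b : Finset α | b ∈ B ∧ (b ∩ Y).card = 0}.ncard = 210 := by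
  classical
  obtain ⟨hB8, hB5⟩ := hB
  obtain ⟨Bf, hBf⟩ : ∃ Bf : Finset (Finset α), ∀ b, b ∈ Bf ↔ b ∈ B :=
    ⟨(Finset.univ : Finset (Finset α)).filter (fun b => b ∈ B), fun b => by simp⟩
  have hB8' : ∀ b ∈ Bf, b.card = 8 := fun b hb => hB8 b ((hBf b).1 hb)
  have hB5' : ∀ s : Finset α, s.card = 5 → ∃! b, b ∈ Bf ∧ s ⊆ b := by
    intro s hs
    obtain ⟨b, ⟨hb, hsb⟩, hu⟩ := hB5 s hs
    exact ⟨b, ⟨(hBf b).2 hb, hsb⟩, fun b' hb' => hu b' ⟨(hBf b').1 hb'.1, hb'.2⟩⟩
  -- the numbers of blocks through small sets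
  have hlam : ∀ I : Finset α, I.card ≤ 3 →
      (Bf.filter (fun b => I ⊆ b)).card =
        if I.card = 0 then 759 else if I.card = 1 then 253 else if I.card = 2 then 77 else 21 := by
    intro I hI
    have h := blocks_through hα Bf hB8' hB5' I (by omega)
    have hcases : I.card = 0 ∨ I.card = 1 ∨ I.card = 2 ∨ I.card = 3 := by omega
    rcases hcases with h0 | h0 | h0 | h0 <;> rw [h0] at h ⊢
    · have : Nat.choose 8 5 = 56 := by decide
      have h2 : Nat.choose 24 5 = 42504 := by decide
      simp only [Nat.sub_zero, this, h2] at h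
      simp; omega
    · have : Nat.choose 7 4 = 35 := by decide
      have h2 : Nat.choose 23 4 = 8855 := by decide
      have e1 : 8 - 1 = 7 := rfl
      have e2 : 5 - 1 = 4 := rfl
      have e3 : 24 - 1 = 23 := rfl
      rw [e1, e2, e3, this, h2] at h
      simp; omega
    · have : Nat.choose 6 3 = 20 := by decide
      have h2 : Nat.choose 22 3 = 1540 := by decide
      have e1 : 8 - 2 = 6 := rfl
      have e2 : 5 - 2 = 3 := rfl
      have e3 : 24 - 2 = 22 := rfl
      rw [e1, e2, e3, this, h2] at h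
      simp; omega
    · have : Nat.choose 5 2 = 10 := by decide
      have h2 : Nat.choose 21 2 = 210 := by decide
      have e1 : 8 - 3 = 5 := rfl
      have e2 : 5 - 3 = 2 := rfl
      have e3 : 24 - 3 = 21 := rfl
      rw [e1, e2, e3, this, h2] at h
      simp; omega
  -- the four linear equations
  have heq : ∀ j : ℕ, j ≤ 3 →
      (Nat.choose 3 j) * (if j = 0 then 759 else if j = 1 then 253 else if j = 2 then 77 else 21) =
      ∑ k ∈ Finset.range 4, (Bf.filter (fun b => (b ∩ Y).card = k)).card * k.choose j := by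
    intro j hj
    rw [← sum_choose_regroup Bf Y hY j, ← sum_choose_inter Bf Y j]
    have : ∀ I ∈ Finset.powersetCard j Y, (Bf.filter (fun b => I ⊆ b)).card =
        (if j = 0 then 759 else if j = 1 then 253 else if j = 2 then 77 else 21) := by
      intro I hI
      rw [Finset.mem_powersetCard] at hI
      rw [hlam I (by omega), hI.2]
    rw [Finset.sum_congr rfl this, Finset.sum_const, Finset.card_powersetCard, hY, smul_eq_mul]
  have e0 := heq 0 (by omega)
  have e1 := heq 1 (by omega)
  have e2 := heq 2 (by omega)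
  have e3 := heq 3 (by omega)
  simp only [Finset.sum_range_succ, Finset.sum_range_zero] at e0 e1 e2 e3
  have hset : ∀ k : ℕ, {b : Finset α | b ∈ B ∧ (b ∩ Y).card = k}.ncard =
      (Bf.filter (fun b => (b ∩ Y).card = k)).card := by
    intro k
    rw [← Set.ncard_coe_finset]
    congr 1
    ext b
    simp [hBf]
  rw [hset 3, hset 2, hset 1, hset 0]
  generalize (Bf.filter (fun b => (b ∩ Y).card = 0)).card = n0 at e0 e1 e2 e3 ⊢
  generalize (Bf.filter (fun b => (b ∩ Y).card = 1)).card = n1 at e0 e1 e2 e3 ⊢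
  generalize (Bf.filter (fun b => (b ∩ Y).card = 2)).card = n2 at e0 e1 e2 e3 ⊢
  generalize (Bf.filter (fun b => (b ∩ Y).card = 3)).card = n3 at e0 e1 e2 e3 ⊢
  norm_num [Nat.choose] at e0 e1 e2 e3
  omega

end Cfsg.Agent.S5625
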