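import Cfsg.Statements.S5628
import Cfsg.Agent.Lib.Helper6.Plane4Ex

set_option autoImplicit false
open Cfsg

namespace Cfsg.Agent.S5628

open Cfsg.Agent.Lib.Helper6

/-- In a projective plane of order 4 (a Steiner system S(2, 5, 21)), every permutation of the six points of a hyperoval (a 6-set met by no line in more than two points) is the restriction of exactly one automorphism of the plane. In particular the stabiliser of a hyperoval in the automorphism group is isomorphic to the symmetric group of degree 6 acting faithfully on the hyperoval. -/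
theorem result {α : Type*} [Fintype α] [DecidableEq α] (hα : Fintype.card α = 21) (L : Set (Finset α)) (hL : Cfsg.IsSteinerSystem 2 5 L) (H : Finset α) (hH : (H.card = 6 ∧ ∀ l ∈ L, (l ∩ H).card ≤ 2)) (σ : Equiv.Perm ↥H) : ∃! g : Equiv.Perm α, g ∈ Cfsg.setSystemAut L ∧ ∀ p : ↥H, g p = σ p := by
  have hH' : P4Hov L H := hH
  have : Nonempty α := Fintype.card_pos_iff.mp (by omega)
  obtain ⟨τ, hτ⟩ := exists_hovBij_of_equiv (H := H) (H' := H) σ
  obtain ⟨e, heH, heL⟩ := p4_exists_equiv hα hL hH' hα hL hH' τ
  refine ⟨e, ⟨(mem_setSystemAut_iff e).mpr heL, fun p => ?_⟩, ?_⟩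
  · rw [heH p p.2, hτ p]
  · rintro g ⟨hgL, hgH⟩
    rw [mem_setSystemAut_iff] at hgL
    -- both `g` and `e` extend `τ`, hence both satisfy the defining relation
    have hrel : ∀ (f : Equiv.Perm α), (fun b : Finset α => b.image f) '' L = L →
        (∀ x ∈ H, f x = τ.s x) → ∀ P, P4Rel L L τ P (f P) := by
      intro f hfL hfH P x hx y hy hxy hcol
      obtain ⟨l, hl, h1, h2, h3⟩ := hcol
      have hfl : l.image f ∈ L := by
        rw [← hfL]
        exact ⟨l, hl, rfl⟩
      refine ⟨l.image f, hfl, Finset.mem_image_of_mem f h1, ?_, ?_⟩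
      · rw [← hfH x hx]; exact Finset.mem_image_of_mem f h2
      · rw [← hfH y hy]; exact Finset.mem_image_of_mem f h3
    have hgH' : ∀ x ∈ H, g x = τ.s x := by
      intro x hx
      have := hgH ⟨x, hx⟩
      rw [this, ← hτ ⟨x, hx⟩]
    ext P
    exact p4rel_unique hα hL hH' hα hL hH' τ (hrel g hgL hgH' P) (hrel e heL heH P)

end Cfsg.Agent.S5628
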