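import Cfsg.Statements.S5632
import Cfsg.Agent.Lib.Helper93.LinearBasics

set_option autoImplicit false
open Cfsg

namespace Cfsg.Agent.S5632

/-- For a finite field F and subspaces 0 < W < U of F^n with dim W + dim U = n, the elements of SL_n(F) stabilising both W and U form a subgroup that is not maximal in SL_n(F): some subgroup lies strictly between it and SL_n(F). -/
theorem result {F : Type*} [Field F] [Fintype F] (n : ℕ) (W U : Submodule F (Fin n → F)) (hW0 : W ≠ ⊥) (hWU : W < U) (hdim : Module.finrank F W + Module.finrank F U = n) : ∃ K : Subgroup (Matrix.GeneralLinearGroup (Fin n) F), Cfsg.Geo.subspaceStabilizer W ⊓ Cfsg.Geo.subspaceStabilizer U ⊓ Cfsg.Geo.specialLinear (Fin n) F < K ∧ K < Cfsg.Geo.specialLinear (Fin n) F := by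
  have hW1 : W ≠ ⊤ := by
    rintro rfl
    exact not_top_lt hWU
  have hU1 : U ≠ ⊤ := by
    rintro rfl
    have h1 : Module.finrank F (⊤ : Submodule F (Fin n → F)) = n := by
      rw [finrank_top, Module.finrank_fintype_fun_eq_card, Fintype.card_fin]
    have h2 : 0 < Module.finrank F W := by
      rw [Nat.pos_iff_ne_zero]
      intro h0
      exact hW0 (Submodule.finrank_eq_zero.1 h0)
    omega
  obtain ⟨v, hv⟩ : ∃ v : Fin n → F, v ∉ U := by
    by_contra hcon
    push Not at hcon
    exact hU1 (Submodule.eq_top_iff'.2 hcon)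
  obtain ⟨u, huU, huW⟩ := SetLike.exists_of_lt hWU
  have hu : u ∉ W ⊔ Submodule.span F {v} := by
    intro hmem
    rw [Submodule.mem_sup] at hmem
    obtain ⟨w, hw, y, hy, hsum⟩ := hmem
    rw [Submodule.mem_span_singleton] at hy
    obtain ⟨c, rfl⟩ := hy
    by_cases hc : c = 0
    · rw [hc, zero_smul, add_zero] at hsum
      exact huW (hsum ▸ hw)
    · apply hv
      have h1 : c • v = u - w := by rw [← hsum]; abel
      have h2 : c • v ∈ U := by rw [h1]; exact U.sub_mem huU (hWU.le hw)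
      have h3 : v = c⁻¹ • (c • v) := by rw [smul_smul, inv_mul_cancel₀ hc, one_smul]
      rw [h3]; exact U.smul_mem _ h2
  have hkey := Cfsg.Agent.Lib.Helper93.exists_stab_not_stab W U v u hv huU hu
  refine ⟨Cfsg.Geo.subspaceStabilizer W ⊓ Cfsg.Geo.specialLinear (Fin n) F, ?_, ?_⟩
  · rw [lt_iff_le_and_ne]
    refine ⟨?_, ?_⟩
    · intro g hg
      exact ⟨hg.1.1, hg.2⟩
    · intro heq
      obtain ⟨g, hgSL, hgW, hgU⟩ := hkey
      have : g ∈ Cfsg.Geo.subspaceStabilizer W ⊓ Cfsg.Geo.subspaceStabilizer U ⊓ Cfsg.Geo.specialLinear (Fin n) F := by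
        rw [heq]; exact ⟨hgW, hgSL⟩
      exact hgU this.1.2
  · rw [lt_iff_le_and_ne]
    refine ⟨inf_le_right, ?_⟩
    intro heq
    obtain ⟨g, hgSL, hgW⟩ := Cfsg.Agent.Lib.Helper93.exists_specialLinear_not_stab W hW0 hW1
    rw [← heq] at hgSL
    exact hgW hgSL.1

end Cfsg.Agent.S5632
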