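import Cfsg.Statements.S5633
import Cfsg.Agent.Lib.Helper93.LinearBasics

set_option autoImplicit false
open Cfsg

namespace Cfsg.Agent.S5633

/-- For a finite field F and complementary non-zero subspaces W ⊕ U = F^n with dim W < dim U, the elements of SL_n(F) stabilising both W and U form a subgroup that is not maximal in SL_n(F): some subgroup lies strictly between it and SL_n(F). -/
theorem result {F : Type*} [Field F] [Fintype F] (n : ℕ) (W U : Submodule F (Fin n → F)) (hW0 : W ≠ ⊥) (hWU : W ⊓ U = ⊥) (hWU' : W ⊔ U = ⊤) (hdim : Module.finrank F W < Module.finrank F U) : ∃ K : Subgroup (Matrix.GeneralLinearGroup (Fin n) F), Cfsg.Geo.subspaceStabilizer W ⊓ Cfsg.Geo.subspaceStabilizer U ⊓ Cfsg.Geo.specialLinear (Fin n) F < K ∧ K < Cfsg.Geo.specialLinear (Fin n) F := by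
  have hU0 : U ≠ ⊥ := by
    rintro rfl
    rw [finrank_bot] at hdim
    omega
  have hW1 : W ≠ ⊤ := by
    rintro rfl
    rw [top_inf_eq] at hWU
    exact hU0 hWU
  obtain ⟨v, hvW, hv0⟩ := (Submodule.ne_bot_iff W).1 hW0
  obtain ⟨u, huU, hu0⟩ := (Submodule.ne_bot_iff U).1 hU0
  have hvU : v ∉ U := by
    intro hvU
    have : v ∈ W ⊓ U := ⟨hvW, hvU⟩
    rw [hWU, Submodule.mem_bot] at this
    exact hv0 this
  have hu : u ∉ W ⊔ Submodule.span F {v} := by
    have hle : W ⊔ Submodule.span F {v} = W := by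
      rw [sup_eq_left, Submodule.span_singleton_le_iff_mem]; exact hvW
    rw [hle]
    intro huW
    have : u ∈ W ⊓ U := ⟨huW, huU⟩
    rw [hWU, Submodule.mem_bot] at this
    exact hu0 this
  have hkey := Cfsg.Agent.Lib.Helper93.exists_stab_not_stab W U v u hvU huU hu
  refine ⟨Cfsg.Geo.subspaceStabilizer W ⊓ Cfsg.Geo.specialLinear (Fin n) F, ?_, ?_⟩
  · rw [lt_iff_le_and_ne]
    refine ⟨?_, ?_⟩
    · intro g hg
      exact ⟨hg.1.1, hg.2⟩
    · intro heq
      obtain ⟨g, hgSL, hgW, hgU⟩ := hkey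
      have : g ∈ Cfsg.Geo.subspaceStabilizer W ⊓ Cfsg.Geo.subspaceStabilizer U ⊓ Cfsg.Geo.specialLinear (Fin n) F := by
        rw [heq]; exact ⟨hgW, hgSL⟩
      exact hgU this.1.2
  · rw [lt_iff_le_and_ne]
    refine ⟨inf_le_right, ?_⟩
    intro heq
    obtain ⟨g, hgSL, hgW⟩ := Cfsg.Agent.Lib.Helper93.exists_specialLinear_not_stab W hW0 hW1
    rw [← heq] at hgSL
    exact hgW hgSL.1

end Cfsg.Agent.S5633
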