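import Cfsg.Statements.S5646
import Cfsg.Agent.Lib.Helper94.SympBridge

set_option autoImplicit false
open Cfsg

namespace Cfsg.Agent.S5646

/-- For a finite field F and m ≥ 7, in the symplectic group Sp_2m(F) of the standard alternating form on F^(2m), the stabiliser of any non-zero subspace W on which the form is non-degenerate and with dim W < m is a maximal subgroup. -/
theorem result {F : Type*} [Field F] [Fintype F] (m : ℕ) (hm : 7 ≤ m) (W : Submodule F (Fin m ⊕ Fin m → F)) (hW0 : W ≠ ⊥) (hW : Cfsg.Geo.IsNondegenerateOn (Cfsg.sympForm m F) W) (hdim : Module.finrank F W < m) : Cfsg.Geo.IsMaximalIn (Cfsg.spGL m F) (Cfsg.Geo.subspaceStabilizer W ⊓ Cfsg.spGL m F) := by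
  classical
  have hS := Cfsg.Agent.Lib.Helper94.sympData_sympBilin (F := F) m
  have hND : Cfsg.Agent.Lib.Helper94.SympData.NondegOn (Cfsg.Agent.Lib.Helper94.sympBilin m F) W := by
    intro x hx hxy
    by_contra hx0
    obtain ⟨_, y, hy, hne⟩ := hW x hx hx0
    apply hne
    rw [← Cfsg.Agent.Lib.Helper94.sympBilin_apply]
    exact hxy y hy
  have hfr : Module.finrank F (Fin m ⊕ Fin m → F) = m + m := by
    rw [Module.finrank_fintype_fun_eq_card]; simp
  have hWtop : W ≠ ⊤ := by
    rintro rfl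
    rw [finrank_top, hfr] at hdim
    omega
  apply Cfsg.Agent.Lib.Helper94.isMaximalIn_of_map (Cfsg.Agent.Lib.Helper94.glEquiv (Fin m ⊕ Fin m) F)
  rw [Cfsg.Agent.Lib.Helper94.map_inf_equiv, Cfsg.Agent.Lib.Helper94.map_subspaceStabilizer,
    Cfsg.Agent.Lib.Helper94.map_spGL]
  refine ⟨hS.stab_nondeg_lt hW0 hWtop, fun M h1 h2 => hS.stab_nondeg_max hND ?_ M h1 h2⟩
  rw [hfr]; omega

end Cfsg.Agent.S5646
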