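import Cfsg.Statements.S5648
import Cfsg.Agent.Lib.Helper94.SympBridge2
import Cfsg.Agent.Lib.Helper94.SympBridge3
import Cfsg.Agent.Lib.Helper94.SympO2

set_option autoImplicit false
open Cfsg

namespace Cfsg.Agent.S5648

/-- Over the field with 2 elements and for m ≥ 7, let D be a decomposition of F^(2m) into t pairwise orthogonal non-degenerate 2-dimensional subspaces for the standard alternating form (t = m ≥ 2). Then the elements of Sp_2m(2) permuting the members of D form a subgroup that is not maximal: some subgroup lies strictly between it and Sp_2m(2). -/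
theorem result {F : Type*} [Field F] [Fintype F] (m : ℕ) (hm : 7 ≤ m) (hq : Fintype.card F = 2) {t : ℕ} (D : Fin t → Submodule F (Fin m ⊕ Fin m → F)) (hD : Cfsg.Geo.IsNondegenerateMDecomposition (Cfsg.sympForm m F) 2 D) : ∃ K : Subgroup (Matrix.GeneralLinearGroup (Fin m ⊕ Fin m) F), Cfsg.Geo.decompositionStabilizer D ⊓ Cfsg.spGL m F < K ∧ K < Cfsg.spGL m F := by
  classical
  have hS := Cfsg.Agent.Lib.Helper94.sympData_sympBilin (F := F) m
  have hOD := Cfsg.Agent.Lib.Helper94.orthoDecomp_of_prelude m hD
  have hK2 := Cfsg.Agent.Lib.Helper94.eq_zero_or_one_of_card_two hq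
  have hfr : Module.finrank F (Fin m ⊕ Fin m → F) = m + m := by
    rw [Module.finrank_fintype_fun_eq_card]; simp
  have ht : 3 ≤ t := by
    by_contra hlt
    have h2 := hD.decomp.two_le
    have ht2 : t = 2 := by omega
    subst ht2
    have hle : (⊤ : Submodule F (Fin m ⊕ Fin m → F)) ≤ D 0 ⊔ D 1 := by
      rw [← hD.decomp.iSup_eq_top]
      apply iSup_le
      intro i
      fin_cases i
      · exact le_sup_left
      · exact le_sup_right
    have h3 := Submodule.finrank_mono hle
    have h4 := Submodule.finrank_add_le_finrank_add_finrank (D 0) (D 1)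
    rw [hD.decomp.finrank_eq, hD.decomp.finrank_eq] at h4
    rw [finrank_top, hfr] at h3
    omega
  apply Cfsg.Agent.Lib.Helper94.exists_between_of_map (Cfsg.Agent.Lib.Helper94.glEquiv (Fin m ⊕ Fin m) F)
  rw [Cfsg.Agent.Lib.Helper94.map_inf_equiv, Cfsg.Agent.Lib.Helper94.map_decompositionStabilizer,
    Cfsg.Agent.Lib.Helper94.map_spGL]
  exact hS.exists_between_stabDec hK2 hOD ht

end Cfsg.Agent.S5648
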