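import Cfsg.Statements.S5649
import Mathlib
import Cfsg.Agent.Lib.Helper44.SpPair4
import Cfsg.Agent.Lib.Helper44.POmegaOrder
import Cfsg.Agent.Lib.Helper94.SympBridge2
-- import your own Cfsg.Agent.* helpers here

set_option autoImplicit false
open Cfsg

namespace Cfsg.Agent.S5649

/-- For a finite field F of odd order and m ≥ 7, let D be a decomposition of F^(2m) into two complementary subspaces of dimension m on each of which the standard alternating form vanishes identically. Then the elements of Sp_2m(F) preserving or interchanging the two subspaces form a maximal subgroup of Sp_2m(F). -/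
theorem result {F : Type*} [Field F] [Fintype F] (m : ℕ) (hm : 7 ≤ m) (hodd : Odd (Fintype.card F)) (D : Fin 2 → Submodule F (Fin m ⊕ Fin m → F)) (hD : Cfsg.Geo.IsMDecomposition m D) (hts : ∀ i, Cfsg.Geo.IsTotallySingularFor (Cfsg.sympForm m F) (D i)) : Cfsg.Geo.IsMaximalIn (Cfsg.spGL m F) (Cfsg.Geo.decompositionStabilizer D ⊓ Cfsg.spGL m F) := by
  classical
  have hS := Cfsg.Agent.Lib.Helper94.sympData_sympBilin (F := F) m
  have h2 : (2 : F) ≠ 0 := by
    intro h
    have := Cfsg.Agent.Lib.Helper44.two_eq_zero_iff_even_card.1 h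
    rcases hodd with ⟨r, hr⟩
    omega
  apply Cfsg.Agent.Lib.Helper94.isMaximalIn_of_map (Cfsg.Agent.Lib.Helper94.glEquiv (Fin m ⊕ Fin m) F)
  rw [Cfsg.Agent.Lib.Helper94.map_inf_equiv, Cfsg.Agent.Lib.Helper94.map_decompositionStabilizer,
    Cfsg.Agent.Lib.Helper94.map_spGL]
  have hcompl : IsCompl (D 0) (D 1) := by
    refine ⟨hD.indep.pairwiseDisjoint (by decide), ?_⟩
    rw [codisjoint_iff, eq_top_iff, ← hD.iSup_eq_top]
    apply iSup_le
    intro i
    fin_cases i
    · exact le_sup_left
    · exact le_sup_right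
  exact Cfsg.Agent.Lib.Helper44.sp_pair_isMaximalIn hS h2 D
    ⟨fun u hu v hv => by rw [Cfsg.Agent.Lib.Helper94.sympBilin_apply]; exact hts 0 u hu v hv,
      fun u hu v hv => by rw [Cfsg.Agent.Lib.Helper94.sympBilin_apply]; exact hts 1 u hu v hv,
      hcompl⟩
    (by rw [hD.finrank_eq 0]; omega) (by rw [hD.finrank_eq 0, hD.finrank_eq 1])

end Cfsg.Agent.S5649
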