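import Cfsg.Statements.S5652
import Cfsg.Agent.Lib.Helper94.SympBridge
import Cfsg.Agent.Lib.Helper94.SympOrth

set_option autoImplicit false
open Cfsg

namespace Cfsg.Agent.S5652

open Cfsg.Agent.Lib.Helper94 in
/-- For a finite field F of characteristic two and m ≥ 7, let Q be a non-degenerate quadratic form on F^(2m) whose polar form is the standard alternating form. Then the elements of Sp_2m(F) that are similarities of Q (they are exactly the isometries of Q) form a maximal subgroup of Sp_2m(F). -/
theorem result {F : Type*} [Field F] [Fintype F] (m : ℕ) (hm : 7 ≤ m) (heven : ¬ Odd (Fintype.card F)) (Q : (Fin m ⊕ Fin m → F) → F) (hQ : Cfsg.Geo.IsNondegenerateQuadraticForm Q) (hpol : ∀ u v, QuadraticMap.polar Q u v = Cfsg.sympForm m F u v) : Cfsg.Geo.IsMaximalIn (Cfsg.spGL m F) (Cfsg.Geo.quadSimilarityGroup Q ⊓ Cfsg.spGL m F) := by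
  classical
  have hS := sympData_sympBilin (F := F) m
  have hQD : QuadData (sympBilin m F) Q := by
    refine ⟨hQ.smul, fun u v => ?_⟩
    have := hpol u v
    rw [← sympBilin_apply, QuadraticMap.polar] at this
    rw [← this]; ring
  have hchar : ringChar F = 2 := by
    rw [FiniteField.even_card_iff_char_two]
    rcases Nat.even_or_odd (Fintype.card F) with he | ho
    · exact Nat.even_iff.1 he
    · exact absurd ho heven
  have h2 : (1 : F) + 1 = 0 := by
    haveI : CharP F 2 := by rw [← hchar]; exact ringChar.charP F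
    have := CharP.cast_eq_zero F 2
    rw [← this]; norm_num
  have hsq : ∀ a : F, ∃ s, s ^ 2 = a := by
    intro a
    obtain ⟨s, hs⟩ := FiniteField.isSquare_of_char_two hchar a
    exact ⟨s, by rw [hs, sq]⟩
  have hfr : Module.finrank F (Fin m ⊕ Fin m → F) = m + m := by
    rw [Module.finrank_fintype_fun_eq_card]; simp
  have hdim : 3 ≤ Module.finrank F (Fin m ⊕ Fin m → F) := by omega
  -- the B-nonzero pair
  have hBne : ∃ u v, sympBilin m F u v ≠ 0 := by
    by_contra hcon
    push Not at hcon
    have hz : ∀ v : Fin m ⊕ Fin m → F, v = 0 := fun v => hS.nondeg v (hcon v)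
    have : Module.finrank F (Fin m ⊕ Fin m → F) = 0 := by
      rw [Module.finrank_eq_zero_iff_of_free]
      exact ⟨fun a b => by rw [hz a, hz b]⟩
    omega
  apply isMaximalIn_of_map (glEquiv (Fin m ⊕ Fin m) F)
  have hmap : (Cfsg.Geo.quadSimilarityGroup Q ⊓ Cfsg.spGL m F).map
      (glEquiv (Fin m ⊕ Fin m) F).toMonoidHom = SympData.isoQ (sympBilin m F) Q := by
    rw [map_inf_equiv, map_spGL]
    ext e
    rw [Subgroup.mem_inf, Subgroup.mem_map_equiv]
    constructor
    · rintro ⟨⟨c, hc⟩, heS⟩
      refine ⟨heS, fun x => ?_⟩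
      have hc' : ∀ v, Q (e v) = (c : F) * Q v := by
        intro v
        have := hc v
        rwa [glEquiv_symm_mulVec] at this
      -- c = 1
      obtain ⟨u, v, huv⟩ := hBne
      have e1 := hQD.polar (e u) (e v)
      rw [← map_add, hc', hc', hc', (SympData.mem_Sp.1 heS) u v, hQD.polar u v] at e1
      have hc1 : (c : F) = 1 := by
        have : ((c : F) - 1) * sympBilin m F u v = 0 := by linear_combination e1
        rcases mul_eq_zero.1 this with h | h
        · exact sub_eq_zero.1 h
        · exact absurd h huv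
      rw [hc', hc1, one_mul]
    · rintro ⟨heS, hQe⟩
      refine ⟨⟨1, fun v => ?_⟩, heS⟩
      rw [glEquiv_symm_mulVec, hQe, Units.val_one, one_mul]
  rw [hmap, map_spGL]
  exact ⟨hS.isoQ_lt hQD h2 hsq hdim, fun M h1 h2' => hS.isoQ_max hQD h2 hsq hdim M h1 h2'⟩

end Cfsg.Agent.S5652
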