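import Cfsg.Statements.S5656
import Cfsg.Agent.Lib.Helper94.UnitBridge

set_option autoImplicit false
open Cfsg

namespace Cfsg.Agent.S5656

/-- Let F be the field with 4 elements (q = 2) and n ≥ 13. Let D be a decomposition of F^n into t pairwise orthogonal 2-dimensional subspaces, each non-degenerate for the standard unitary form Σ u_i v_i². Then the elements of SU_n(2) permuting the members of D form a subgroup that is not maximal: some subgroup lies strictly between it and SU_n(2). -/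
theorem result {F : Type*} [Field F] [Fintype F] (n : ℕ) (hF : Fintype.card F = 4) (hn : 13 ≤ n) {t : ℕ} (D : Fin t → Submodule F (Fin n → F)) (hD : Cfsg.Geo.IsNondegenerateMDecomposition (Cfsg.hermForm n F 2) 2 D) : ∃ K : Subgroup (Matrix.GeneralLinearGroup (Fin n) F), Cfsg.Geo.decompositionStabilizer D ⊓ (Cfsg.GU n F 2 ⊓ Cfsg.Geo.specialLinear (Fin n) F) < K ∧ K < (Cfsg.GU n F 2 ⊓ Cfsg.Geo.specialLinear (Fin n) F) := by
  classical
  have hH := Cfsg.Agent.Lib.Helper94.hermData_hermForm_four hF n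
  have h2 : (2 : F) = 0 := Cfsg.Agent.Lib.Helper94.HermData.two_eq_zero_of_card_four hF
  have ht := hD.decomp.two_le
  have horth : ∀ i j, i ≠ j → ∀ u ∈ D i, ∀ v ∈ D j, Cfsg.hermForm n F 2 u v = 0 :=
    fun i j hij u hu v hv => hD.orthogonal i j hij u hu v hv
  have hnd : ∀ i, ∀ x ∈ D i, (∀ y ∈ D i, Cfsg.hermForm n F 2 x y = 0) → x = 0 := by
    intro i x hx hxy
    by_contra hx0
    obtain ⟨_, y, hy, hne⟩ := hD.nondegenerate i x hx hx0
    exact hne (hxy y hy)
  obtain ⟨i0, hi0⟩ : ∃ i0 : Fin t, i0 = ⟨0, by omega⟩ := ⟨_, rfl⟩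
  obtain ⟨i1, hi1⟩ : ∃ i1 : Fin t, i1 = ⟨1, by omega⟩ := ⟨_, rfl⟩
  have h01 : i0 ≠ i1 := by rw [hi0, hi1]; intro h; simp [Fin.ext_iff] at h
  obtain ⟨x, x', hx, hx', nx, nx', oxx', hPx⟩ :=
    hH.exists_unice2 hF (fun a => rfl) (D i0) (hD.decomp.finrank_eq i0) (hnd i0)
  obtain ⟨y, y', hy, hy', ny, ny', oyy', hPy⟩ :=
    hH.exists_unice2 hF (fun a => rfl) (D i1) (hD.decomp.finrank_eq i1) (hnd i1)
  apply Cfsg.Agent.Lib.Helper94.exists_between_of_map (Cfsg.Agent.Lib.Helper94.glEquiv (Fin n) F)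
  rw [Cfsg.Agent.Lib.Helper94.map_inf_equiv, Cfsg.Agent.Lib.Helper94.map_inf_equiv,
    Cfsg.Agent.Lib.Helper94.map_decompositionStabilizer, Cfsg.Agent.Lib.Helper94.map_GU,
    Cfsg.Agent.Lib.Helper94.map_specialLinear]
  exact hH.exists_between_uframe h2 (by norm_num) D horth h01 hx hx' hy hy' nx nx' ny ny' oxx' oyy'
    hPx hPy

end Cfsg.Agent.S5656
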