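import Cfsg.Statements.S5674
import Mathlib
import Cfsg.Agent.Lib.Helper44.TSMax2
import Cfsg.Agent.Lib.Helper44.OddQF
import Cfsg.Agent.Lib.Helper94.OrthBridge
import Cfsg.Agent.Lib.Helper94.OrthSiegel
-- import your own Cfsg.Agent.* helpers here

set_option autoImplicit false
open Cfsg

namespace Cfsg.Agent.S5674

/-- Let F be a finite field of odd order, m ≥ 6, Q the standard quadratic form x₀² + Σ x_i y_i on F^(2m+1) and Ω the commutator subgroup of its isometry group inside GL_(2m+1)(F). The elements of Ω stabilising a non-zero subspace on which Q vanishes form a maximal subgroup of Ω. -/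
theorem result {F : Type*} [Field F] [Fintype F] (hodd : Odd (Fintype.card F)) (m : ℕ) (hm : 6 ≤ m) (W : Submodule F (Unit ⊕ (Fin m ⊕ Fin m) → F)) (hW0 : W ≠ ⊥) (hW : Cfsg.Geo.IsTotallySingularQuad (Cfsg.quadFormOdd m F) W) : Cfsg.Geo.IsMaximalIn (Cfsg.Geo.omegaGL (Cfsg.quadFormOdd m F)) (Cfsg.Geo.subspaceStabilizer W ⊓ Cfsg.Geo.omegaGL (Cfsg.quadFormOdd m F)) := by
  classical
  have h2 : (2 : F) ≠ 0 := by
    intro h
    have hc : ringChar F = 2 :=
      CharP.ringChar_of_prime_eq_zero Nat.prime_two (by exact_mod_cast h)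
    have := FiniteField.even_card_iff_char_two.1 hc
    rw [Nat.odd_iff] at hodd
    omega
  have hfr : Module.finrank F (Unit ⊕ (Fin m ⊕ Fin m) → F) = 2 * m + 1 := by
    rw [Module.finrank_fintype_fun_eq_card]
    simp only [Fintype.card_sum, Fintype.card_fin, Fintype.card_unit]
    omega
  apply Cfsg.Agent.Lib.Helper94.isMaximalIn_of_map
    (Cfsg.Agent.Lib.Helper94.glEquiv (Unit ⊕ (Fin m ⊕ Fin m)) F)
  rw [Cfsg.Agent.Lib.Helper94.map_inf_equiv, Cfsg.Agent.Lib.Helper94.map_subspaceStabilizer,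
    Cfsg.Agent.Lib.Helper94.map_omegaGL]
  rw [← Cfsg.Agent.Lib.Helper44.oddQF_coe] at hW ⊢
  have hOG : Cfsg.Agent.Lib.Helper94.OG (⇑(Cfsg.Agent.Lib.Helper44.oddQF m F)) =
      Cfsg.Agent.Lib.Helper36.isoGroup (Cfsg.Agent.Lib.Helper44.oddQF m F) := by
    ext g; exact Iff.rfl
  rw [hOG]
  exact Cfsg.Agent.Lib.Helper44.ts_isMaximalIn (Cfsg.Agent.Lib.Helper44.oddQF m F)
    (Cfsg.Agent.Lib.Helper44.oddQF_nondeg m F h2) (by rw [hfr]; omega) W hW0
    (fun w hw => hW w hw)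
    (fun U hWU hU hUd h3 => by rw [hfr] at h3; omega)
    (Cfsg.Agent.Lib.Helper94.stabSub W) (fun g => Iff.rfl)

end Cfsg.Agent.S5674
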