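import Cfsg.Statements.S5675
import Cfsg.Agent.Lib.Helper94.OmegaSubBridge
import Cfsg.Agent.Lib.Helper94.OrthStd

set_option autoImplicit false
open Cfsg

namespace Cfsg.Agent.S5675

/-- Let F be a finite field of odd order q, m ≥ 6, Q the standard quadratic form on F^(2m+1) and Ω the commutator subgroup of its isometry group. Let W be a non-zero subspace of even dimension on which the polar form of Q is non-degenerate; exclude the case q = 3, dim W = 2 with Q vanishing on some line of W (a plus-type plane). Then the elements of Ω stabilising W (equivalently, stabilising its orthogonal complement, of odd dimension) form a maximal subgroup of Ω. -/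
theorem result {F : Type*} [Field F] [Fintype F] (hodd : Odd (Fintype.card F)) (m : ℕ) (hm : 6 ≤ m) (W : Submodule F (Unit ⊕ (Fin m ⊕ Fin m) → F)) (hW0 : W ≠ ⊥) (hev : Even (Module.finrank F W)) (hW : Cfsg.Geo.IsNondegenerateOn (QuadraticMap.polar (Cfsg.quadFormOdd m F)) W) (hex : ¬ (Fintype.card F = 3 ∧ Module.finrank F W = 2 ∧ Cfsg.Geo.IsPlusTypeOn (Cfsg.quadFormOdd m F) W)) : Cfsg.Geo.IsMaximalIn (Cfsg.Geo.omegaGL (Cfsg.quadFormOdd m F)) (Cfsg.Geo.subspaceStabilizer W ⊓ Cfsg.Geo.omegaGL (Cfsg.quadFormOdd m F)) := by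
  classical
  have h2 : (2 : F) ≠ 0 := Cfsg.Agent.Lib.Helper94.two_ne_zero_of_odd_card hodd
  have hQ := Cfsg.Agent.Lib.Helper94.isNondegenerateQuadraticForm_quadFormOdd (F := F) m h2
  have hD := Cfsg.Agent.Lib.Helper94.quadData_polarBilin hQ
  have hcard : Fintype.card (Unit ⊕ (Fin m ⊕ Fin m)) = 1 + (m + m) := by simp
  have hfrV : Module.finrank F (Unit ⊕ (Fin m ⊕ Fin m) → F) = 1 + (m + m) := by
    rw [Module.finrank_fintype_fun_eq_card]; exact hcard
  have hWnd : ∀ p ∈ W, (∀ p' ∈ W, Cfsg.Agent.Lib.Helper94.polarBilin hQ p p' = 0) → p = 0 := by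
    intro p hp h
    by_contra h0
    obtain ⟨x, hx, hx0⟩ := (hW p hp h0).2
    exact hx0 (h x hx)
  have hfr := Submodule.finrank_add_eq_of_isCompl (hD.orth_isCompl W hWnd)
  rw [hfrV] at hfr
  have hW1 : W ≠ ⊤ := by
    intro h
    rw [h, finrank_top, hfrV] at hev
    rcases hev with ⟨r, hr⟩
    omega
  apply Cfsg.Agent.Lib.Helper94.subspaceStabilizer_isMaximalIn_odd hQ h2 (by rw [hcard]; omega) W
    hW0 hW1 hW
  · intro heq
    exfalso
    rcases hev with ⟨r, hr⟩
    omega
  · intro hq3 P hP hfrP hplus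
    rcases hP with rfl | rfl
    · exact hex ⟨hq3, hfrP, hplus⟩
    · rcases hev with ⟨r, hr⟩
      omega

end Cfsg.Agent.S5675
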