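import Cfsg.Statements.S5677
import Mathlib
-- import your own Cfsg.Agent.* helpers here
import Cfsg.Agent.Lib.Helper94.OmegaDecomp2
import Cfsg.Agent.Lib.Helper94.OrthBridge
import Cfsg.Agent.Lib.Helper94.SympBridge2
import Cfsg.Agent.Lib.Helper94.OrthStd
import Cfsg.Agent.Lib.Helper94.OmegaSubBridge
import Cfsg.Agent.Lib.Helper5.DecMax

set_option autoImplicit false
open Cfsg

namespace Cfsg.Agent.S5677


/-- Let F be a finite field of odd order q, m ≥ 6, Q the standard quadratic form on F^(2m+1) and Ω the commutator subgroup of its isometry group. Let D be a decomposition of F^(2m+1) into t ≥ 2 pairwise orthogonal, pairwise Q-isometric subspaces of equal dimension k > 1 on which the polar form is non-degenerate. Unless q = 3 and k = 3, the elements of Ω permuting the members of D form a maximal subgroup of Ω. -/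
theorem result {F : Type*} [Field F] [Fintype F] (hodd : Odd (Fintype.card F)) (m : ℕ) (hm : 6 ≤ m) {t : ℕ} (k : ℕ) (hk : 1 < k) (D : Fin t → Submodule F (Unit ⊕ (Fin m ⊕ Fin m) → F)) (hD : Cfsg.Geo.IsOrthogonalMDecomposition (Cfsg.quadFormOdd m F) k D) (hex : ¬ (Fintype.card F = 3 ∧ k = 3)) : Cfsg.Geo.IsMaximalIn (Cfsg.Geo.omegaGL (Cfsg.quadFormOdd m F)) (Cfsg.Geo.decompositionStabilizer D ⊓ Cfsg.Geo.omegaGL (Cfsg.quadFormOdd m F)) := by
  classical
  have h2 : (2 : F) ≠ 0 := Cfsg.Agent.Lib.Helper94.two_ne_zero_of_odd_card hodd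
  have hQ := Cfsg.Agent.Lib.Helper94.isNondegenerateQuadraticForm_quadFormOdd (F := F) m h2
  have hD' := Cfsg.Agent.Lib.Helper94.quadData_polarBilin hQ
  have hnd := Cfsg.Agent.Lib.Helper94.nondeg_polarBilin hQ
  have hfr : ∀ i, Module.finrank F (D i) = k := hD.decomp.decomp.finrank_eq
  -- the dimension count
  have hint : DirectSum.IsInternal D :=
    DirectSum.isInternal_submodule_of_iSupIndep_of_iSup_eq_top hD.decomp.decomp.indep
      hD.decomp.decomp.iSup_eq_top
  have hdim : t * k = 2 * m + 1 := by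
    have h1 : Module.finrank F (Unit ⊕ (Fin m ⊕ Fin m) → F) = 1 + (m + m) := by
      rw [Module.finrank_fintype_fun_eq_card]; simp
    have h3 : Module.finrank F (Unit ⊕ (Fin m ⊕ Fin m) → F) = ∑ i, Module.finrank F (D i) := by
      rw [← (LinearEquiv.ofBijective (DirectSum.coeLinearMap D) hint).finrank_eq,
        Module.finrank_directSum]
    rw [h1, Finset.sum_congr rfl (fun i _ => hfr i)] at h3
    simp at h3
    omega
  have hoddtk : Odd (t * k) := by rw [hdim]; exact ⟨m, rfl⟩
  obtain ⟨hto, hko⟩ := Nat.odd_mul.1 hoddtk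
  have ht2 := hD.decomp.decomp.two_le
  obtain ⟨t', ht'⟩ := hto
  obtain ⟨k', hk'⟩ := hko
  have hk3 : 3 ≤ k := by omega
  have ht3 : 3 ≤ t := by omega
  have hbig : (∀ i, 5 ≤ Module.finrank F (D i)) ∨ (5 ≤ Nat.card F ∧ 5 ≤ t) := by
    by_cases hk5 : 5 ≤ k
    · left
      intro i
      rw [hfr i]; exact hk5
    · right
      have hk3' : k = 3 := by omega
      have hq3 : Fintype.card F ≠ 3 := fun h => hex ⟨h, hk3'⟩
      have hq1 : 1 < Fintype.card F := Fintype.one_lt_card
      obtain ⟨r, hr⟩ := hodd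
      rw [Nat.card_eq_fintype_card]
      subst hk3'
      constructor
      · omega
      · omega
  have hdec : Cfsg.Agent.Lib.Helper5.ODec.Dec (Cfsg.Agent.Lib.Helper94.polarBilin hQ) D := by
    refine ⟨?_, ?_, ?_⟩
    · intro i j hij x hx y hy
      exact hD.decomp.orthogonal i j hij x hx y hy
    · intro i p hp h
      by_contra h0
      obtain ⟨x, hx, hx0⟩ := (hD.decomp.nondegenerate i p hp h0).2
      exact hx0 (h x hx)
    · intro x
      rw [hD.decomp.decomp.iSup_eq_top]
      exact Submodule.mem_top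
  apply Cfsg.Agent.Lib.Helper94.isMaximalIn_of_map
    (Cfsg.Agent.Lib.Helper94.glEquiv (Unit ⊕ (Fin m ⊕ Fin m)) F)
  rw [Cfsg.Agent.Lib.Helper94.map_inf_equiv, Cfsg.Agent.Lib.Helper94.map_decompositionStabilizer,
    Cfsg.Agent.Lib.Helper94.map_omegaGL]
  exact Cfsg.Agent.Lib.Helper5.ODec.stabDec_isMaximalIn hD' hnd h2 D hdec
    (fun i => by rw [hfr i]; exact hk3) ht3 hbig hD.isometric

end Cfsg.Agent.S5677
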