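import Cfsg.Statements.S5687
import Mathlib
import Cfsg.Agent.Lib.Helper44.TSMax2
import Cfsg.Agent.Lib.Helper94.OrthBridge
import Cfsg.Agent.Lib.Helper94.OrthSiegel
-- import your own Cfsg.Agent.* helpers here

set_option autoImplicit false
open Cfsg

namespace Cfsg.Agent.S5687

/-- Let F be a finite field with q elements, n ≥ 13 even, Q a non-degenerate quadratic form on F^n of minus type (no subspace of dimension n/2 is totally singular), and Ω the commutator subgroup of the isometry group of Q, viewed inside GL_n(F). The elements of Ω stabilising a non-zero subspace on which Q vanishes form a maximal subgroup of Ω. -/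
theorem result {F : Type*} [Field F] [Fintype F] {n : ℕ} (hn : 13 ≤ n) (heven : Even n) (Q : (Fin n → F) → F) (hQ : Cfsg.Geo.IsNondegenerateQuadraticForm Q) (hminus : ¬ Cfsg.Geo.IsPlusTypeOn Q ⊤) (W : Submodule F (Fin n → F)) (hW0 : W ≠ ⊥) (hW : Cfsg.Geo.IsTotallySingularQuad Q W) : Cfsg.Geo.IsMaximalIn (Cfsg.Geo.omegaGL Q) (Cfsg.Geo.subspaceStabilizer W ⊓ Cfsg.Geo.omegaGL Q) := by
  classical
  have hD := Cfsg.Agent.Lib.Helper94.quadData_polarBilin hQ
  have hnd := Cfsg.Agent.Lib.Helper94.nondeg_polarBilin hQ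
  have hfr : Module.finrank F (Fin n → F) = n := Module.finrank_fin_fun F
  apply Cfsg.Agent.Lib.Helper94.isMaximalIn_of_map (Cfsg.Agent.Lib.Helper94.glEquiv (Fin n) F)
  rw [Cfsg.Agent.Lib.Helper94.map_inf_equiv, Cfsg.Agent.Lib.Helper94.map_subspaceStabilizer,
    Cfsg.Agent.Lib.Helper94.map_omegaGL]
  have hOG : Cfsg.Agent.Lib.Helper94.OG Q = Cfsg.Agent.Lib.Helper36.isoGroup hD.toQF := by
    ext g; exact Iff.rfl
  rw [hOG]
  exact Cfsg.Agent.Lib.Helper44.ts_isMaximalIn hD.toQF (hD.nondeg_toQF hnd) (by rw [hfr]; omega) W hW0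
    (fun w hw => hW w hw)
    (fun U hWU hU hUd h2 => hminus ⟨U, le_top, fun u hu => hU u hu, by rw [finrank_top]; exact h2⟩)
    (Cfsg.Agent.Lib.Helper94.stabSub W) (fun g => Iff.rfl)

end Cfsg.Agent.S5687
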