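import Cfsg.Statements.S5697
import Mathlib
import Cfsg.Agent.Lib.Helper44.PairMax5
import Cfsg.Agent.Lib.Helper94.OrthBridge
import Cfsg.Agent.Lib.Helper94.OrthSiegel
import Cfsg.Agent.Lib.Helper94.SympBridge2
-- import your own Cfsg.Agent.* helpers here

set_option autoImplicit false
open Cfsg

namespace Cfsg.Agent.S5697

/-- Let F be a finite field with q elements, n ≥ 13 even, Q a non-degenerate quadratic form on F^n of plus type (some subspace of dimension n/2 is totally singular), and Ω the commutator subgroup of the isometry group of Q, viewed inside GL_n(F). Suppose n/2 is even and let D be a decomposition of F^n into two complementary subspaces of dimension n/2 on each of which Q vanishes. Then the elements of Ω preserving or interchanging the two subspaces form a maximal subgroup of Ω. -/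
theorem result {F : Type*} [Field F] [Fintype F] {n : ℕ} (hn : 13 ≤ n) (heven : Even n) (Q : (Fin n → F) → F) (hQ : Cfsg.Geo.IsNondegenerateQuadraticForm Q) (hplus : Cfsg.Geo.IsPlusTypeOn Q ⊤) (k : ℕ) (hk : 2 * k = n) (hke : Even k) (D : Fin 2 → Submodule F (Fin n → F)) (hD : Cfsg.Geo.IsMDecomposition k D) (hts : ∀ i, Cfsg.Geo.IsTotallySingularQuad Q (D i)) : Cfsg.Geo.IsMaximalIn (Cfsg.Geo.omegaGL Q) (Cfsg.Geo.decompositionStabilizer D ⊓ Cfsg.Geo.omegaGL Q) := by
  classical
  have hD' := Cfsg.Agent.Lib.Helper94.quadData_polarBilin hQ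
  have hnd := Cfsg.Agent.Lib.Helper94.nondeg_polarBilin hQ
  apply Cfsg.Agent.Lib.Helper94.isMaximalIn_of_map (Cfsg.Agent.Lib.Helper94.glEquiv (Fin n) F)
  rw [Cfsg.Agent.Lib.Helper94.map_inf_equiv, Cfsg.Agent.Lib.Helper94.map_decompositionStabilizer,
    Cfsg.Agent.Lib.Helper94.map_omegaGL]
  have hOG : Cfsg.Agent.Lib.Helper94.OG Q = Cfsg.Agent.Lib.Helper36.isoGroup hD'.toQF := by
    ext g; exact Iff.rfl
  rw [hOG]
  obtain ⟨m, hm⟩ := hke
  have hcompl : IsCompl (D 0) (D 1) := by
    refine ⟨hD.indep.pairwiseDisjoint (by decide), ?_⟩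
    rw [codisjoint_iff, eq_top_iff, ← hD.iSup_eq_top]
    apply iSup_le
    intro i
    fin_cases i
    · exact le_sup_left
    · exact le_sup_right
  exact Cfsg.Agent.Lib.Helper44.pair_isMaximalIn hD'.toQF (hD'.nondeg_toQF hnd) D
    ⟨fun u hu => hts 0 u hu, fun u hu => hts 1 u hu, hcompl⟩ m
    (by rw [hD.finrank_eq 0]; omega) (by rw [hD.finrank_eq 1]; omega) (by omega)
    (Cfsg.Agent.Lib.Helper94.SympData.stabDec D) (fun g => Iff.rfl)

end Cfsg.Agent.S5697
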