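import Cfsg.Statements.S5699
import Cfsg.Agent.Lib.Helper94.OmegaDecomp2
import Cfsg.Agent.Lib.Helper94.OrthBridge
import Cfsg.Agent.Lib.Helper94.SympBridge2

set_option autoImplicit false
open Cfsg

namespace Cfsg.Agent.S5699

/-- Let F be a finite field with q elements, n ≥ 13 even, Q a non-degenerate quadratic form on F^n (of either type), and Ω the commutator subgroup of the isometry group of Q, viewed inside GL_n(F). Let D be a decomposition of F^n into two orthogonal subspaces of odd dimension n/2 on which the polar form is non-degenerate and which are not Q-isometric to each other. Then the elements of Ω permuting (necessarily fixing) the two subspaces form a maximal subgroup of Ω. -/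
theorem result {F : Type*} [Field F] [Fintype F] {n : ℕ} (hn : 13 ≤ n) (heven : Even n) (Q : (Fin n → F) → F) (hQ : Cfsg.Geo.IsNondegenerateQuadraticForm Q) (k : ℕ) (hk : 2 * k = n) (hko : Odd k) (D : Fin 2 → Submodule F (Fin n → F)) (hD : Cfsg.Geo.IsNondegenerateMDecomposition (QuadraticMap.polar Q) k D) (hni : ¬ Cfsg.Geo.AreIsometricFor Q (D 0) (D 1)) : Cfsg.Geo.IsMaximalIn (Cfsg.Geo.omegaGL Q) (Cfsg.Geo.decompositionStabilizer D ⊓ Cfsg.Geo.omegaGL Q) := by
  classical
  have hD' := Cfsg.Agent.Lib.Helper94.quadData_polarBilin hQ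
  have hnd := Cfsg.Agent.Lib.Helper94.nondeg_polarBilin hQ
  have hsup : D 0 ⊔ D 1 = ⊤ := by
    rw [← hD.decomp.iSup_eq_top]
    apply le_antisymm
    · exact sup_le (le_iSup D 0) (le_iSup D 1)
    · apply iSup_le
      intro i
      fin_cases i
      · exact le_sup_left
      · exact le_sup_right
  have horth : ∀ w ∈ D 0, ∀ u ∈ D 1, Cfsg.Agent.Lib.Helper94.polarBilin hQ w u = 0 :=
    fun w hw u hu => hD.orthogonal 0 1 (by decide) w hw u hu
  have hndi : ∀ i, ∀ p ∈ D i, (∀ p' ∈ D i, Cfsg.Agent.Lib.Helper94.polarBilin hQ p p' = 0) →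
      p = 0 := by
    intro i p hp h
    by_contra h0
    obtain ⟨x, hx, hx0⟩ := (hD.nondegenerate i p hp h0).2
    exact hx0 (h x hx)
  have hk7 : 7 ≤ k := by omega
  have hfr : ∀ i, Module.finrank F (D i) = k := hD.decomp.finrank_eq
  have h2 : (2 : F) ≠ 0 :=
    hD'.two_ne_zero_of_odd (D 0) (hndi 0) (by rw [hfr 0]; exact hko)
  have hni' : ∀ g ∈ Cfsg.Agent.Lib.Helper94.OG Q, ¬ (∀ w ∈ D 0, g w ∈ D 1) := by
    intro g hg hmap
    apply hni
    let f : D 0 →ₗ[F] D 1 := (g : (Fin n → F) →ₗ[F] (Fin n → F)).restrict hmap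
    have hf : Function.Injective f := by
      intro x y hxy
      have h1 : ((f x : D 1) : Fin n → F) = ((f y : D 1) : Fin n → F) := by rw [hxy]
      have h3 : g (x : Fin n → F) = g (y : Fin n → F) := h1
      exact Subtype.ext (g.injective h3)
    refine ⟨f.linearEquivOfInjective hf (by rw [hfr 0, hfr 1]), fun w => ?_⟩
    rw [LinearMap.linearEquivOfInjective_apply]
    exact hg (w : Fin n → F)
  apply Cfsg.Agent.Lib.Helper94.isMaximalIn_of_map (Cfsg.Agent.Lib.Helper94.glEquiv (Fin n) F)
  rw [Cfsg.Agent.Lib.Helper94.map_inf_equiv, Cfsg.Agent.Lib.Helper94.map_decompositionStabilizer,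
    Cfsg.Agent.Lib.Helper94.map_omegaGL,
    hD'.stabDec_inf_eq D horth hsup (hndi 0) hni']
  exact hD'.stab_pair_isMaximalIn hnd h2 (D 0) (D 1) horth hsup (hndi 0) (hndi 1)
    (by rw [hfr 0]; exact hk7) (by rw [hfr 1]; exact hk7) hni'

end Cfsg.Agent.S5699
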