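import Cfsg.Statements.S5707
import Mathlib
import Cfsg.Agent.Lib.Helper99.TWCore
import Cfsg.Agent.Lib.Helper75.TWCData
import Cfsg.Agent.Lib.Helper67.TWBridge

set_option autoImplicit false
open Cfsg

namespace Cfsg.Agent.S5707

/-- Let F be a finite field with q elements, n ≥ 13 even, Q a non-degenerate quadratic form on F^n of plus type (some subspace of dimension n/2 is totally singular), and Ω the commutator subgroup of the isometry group of Q, viewed inside GL_n(F). Suppose q is even and that, through P and e, the polar form of Q is similar to the t-fold tensor power (t ≥ 2) of a non-degenerate symplectic form f₁ on F^k with k ≤ 4 and (q, k) ≠ (2, 2), Q vanishing on the images of all pure tensors. Then the elements of Ω in the stabiliser of this decomposition form a subgroup that is not maximal: some subgroup lies strictly between it and Ω. -/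
theorem result {F : Type*} [Field F] [Fintype F] {n : ℕ} (hn : 13 ≤ n) (heven : Even n) (Q : (Fin n → F) → F) (hQ : Cfsg.Geo.IsNondegenerateQuadraticForm Q) (hplus : Cfsg.Geo.IsPlusTypeOn Q ⊤) (hchar : ¬ Odd (Fintype.card F)) (k t : ℕ) (ht : 2 ≤ t) (hk : k ≤ 4) (hex1 : ¬ (Fintype.card F = 2 ∧ k = 2)) (e : (Fin n) ≃ (Fin t → Fin k)) (P : Matrix.GeneralLinearGroup (Fin n) F) (f₁ : (Fin k → F) → (Fin k → F) → F) (hf₁ : Cfsg.Geo.IsSymplecticForm f₁) (hT : Cfsg.Geo.IsTensorPowerFormStructure id (QuadraticMap.polar Q) f₁ e P) (hpure : (∀ xs : Fin t → (Fin k → F), Q (Matrix.mulVec (P : Matrix (Fin n) (Fin n) F) ((fun a : Fin t → Fin k => ∏ i, xs i (a i)) ∘ e)) = 0)) : ∃ K : Subgroup (Matrix.GeneralLinearGroup (Fin n) F), Cfsg.Geo.tensorWreathSubgroup k t e P ⊓ Cfsg.Geo.omegaGL Q < K ∧ K < Cfsg.Geo.omegaGL Q := by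
  classical
  -- characteristic two
  have h2 : (2 : F) = 0 := by
    have hmod : Fintype.card F % 2 = 0 := by
      rcases Nat.even_or_odd (Fintype.card F) with h | h
      · exact Nat.even_iff.mp h
      · exact absurd h hchar
    have hch : ringChar F = 2 := FiniteField.even_card_iff_char_two.mpr hmod
    have : CharP F 2 := ringChar.of_eq hch
    exact CharTwo.two_eq_zero
  obtain ⟨hkeven, c, Q', Ψ, hc, hsm, hpol, hpure', hTmap, hOmap⟩ :=
    Cfsg.Agent.Lib.Helper67.TWBridge.bridge Q hQ h2 k t e P f₁ hf₁ hT hpure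
  have hnk : n = k ^ t := by
    have := Fintype.card_congr e
    simpa using this
  -- the standard-coordinate statement
  have hstd : ∃ K' : Subgroup (GL (Cfsg.Agent.Lib.Helper99.TW.Idx k t) F),
      Cfsg.Geo.tensorWreathStandard k t F ⊓ Cfsg.Geo.omegaGL Q' < K' ∧
        K' < Cfsg.Geo.omegaGL Q' := by
    have hk0 : k ≠ 0 := by
      rintro rfl
      rw [zero_pow (by omega)] at hnk
      omega
    have hk24 : k = 2 ∨ k = 4 := by
      obtain ⟨m, hm⟩ := hkeven
      omega
    rcases hk24 with rfl | rfl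
    · have ht3 : 3 ≤ t := by
        by_contra hlt
        have ht2 : t = 2 := by omega
        rw [ht2] at hnk
        omega
      obtain ⟨D, _⟩ := Cfsg.Agent.Lib.Helper75.TW.exists_cdata2 h2
      exact Cfsg.Agent.Lib.Helper99.TW.core (D := D) h2 (by decide) ht (Or.inl ht3) (Or.inl ht3)
        c hc Q' hsm hpol hpure'
    · obtain ⟨D, hDh, hDalt⟩ := Cfsg.Agent.Lib.Helper75.TW.exists_cdata4 h2
      refine Cfsg.Agent.Lib.Helper99.TW.core (D := D) h2 (by decide) ht (Or.inr hDalt) (Or.inr ?_)
        c hc Q' hsm hpol hpure'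
      rw [hDh]; decide
  obtain ⟨K', hK1, hK2⟩ := hstd
  have hinj : Function.Injective Ψ.toMonoidHom := Ψ.injective
  refine ⟨K'.map Ψ.toMonoidHom, ?_, ?_⟩
  · rw [← hTmap, ← hOmap, ← Subgroup.map_inf _ _ _ hinj]
    exact (Subgroup.map_lt_map_iff_of_injective hinj).mpr hK1
  · rw [← hOmap]
    exact (Subgroup.map_lt_map_iff_of_injective hinj).mpr hK2

end Cfsg.Agent.S5707
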