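import Cfsg.Statements.S5713
import Cfsg.Agent.S0734
import Cfsg.Agent.Lib.Helper95.BabaiG
import Cfsg.Agent.Lib.Helper95.BabaiI

set_option autoImplicit false
open Cfsg

namespace Cfsg.Agent.S5713

/-- A classification-free minimal-degree bound. Let G be a finite group acting faithfully and primitively on a finite set Ω with n elements, and suppose that the image of G in the symmetric group on Ω does not contain the alternating group on Ω. Then every non-identity element of G moves at least (√n − 1)/2 points of Ω, that is, it fixes at most n − (√n − 1)/2 points. -/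
theorem result {G Ω : Type*} [Group G] [Finite G] [MulAction G Ω] [FaithfulSMul G Ω] [Fintype Ω] [DecidableEq Ω]
    (hprim : MulAction.IsPreprimitive G Ω)
    (hA : ¬ alternatingGroup Ω ≤ (MulAction.toPermHom G Ω).range)
    (g : G) (hg : g ≠ 1) :
    (Real.sqrt (Fintype.card Ω) - 1) / 2 ≤ (Fintype.card Ω : ℝ) - Nat.card (MulAction.fixedBy Ω g) := by
  classical
  -- a moved point
  obtain ⟨x, hx⟩ : ∃ x : Ω, g • x ≠ x := by
    by_contra hcon
    push Not at hcon
    apply hg
    apply FaithfulSMul.eq_of_smul_eq_smul (α := Ω)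
    intro y
    rw [hcon y, one_smul]
  haveI : MulAction.IsPretransitive G Ω := hprim.toIsPretransitive
  haveI : Nontrivial Ω := ⟨⟨g • x, x, hx⟩⟩
  have hconn : ∀ a b : Ω, a ≠ b → (Cfsg.Agent.S0734.orbGraph G a b).Connected :=
    (Cfsg.Agent.S0734.result (G := G) (Ω := Ω)).mp hprim
  set M : Finset Ω := Finset.univ.filter (fun y => g • y ≠ y) with hMdef
  have hM : ∀ y, y ∈ M ↔ g • y ≠ y := by
    intro y
    rw [hMdef, Finset.mem_filter]
    simp
  have hxM : x ∈ M := (hM x).mpr hx
  have hMpos : 1 ≤ M.card := Finset.card_pos.mpr ⟨x, hxM⟩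
  -- the key inequality
  have key : Fintype.card Ω ≤ (2 * M.card + 1) ^ 2 := by
    rcases Cfsg.Agent.Lib.Helper95.Babai.babai_dichotomy (G := G) hconn (a := x) (b := g • x)
      (fun h => hx h.symm) with h | h
    · have hD : Cfsg.Agent.Lib.Helper95.Babai.dnum G x (g • x) ≤ M.card := by
        unfold Cfsg.Agent.Lib.Helper95.Babai.dnum
        apply Finset.card_le_card
        intro z hz
        rw [Cfsg.Agent.Lib.Helper95.Babai.mem_sepSet] at hz
        exact (hM z).mpr (Cfsg.Agent.Lib.Helper95.Babai.moved_of_sep hz)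
      refine h.trans ?_
      apply Nat.pow_le_pow_left
      omega
    · have h2 : ∀ u v u' v' : Ω, u ≠ v → u' ≠ v' → ∃ k : G, k • u = u' ∧ k • v = v' := by
        intro u v u' v' huv huv'
        obtain ⟨k1, hk1, hk1'⟩ := h u v huv
        obtain ⟨k2, hk2, hk2'⟩ := h u' v' huv'
        refine ⟨k2 * k1⁻¹, ?_, ?_⟩
        · rw [mul_smul, ← hk1, inv_smul_smul, hk2]
        · rw [mul_smul, ← hk1', inv_smul_smul, hk2']
      have hb := Cfsg.Agent.Lib.Helper95.Babai.two_trans_bound hprim hA h2 g x hx M hM
      obtain ⟨m', hm'⟩ : ∃ m', M.card = m' + 1 := ⟨M.card - 1, by omega⟩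
      rw [hm'] at hb ⊢
      have : m' + 1 - 1 = m' := by omega
      rw [this] at hb
      have hpos : 0 < Fintype.card Ω := Fintype.card_pos_iff.mpr ⟨x⟩
      have hb' : Fintype.card Ω ≤ m' ^ 2 + 1 := by omega
      nlinarith
  -- the number of fixed points
  have hfix : Nat.card (MulAction.fixedBy Ω g) + M.card = Fintype.card Ω := by
    have h1 : Nat.card (MulAction.fixedBy Ω g) = (Finset.univ.filter (fun y : Ω => g • y = y)).card := by
      rw [Nat.card_eq_fintype_card, ← Fintype.card_subtype]
      apply Fintype.card_congr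
      exact Equiv.subtypeEquivRight (fun y => by simp [MulAction.mem_fixedBy])
    rw [h1, hMdef]
    exact Finset.card_filter_add_card_filter_not (fun y : Ω => g • y = y)
  have hfixR : (Fintype.card Ω : ℝ) - Nat.card (MulAction.fixedBy Ω g) = (M.card : ℝ) := by
    rw [← hfix]
    push_cast
    ring
  rw [hfixR]
  have hsqrt : Real.sqrt (Fintype.card Ω) ≤ 2 * (M.card : ℝ) + 1 := by
    have h1 : (Fintype.card Ω : ℝ) ≤ (2 * (M.card : ℝ) + 1) ^ 2 := by
      exact_mod_cast key
    calc Real.sqrt (Fintype.card Ω) ≤ Real.sqrt ((2 * (M.card : ℝ) + 1) ^ 2) := Real.sqrt_le_sqrt h1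
      _ = 2 * (M.card : ℝ) + 1 := Real.sqrt_sq (by positivity)
  linarith

end Cfsg.Agent.S5713
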