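import Cfsg.Statements.S5726
-- import your own Cfsg.Agent.* helpers here

set_option autoImplicit false
open Cfsg

namespace Cfsg.Agent.S5726

/-- A Sylow `p`-subgroup of a transitive group on `p ^ k` points is transitive. -/
theorem sylow_orbit_eq_univ {G Ω : Type*} [Group G] [Finite G] [MulAction G Ω] [Fintype Ω]
    (htr : MulAction.IsPretransitive G Ω)
    (p k : ℕ) [Fact p.Prime] (hΩ : Fintype.card Ω = p ^ k) (P : Sylow p G) (ω : Ω) :
    MulAction.orbit (P : Subgroup G) ω = Set.univ := by
  classical
  have hp : p.Prime := Fact.out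
  set S : Subgroup G := MulAction.stabilizer G ω with hS
  have hSidx : S.index = p ^ k := by
    rw [hS, MulAction.index_stabilizer_of_transitive, Nat.card_eq_fintype_card, hΩ]
  have hstab : MulAction.stabilizer (P : Subgroup G) ω = S.subgroupOf (P : Subgroup G) := by
    ext x
    simp [hS, Subgroup.mem_subgroupOf, MulAction.mem_stabilizer_iff, Subgroup.smul_def]
  have hcard : (MulAction.orbit (P : Subgroup G) ω).ncard = S.relIndex (P : Subgroup G) := by
    rw [← MulAction.index_stabilizer, hstab]; rfl
  -- divisibility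
  have h1 : ((P : Subgroup G) ⊓ S).relIndex (P : Subgroup G) * (P : Subgroup G).index
      = ((P : Subgroup G) ⊓ S).index := Subgroup.relIndex_mul_index inf_le_left
  have h2 : ((P : Subgroup G) ⊓ S).relIndex S * S.index
      = ((P : Subgroup G) ⊓ S).index := Subgroup.relIndex_mul_index inf_le_right
  have h3 : ((P : Subgroup G) ⊓ S).relIndex (P : Subgroup G) = S.relIndex (P : Subgroup G) := by
    rw [inf_comm, Subgroup.inf_relIndex_right]
  have hdvd : p ^ k ∣ S.relIndex (P : Subgroup G) * (P : Subgroup G).index := by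
    rw [← h3, h1, ← h2, hSidx]; exact dvd_mul_left _ _
  have hcop : Nat.Coprime (p ^ k) (P : Subgroup G).index := by
    apply Nat.Coprime.pow_left
    rw [Nat.Prime.coprime_iff_not_dvd hp]
    exact P.not_dvd_index
  have hdvd' : p ^ k ∣ S.relIndex (P : Subgroup G) := hcop.dvd_of_dvd_mul_right hdvd
  have hle : (MulAction.orbit (P : Subgroup G) ω).ncard ≤ Nat.card Ω := by
    rw [← Set.ncard_univ]
    exact Set.ncard_le_ncard (Set.subset_univ _) Set.finite_univ
  have hpos : 0 < S.relIndex (P : Subgroup G) := by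
    rw [← hcard]
    rw [Set.ncard_pos (Set.toFinite _)]
    exact MulAction.nonempty_orbit ω
  have hge : p ^ k ≤ (MulAction.orbit (P : Subgroup G) ω).ncard := by
    rw [hcard]; exact Nat.le_of_dvd hpos hdvd'
  have heq : (MulAction.orbit (P : Subgroup G) ω).ncard = (Set.univ : Set Ω).ncard := by
    rw [Set.ncard_univ, Nat.card_eq_fintype_card, hΩ]
    rw [Nat.card_eq_fintype_card, hΩ] at hle
    exact le_antisymm hle hge
  exact Set.eq_of_subset_of_ncard_le (Set.subset_univ _) heq.ge Set.finite_univ

/-- If a finite group acts faithfully and transitively on a set with p^k elements, p a prime and k ≥ 1, then some element of order p fixes no point. -/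
theorem result {G Ω : Type*} [Group G] [Finite G] [MulAction G Ω] [FaithfulSMul G Ω] [Fintype Ω] (htr : MulAction.IsPretransitive G Ω)
    (p k : ℕ) (hp : p.Prime) (hk : 1 ≤ k) (hΩ : Fintype.card Ω = p ^ k) :
    ∃ g : G, orderOf g = p ∧ ∀ ω : Ω, g • ω ≠ ω := by
  classical
  have : Fact p.Prime := ⟨hp⟩
  have hcardpos : 0 < Fintype.card Ω := by rw [hΩ]; exact pow_pos hp.pos k
  obtain ⟨ω₀⟩ : Nonempty Ω := Fintype.card_pos_iff.mp hcardpos
  let P : Sylow p G := default
  have horb := sylow_orbit_eq_univ htr p k hΩ P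
  -- P is nontrivial
  have hcard2 : 2 ≤ Fintype.card Ω := by
    rw [hΩ]
    calc 2 ≤ p := hp.two_le
      _ = p ^ 1 := (pow_one p).symm
      _ ≤ p ^ k := Nat.pow_le_pow_right hp.pos hk
  have : Nontrivial Ω := Fintype.one_lt_card_iff_nontrivial.mp hcard2
  obtain ⟨ω₁, hω₁⟩ := exists_ne ω₀
  have : Nontrivial (P : Subgroup G) := by
    have : ω₁ ∈ MulAction.orbit (P : Subgroup G) ω₀ := by rw [horb ω₀]; trivial
    obtain ⟨h, hh⟩ := this
    refine ⟨⟨h, 1, ?_⟩⟩
    rintro rfl
    simp only [one_smul] at hh
    exact hω₁ hh.symm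
  have : Nontrivial (Subgroup.center (P : Subgroup G)) := P.isPGroup'.center_nontrivial
  have hpg : IsPGroup p (Subgroup.center (P : Subgroup G)) :=
    P.isPGroup'.to_subgroup _
  have hdvd : p ∣ Nat.card (Subgroup.center (P : Subgroup G)) := by
    obtain ⟨n, hn⟩ := IsPGroup.iff_card.mp hpg
    have hn0 : n ≠ 0 := by
      rintro rfl
      rw [pow_zero] at hn
      have := Finite.one_lt_card (α := Subgroup.center (P : Subgroup G))
      omega
    rw [hn]
    exact dvd_pow_self p hn0
  obtain ⟨z, hz⟩ := exists_prime_orderOf_dvd_card' p hdvd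
  refine ⟨((z : (P : Subgroup G)) : G), ?_, ?_⟩
  · rw [Subgroup.orderOf_coe, Subgroup.orderOf_coe, hz]
  · intro ω hω
    -- then z fixes everything
    have hall : ∀ ω' : Ω, ((z : (P : Subgroup G)) : G) • ω' = ω' := by
      intro ω'
      have : ω' ∈ MulAction.orbit (P : Subgroup G) ω := by rw [horb ω]; trivial
      obtain ⟨h, rfl⟩ := this
      have hcomm : (z : (P : Subgroup G)) * h = h * (z : (P : Subgroup G)) :=
        ((Subgroup.mem_center_iff.mp z.2) h).symm
      have hcomm' : ((z : (P : Subgroup G)) : G) * (h : G) = (h : G) * ((z : (P : Subgroup G)) : G) := by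
        have := congrArg (fun x : (P : Subgroup G) => (x : G)) hcomm
        simpa using this
      show ((z : (P : Subgroup G)) : G) • ((h : G) • ω) = (h : G) • ω
      rw [smul_smul, hcomm', ← smul_smul, hω]
    have h1 : ((z : (P : Subgroup G)) : G) = 1 := by
      apply FaithfulSMul.eq_of_smul_eq_smul (α := Ω)
      intro a
      rw [hall a, one_smul]
    have h2 : orderOf ((z : (P : Subgroup G)) : G) = p := by
      rw [Subgroup.orderOf_coe, Subgroup.orderOf_coe, hz]
    rw [h1, orderOf_one] at h2
    exact hp.one_lt.ne h2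

end Cfsg.Agent.S5726
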