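import Cfsg.Statements.S5727
import Cfsg.Agent.S5726

set_option autoImplicit false
open Cfsg

namespace Cfsg.Agent.S5727

/-- Orbits of a Sylow `p`-subgroup of a transitive group have size divisible by the `p`-part
of the degree. -/
theorem dvd_orbit_ncard {G Ω : Type*} [Group G] [Finite G] [MulAction G Ω] [Fintype Ω]
    (htr : MulAction.IsPretransitive G Ω)
    (p a : ℕ) [Fact p.Prime] (hΩ : p ^ a ∣ Fintype.card Ω) (P : Sylow p G) (ω : Ω) :
    p ^ a ∣ (MulAction.orbit (P : Subgroup G) ω).ncard := by
  classical
  have hp : p.Prime := Fact.out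
  set S : Subgroup G := MulAction.stabilizer G ω with hS
  have hSidx : S.index = Fintype.card Ω := by
    rw [hS, MulAction.index_stabilizer_of_transitive, Nat.card_eq_fintype_card]
  have hstab : MulAction.stabilizer (P : Subgroup G) ω = S.subgroupOf (P : Subgroup G) := by
    ext x
    simp [hS, Subgroup.mem_subgroupOf, MulAction.mem_stabilizer_iff, Subgroup.smul_def]
  have hcard : (MulAction.orbit (P : Subgroup G) ω).ncard = S.relIndex (P : Subgroup G) := by
    rw [← MulAction.index_stabilizer, hstab]; rfl
  have h1 : ((P : Subgroup G) ⊓ S).relIndex (P : Subgroup G) * (P : Subgroup G).index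
      = ((P : Subgroup G) ⊓ S).index := Subgroup.relIndex_mul_index inf_le_left
  have h2 : ((P : Subgroup G) ⊓ S).relIndex S * S.index
      = ((P : Subgroup G) ⊓ S).index := Subgroup.relIndex_mul_index inf_le_right
  have h3 : ((P : Subgroup G) ⊓ S).relIndex (P : Subgroup G) = S.relIndex (P : Subgroup G) := by
    rw [inf_comm, Subgroup.inf_relIndex_right]
  have hdvd : p ^ a ∣ S.relIndex (P : Subgroup G) * (P : Subgroup G).index := by
    rw [← h3, h1, ← h2, hSidx]; exact Dvd.dvd.mul_left hΩ _
  have hcop : Nat.Coprime (p ^ a) (P : Subgroup G).index := by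
    apply Nat.Coprime.pow_left
    rw [Nat.Prime.coprime_iff_not_dvd hp]
    exact P.not_dvd_index
  rw [hcard]
  exact hcop.dvd_of_dvd_mul_right hdvd

/-- The case `m < p`, phrased for a `p`-group `H` all of whose orbits have size `p`. -/
theorem exists_fixed_point_free {H Ω : Type*} [Group H] [Finite H] [MulAction H Ω] [FaithfulSMul H Ω]
    [Fintype Ω] (p m : ℕ) (hp : p.Prime) (hlt : m < p) (hΩ : Fintype.card Ω = m * p)
    (hm : 1 ≤ m)
    (hH : IsPGroup p H) (horb : ∀ ω : Ω, (MulAction.orbit H ω).ncard = p) :
    ∃ x : H, orderOf x = p ∧ ∀ ω : Ω, x • ω ≠ ω := by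
  classical
  have : Fact p.Prime := ⟨hp⟩
  have : Fintype H := Fintype.ofFinite H
  have hidx : ∀ ω : Ω, (MulAction.stabilizer H ω).index = p := by
    intro ω; rw [MulAction.index_stabilizer, horb]
  have hcardpos : 0 < Fintype.card Ω := by rw [hΩ]; exact Nat.mul_pos hm hp.pos
  obtain ⟨ω₀⟩ : Nonempty Ω := Fintype.card_pos_iff.mp hcardpos
  -- the stabilizers are normal
  have hminFac : (Nat.card H).minFac = p := by
    obtain ⟨n, hn⟩ := IsPGroup.iff_card.mp hH
    have hdvd : p ∣ Nat.card H := by
      rw [← hidx ω₀]; exact Subgroup.index_dvd_card _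
    have hn0 : n ≠ 0 := by
      rintro rfl
      rw [hn, pow_zero] at hdvd
      exact hp.one_lt.ne' (Nat.dvd_one.mp hdvd)
    rw [hn]
    exact hp.pow_minFac hn0
  have hnormal : ∀ ω : Ω, (MulAction.stabilizer H ω).Normal := by
    intro ω
    apply Subgroup.normal_of_index_eq_minFac_card
    rw [hidx, hminFac]
  -- an element with a fixed point fixes at least p points
  have hfix : ∀ x : H, (∃ ω : Ω, x • ω = ω) →
      p ≤ (Finset.univ.filter (fun ω : Ω => x • ω = ω)).card := by
    rintro x ⟨ω, hω⟩
    have hsub : MulAction.orbit H ω ⊆ ((Finset.univ.filter (fun ω : Ω => x • ω = ω) : Finset Ω) : Set Ω) := by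
      rintro _ ⟨h, rfl⟩
      simp only [Finset.coe_filter, Finset.mem_univ, true_and, Set.mem_ofPred_eq]
      have hx : x ∈ MulAction.stabilizer H ω := hω
      have := (hnormal ω).conj_mem x hx h⁻¹
      rw [MulAction.mem_stabilizer_iff] at this
      simp only [inv_inv] at this
      show x • h • ω = h • ω
      calc x • h • ω = h • ((h⁻¹ * x * h) • ω) := by simp [mul_smul]
        _ = h • ω := by rw [this]
    have := Set.ncard_le_ncard hsub (Finset.finite_toSet _)
    rw [horb, Set.ncard_coe_finset] at this
    exact this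
  -- each stabilizer has |H|/p elements
  have hstabcard : ∀ ω : Ω, (Finset.univ.filter (fun x : H => x • ω = ω)).card * p = Fintype.card H := by
    intro ω
    have h1 := Subgroup.card_mul_index (MulAction.stabilizer H ω)
    rw [hidx, Nat.card_eq_fintype_card, Nat.card_eq_fintype_card] at h1
    rw [← h1]
    congr 1
    rw [Fintype.card_subtype]
    congr 1
  -- double counting
  have hdc : ∑ x : H, (Finset.univ.filter (fun ω : Ω => x • ω = ω)).card
      = ∑ ω : Ω, (Finset.univ.filter (fun x : H => x • ω = ω)).card := by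
    simp only [Finset.card_filter]
    exact Finset.sum_comm
  by_contra hcon
  push Not at hcon
  -- first: any fixed point free x has order p
  have hord : ∀ x : H, (∀ ω : Ω, x • ω ≠ ω) → orderOf x = p := by
    intro x hx
    have hxp : x ^ p = 1 := by
      apply FaithfulSMul.eq_of_smul_eq_smul (α := Ω)
      intro ω
      rw [one_smul]
      have := (hnormal ω)
      have h := Subgroup.pow_index_mem (MulAction.stabilizer H ω) x
      rw [hidx] at h
      exact h
    have hx1 : x ≠ 1 := by
      rintro rfl
      exact hx ω₀ (one_smul _ _)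
    exact orderOf_eq_prime hxp hx1
  have hall : ∀ x : H, ∃ ω : Ω, x • ω = ω := by
    intro x
    by_contra hx
    push Not at hx
    obtain ⟨ω, hω⟩ := hcon x (hord x hx)
    exact hx ω hω
  have h1 : Fintype.card H * p ≤ ∑ x : H, (Finset.univ.filter (fun ω : Ω => x • ω = ω)).card := by
    calc Fintype.card H * p = ∑ _x : H, p := by simp [Finset.sum_const, Finset.card_univ]
      _ ≤ _ := Finset.sum_le_sum (fun x _ => hfix x (hall x))
  have h2 : (∑ ω : Ω, (Finset.univ.filter (fun x : H => x • ω = ω)).card) * p
      = Fintype.card Ω * Fintype.card H := by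
    rw [Finset.sum_mul]
    simp only [hstabcard, Finset.sum_const, Finset.card_univ, smul_eq_mul]
  rw [hdc] at h1
  have h3 : Fintype.card H * p * p ≤ m * p * Fintype.card H := by
    calc Fintype.card H * p * p ≤ (∑ ω : Ω, (Finset.univ.filter (fun x : H => x • ω = ω)).card) * p :=
          Nat.mul_le_mul_right p h1
      _ = m * p * Fintype.card H := by rw [h2, hΩ]
  have hHpos : 0 < Fintype.card H := Fintype.card_pos
  have h4 : Fintype.card H * p * p = (p * (Fintype.card H * p)) := by ring
  have h5 : m * p * Fintype.card H = m * (Fintype.card H * p) := by ring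
  rw [h4, h5] at h3
  have := Nat.le_of_mul_le_mul_right h3 (Nat.mul_pos hHpos hp.pos)
  omega


/-- If a finite group acts faithfully and transitively on a set with m·p elements, where p is a prime and 1 ≤ m ≤ p, then some element of order p fixes no point. -/
theorem result {G Ω : Type*} [Group G] [Finite G] [MulAction G Ω] [FaithfulSMul G Ω] [Fintype Ω] (htr : MulAction.IsPretransitive G Ω)
    (p m : ℕ) (hp : p.Prime) (hm : 1 ≤ m) (hmp : m ≤ p) (hΩ : Fintype.card Ω = m * p) :
    ∃ g : G, orderOf g = p ∧ ∀ ω : Ω, g • ω ≠ ω := by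
  classical
  have : Fact p.Prime := ⟨hp⟩
  rcases hmp.eq_or_lt with heq | hlt
  · subst heq
    exact Cfsg.Agent.S5726.result htr m 2 hp (by norm_num) (by rw [hΩ, sq])
  · let P : Sylow p G := default
    have horb : ∀ ω : Ω, (MulAction.orbit (P : Subgroup G) ω).ncard = p := by
      intro ω
      have h1 : p ∣ (MulAction.orbit (P : Subgroup G) ω).ncard := by
        have := dvd_orbit_ncard htr p 1 (by rw [hΩ, pow_one]; exact dvd_mul_left _ _) P ω
        rwa [pow_one] at this
      obtain ⟨n, hn⟩ := P.isPGroup'.card_orbit ω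
      rw [Nat.card_coe_set_eq] at hn
      have hle : (MulAction.orbit (P : Subgroup G) ω).ncard ≤ m * p := by
        rw [← hΩ, ← Nat.card_eq_fintype_card, ← Set.ncard_univ]
        exact Set.ncard_le_ncard (Set.subset_univ _) Set.finite_univ
      rw [hn] at h1 hle ⊢
      have hn0 : n ≠ 0 := by
        rintro rfl
        rw [pow_zero] at h1
        exact hp.one_lt.ne' (Nat.dvd_one.mp h1)
      have hn2 : n < 2 := by
        by_contra hcon
        push Not at hcon
        have : p ^ 2 ≤ p ^ n := Nat.pow_le_pow_right hp.pos hcon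
        have h3 : m * p < p * p := Nat.mul_lt_mul_of_pos_right hlt hp.pos
        rw [sq] at this
        omega
      have : n = 1 := by omega
      rw [this, pow_one]
    obtain ⟨x, hx, hfix⟩ := exists_fixed_point_free (H := (P : Subgroup G)) (Ω := Ω) p m hp hlt hΩ hm
      P.isPGroup' horb
    refine ⟨(x : G), ?_, fun ω => hfix ω⟩
    rw [Subgroup.orderOf_coe, hx]

end Cfsg.Agent.S5727
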