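import Cfsg.Statements.S5728
-- import your own Cfsg.Agent.* helpers here

set_option autoImplicit false
open Cfsg

namespace Cfsg.Agent.S5728

/-- Arithmetic: a prime `ℓ` dividing `p ^ 2 - 1` with `p = 2 ^ s - 1` prime divides `p - 1`. -/
theorem prime_dvd_pred (p s ℓ : ℕ) (hp : p.Prime) (hs : p = 2 ^ s - 1) (hℓ : ℓ.Prime)
    (hdvd : ℓ ∣ p ^ 2 - 1) : ℓ ∣ p - 1 := by
  have hp2 : 2 ≤ p := hp.two_le
  have hpow : 2 ^ s = p + 1 := by
    have : 1 ≤ 2 ^ s := Nat.one_le_two_pow
    omega
  have hs0 : s ≠ 0 := by
    rintro rfl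
    simp at hpow
    omega
  have hodd : 2 ∣ p - 1 := by
    obtain ⟨t, rfl⟩ := Nat.exists_eq_succ_of_ne_zero hs0
    rw [pow_succ] at hpow
    omega
  have hfac : p ^ 2 - 1 = (p - 1) * 2 ^ s := by
    rw [hpow]
    obtain ⟨k, rfl⟩ : ∃ k, p = k + 1 := ⟨p - 1, by omega⟩
    simp only [Nat.add_sub_cancel]
    have : (k + 1) ^ 2 = k * (k + 1 + 1) + 1 := by ring
    rw [this, Nat.add_sub_cancel]
  rw [hfac] at hdvd
  rcases (Nat.Prime.dvd_mul hℓ).mp hdvd with h | h
  · exact h
  · have h2 : ℓ ∣ 2 := hℓ.dvd_of_dvd_pow h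
    exact h2.trans hodd


/-- An elusive transitive action. Let p = 2^s − 1 be a prime and let F be the field with p² elements. Inside the group of affine maps x ↦ a·x + b of F (a ≠ 0), consider the subgroup of maps with both coefficients in the prime field. Then every element of prime order of the affine group is conjugate, within the affine group, to an element of that subgroup; equivalently, in the transitive action of the affine group on the cosets of that subgroup (of degree p(p + 1)) every element of prime order fixes a point. -/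
theorem result (p s : ℕ) [Fact p.Prime] (hs : p = 2 ^ s - 1)
    (g : Equiv.Perm (GaloisField p 2)) (hg : g ∈ Cfsg.affineGroup (GaloisField p 2)) (hord : (orderOf g).Prime) :
    ∃ x ∈ Cfsg.affineGroup (GaloisField p 2), ∃ a b : ZMod p, a ≠ 0 ∧
      ∀ y : GaloisField p 2, (x * g * x⁻¹) y = algebraMap (ZMod p) (GaloisField p 2) a * y + algebraMap (ZMod p) (GaloisField p 2) b := by
  classical
  have hp : p.Prime := Fact.out
  change ∃ c : (GaloisField p 2)ˣ, ∃ d : GaloisField p 2, ∀ y, g y = (c : GaloisField p 2) * y + d at hg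
  obtain ⟨c, d, hcd⟩ := hg
  by_cases hc1 : c = 1
  · -- translation
    subst hc1
    have hd0 : d ≠ 0 := by
      rintro rfl
      have : g = 1 := by
        ext y
        rw [hcd]; simp
      rw [this, orderOf_one] at hord
      exact Nat.not_prime_one hord
    refine ⟨Equiv.mulLeft₀ d⁻¹ (inv_ne_zero hd0), ⟨Units.mk0 d⁻¹ (inv_ne_zero hd0), 0, fun y => by simp⟩,
      1, 1, one_ne_zero, fun y => ?_⟩
    have hinv : (Equiv.mulLeft₀ d⁻¹ (inv_ne_zero hd0))⁻¹ y = d * y := by
      rw [Equiv.Perm.inv_eq_iff_eq]
      simp [hd0]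
    rw [Equiv.Perm.mul_apply, Equiv.Perm.mul_apply, hinv, hcd]
    simp only [Units.val_one, one_mul, Equiv.mulLeft₀_apply, map_one]
    field_simp
  · -- fixed point
    have hc1' : (c : GaloisField p 2) ≠ 1 := fun h => hc1 (Units.ext h)
    have h1c : (1 : GaloisField p 2) - c ≠ 0 := sub_ne_zero.mpr (Ne.symm hc1')
    set y₀ : GaloisField p 2 := d / (1 - c) with hy₀
    have hfix : (c : GaloisField p 2) * y₀ + d = y₀ := by
      rw [hy₀]; field_simp; ring
    let x : Equiv.Perm (GaloisField p 2) := Equiv.addRight (-y₀)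
    have hxinv : ∀ y, x⁻¹ y = y + y₀ := by
      intro y
      rw [Equiv.Perm.inv_eq_iff_eq]
      simp [x]
    have hconj : ∀ y, (x * g * x⁻¹) y = (c : GaloisField p 2) * y := by
      intro y
      rw [Equiv.Perm.mul_apply, Equiv.Perm.mul_apply, hxinv, hcd]
      simp only [x, Equiv.coe_addRight]
      linear_combination hfix
    have hpow : ∀ (k : ℕ) (y : GaloisField p 2), ((x * g * x⁻¹) ^ k) y = (c : GaloisField p 2) ^ k * y := by
      intro k
      induction k with
      | zero => intro y; simp
      | succ k ih =>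
        intro y
        rw [pow_succ, Equiv.Perm.mul_apply, hconj, ih, pow_succ]
        ring
    have hcl : (c : GaloisField p 2) ^ orderOf g = 1 := by
      have h1 := hpow (orderOf g) 1
      rw [conj_pow, pow_orderOf_eq_one, mul_one, mul_inv_cancel] at h1
      simpa using h1.symm
    have hcl' : c ^ orderOf g = 1 := Units.ext (by simpa using hcl)
    have hord_c : orderOf c = orderOf g := by
      have hdvd : orderOf c ∣ orderOf g := orderOf_dvd_of_pow_eq_one hcl'
      rcases (Nat.dvd_prime hord).mp hdvd with h | h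
      · exact absurd (orderOf_eq_one_iff.mp h) hc1
      · exact h
    have hcardK : Nat.card (GaloisField p 2)ˣ = p ^ 2 - 1 := by
      rw [Nat.card_units, GaloisField.card p 2 (by norm_num)]
    have hdvd1 : orderOf g ∣ p ^ 2 - 1 := by
      rw [← hord_c, ← hcardK]
      exact orderOf_dvd_natCard c
    have hdvd2 : orderOf g ∣ p - 1 := prime_dvd_pred p s (orderOf g) hp hs hord hdvd1
    have hcp1 : (c : GaloisField p 2) ^ (p - 1) = 1 := by
      obtain ⟨t, ht⟩ := hdvd2
      rw [ht, pow_mul, hcl, one_pow]
    have hcp : (c : GaloisField p 2) ^ p = c := by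
      have h2 : (c : GaloisField p 2) ^ ((p - 1) + 1) = c := by rw [pow_succ, hcp1, one_mul]
      have h3 : (p - 1) + 1 = p := by have := hp.two_le; omega
      rw [h3] at h2
      exact h2
    have hbot : (c : GaloisField p 2) ∈ (⊥ : Subfield (GaloisField p 2)) :=
      (Subfield.mem_bot_iff_pow_eq_self (GaloisField p 2) p).mpr hcp
    obtain ⟨m, hm⟩ := (mem_bot_iff_intCast p (GaloisField p 2)).mp hbot
    refine ⟨x, ⟨1, -y₀, fun y => by simp [x]⟩, (m : ZMod p), 0, ?_, fun y => ?_⟩
    · intro h0
      have : (c : GaloisField p 2) = 0 := by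
        rw [← hm]
        have := congrArg (algebraMap (ZMod p) (GaloisField p 2)) h0
        simpa using this
      exact c.ne_zero this
    · rw [hconj, map_zero, add_zero, map_intCast, hm]

end Cfsg.Agent.S5728
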