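import Cfsg.Statements.S5729
-- import your own Cfsg.Agent.* helpers here

set_option autoImplicit false
open Cfsg

namespace Cfsg.Agent.S5729

open scoped Classical in
/-- Number of fixed points, as a finset cardinality. -/
noncomputable def fixCount {G Ω : Type*} [Group G] [MulAction G Ω] [Fintype Ω] (g : G) : ℕ :=
  (Finset.univ.filter (fun ω : Ω => g • ω = ω)).card

open scoped Classical in
theorem card_fixedBy_eq {G Ω : Type*} [Group G] [MulAction G Ω] [Fintype Ω] (g : G)
    [Fintype (MulAction.fixedBy Ω g)] :
    Fintype.card (MulAction.fixedBy Ω g) = fixCount (Ω := Ω) g := by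
  unfold fixCount
  apply Fintype.card_of_subtype
  intro x
  simp [MulAction.mem_fixedBy]

open scoped Classical in
theorem card_fixedBy_prod_eq {G Ω : Type*} [Group G] [MulAction G Ω] [Fintype Ω] (g : G)
    [Fintype (MulAction.fixedBy (Ω × Ω) g)] :
    Fintype.card (MulAction.fixedBy (Ω × Ω) g) = fixCount (Ω := Ω) g ^ 2 := by
  unfold fixCount
  rw [sq, ← Finset.card_product]
  apply Fintype.card_of_subtype
  intro x
  simp [MulAction.mem_fixedBy, Prod.ext_iff]

open scoped Classical in
/-- Burnside on `Ω`. -/
theorem sum_fixCount {G Ω : Type*} [Group G] [Fintype G] [MulAction G Ω] [Fintype Ω]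
    (htr : MulAction.IsPretransitive G Ω) (hne : Nonempty Ω) :
    ∑ g : G, fixCount (Ω := Ω) g = Fintype.card G := by
  have h := MulAction.sum_card_fixedBy_eq_card_orbits_mul_card_group G Ω
  have hsub : Subsingleton (MulAction.orbitRel.Quotient G Ω) :=
    (MulAction.pretransitive_iff_subsingleton_quotient G Ω).mp htr
  have hone : Fintype.card (Quotient (MulAction.orbitRel G Ω)) = 1 := by
    rw [Fintype.card_eq_one_iff]
    obtain ⟨ω⟩ := hne
    exact ⟨Quotient.mk _ ω, fun y => hsub.elim _ _⟩
  rw [hone, one_mul] at h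
  rw [← h]
  apply Finset.sum_congr rfl
  intro g _
  rw [card_fixedBy_eq]

open scoped Classical in
/-- Burnside on `Ω × Ω`: at least two orbits. -/
theorem two_mul_card_le_sum_sq {G Ω : Type*} [Group G] [Fintype G] [MulAction G Ω] [Fintype Ω]
    (hn : 2 ≤ Fintype.card Ω) :
    2 * Fintype.card G ≤ ∑ g : G, fixCount (Ω := Ω) g ^ 2 := by
  have h := MulAction.sum_card_fixedBy_eq_card_orbits_mul_card_group G (Ω × Ω)
  have htwo : 2 ≤ Fintype.card (Quotient (MulAction.orbitRel G (Ω × Ω))) := by
    have : Nontrivial Ω := Fintype.one_lt_card_iff_nontrivial.mp hn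
    obtain ⟨α, β, hαβ⟩ := exists_pair_ne Ω
    have hnt : Nontrivial (Quotient (MulAction.orbitRel G (Ω × Ω))) := by
      refine ⟨⟨Quotient.mk _ (α, α), Quotient.mk _ (α, β), ?_⟩⟩
      intro heq
      have hrel := Quotient.exact heq
      change (α, α) ∈ MulAction.orbit G (α, β) at hrel
      obtain ⟨g, hg⟩ := hrel
      simp only [Prod.smul_mk, Prod.mk.injEq] at hg
      apply hαβ
      have : g • α = g • β := by rw [hg.1, hg.2]
      exact (MulAction.injective g this)
    exact Fintype.one_lt_card_iff_nontrivial.mpr hnt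
  calc 2 * Fintype.card G ≤ Fintype.card (Quotient (MulAction.orbitRel G (Ω × Ω))) * Fintype.card G :=
        Nat.mul_le_mul_right _ htwo
    _ = ∑ g : G, Fintype.card (MulAction.fixedBy (Ω × Ω) g) := h.symm
    _ = ∑ g : G, fixCount (Ω := Ω) g ^ 2 := by
        apply Finset.sum_congr rfl
        intro g _
        rw [card_fixedBy_prod_eq]

theorem termwise (n f : ℕ) (hf : f ≤ n) :
    f ^ 2 + n ≤ n * (if f = 0 then 1 else 0) + (n + 1) * f := by
  by_cases h0 : f = 0
  · subst h0; simp
  · rw [if_neg h0]
    obtain ⟨a, rfl⟩ : ∃ a, f = 1 + a := ⟨f - 1, by omega⟩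
    obtain ⟨b, rfl⟩ : ∃ b, n = 1 + a + b := ⟨n - (1 + a), by omega⟩
    nlinarith [Nat.zero_le (a * b)]

theorem termwise_eq (n f : ℕ) (hf : f ≤ n) (h0 : f ≠ 0)
    (h : f ^ 2 + n = n * (if f = 0 then 1 else 0) + (n + 1) * f) : f = 1 ∨ f = n := by
  rw [if_neg h0] at h
  obtain ⟨a, rfl⟩ : ∃ a, f = 1 + a := ⟨f - 1, by omega⟩
  obtain ⟨b, rfl⟩ : ∃ b, n = 1 + a + b := ⟨n - (1 + a), by omega⟩
  have hab : a * b = 0 := by nlinarith
  rcases Nat.mul_eq_zero.mp hab with h | h
  · left; omega
  · right; omega


/-- Let a finite group G act faithfully and transitively on a set with n ≥ 3 points. Then either G is a Frobenius permutation group (Frobenius as a permutation group: transitive, some non-identity element fixes a point, and no non-identity element fixes two points) of order n(n − 1) and exactly |G|/n of its elements are derangements (fix no point), or the number of derangements is greater than |G|/n. -/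
theorem result {G Ω : Type*} [Group G] [Finite G] [MulAction G Ω] [FaithfulSMul G Ω] [Fintype Ω] (htr : MulAction.IsPretransitive G Ω) (hn : 3 ≤ Fintype.card Ω) :
    ((MulAction.IsPretransitive G Ω ∧ (∃ g : G, g ≠ 1 ∧ ∃ ω : Ω, g • ω = ω) ∧ ∀ g : G, g ≠ 1 → Nat.card (MulAction.fixedBy Ω g) ≤ 1) ∧ Nat.card G = Fintype.card Ω * (Fintype.card Ω - 1) ∧ Fintype.card Ω * Nat.card {g : G // ∀ ω : Ω, g • ω ≠ ω} = Nat.card G) ∨
    Nat.card G < Fintype.card Ω * Nat.card {g : G // ∀ ω : Ω, g • ω ≠ ω} := by
  classical
  have : Fintype G := Fintype.ofFinite G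
  set n := Fintype.card Ω with hn_def
  have hnpos : 0 < n := by omega
  have hne : Nonempty Ω := Fintype.card_pos_iff.mp hnpos
  let f : G → ℕ := fun g => fixCount (Ω := Ω) g
  have hfle : ∀ g, f g ≤ n := fun g => by
    show (Finset.univ.filter (fun ω : Ω => g • ω = ω)).card ≤ Fintype.card Ω
    exact Finset.card_le_univ _
  have hS1 : ∑ g : G, f g = Fintype.card G := sum_fixCount htr hne
  have hS2 : 2 * Fintype.card G ≤ ∑ g : G, f g ^ 2 := two_mul_card_le_sum_sq (by omega)
  -- the number of derangements
  have hD : Nat.card {g : G // ∀ ω : Ω, g • ω ≠ ω} = ∑ g : G, (if f g = 0 then 1 else 0) := by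
    rw [Nat.card_eq_fintype_card, Fintype.card_subtype, Finset.card_filter]
    apply Finset.sum_congr rfl
    intro g _
    have : (∀ ω : Ω, g • ω ≠ ω) ↔ f g = 0 := by
      show _ ↔ (Finset.univ.filter (fun ω : Ω => g • ω = ω)).card = 0
      rw [Finset.card_eq_zero, Finset.filter_eq_empty_iff]
      simp
    simp only [this]
  set d := Nat.card {g : G // ∀ ω : Ω, g • ω ≠ ω} with hd_def
  have hG : Nat.card G = Fintype.card G := Nat.card_eq_fintype_card
  -- main inequality
  have hterm : ∀ g ∈ (Finset.univ : Finset G),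
      f g ^ 2 + n ≤ n * (if f g = 0 then 1 else 0) + (n + 1) * f g :=
    fun g _ => termwise n (f g) (hfle g)
  have hsum := Finset.sum_le_sum hterm
  have hL : ∑ g : G, (n * (if f g = 0 then 1 else 0) + (n + 1) * f g)
      = n * d + (n + 1) * Fintype.card G := by
    rw [Finset.sum_add_distrib, ← Finset.mul_sum, ← Finset.mul_sum, hS1, ← hD]
  have hR : ∑ g : G, (f g ^ 2 + n) = (∑ g : G, f g ^ 2) + n * Fintype.card G := by
    rw [Finset.sum_add_distrib]
    simp [Finset.sum_const, Finset.card_univ, mul_comm]
  rw [hL, hR] at hsum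
  have hmain : Fintype.card G ≤ n * d := by nlinarith
  rcases hmain.lt_or_eq with hlt | heq
  · right
    rw [hG]; exact hlt
  · left
    -- equality everywhere
    have hS2eq : ∑ g : G, f g ^ 2 = 2 * Fintype.card G := by nlinarith
    have hsumeq : ∑ g : G, (f g ^ 2 + n) = ∑ g : G, (n * (if f g = 0 then 1 else 0) + (n + 1) * f g) := by
      rw [hL, hR, hS2eq, ← heq]; ring
    have hteq := (Finset.sum_eq_sum_iff_of_le hterm).mp hsumeq
    have hf1 : ∀ g : G, g ≠ 1 → f g ≤ 1 := by
      intro g hg
      by_cases h0 : f g = 0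
      · omega
      · rcases termwise_eq n (f g) (hfle g) h0 (hteq g (Finset.mem_univ g)) with h | h
        · omega
        · exfalso
          apply hg
          have huniv : Finset.univ.filter (fun ω : Ω => g • ω = ω) = Finset.univ := by
            apply Finset.eq_univ_of_card
            exact h
          apply FaithfulSMul.eq_of_smul_eq_smul (α := Ω)
          intro ω
          rw [one_smul]
          have : ω ∈ Finset.univ.filter (fun ω : Ω => g • ω = ω) := by rw [huniv]; exact Finset.mem_univ _
          exact (Finset.mem_filter.mp this).2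
    have hfone : f 1 = n := by
      show (Finset.univ.filter (fun ω : Ω => (1 : G) • ω = ω)).card = Fintype.card Ω
      simp
    have hcardG : Fintype.card G = n * (n - 1) := by
      have hsq : ∑ g : G, f g ^ 2 = ∑ g : G, (f g + (if g = 1 then n * n - n else 0)) := by
        apply Finset.sum_congr rfl
        intro g _
        by_cases hg : g = 1
        · subst hg
          rw [if_pos rfl, hfone]
          have : n ≤ n * n := Nat.le_mul_self n
          rw [sq]; omega
        · rw [if_neg hg]
          have := hf1 g hg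
          interval_cases h : f g <;> simp
      rw [Finset.sum_add_distrib, hS1, Finset.sum_ite_eq' Finset.univ (1 : G)] at hsq
      simp only [Finset.mem_univ, if_true] at hsq
      rw [hS2eq] at hsq
      rw [Nat.mul_sub_one]
      omega
    refine ⟨⟨htr, ?_, ?_⟩, ?_, ?_⟩
    · by_contra hcon
      push Not at hcon
      have hzero : ∀ g : G, g ≠ 1 → f g = 0 := by
        intro g hg
        show (Finset.univ.filter (fun ω : Ω => g • ω = ω)).card = 0
        rw [Finset.card_eq_zero, Finset.filter_eq_empty_iff]
        intro ω _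
        exact hcon g hg ω
      have hsum1 : ∑ g : G, f g = n := by
        rw [Finset.sum_eq_single (1 : G)]
        · exact hfone
        · intro g _ hg; exact hzero g hg
        · intro h; exact absurd (Finset.mem_univ _) h
      rw [hS1, hcardG] at hsum1
      have : n - 1 = 1 := by
        have h2 : n * (n - 1) = n * 1 := by rw [hsum1, mul_one]
        exact Nat.eq_of_mul_eq_mul_left hnpos h2
      omega
    · intro g hg
      have := hf1 g hg
      have hcard : Nat.card (MulAction.fixedBy Ω g) = f g := by
        rw [Nat.card_eq_fintype_card]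
        exact card_fixedBy_eq g
      rw [hcard]; exact this
    · rw [hG]; exact hcardG
    · rw [hG]; exact heq.symm

end Cfsg.Agent.S5729
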