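import Cfsg.Statements.S5738
-- import your own Cfsg.Agent.* helpers here

set_option autoImplicit false
open Cfsg

namespace Cfsg.Agent.S5738

section
variable (F K : Type*) [Field F] [Field K] [Algebra F K]

/-- The Singer group: multiplications by non-zero elements of `K`. -/
noncomputable def singer : Subgroup (Module.End F K)ˣ :=
  (Units.map ((Algebra.lmul F K : K →ₐ[F] Module.End F K) : K →* Module.End F K)).range

variable {F K}

theorem mem_singer_iff (u : (Module.End F K)ˣ) :
    u ∈ singer F K ↔ ∃ c : Kˣ, ∀ x : K, (u : Module.End F K) x = c * x := by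
  constructor
  · rintro ⟨c, rfl⟩
    exact ⟨c, fun x => by simp⟩
  · rintro ⟨c, hc⟩
    refine ⟨c, ?_⟩
    apply Units.ext
    apply LinearMap.ext
    intro x
    rw [hc x]
    simp

/-- The semilinear maps `x ↦ a * σ x`. -/
noncomputable def semi (p : Kˣ × (K ≃ₐ[F] K)) : (Module.End F K)ˣ :=
  Units.map ((Algebra.lmul F K : K →ₐ[F] Module.End F K) : K →* Module.End F K) p.1 *
    LinearMap.GeneralLinearGroup.ofLinearEquiv p.2.toLinearEquiv

theorem semi_apply (p : Kˣ × (K ≃ₐ[F] K)) (x : K) :
    (semi p : Module.End F K) x = p.1 * p.2 x := by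
  simp [semi, LinearMap.GeneralLinearGroup.ofLinearEquiv]

theorem semi_injective : Function.Injective (semi (F := F) (K := K)) := by
  rintro ⟨a, σ⟩ ⟨b, τ⟩ h
  have h' : ∀ x : K, (a : K) * σ x = b * τ x := by
    intro x
    rw [← semi_apply (a, σ), ← semi_apply (b, τ), h]
  have hab : a = b := by
    apply Units.ext
    have := h' 1
    simpa using this
  subst hab
  have hστ : σ = τ := by
    apply AlgEquiv.ext
    intro x
    exact mul_left_cancel₀ a.ne_zero (h' x)
  rw [hστ]

theorem semi_mem_normalizer [Finite K] (p : Kˣ × (K ≃ₐ[F] K)) :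
    semi p ∈ Subgroup.normalizer ((singer F K : Subgroup (Module.End F K)ˣ) : Set (Module.End F K)ˣ) := by
  have : Finite ((singer F K : Subgroup (Module.End F K)ˣ) : Set (Module.End F K)ˣ) := by
    have : Finite (Module.End F K)ˣ := by
      have : Finite (Module.End F K) := Finite.of_injective (fun f : Module.End F K => (f : K → K))
        DFunLike.coe_injective
      infer_instance
    exact Finite.of_injective (fun x => (x : (Module.End F K)ˣ)) Subtype.val_injective
  apply Subgroup.mem_normalizer_fintype
  intro m hm
  rw [SetLike.mem_coe, mem_singer_iff] at hm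
  obtain ⟨c, hc⟩ := hm
  rw [SetLike.mem_coe, mem_singer_iff]
  refine ⟨Units.map (p.2 : K →* K) c, ?_⟩
  -- show semi p * m = m' * semi p
  have key : semi p * m = Units.map ((Algebra.lmul F K : K →ₐ[F] Module.End F K) : K →* Module.End F K)
      (Units.map (p.2 : K →* K) c) * semi p := by
    apply Units.ext
    apply LinearMap.ext
    intro x
    simp only [Units.val_mul, Module.End.mul_apply, semi_apply, hc]
    simp only [Units.coe_map, MonoidHom.coe_coe, map_mul]
    simp
    ring
  intro x
  rw [key, mul_inv_cancel_right]
  simp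

theorem exists_of_mem_normalizer [Finite K] (g : (Module.End F K)ˣ)
    (hg : g ∈ Subgroup.normalizer ((singer F K : Subgroup (Module.End F K)ˣ) : Set (Module.End F K)ˣ)) :
    ∃ p : Kˣ × (K ≃ₐ[F] K), semi p = g := by
  set b : K := (g : Module.End F K) 1 with hb
  have hginj : Function.Injective (g : Module.End F K) := by
    intro x y hxy
    have := congrArg ((g⁻¹ : (Module.End F K)ˣ) : Module.End F K) hxy
    simpa [← Module.End.mul_apply, ← Units.val_mul] using this
  have hb0 : b ≠ 0 := by
    intro h
    have : (g : Module.End F K) 1 = (g : Module.End F K) 0 := by rw [map_zero]; exact h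
    exact one_ne_zero (hginj this)
  -- multiplicativity
  have hmul : ∀ c y : K, (g : Module.End F K) (c * y) = (g : Module.End F K) c * b⁻¹ * (g : Module.End F K) y := by
    intro c y
    by_cases hc0 : c = 0
    · subst hc0; simp
    · have h1 := (Subgroup.mem_set_normalizer_iff.mp hg
        (Units.map ((Algebra.lmul F K : K →ₐ[F] Module.End F K) : K →* Module.End F K) (Units.mk0 c hc0))).mp
        ⟨Units.mk0 c hc0, rfl⟩
      rw [SetLike.mem_coe, mem_singer_iff] at h1
      obtain ⟨c', hc'⟩ := h1
      have h2 : ∀ y : K, (g : Module.End F K) (c * y) = c' * (g : Module.End F K) y := by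
        intro y
        have := hc' ((g : Module.End F K) y)
        simp only [Units.val_mul, Module.End.mul_apply] at this
        rw [← this]
        simp [← Module.End.mul_apply, ← Units.val_mul]
      have h3 : (g : Module.End F K) c = c' * b := by
        have := h2 1
        rwa [mul_one] at this
      rw [h2 y, h3]
      field_simp
  -- the linear equivalence x ↦ b⁻¹ * g x
  let hlin : K ≃ₗ[F] K :=
    LinearMap.GeneralLinearGroup.toLinearEquiv
      ((Units.map ((Algebra.lmul F K : K →ₐ[F] Module.End F K) : K →* Module.End F K) (Units.mk0 b hb0))⁻¹ * g)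
  have hlin_apply : ∀ x : K, hlin x = b⁻¹ * (g : Module.End F K) x := by
    intro x
    show ((((Units.map ((Algebra.lmul F K : K →ₐ[F] Module.End F K) : K →* Module.End F K) (Units.mk0 b hb0))⁻¹ * g :
      (Module.End F K)ˣ)) : Module.End F K) x = _
    rw [← map_inv]
    simp
  let σ : K ≃ₐ[F] K := AlgEquiv.ofLinearEquiv hlin
    (by rw [hlin_apply, ← hb]; exact inv_mul_cancel₀ hb0)
    (by
      intro x y
      rw [hlin_apply, hlin_apply, hlin_apply, hmul]
      ring)
  refine ⟨(Units.mk0 b hb0, σ), ?_⟩
  apply Units.ext
  apply LinearMap.ext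
  intro x
  rw [semi_apply]
  show b * hlin x = _
  rw [hlin_apply, ← mul_assoc, mul_inv_cancel₀ hb0, one_mul]

end


/-- Let F ⊆ K be finite fields with |F| = q and [K : F] = n ≥ 2, so |K| = q^n. Regard K as an n-dimensional F-vector space; the multiplications by non-zero elements of K form a cyclic subgroup of GL_F(K) of order q^n − 1 acting regularly on the non-zero vectors (a Singer group). Its normaliser in GL_F(K) has order n·(q^n − 1). -/
theorem result {F K : Type*} [Field F] [Fintype F] [Field K] [Fintype K] [Algebra F K] (n : ℕ) (hn : 2 ≤ n) (hdim : Module.finrank F K = n) :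
    Nat.card (Subgroup.normalizer (((Units.map ((Algebra.lmul F K : K →ₐ[F] Module.End F K) : K →* Module.End F K)).range : Subgroup (Module.End F K)ˣ) : Set (Module.End F K)ˣ)) = n * (Fintype.card K - 1) := by
  classical
  show Nat.card (Subgroup.normalizer ((singer F K : Subgroup (Module.End F K)ˣ) : Set (Module.End F K)ˣ)) = _
  have hrange : (Subgroup.normalizer ((singer F K : Subgroup (Module.End F K)ˣ) : Set (Module.End F K)ˣ) : Set (Module.End F K)ˣ)
      = Set.range (semi (F := F) (K := K)) := by
    ext g
    constructor
    · intro hg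
      exact exists_of_mem_normalizer g hg
    · rintro ⟨p, rfl⟩
      exact semi_mem_normalizer p
  have h1 : Nat.card (Subgroup.normalizer ((singer F K : Subgroup (Module.End F K)ˣ) : Set (Module.End F K)ˣ))
      = Nat.card (Set.range (semi (F := F) (K := K))) := by
    rw [← hrange]
    rfl
  rw [h1, Nat.card_range_of_injective semi_injective, Nat.card_prod, Nat.card_units,
    IsGalois.card_aut_eq_finrank, hdim, Nat.card_eq_fintype_card, mul_comm]

end Cfsg.Agent.S5738
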