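import Cfsg.Statements.S5739
import Cfsg.Agent.S5738

set_option autoImplicit false
open Cfsg

namespace Cfsg.Agent.S5739

open Cfsg.Agent.S5738 in
section
variable {F K : Type*} [Field F] [Field K] [Algebra F K]

/-- The elements `x` of `K` such that `L_x ∘ g = g ∘ L_y` for some `y`. -/
def twistAlg (g : (Module.End F K)ˣ) : Subalgebra F K where
  carrier := {x | ∃ y : K, ∀ z : K, x * (g : Module.End F K) z = (g : Module.End F K) (y * z)}
  mul_mem' := by
    rintro x x' ⟨y, hy⟩ ⟨y', hy'⟩
    refine ⟨y * y', fun z => ?_⟩
    rw [mul_assoc, hy', hy, mul_assoc]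
  one_mem' := ⟨1, fun z => by simp⟩
  add_mem' := by
    rintro x x' ⟨y, hy⟩ ⟨y', hy'⟩
    refine ⟨y + y', fun z => ?_⟩
    rw [add_mul, hy, hy', add_mul, map_add]
  zero_mem' := ⟨0, fun z => by simp⟩
  algebraMap_mem' := by
    intro r
    refine ⟨algebraMap F K r, fun z => ?_⟩
    rw [← Algebra.smul_def, ← Algebra.smul_def, map_smul]

theorem mem_twistAlg (g : (Module.End F K)ˣ) (x : K) :
    x ∈ twistAlg g ↔ ∃ y : K, ∀ z : K, x * (g : Module.End F K) z = (g : Module.End F K) (y * z) :=
  Iff.rfl

theorem unit_injective (g : (Module.End F K)ˣ) : Function.Injective (g : Module.End F K) := by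
  intro x y hxy
  have := congrArg ((g⁻¹ : (Module.End F K)ˣ) : Module.End F K) hxy
  simpa [← Module.End.mul_apply, ← Units.val_mul] using this

/-- Elements of the intersection come from `twistAlg`. -/
theorem mem_inter_imp (g : (Module.End F K)ˣ) (u : (Module.End F K)ˣ)
    (hu : u ∈ (singer F K).map (MulAut.conj g).toMonoidHom ⊓ singer F K) :
    ∃ c : Kˣ, (c : K) ∈ twistAlg g ∧ ∀ x : K, (u : Module.End F K) x = c * x := by
  obtain ⟨h1, h2⟩ := hu
  obtain ⟨c, hc⟩ := (mem_singer_iff u).mp h2
  refine ⟨c, ?_, hc⟩
  obtain ⟨m, hm, hmu⟩ := h1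
  obtain ⟨y, hy⟩ := (mem_singer_iff m).mp hm
  refine ⟨y, fun z => ?_⟩
  -- u * g = g * m
  have h3 : u * g = g * m := by
    rw [← hmu]
    simp [MulAut.conj_apply]
  have h4 := congrArg (fun w : (Module.End F K)ˣ => (w : Module.End F K) z) h3
  simp only [Units.val_mul, Module.End.mul_apply] at h4
  rw [hc, hy] at h4
  exact h4

/-- If `twistAlg g = ⊤` then `g` normalizes the Singer group. -/
theorem map_conj_eq_of_top [Finite K] (g : (Module.End F K)ˣ) (htop : twistAlg g = ⊤) :
    (singer F K).map (MulAut.conj g).toMonoidHom = singer F K := by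
  have : Finite (Module.End F K)ˣ := by
    have : Finite (Module.End F K) := Finite.of_injective (fun f : Module.End F K => (f : K → K))
      DFunLike.coe_injective
    infer_instance
  symm
  apply Subgroup.eq_of_le_of_card_ge
  · intro m hm
    obtain ⟨c, hc⟩ := (mem_singer_iff m).mp hm
    have hcA : (c : K) ∈ twistAlg g := by rw [htop]; exact Algebra.mem_top
    obtain ⟨y, hy⟩ := hcA
    have hy0 : y ≠ 0 := by
      rintro rfl
      have h1 := hy 1
      rw [zero_mul, map_zero] at h1
      have h2 : (g : Module.End F K) 1 = 0 := by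
        rcases mul_eq_zero.mp h1 with h | h
        · exact absurd h c.ne_zero
        · exact h
      have : (g : Module.End F K) 1 = (g : Module.End F K) 0 := by rw [map_zero]; exact h2
      exact one_ne_zero (unit_injective g this)
    refine ⟨Units.map ((Algebra.lmul F K : K →ₐ[F] Module.End F K) : K →* Module.End F K) (Units.mk0 y hy0),
      ⟨_, rfl⟩, ?_⟩
    show g * _ * g⁻¹ = m
    rw [mul_inv_eq_iff_eq_mul]
    apply Units.ext
    apply LinearMap.ext
    intro z
    simp only [Units.val_mul, Module.End.mul_apply, hc]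
    rw [hy z]
    simp
  · rw [Subgroup.card_map_of_injective (MulAut.conj g).injective]

end


/-- Let F ⊆ K be finite fields with |F| = q and [K : F] = n ≥ 2, and let M ≤ GL_F(K) be the Singer group of multiplications by non-zero elements of K. If g ∈ GL_F(K) does not normalise M, then the order of M ∩ gMg⁻¹ divides q^r − 1 for some proper divisor r of n. In particular, when n is prime, that order divides q − 1. -/
theorem result {F K : Type*} [Field F] [Fintype F] [Field K] [Fintype K] [Algebra F K] (n : ℕ) (hn : 2 ≤ n) (hdim : Module.finrank F K = n)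
    (g : (Module.End F K)ˣ) (hg : ((Units.map ((Algebra.lmul F K : K →ₐ[F] Module.End F K) : K →* Module.End F K)).range).map (MulAut.conj g).toMonoidHom ≠ (Units.map ((Algebra.lmul F K : K →ₐ[F] Module.End F K) : K →* Module.End F K)).range) :
    ∃ r : ℕ, 1 ≤ r ∧ r ∣ n ∧ r < n ∧ Nat.card ↥(((Units.map ((Algebra.lmul F K : K →ₐ[F] Module.End F K) : K →* Module.End F K)).range).map (MulAut.conj g).toMonoidHom ⊓ (Units.map ((Algebra.lmul F K : K →ₐ[F] Module.End F K) : K →* Module.End F K)).range) ∣ Fintype.card F ^ r - 1 := by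
  classical
  show ∃ r : ℕ, 1 ≤ r ∧ r ∣ n ∧ r < n ∧
    Nat.card ↥((Cfsg.Agent.S5738.singer F K).map (MulAut.conj g).toMonoidHom ⊓ Cfsg.Agent.S5738.singer F K) ∣
      Fintype.card F ^ r - 1
  change (Cfsg.Agent.S5738.singer F K).map (MulAut.conj g).toMonoidHom ≠ Cfsg.Agent.S5738.singer F K at hg
  have hfin : FiniteDimensional F K := Module.Finite.of_finite
  have hE : IsField (twistAlg g) := Subalgebra.isField_of_algebraic (twistAlg g)
  set E : IntermediateField F K := (twistAlg g).toIntermediateField' hE with hEdef
  have hmemE : ∀ x : K, x ∈ E ↔ x ∈ twistAlg g := fun x => Iff.rfl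
  refine ⟨Module.finrank F E, ?_, ?_, ?_, ?_⟩
  · exact Module.finrank_pos
  · rw [← hdim, ← Module.finrank_mul_finrank F E K]
    exact dvd_mul_right _ _
  · have hle : Module.finrank F E ≤ n := by
      rw [← hdim]
      exact Submodule.finrank_le E.toSubalgebra.toSubmodule
    rcases hle.lt_or_eq with h | h
    · exact h
    · exfalso
      apply hg
      apply map_conj_eq_of_top
      have htop : E.toSubalgebra.toSubmodule = ⊤ := by
        apply Submodule.eq_top_of_finrank_eq
        rw [hdim]
        exact h
      apply SetLike.ext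
      intro x
      have : x ∈ E.toSubalgebra.toSubmodule := by rw [htop]; trivial
      constructor
      · intro _; exact Algebra.mem_top
      · intro _; exact this
  · -- cardinality
    let φ : Eˣ →* (Module.End F K)ˣ :=
      Units.map ((((Algebra.lmul F K : K →ₐ[F] Module.End F K) : K →* Module.End F K)).comp
        ((E.val : E →ₐ[F] K) : E →* K))
    have hφinj : Function.Injective φ := by
      intro a b hab
      have h1 := congrArg (fun w : (Module.End F K)ˣ => (w : Module.End F K) 1) hab
      simp only [φ, Units.coe_map, MonoidHom.coe_comp, MonoidHom.coe_coe, Function.comp_apply] at h1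
      apply Units.ext
      apply Subtype.ext
      simpa using h1
    have hle : (Cfsg.Agent.S5738.singer F K).map (MulAut.conj g).toMonoidHom ⊓ Cfsg.Agent.S5738.singer F K
        ≤ φ.range := by
      intro u hu
      obtain ⟨c, hcA, hc⟩ := mem_inter_imp g u hu
      have hcE : (c : K) ∈ E := (hmemE _).mpr hcA
      refine ⟨Units.mk0 (⟨(c : K), hcE⟩ : E) ?_, ?_⟩
      · intro h
        have := congrArg (fun e : E => (e : K)) h
        exact c.ne_zero this
      · apply Units.ext
        apply LinearMap.ext
        intro x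
        rw [hc x]
        simp [φ]
    have hcard : Nat.card φ.range = Fintype.card F ^ Module.finrank F E - 1 := by
      rw [← Nat.card_congr (MonoidHom.ofInjective hφinj).toEquiv, Nat.card_units,
        Module.natCard_eq_pow_finrank (K := F) (V := E), Nat.card_eq_fintype_card]
    rw [← hcard]
    exact Subgroup.card_dvd_of_le hle

end Cfsg.Agent.S5739
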