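import Cfsg.Statements.S5747
-- import your own Cfsg.Agent.* helpers here

set_option autoImplicit false
open Cfsg

namespace Cfsg.Agent.S5747


section
variable {G Ω : Type*} [Group G] [MulAction G Ω]

/-- Irredundant base relative to a subgroup `H`. -/
def IBF (H : Subgroup G) {t : ℕ} (f : Fin t → Ω) : Prop :=
  (∀ g ∈ H, (∀ i : Fin t, g • f i = f i) → g = 1) ∧
  ∀ i : Fin t, ∃ g ∈ H, (∀ j : Fin t, j < i → g • f j = f j) ∧ g • f i ≠ f i

theorem ibf_cons (H : Subgroup G) {n : ℕ} (a : Ω) (f : Fin n → Ω) :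
    IBF H (Fin.cons a f : Fin (n + 1) → Ω) ↔
      (∃ g ∈ H, g • a ≠ a) ∧ IBF (H ⊓ MulAction.stabilizer G a) f := by
  unfold IBF
  constructor
  · rintro ⟨hb, hi⟩
    refine ⟨?_, ?_, ?_⟩
    · obtain ⟨g, hg, -, h2⟩ := hi 0
      exact ⟨g, hg, by simpa using h2⟩
    · rintro g ⟨hgH, hga⟩ hfix
      apply hb g hgH
      intro i
      refine Fin.cases ?_ (fun i => ?_) i
      · simpa using hga
      · simpa using hfix i
    · intro i
      obtain ⟨g, hg, h1, h2⟩ := hi i.succ
      refine ⟨g, ⟨hg, ?_⟩, ?_, ?_⟩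
      · have := h1 0 (Fin.succ_pos i)
        simpa using this
      · intro j hj
        have := h1 j.succ (Fin.succ_lt_succ_iff.mpr hj)
        simpa using this
      · simpa using h2
  · rintro ⟨⟨g0, hg0, hg0a⟩, hb, hi⟩
    refine ⟨?_, ?_⟩
    · intro g hg hfix
      apply hb g ⟨hg, ?_⟩
      · intro i
        have := hfix i.succ
        simpa using this
      · have := hfix 0
        simpa using this
    · intro i
      refine Fin.cases ?_ (fun i => ?_) i
      · exact ⟨g0, hg0, fun j hj => absurd hj (Fin.not_lt_zero j), by simpa using hg0a⟩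
      · obtain ⟨g, ⟨hg, hga⟩, h1, h2⟩ := hi i
        refine ⟨g, hg, ?_, by simpa using h2⟩
        intro j
        refine Fin.cases ?_ (fun j => ?_) j
        · intro _
          simpa using hga
        · intro hj
          have := h1 j (Fin.succ_lt_succ_iff.mp hj)
          simpa using this

theorem ibf_zero (H : Subgroup G) (f : Fin 0 → Ω) : IBF H f ↔ H = ⊥ := by
  unfold IBF
  constructor
  · rintro ⟨hb, -⟩
    rw [Subgroup.eq_bot_iff_forall]
    intro g hg
    exact hb g hg (fun i => i.elim0)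
  · rintro rfl
    refine ⟨fun g hg _ => Subgroup.mem_bot.mp hg, fun i => i.elim0⟩

theorem card_lt_of_lt [Finite G] {A B : Subgroup G} (h : A < B) : Nat.card A < Nat.card B := by
  by_contra hcon
  push Not at hcon
  exact h.ne (Subgroup.eq_of_le_of_card_ge h.le hcon)

theorem stab_lt (H : Subgroup G) (a : Ω) (ha : ∃ g ∈ H, g • a ≠ a) :
    H ⊓ MulAction.stabilizer G a < H := by
  refine lt_of_le_of_ne inf_le_left ?_
  intro h
  obtain ⟨g, hg, hga⟩ := ha
  have : g ∈ H ⊓ MulAction.stabilizer G a := by rw [h]; exact hg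
  exact hga this.2

/-- Existence of an irredundant base for a subgroup acting faithfully. -/
theorem exists_ibf [Finite G] : ∀ (n : ℕ) (H : Subgroup G), Nat.card H = n →
    (∀ g ∈ H, (∀ ω : Ω, g • ω = ω) → g = 1) → ∃ (t : ℕ) (f : Fin t → Ω), IBF H f := by
  intro n
  induction n using Nat.strong_induction_on with
  | _ n ih =>
    intro H hn hfaith
    by_cases hbot : H = ⊥
    · exact ⟨0, Fin.elim0, (ibf_zero H _).mpr hbot⟩
    · obtain ⟨g, hg1⟩ := (Subgroup.ne_bot_iff_exists_ne_one).mp hbot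
      have hex : ∃ ω : Ω, (g : G) • ω ≠ ω := by
        by_contra h
        push Not at h
        exact hg1 (Subtype.ext (hfaith g.1 g.2 h))
      obtain ⟨ω, hω⟩ := hex
      have hmove : ∃ g ∈ H, g • ω ≠ ω := ⟨g.1, g.2, hω⟩
      have hlt := stab_lt H ω hmove
      have hcard : Nat.card (H ⊓ MulAction.stabilizer G ω : Subgroup G) < n := hn ▸ card_lt_of_lt hlt
      obtain ⟨t, f, hf⟩ := ih _ hcard (H ⊓ MulAction.stabilizer G ω) rfl
        (fun g hg hfix => hfaith g hg.1 hfix)
      exact ⟨t + 1, Fin.cons ω f, (ibf_cons H ω f).mpr ⟨hmove, hf⟩⟩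

/-- Reorderability passes to point stabilizers. -/
theorem reorder_stab (H : Subgroup G) (a : Ω) (ha : ∃ g ∈ H, g • a ≠ a)
    (hre : ∀ (t : ℕ) (f : Fin t → Ω) (σ : Equiv.Perm (Fin t)), IBF H f → IBF H (f ∘ σ)) :
    ∀ (t : ℕ) (f : Fin t → Ω) (σ : Equiv.Perm (Fin t)),
      IBF (H ⊓ MulAction.stabilizer G a) f → IBF (H ⊓ MulAction.stabilizer G a) (f ∘ σ) := by
  intro t f σ hf
  have h1 : IBF H (Fin.cons a f : Fin (t + 1) → Ω) := (ibf_cons H a f).mpr ⟨ha, hf⟩
  have h2 := hre (t + 1) _ (Equiv.Perm.decomposeFin.symm (0, σ)) h1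
  have h3 : (Fin.cons a f : Fin (t + 1) → Ω) ∘ (Equiv.Perm.decomposeFin.symm (0, σ))
      = Fin.cons a (f ∘ σ) := by
    funext i
    refine Fin.cases ?_ (fun i => ?_) i
    · simp
    · simp
  rw [h3] at h2
  exact ((ibf_cons H a _).mp h2).2

theorem key_step [Finite G] (H : Subgroup G) (a b : Ω)
    (hre : ∀ (t : ℕ) (f : Fin t → Ω) (σ : Equiv.Perm (Fin t)), IBF H f → IBF H (f ∘ σ))
    (hfaith : ∀ g ∈ H, (∀ ω : Ω, g • ω = ω) → g = 1)
    (ha : ∃ g ∈ H, g • a ≠ a)
    (hb : ∃ g ∈ H ⊓ MulAction.stabilizer G a, g • b ≠ b)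
    (hA : ∀ (t t' : ℕ) (f : Fin t → Ω) (f' : Fin t' → Ω),
      IBF (H ⊓ MulAction.stabilizer G a) f → IBF (H ⊓ MulAction.stabilizer G a) f' → t = t')
    (hB : ∀ (t t' : ℕ) (f : Fin t → Ω) (f' : Fin t' → Ω),
      IBF (H ⊓ MulAction.stabilizer G b) f → IBF (H ⊓ MulAction.stabilizer G b) f' → t = t')
    {n m : ℕ} (ft : Fin n → Ω) (ft' : Fin m → Ω)
    (h1 : IBF (H ⊓ MulAction.stabilizer G a) ft) (h2 : IBF (H ⊓ MulAction.stabilizer G b) ft') :
    n = m := by
  obtain ⟨k, c, hc⟩ := exists_ibf _ (H ⊓ MulAction.stabilizer G a ⊓ MulAction.stabilizer G b) rfl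
    (fun g hg hfix => hfaith g hg.1.1 hfix)
  have e1 : IBF (H ⊓ MulAction.stabilizer G a) (Fin.cons b c : Fin (k + 1) → Ω) :=
    (ibf_cons _ b c).mpr ⟨hb, hc⟩
  have e2 : IBF H (Fin.cons a (Fin.cons b c : Fin (k + 1) → Ω) : Fin (k + 2) → Ω) :=
    (ibf_cons _ a _).mpr ⟨ha, e1⟩
  have e3 := hre _ _ (Equiv.swap 0 1) e2
  have e4 : (Fin.cons a (Fin.cons b c : Fin (k + 1) → Ω) : Fin (k + 2) → Ω) ∘ (Equiv.swap 0 1)
      = Fin.cons b (Fin.cons a c : Fin (k + 1) → Ω) := by
    funext i
    refine Fin.cases ?_ (fun i => ?_) i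
    · simp
    · refine Fin.cases ?_ (fun i => ?_) i
      · simp
      · have h0 : i.succ.succ ≠ 0 := Fin.succ_ne_zero _
        have h1 : i.succ.succ ≠ 1 := by
          intro h
          have := congrArg Fin.val h
          simp at this
        simp [Equiv.swap_apply_of_ne_of_ne h0 h1]
  rw [e4] at e3
  have e5 := ((ibf_cons H b _).mp e3).2
  have := hA _ _ ft _ h1 e1
  have := hB _ _ ft' _ h2 e5
  omega

theorem same_length [Finite G] : ∀ (N : ℕ) (H : Subgroup G), Nat.card H = N →
    (∀ (t : ℕ) (f : Fin t → Ω) (σ : Equiv.Perm (Fin t)), IBF H f → IBF H (f ∘ σ)) →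
    ∀ (t t' : ℕ) (f : Fin t → Ω) (f' : Fin t' → Ω), IBF H f → IBF H f' → t = t' := by
  intro N
  induction N using Nat.strong_induction_on with
  | _ N ih =>
    intro H hN hre t t' f f' hf hf'
    have hfaith : ∀ g ∈ H, (∀ ω : Ω, g • ω = ω) → g = 1 :=
      fun g hg hfix => hf.1 g hg (fun i => hfix _)
    cases t with
    | zero =>
      have hbot := (ibf_zero H f).mp hf
      cases t' with
      | zero => rfl
      | succ m =>
        exfalso
        obtain ⟨g, hg, -, hmove⟩ := hf'.2 0
        rw [hbot, Subgroup.mem_bot] at hg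
        subst hg
        exact hmove (one_smul _ _)
    | succ n =>
      cases t' with
      | zero =>
        exfalso
        have hbot := (ibf_zero H f').mp hf'
        obtain ⟨g, hg, -, hmove⟩ := hf.2 0
        rw [hbot, Subgroup.mem_bot] at hg
        subst hg
        exact hmove (one_smul _ _)
      | succ m =>
        rw [← Fin.cons_self_tail f] at hf
        rw [← Fin.cons_self_tail f'] at hf'
        obtain ⟨ha, hft⟩ := (ibf_cons H _ _).mp hf
        obtain ⟨hb, hft'⟩ := (ibf_cons H _ _).mp hf'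
        have hltA : Nat.card (H ⊓ MulAction.stabilizer G (f 0) : Subgroup G) < N :=
          hN ▸ card_lt_of_lt (stab_lt H _ ha)
        have hltB : Nat.card (H ⊓ MulAction.stabilizer G (f' 0) : Subgroup G) < N :=
          hN ▸ card_lt_of_lt (stab_lt H _ hb)
        have hA := ih _ hltA (H ⊓ MulAction.stabilizer G (f 0)) rfl (reorder_stab H _ ha hre)
        have hB := ih _ hltB (H ⊓ MulAction.stabilizer G (f' 0)) rfl (reorder_stab H _ hb hre)
        by_cases c1 : ∃ g ∈ H ⊓ MulAction.stabilizer G (f 0), g • (f' 0) ≠ f' 0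
        · have := key_step H (f 0) (f' 0) hre hfaith ha c1 hA hB _ _ hft hft'
          omega
        · by_cases c2 : ∃ g ∈ H ⊓ MulAction.stabilizer G (f' 0), g • (f 0) ≠ f 0
          · have := key_step H (f' 0) (f 0) hre hfaith hb c2 hB hA _ _ hft' hft
            omega
          · push Not at c1 c2
            have heq : H ⊓ MulAction.stabilizer G (f 0) = H ⊓ MulAction.stabilizer G (f' 0) :=
              le_antisymm (fun g hg => ⟨hg.1, c1 g hg⟩) (fun g hg => ⟨hg.1, c2 g hg⟩)
            rw [heq] at hft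
            have := hB _ _ _ _ hft hft'
            omega

theorem swap_lt_of_lt {n : ℕ} (i : Fin n) (j k : Fin (n + 1)) (hj : j ≠ i.succ) (hk : k < j) :
    Equiv.swap i.castSucc i.succ k < Equiv.swap i.castSucc i.succ j := by
  rw [Equiv.swap_apply_def, Equiv.swap_apply_def]
  have h1 : (i.castSucc : Fin (n + 1)).val = i.val := rfl
  have h2 : (i.succ : Fin (n + 1)).val = i.val + 1 := rfl
  split_ifs <;> simp_all only [Fin.lt_def, Fin.ext_iff, ne_eq] <;> omega

theorem ibf_adjacent_swap (H : Subgroup G)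
    (hlen : ∀ (t t' : ℕ) (f : Fin t → Ω) (f' : Fin t' → Ω), IBF H f → IBF H f' → t = t')
    {n : ℕ} (f : Fin (n + 1) → Ω) (hf : IBF H f) (i : Fin n) :
    IBF H (f ∘ Equiv.swap i.castSucc i.succ) := by
  refine ⟨?_, ?_⟩
  · intro g hg hfix
    apply hf.1 g hg
    intro j
    have := hfix (Equiv.swap i.castSucc i.succ j)
    simpa using this
  · intro j
    by_cases hj : j = i.succ
    · subst hj
      by_contra hcon
      push Not at hcon
      have hf'' : IBF H (f ∘ i.castSucc.succAbove) := by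
        refine ⟨?_, ?_⟩
        · intro g hg hfix
          apply hf.1 g hg
          have hne : ∀ j, j ≠ i.castSucc → g • f j = f j := by
            intro j hj
            obtain ⟨k, rfl⟩ := Fin.exists_succAbove_eq hj
            exact hfix k
          intro j
          by_cases hj : j = i.castSucc
          · subst hj
            have := hcon g hg (fun k hk => ?_)
            · simpa using this
            · apply hne
              intro h
              have h' : k = i.succ := by
                have := congrArg (Equiv.swap i.castSucc i.succ) h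
                simpa using this
              exact absurd h' hk.ne
          · exact hne j hj
        · intro k
          obtain ⟨g, hg, h1, h2⟩ := hf.2 (i.castSucc.succAbove k)
          exact ⟨g, hg, fun k' hk' => h1 _ (Fin.strictMono_succAbove _ hk'), h2⟩
      have := hlen _ _ f _ hf hf''
      omega
    · obtain ⟨g, hg, h1, h2⟩ := hf.2 (Equiv.swap i.castSucc i.succ j)
      exact ⟨g, hg, fun k hk => h1 _ (swap_lt_of_lt i j k hj hk), h2⟩

theorem reorder_of_same_length (H : Subgroup G)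
    (hlen : ∀ (t t' : ℕ) (f : Fin t → Ω) (f' : Fin t' → Ω), IBF H f → IBF H f' → t = t') :
    ∀ (t : ℕ) (f : Fin t → Ω) (σ : Equiv.Perm (Fin t)), IBF H f → IBF H (f ∘ σ) := by
  intro t
  cases t with
  | zero =>
    intro f σ hf
    have : σ = 1 := Subsingleton.elim _ _
    subst this
    simpa using hf
  | succ n =>
    intro f σ hf
    have hmem : σ ∈ Submonoid.closure (Set.range fun i : Fin n => Equiv.swap i.castSucc i.succ) := by
      rw [Equiv.Perm.mclosure_swap_castSucc_succ]; trivial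
    revert f
    induction hmem using Submonoid.closure_induction with
    | mem x hx =>
      obtain ⟨i, rfl⟩ := hx
      intro f hf
      exact ibf_adjacent_swap H hlen f hf i
    | one =>
      intro f hf
      simpa using hf
    | mul x y _ _ ihx ihy =>
      intro f hf
      have := ihy (f ∘ x) (ihx f hf)
      simpa [Function.comp_assoc, Equiv.Perm.coe_mul] using this

theorem ibf_top_iff {t : ℕ} (f : Fin t → Ω) :
    ((∀ g : G, (∀ i : Fin t, g • f i = f i) → g = 1) ∧
      ∀ i : Fin t, ∃ g : G, (∀ j : Fin t, j < i → g • f j = f j) ∧ g • f i ≠ f i) ↔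
    IBF (⊤ : Subgroup G) f := by
  unfold IBF
  simp

end


/-- Let a finite group G act on a finite set Ω. An irredundant base is a sequence of points ω₁, …, ω_t whose pointwise stabiliser is trivial and in which each ω_i is moved by some element fixing ω₁, …, ω_{i−1}. Then all irredundant bases have the same length if and only if every reordering of an irredundant base is again an irredundant base. -/
theorem result {G Ω : Type*} [Group G] [Finite G] [MulAction G Ω] [Fintype Ω] :
    (∀ (t t' : ℕ) (f : Fin t → Ω) (f' : Fin t' → Ω), ((∀ g : G, (∀ i : Fin t, g • f i = f i) → g = 1) ∧ ∀ i : Fin t, ∃ g : G, (∀ j : Fin t, j < i → g • f j = f j) ∧ g • f i ≠ f i) → ((∀ g : G, (∀ i : Fin t', g • f' i = f' i) → g = 1) ∧ ∀ i : Fin t', ∃ g : G, (∀ j : Fin t', j < i → g • f' j = f' j) ∧ g • f' i ≠ f' i) → t = t') ↔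
    (∀ (t : ℕ) (f : Fin t → Ω) (σ : Equiv.Perm (Fin t)), ((∀ g : G, (∀ i : Fin t, g • f i = f i) → g = 1) ∧ ∀ i : Fin t, ∃ g : G, (∀ j : Fin t, j < i → g • f j = f j) ∧ g • f i ≠ f i) → ((∀ g : G, (∀ i : Fin t, g • (f ∘ σ) i = (f ∘ σ) i) → g = 1) ∧ ∀ i : Fin t, ∃ g : G, (∀ j : Fin t, j < i → g • (f ∘ σ) j = (f ∘ σ) j) ∧ g • (f ∘ σ) i ≠ (f ∘ σ) i)) := by
  constructor
  · intro h t f σ hf
    apply (ibf_top_iff (G := G) (f ∘ σ)).mpr
    apply reorder_of_same_length (⊤ : Subgroup G) _ t f σ ((ibf_top_iff f).mp hf)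
    intro t t' f f' hf hf'
    exact h t t' f f' ((ibf_top_iff f).mpr hf) ((ibf_top_iff f').mpr hf')
  · intro h t t' f f' hf hf'
    exact same_length _ (⊤ : Subgroup G) rfl
      (fun t f σ hf => (ibf_top_iff (f ∘ σ)).mp (h t f σ ((ibf_top_iff f).mpr hf)))
      t t' f f' ((ibf_top_iff f).mp hf) ((ibf_top_iff f').mp hf')

end Cfsg.Agent.S5747
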