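import Cfsg.Statements.S5748
import Cfsg.Agent.S2202
import Cfsg.Agent.S0182
import Cfsg.Agent.Lib.Helper20.SimpleSection2
import Cfsg.Agent.Lib.Helper30.CT.SL2Even

set_option autoImplicit false
open Cfsg

namespace Cfsg.Agent.S5748

open Cfsg.Agent.Lib.Helper30.CT

section aux

variable {G : Type*} [Group G] [Finite G] [IsSimpleGroup G]

omit [Finite G] in
theorem not_isSolvable_of_not_comm (hG : ¬ IsMulCommutative G) : ¬ Group.IsSolvable G := by
  intro hs
  apply hG
  exact ⟨⟨IsSimpleGroup.comm_iff_isSolvable.mpr hs⟩⟩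

omit [Finite G] in
theorem no_index_two (hG : ¬ IsMulCommutative G) (H : Subgroup G) (hH : H.index = 2) : False := by
  have hn : H.Normal := Subgroup.normal_of_index_eq_two hH
  rcases hn.eq_bot_or_eq_top with h | h
  · rw [h, Subgroup.index_bot] at hH
    have : Fact (Nat.Prime 2) := ⟨Nat.prime_two⟩
    have hc : IsCyclic G := isCyclic_of_prime_card hH
    exact hG IsCyclic.isMulCommutative
  · rw [h, Subgroup.index_top] at hH
    omega

theorem no_cyclic_sylow (hG : ¬ IsMulCommutative G) (heven : Even (Nat.card G)) (P : Sylow 2 G)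
    (hc : IsCyclic P) : False := by
  obtain ⟨H, hH⟩ :=
    Cfsg.Agent.Lib.Helper20.SimpleSection.exists_index_two_of_cyclic_sylow P hc heven.two_dvd
  exact no_index_two hG H hH

theorem no_normal_sylow (hG : ¬ IsMulCommutative G) (heven : Even (Nat.card G)) (P : Sylow 2 G)
    (hn : (P : Subgroup G).Normal) : False := by
  have : Fact (Nat.Prime 2) := ⟨Nat.prime_two⟩
  rcases hn.eq_bot_or_eq_top with h | h
  · exact Sylow.ne_bot_of_dvd_card P heven.two_dvd h
  · have h1 : IsPGroup 2 (⊤ : Subgroup G) := h ▸ P.isPGroup'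
    have hp : IsPGroup 2 G := h1.of_equiv Subgroup.topEquiv
    have : Group.IsNilpotent G := hp.isNilpotent
    exact not_isSolvable_of_not_comm hG inferInstance

theorem ct_imp (hG : ¬ IsMulCommutative G)
    (hCT : ∀ a b c : G, a ≠ 1 → b ≠ 1 → c ≠ 1 → Commute a b → Commute b c → Commute a c) :
    ∃ (F : Type) (_ : Field F) (_ : Fintype F) (f : ℕ), 2 ≤ f ∧ Fintype.card F = 2 ^ f ∧
      Nonempty (G ≃* Matrix.ProjectiveSpecialLinearGroup (Fin 2) F) := by
  have hCA : ∀ x : G, x ≠ 1 → ∀ a ∈ Subgroup.centralizer ({x} : Set G),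
      ∀ b ∈ Subgroup.centralizer ({x} : Set G), a * b = b * a := by
    intro x hx a ha b hb
    rw [Subgroup.mem_centralizer_singleton_iff] at ha hb
    by_cases ha1 : a = 1
    · simp [ha1]
    by_cases hb1 : b = 1
    · simp [hb1]
    have h1 : Commute a x := ha
    have h2 : Commute x b := hb.symm
    exact (hCT a x b ha1 hx hb1 h1 h2).eq
  have heven : Even (Nat.card G) := by
    by_contra hodd
    rw [Nat.not_even_iff_odd] at hodd
    exact not_isSolvable_of_not_comm hG (Cfsg.Agent.S0182.result hodd hCA)
  have h2 : ∀ t : G, orderOf t = 2 →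
      IsMulCommutative ↥(Subgroup.centralizer ({t} : Set G)) := by
    intro t ht
    have ht1 : t ≠ 1 := by
      rintro rfl
      simp at ht
    exact ⟨⟨fun a b => Subtype.ext (hCA t ht1 a.1 a.2 b.1 b.2)⟩⟩
  have : Fact (Nat.Prime 2) := ⟨Nat.prime_two⟩
  rcases Cfsg.Agent.S2202.result heven h2 with h | h | ⟨F, _, _, A, _, _, hchar, -, ⟨e⟩⟩
  · exact (no_cyclic_sylow hG heven default (h default)).elim
  · exact (no_normal_sylow hG heven default (h default)).elim
  · have := hchar
    let ψ : G →* A := (MonoidHom.snd _ A).comp e.toMonoidHom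
    rcases ψ.normal_ker.eq_bot_or_eq_top with hk | hk
    · exfalso
      apply hG
      have hinj : Function.Injective ψ := (MonoidHom.ker_eq_bot_iff ψ).mp hk
      exact ⟨⟨fun a b => hinj (by rw [map_mul, map_mul, mul_comm])⟩⟩
    · have hA : ∀ y : A, y = 1 := by
        intro y
        have hmem : e.symm (1, y) ∈ ψ.ker := by
          rw [hk]
          trivial
        have : ψ (e.symm (1, y)) = 1 := hmem
        simpa [ψ] using this
      have : Subsingleton A := ⟨fun a b => (hA a).trans (hA b).symm⟩
      have : Unique A := { default := 1, uniq := hA }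
      let φ : G ≃* Matrix.SpecialLinearGroup (Fin 2) F := e.trans MulEquiv.prodUnique
      obtain ⟨n, -, hn⟩ := FiniteField.card F 2
      refine ⟨F, inferInstance, inferInstance, n, ?_, hn, ⟨φ.trans pslEquivSL.symm⟩⟩
      by_contra hlt
      have hn1 : (n : ℕ) = 1 := by
        have := n.pos
        omega
      rw [hn1, pow_one] at hn
      have h6 : Nat.card G = 6 := by
        rw [Nat.card_congr φ.toEquiv]
        exact card_SL2_of_card_two hn
      let P : Sylow 2 G := default
      have hPcard : Nat.card P = 2 := by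
        obtain ⟨k, hk⟩ := IsPGroup.iff_card.mp P.isPGroup'
        have hdvd : Nat.card P ∣ 6 := h6 ▸ Subgroup.card_subgroup_dvd_card (P : Subgroup G)
        have hne : (P : Subgroup G) ≠ ⊥ := Sylow.ne_bot_of_dvd_card P heven.two_dvd
        have hne1 : Nat.card P ≠ 1 := fun h1 => hne (Subgroup.card_eq_one.mp h1)
        rw [hk] at hdvd hne1 ⊢
        rcases k with _ | _ | k
        · simp at hne1
        · rfl
        · exfalso
          have h4 : 4 ∣ 6 := Dvd.dvd.trans ⟨2 ^ k, by ring⟩ hdvd
          omega
      have hc : IsCyclic P := isCyclic_of_prime_card hPcard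
      exact no_cyclic_sylow hG heven P hc

end aux

theorem psl_imp {G : Type*} [Group G] (F : Type) [Field F] [Fintype F] (f : ℕ) (hf : 2 ≤ f)
    (hcard : Fintype.card F = 2 ^ f)
    (e : G ≃* Matrix.ProjectiveSpecialLinearGroup (Fin 2) F) :
    ∀ a b c : G, a ≠ 1 → b ≠ 1 → c ≠ 1 → Commute a b → Commute b c → Commute a c := by
  have : CharP F 2 := charP_two_of_card f (by omega) hcard
  let φ : G ≃* Matrix.SpecialLinearGroup (Fin 2) F := e.trans pslEquivSL
  intro a b c _ hb _ hab hbc
  have hb' : φ b ≠ 1 := by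
    intro h
    exact hb (φ.map_eq_one_iff.mp h)
  have h := SL2_commute_trans (φ a) (φ b) (φ c) hb' (hab.map φ) (hbc.map φ)
  have h' : φ (a * c) = φ (c * a) := by
    rw [map_mul, map_mul]
    exact h.eq
  exact φ.injective h'

/-- A finite non-abelian simple group in which commuting is a transitive relation on the non-identity elements (equivalently, every non-identity element has abelian centraliser) is isomorphic to PSL₂ over a field with 2^f elements for some f ≥ 2; conversely these groups have that property. -/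
theorem result {G : Type*} [Group G] [Finite G] [IsSimpleGroup G] (hG : ¬ IsMulCommutative G) :
    (∀ a b c : G, a ≠ 1 → b ≠ 1 → c ≠ 1 → Commute a b → Commute b c → Commute a c) ↔
    ∃ (F : Type) (_ : Field F) (_ : Fintype F) (f : ℕ), 2 ≤ f ∧ Fintype.card F = 2 ^ f ∧ Nonempty (G ≃* Matrix.ProjectiveSpecialLinearGroup (Fin 2) F) := by
  constructor
  · exact ct_imp hG
  · rintro ⟨F, _, _, f, hf, hcard, ⟨e⟩⟩
    exact psl_imp F f hf hcard e

end Cfsg.Agent.S5748
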