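import Cfsg.Statements.S5754
-- import your own Cfsg.Agent.* helpers here

set_option autoImplicit false
open Cfsg

namespace Cfsg.Agent.S5754

section
variable {F V : Type*} [Field F] [AddCommGroup V] [Module F V]

/-- The functional `w ↦ polar(v, w) / Q v`. -/
noncomputable def reflFun (Q : QuadraticForm F V) (v : V) : Module.Dual F V :=
  (Q v)⁻¹ • (QuadraticMap.polarBilin Q v)

theorem reflFun_apply (Q : QuadraticForm F V) (v w : V) :
    reflFun Q v w = (Q v)⁻¹ * QuadraticMap.polar Q v w := by
  simp [reflFun]

theorem reflFun_self (Q : QuadraticForm F V) (v : V) (hv : Q v ≠ 0) : reflFun Q v v = 2 := by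
  rw [reflFun_apply, QuadraticMap.polar_self]
  simp only [nsmul_eq_mul, Nat.cast_ofNat]
  field_simp

theorem map_sub_smul (Q : QuadraticForm F V) (v w : V) (t : F) :
    Q (w - t • v) = Q w + t * t * Q v - t * QuadraticMap.polar Q v w := by
  have h1 : w - t • v = w + (-t) • v := by rw [neg_smul, sub_eq_add_neg]
  rw [h1, QuadraticMap.map_add Q, QuadraticMap.map_smul, QuadraticMap.polar_smul_right,
    QuadraticMap.polar_comm Q w v]
  simp only [smul_eq_mul]
  ring

/-- The reflection in an anisotropic vector, as an isometry. -/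
noncomputable def reflIso (Q : QuadraticForm F V) (v : V) (hv : Q v ≠ 0) : Q.IsometryEquiv Q :=
  { Module.reflection (reflFun_self Q v hv) with
    map_app' := by
      intro w
      show Q (Module.reflection (reflFun_self Q v hv) w) = Q w
      rw [Module.reflection_apply, map_sub_smul, reflFun_apply]
      field_simp
      ring }

theorem reflIso_apply (Q : QuadraticForm F V) (v : V) (hv : Q v ≠ 0) (w : V) :
    reflIso Q v hv w = w - ((Q v)⁻¹ * QuadraticMap.polar Q v w) • v := by
  show Module.reflection (reflFun_self Q v hv) w = _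
  rw [Module.reflection_apply, reflFun_apply]

theorem map_sub' (Q : QuadraticForm F V) (y z : V) :
    Q (y - z) = Q y + Q z - QuadraticMap.polar Q y z := by
  have := map_sub_smul Q z y 1
  simp only [one_smul, one_mul] at this
  rw [this, QuadraticMap.polar_comm Q z y]

theorem polar_isometry (Q : QuadraticForm F V) (τ : Q.IsometryEquiv Q) (a b : V) :
    QuadraticMap.polar Q (τ a) (τ b) = QuadraticMap.polar Q a b := by
  unfold QuadraticMap.polar
  rw [← map_add, QuadraticMap.IsometryEquiv.map_app, QuadraticMap.IsometryEquiv.map_app,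
    QuadraticMap.IsometryEquiv.map_app]

/-- Witt extension for anisotropic forms, tuple version. -/
theorem witt_tuple (Q : QuadraticForm F V) (hQ : Q.Anisotropic) :
    ∀ (n : ℕ) (x x' : Fin n → V), (∀ i, Q (x i) = Q (x' i)) →
      (∀ i j, QuadraticMap.polar Q (x i) (x j) = QuadraticMap.polar Q (x' i) (x' j)) →
      ∃ φ : Q.IsometryEquiv Q, ∀ i, φ (x i) = x' i := by
  intro n
  induction n with
  | zero =>
    intro x x' _ _
    exact ⟨QuadraticMap.IsometryEquiv.refl Q, fun i => i.elim0⟩
  | succ n ih =>
    intro x x' hq hpol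
    obtain ⟨τ, hτ⟩ := ih (fun i => x i.castSucc) (fun i => x' i.castSucc)
      (fun i => hq _) (fun i j => hpol _ _)
    set y := τ (x (Fin.last n)) with hy
    set z := x' (Fin.last n) with hz
    have hQy : Q y = Q z := by rw [hy, QuadraticMap.IsometryEquiv.map_app, hq]
    have hpy : ∀ i : Fin n, QuadraticMap.polar Q y (x' i.castSucc)
        = QuadraticMap.polar Q z (x' i.castSucc) := by
      intro i
      calc QuadraticMap.polar Q y (x' i.castSucc)
          = QuadraticMap.polar Q (τ (x (Fin.last n))) (τ (x i.castSucc)) := by rw [hτ i]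
        _ = QuadraticMap.polar Q (x (Fin.last n)) (x i.castSucc) := polar_isometry Q τ _ _
        _ = QuadraticMap.polar Q z (x' i.castSucc) := hpol _ _
    by_cases hyz : y = z
    · refine ⟨τ, fun i => ?_⟩
      refine Fin.lastCases ?_ (fun i => ?_) i
      · exact hyz
      · exact hτ i
    · have hv : Q (y - z) ≠ 0 := fun h => hyz (sub_eq_zero.mp (hQ _ h))
      refine ⟨τ.trans (reflIso Q (y - z) hv), fun i => ?_⟩
      refine Fin.lastCases ?_ (fun i => ?_) i
      · show reflIso Q (y - z) hv (τ (x (Fin.last n))) = z
        rw [← hy, reflIso_apply]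
        have h1 : QuadraticMap.polar Q (y - z) y = Q (y - z) := by
          rw [QuadraticMap.polar_comm, QuadraticMap.polar_sub_right, QuadraticMap.polar_self, map_sub', ← hQy]
          simp only [nsmul_eq_mul, Nat.cast_ofNat]
          ring
        rw [h1, inv_mul_cancel₀ hv, one_smul]
        abel
      · show reflIso Q (y - z) hv (τ (x i.castSucc)) = x' i.castSucc
        rw [hτ i, reflIso_apply]
        have h1 : QuadraticMap.polar Q (y - z) (x' i.castSucc) = 0 := by
          rw [QuadraticMap.polar_sub_left, hpy i, sub_self]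
        rw [h1, mul_zero, zero_smul, sub_zero]

end


/-- Let V be a finite-dimensional vector space over a finite field F carrying an anisotropic quadratic form Q (Q(v) = 0 only for v = 0). Then the group of all maps v ↦ φ(v) + c, with φ an isometry of Q and c ∈ V, acts on V as a binary permutation group: given n ≥ 2 and two n-tuples u, u' of vectors such that every pair of corresponding entries of u is carried to that of u' by such a map, one such map carries u to u'. -/
theorem result {F V : Type*} [Field F] [Finite F] [AddCommGroup V] [Module F V] [Module.Finite F V]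
    (Q : QuadraticForm F V) (hQ : Q.Anisotropic) (n : ℕ) (hn : 2 ≤ n) (u u' : Fin n → V)
    (h2 : ∀ i j : Fin n, i ≠ j → ∃ (φ : Q.IsometryEquiv Q) (c : V), φ (u i) + c = u' i ∧ φ (u j) + c = u' j) :
    ∃ (φ : Q.IsometryEquiv Q) (c : V), ∀ i, φ (u i) + c = u' i := by
  classical
  have hn0 : 0 < n := by omega
  let i0 : Fin n := ⟨0, hn0⟩
  -- pairwise distances agree
  have hdist : ∀ i j : Fin n, Q (u i - u j) = Q (u' i - u' j) := by
    intro i j
    by_cases hij : i = j
    · subst hij; simp
    · obtain ⟨φ, c, h1, h2'⟩ := h2 i j hij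
      have : u' i - u' j = φ (u i - u j) := by
        rw [← h1, ← h2', map_sub]; abel
      rw [this, QuadraticMap.IsometryEquiv.map_app]
  have hq : ∀ i, Q (u i - u i0) = Q (u' i - u' i0) := fun i => hdist i i0
  have hpol : ∀ i j, QuadraticMap.polar Q (u i - u i0) (u j - u i0)
      = QuadraticMap.polar Q (u' i - u' i0) (u' j - u' i0) := by
    intro i j
    have e1 := map_sub' Q (u i - u i0) (u j - u i0)
    have e2 := map_sub' Q (u' i - u' i0) (u' j - u' i0)
    have e3 : u i - u i0 - (u j - u i0) = u i - u j := by abel
    have e4 : u' i - u' i0 - (u' j - u' i0) = u' i - u' j := by abel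
    rw [e3] at e1
    rw [e4] at e2
    have := hdist i j
    rw [e1, e2, hq i, hq j] at this
    linear_combination -this
  obtain ⟨φ, hφ⟩ := witt_tuple Q hQ n (fun i => u i - u i0) (fun i => u' i - u' i0) hq hpol
  refine ⟨φ, u' i0 - φ (u i0), fun i => ?_⟩
  have := hφ i
  simp only [map_sub] at this
  rw [← sub_eq_zero]
  rw [← sub_eq_zero] at this
  rw [← this]
  abel

end Cfsg.Agent.S5754
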