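import Cfsg.Statements.S5763

set_option autoImplicit false
open Cfsg

namespace Cfsg.Agent.S5763

open Equiv

/-- The relation "same 2-block / same 4-block" is preserved from `(i, j)` to `(a, b)`. -/
def Rel (i j a b : Fin 8) : Prop :=
  (i.val / 2 = j.val / 2 ↔ a.val / 2 = b.val / 2) ∧ (i.val / 4 = j.val / 4 ↔ a.val / 4 = b.val / 4)

instance decRel (i j a b : Fin 8) : Decidable (Rel i j a b) := by
  unfold Rel; infer_instance

/-- The stabiliser of the binary tree structure `{{0,1},{2,3}},{{4,5},{6,7}}` on `Fin 8`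
(a Sylow 2-subgroup of the symmetric group, though we only use that it is a 2-group). -/
def P0 : Subgroup (Perm (Fin 8)) where
  carrier := {g | ∀ i j : Fin 8, Rel i j (g i) (g j)}
  mul_mem' := by
    intro a b ha hb i j
    have h1 := hb i j
    have h2 := ha (b i) (b j)
    simp only [Perm.coe_mul, Function.comp_apply]
    exact ⟨h1.1.trans h2.1, h1.2.trans h2.2⟩
  one_mem' := by
    intro i j
    exact ⟨Iff.rfl, Iff.rfl⟩
  inv_mem' := by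
    intro a ha i j
    have h := ha (a⁻¹ i) (a⁻¹ j)
    simp only [Perm.coe_inv, Equiv.apply_symm_apply] at h
    exact ⟨h.1.symm, h.2.symm⟩

theorem mem_P0 (g : Perm (Fin 8)) : g ∈ P0 ↔ ∀ i j : Fin 8, Rel i j (g i) (g j) := Iff.rfl

instance decMemP0 (g : Perm (Fin 8)) : Decidable (g ∈ P0) :=
  decidable_of_iff _ (mem_P0 g).symm

/-! ### `P0` is a 2-group -/

set_option maxRecDepth 100000 in
set_option synthInstance.maxSize 100000 in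
set_option synthInstance.maxHeartbeats 0 in
theorem pow8_aux :
    ∀ a0 : Fin 8, ∀ a1 : Fin 8, ((a1 ≠ a0 ∧ Rel 1 0 a1 a0)) →
    ∀ a2 : Fin 8, ((a2 ≠ a0 ∧ Rel 2 0 a2 a0) ∧ (a2 ≠ a1 ∧ Rel 2 1 a2 a1)) →
    ∀ a3 : Fin 8, ((a3 ≠ a0 ∧ Rel 3 0 a3 a0) ∧ (a3 ≠ a1 ∧ Rel 3 1 a3 a1) ∧ (a3 ≠ a2 ∧ Rel 3 2 a3 a2)) →
    ∀ a4 : Fin 8, ((a4 ≠ a0 ∧ Rel 4 0 a4 a0) ∧ (a4 ≠ a1 ∧ Rel 4 1 a4 a1) ∧ (a4 ≠ a2 ∧ Rel 4 2 a4 a2) ∧ (a4 ≠ a3 ∧ Rel 4 3 a4 a3)) →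
    ∀ a5 : Fin 8, ((a5 ≠ a0 ∧ Rel 5 0 a5 a0) ∧ (a5 ≠ a1 ∧ Rel 5 1 a5 a1) ∧ (a5 ≠ a2 ∧ Rel 5 2 a5 a2) ∧ (a5 ≠ a3 ∧ Rel 5 3 a5 a3) ∧ (a5 ≠ a4 ∧ Rel 5 4 a5 a4)) →
    ∀ a6 : Fin 8, ((a6 ≠ a0 ∧ Rel 6 0 a6 a0) ∧ (a6 ≠ a1 ∧ Rel 6 1 a6 a1) ∧ (a6 ≠ a2 ∧ Rel 6 2 a6 a2) ∧ (a6 ≠ a3 ∧ Rel 6 3 a6 a3) ∧ (a6 ≠ a4 ∧ Rel 6 4 a6 a4) ∧ (a6 ≠ a5 ∧ Rel 6 5 a6 a5)) →
    ∀ a7 : Fin 8, ((a7 ≠ a0 ∧ Rel 7 0 a7 a0) ∧ (a7 ≠ a1 ∧ Rel 7 1 a7 a1) ∧ (a7 ≠ a2 ∧ Rel 7 2 a7 a2) ∧ (a7 ≠ a3 ∧ Rel 7 3 a7 a3) ∧ (a7 ≠ a4 ∧ Rel 7 4 a7 a4) ∧ (a7 ≠ a5 ∧ Rel 7 5 a7 a5) ∧ (a7 ≠ a6 ∧ Rel 7 6 a7 a6)) →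
    ∀ k : Fin 8, ![a0, a1, a2, a3, a4, a5, a6, a7] (![a0, a1, a2, a3, a4, a5, a6, a7] (![a0, a1, a2, a3, a4, a5, a6, a7] (![a0, a1, a2, a3, a4, a5, a6, a7] (![a0, a1, a2, a3, a4, a5, a6, a7] (![a0, a1, a2, a3, a4, a5, a6, a7] (![a0, a1, a2, a3, a4, a5, a6, a7] (![a0, a1, a2, a3, a4, a5, a6, a7] (k)))))))) = k := by
  decide +kernel

theorem vec_eq (g : Perm (Fin 8)) : (![g 0, g 1, g 2, g 3, g 4, g 5, g 6, g 7] : Fin 8 → Fin 8) = ⇑g := by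
  funext k
  fin_cases k <;> rfl

theorem pow8 (g : Perm (Fin 8)) (hg : g ∈ P0) : g ^ 8 = 1 := by
  have h := pow8_aux (g 0) (g 1) ⟨g.injective.ne (by decide), hg 1 0⟩ (g 2) ⟨⟨g.injective.ne (by decide), hg 2 0⟩, ⟨g.injective.ne (by decide), hg 2 1⟩⟩ (g 3) ⟨⟨g.injective.ne (by decide), hg 3 0⟩, ⟨g.injective.ne (by decide), hg 3 1⟩, ⟨g.injective.ne (by decide), hg 3 2⟩⟩ (g 4) ⟨⟨g.injective.ne (by decide), hg 4 0⟩, ⟨g.injective.ne (by decide), hg 4 1⟩, ⟨g.injective.ne (by decide), hg 4 2⟩, ⟨g.injective.ne (by decide), hg 4 3⟩⟩ (g 5) ⟨⟨g.injective.ne (by decide), hg 5 0⟩, ⟨g.injective.ne (by decide), hg 5 1⟩, ⟨g.injective.ne (by decide), hg 5 2⟩, ⟨g.injective.ne (by decide), hg 5 3⟩, ⟨g.injective.ne (by decide), hg 5 4⟩⟩ (g 6) ⟨⟨g.injective.ne (by decide), hg 6 0⟩, ⟨g.injective.ne (by decide), hg 6 1⟩, ⟨g.injective.ne (by decide), hg 6 2⟩, ⟨g.injective.ne (by decide),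 hg 6 3⟩, ⟨g.injective.ne (by decide), hg 6 4⟩, ⟨g.injective.ne (by decide), hg 6 5⟩⟩ (g 7) ⟨⟨g.injective.ne (by decide), hg 7 0⟩, ⟨g.injective.ne (by decide), hg 7 1⟩, ⟨g.injective.ne (by decide), hg 7 2⟩, ⟨g.injective.ne (by decide), hg 7 3⟩, ⟨g.injective.ne (by decide), hg 7 4⟩, ⟨g.injective.ne (by decide), hg 7 5⟩, ⟨g.injective.ne (by decide), hg 7 6⟩⟩
  rw [vec_eq] at h
  apply Equiv.ext
  intro k
  exact h k

theorem isPGroup_P0 : IsPGroup 2 P0 := by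
  intro g
  refine ⟨3, ?_⟩
  apply Subtype.ext
  have := pow8 g.1 g.2
  simpa using this

/-! ### The candidates -/

def candsN : List ℕ := [16434817, 16434376, 16406152, 14599816, 14570689, 11788826, 9925146, 11788371, 9924691, 6852524, 5017068, 6823845, 4988389, 2206526, 2177406, 371511, 342391]

def cget (C k : ℕ) : ℕ := C / 4 ^ k % 4

def hget (H k : ℕ) : ℕ := H / 8 ^ k % 8

def chk1 (C H : ℕ) : Bool :=
  [1, 2, 3, 4, 5, 6, 7].all fun k =>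
    Nat.beq (Nat.xor (cget C (hget H k)) (cget C k)) (Nat.xor (cget C (hget H 0)) (cget C 0))

def chk (C : ℕ) : Bool := candsN.any (chk1 C)

def pack8 (c0 c1 c2 c3 c4 c5 c6 c7 : Fin 4) : ℕ :=
  c0.val + 4 * c1.val + 16 * c2.val + 64 * c3.val + 256 * c4.val + 1024 * c5.val + 4096 * c6.val +
    16384 * c7.val

theorem cands_spec : ∀ H ∈ candsN, ∃ h : Perm (Fin 8), h ∈ P0 ∧ (∃ k, h k ≠ k) ∧
    ∀ k : Fin 8, (h k).val = hget H k.val := by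
  intro H hH
  simp only [candsN, List.mem_cons, List.not_mem_nil, or_false] at hH
  rcases hH with rfl | rfl | rfl | rfl | rfl | rfl | rfl | rfl | rfl | rfl | rfl | rfl | rfl | rfl | rfl | rfl | rfl
  · exact ⟨Equiv.swap (0 : Fin 8) 1, by decide +kernel, by decide +kernel, by decide +kernel⟩
  · exact ⟨Equiv.swap (2 : Fin 8) 3, by decide +kernel, by decide +kernel, by decide +kernel⟩
  · exact ⟨Equiv.swap (4 : Fin 8) 5, by decide +kernel, by decide +kernel, by decide +kernel⟩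
  · exact ⟨Equiv.swap (6 : Fin 8) 7, by decide +kernel, by decide +kernel, by decide +kernel⟩
  · exact ⟨Equiv.swap (0 : Fin 8) 1 * Equiv.swap (2 : Fin 8) 3 * Equiv.swap (4 : Fin 8) 5 * Equiv.swap (6 : Fin 8) 7, by decide +kernel, by decide +kernel, by decide +kernel⟩
  · exact ⟨Equiv.swap (0 : Fin 8) 2 * Equiv.swap (1 : Fin 8) 3 * Equiv.swap (4 : Fin 8) 6 * Equiv.swap (5 : Fin 8) 7, by decide +kernel, by decide +kernel, by decide +kernel⟩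
  · exact ⟨Equiv.swap (0 : Fin 8) 2 * Equiv.swap (1 : Fin 8) 3 * Equiv.swap (4 : Fin 8) 7 * Equiv.swap (5 : Fin 8) 6, by decide +kernel, by decide +kernel, by decide +kernel⟩
  · exact ⟨Equiv.swap (0 : Fin 8) 3 * Equiv.swap (1 : Fin 8) 2 * Equiv.swap (4 : Fin 8) 6 * Equiv.swap (5 : Fin 8) 7, by decide +kernel, by decide +kernel, by decide +kernel⟩
  · exact ⟨Equiv.swap (0 : Fin 8) 3 * Equiv.swap (1 : Fin 8) 2 * Equiv.swap (4 : Fin 8) 7 * Equiv.swap (5 : Fin 8) 6, by decide +kernel, by decide +kernel, by decide +kernel⟩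
  · exact ⟨Equiv.swap (0 : Fin 8) 4 * Equiv.swap (1 : Fin 8) 5 * Equiv.swap (2 : Fin 8) 6 * Equiv.swap (3 : Fin 8) 7, by decide +kernel, by decide +kernel, by decide +kernel⟩
  · exact ⟨Equiv.swap (0 : Fin 8) 4 * Equiv.swap (1 : Fin 8) 5 * Equiv.swap (2 : Fin 8) 7 * Equiv.swap (3 : Fin 8) 6, by decide +kernel, by decide +kernel, by decide +kernel⟩
  · exact ⟨Equiv.swap (0 : Fin 8) 5 * Equiv.swap (1 : Fin 8) 4 * Equiv.swap (2 : Fin 8) 6 * Equiv.swap (3 : Fin 8) 7, by decide +kernel, by decide +kernel, by decide +kernel⟩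
  · exact ⟨Equiv.swap (0 : Fin 8) 5 * Equiv.swap (1 : Fin 8) 4 * Equiv.swap (2 : Fin 8) 7 * Equiv.swap (3 : Fin 8) 6, by decide +kernel, by decide +kernel, by decide +kernel⟩
  · exact ⟨Equiv.swap (0 : Fin 8) 6 * Equiv.swap (1 : Fin 8) 7 * Equiv.swap (2 : Fin 8) 4 * Equiv.swap (3 : Fin 8) 5, by decide +kernel, by decide +kernel, by decide +kernel⟩
  · exact ⟨Equiv.swap (0 : Fin 8) 6 * Equiv.swap (1 : Fin 8) 7 * Equiv.swap (2 : Fin 8) 5 * Equiv.swap (3 : Fin 8) 4, by decide +kernel, by decide +kernel, by decide +kernel⟩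
  · exact ⟨Equiv.swap (0 : Fin 8) 7 * Equiv.swap (1 : Fin 8) 6 * Equiv.swap (2 : Fin 8) 4 * Equiv.swap (3 : Fin 8) 5, by decide +kernel, by decide +kernel, by decide +kernel⟩
  · exact ⟨Equiv.swap (0 : Fin 8) 7 * Equiv.swap (1 : Fin 8) 6 * Equiv.swap (2 : Fin 8) 5 * Equiv.swap (3 : Fin 8) 4, by decide +kernel, by decide +kernel, by decide +kernel⟩

set_option maxRecDepth 100000 in
set_option synthInstance.maxSize 100000 in
set_option synthInstance.maxHeartbeats 0 in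
theorem key :
    ∀ c0 : Fin 4, ∀ c1 : Fin 4, ∀ c2 : Fin 4, (¬(c0 = c2 ∧ c1 = c2)) →
    ∀ c3 : Fin 4, (¬(c0 = c3 ∧ c1 = c3) ∧ ¬(c0 = c3 ∧ c2 = c3) ∧ ¬(c1 = c3 ∧ c2 = c3)) →
    ∀ c4 : Fin 4, (¬(c0 = c4 ∧ c1 = c4) ∧ ¬(c0 = c4 ∧ c2 = c4) ∧ ¬(c0 = c4 ∧ c3 = c4) ∧ ¬(c1 = c4 ∧ c2 = c4) ∧ ¬(c1 = c4 ∧ c3 = c4) ∧ ¬(c2 = c4 ∧ c3 = c4)) →
    ∀ c5 : Fin 4, (¬(c0 = c5 ∧ c1 = c5) ∧ ¬(c0 = c5 ∧ c2 = c5) ∧ ¬(c0 = c5 ∧ c3 = c5) ∧ ¬(c0 = c5 ∧ c4 = c5) ∧ ¬(c1 = c5 ∧ c2 = c5) ∧ ¬(c1 = c5 ∧ c3 = c5) ∧ ¬(c1 = c5 ∧ c4 = c5) ∧ ¬(c2 = c5 ∧ c3 = c5) ∧ ¬(c2 = c5 ∧ c4 = c5) ∧ ¬(c3 = c5 ∧ c4 = c5)) →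
    ∀ c6 : Fin 4, (¬(c0 = c6 ∧ c1 = c6) ∧ ¬(c0 = c6 ∧ c2 = c6) ∧ ¬(c0 = c6 ∧ c3 = c6) ∧ ¬(c0 = c6 ∧ c4 = c6) ∧ ¬(c0 = c6 ∧ c5 = c6) ∧ ¬(c1 = c6 ∧ c2 = c6) ∧ ¬(c1 = c6 ∧ c3 = c6) ∧ ¬(c1 = c6 ∧ c4 = c6) ∧ ¬(c1 = c6 ∧ c5 = c6) ∧ ¬(c2 = c6 ∧ c3 = c6) ∧ ¬(c2 = c6 ∧ c4 = c6) ∧ ¬(c2 = c6 ∧ c5 = c6) ∧ ¬(c3 = c6 ∧ c4 = c6) ∧ ¬(c3 = c6 ∧ c5 = c6) ∧ ¬(c4 = c6 ∧ c5 = c6)) →
    ∀ c7 : Fin 4, (¬(c0 = c7 ∧ c1 = c7) ∧ ¬(c0 = c7 ∧ c2 = c7) ∧ ¬(c0 = c7 ∧ c3 = c7) ∧ ¬(c0 = c7 ∧ c4 = c7) ∧ ¬(c0 = c7 ∧ c5 = c7) ∧ ¬(c0 = c7 ∧ c6 = c7) ∧ ¬(c1 = c7 ∧ c2 = c7) ∧ ¬(c1 = c7 ∧ c3 = c7) ∧ ¬(c1 = c7 ∧ c4 = c7) ∧ ¬(c1 = c7 ∧ c5 = c7) ∧ ¬(c1 = c7 ∧ c6 = c7) ∧ ¬(c2 = c7 ∧ c3 = c7) ∧ ¬(c2 = c7 ∧ c4 = c7) ∧ ¬(c2 = c7 ∧ c5 = c7) ∧ ¬(c2 = c7 ∧ c6 = c7) ∧ ¬(c3 = c7 ∧ c4 = c7) ∧ ¬(c3 = c7 ∧ c5 = c7) ∧ ¬(c3 = c7 ∧ c6 = c7) ∧ ¬(c4 = c7 ∧ c5 = c7) ∧ ¬(c4 = c7 ∧ c6 = c7) ∧ ¬(c5 = c7 ∧ c6 = c7)) →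
    chk (pack8 c0 c1 c2 c3 c4 c5 c6 c7) = true := by
  decide +kernel

/-- The colouring of `Fin 8` pulled back along `y` from the 2-blocks. -/
def cfun (y : Perm (Fin 8)) (k : Fin 8) : Fin 4 := ⟨(y k).val / 2, by have := (y k).isLt; omega⟩

theorem three_aux : ∀ a b d : Fin 8, a ≠ b → a ≠ d → b ≠ d → ¬(a.val / 2 = d.val / 2 ∧ b.val / 2 = d.val / 2) := by
  decide

theorem side (y : Perm (Fin 8)) (i j k : Fin 8) (hij : i ≠ j) (hik : i ≠ k) (hjk : j ≠ k) :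
    ¬(cfun y i = cfun y k ∧ cfun y j = cfun y k) := by
  rintro ⟨h1, h2⟩
  exact three_aux (y i) (y j) (y k) (y.injective.ne hij) (y.injective.ne hik) (y.injective.ne hjk)
    ⟨congrArg Fin.val h1, congrArg Fin.val h2⟩

theorem key_y (y : Perm (Fin 8)) : chk (pack8 (cfun y 0) (cfun y 1) (cfun y 2) (cfun y 3) (cfun y 4) (cfun y 5) (cfun y 6) (cfun y 7)) = true :=
  key (cfun y 0) (cfun y 1) (cfun y 2) (side y 0 1 2 (by decide) (by decide) (by decide)) (cfun y 3)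
    ⟨side y 0 1 3 (by decide) (by decide) (by decide), side y 0 2 3 (by decide) (by decide) (by decide), side y 1 2 3 (by decide) (by decide) (by decide)⟩ (cfun y 4)
    ⟨side y 0 1 4 (by decide) (by decide) (by decide), side y 0 2 4 (by decide) (by decide) (by decide), side y 0 3 4 (by decide) (by decide) (by decide), side y 1 2 4 (by decide) (by decide) (by decide), side y 1 3 4 (by decide) (by decide) (by decide), side y 2 3 4 (by decide) (by decide) (by decide)⟩ (cfun y 5)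
    ⟨side y 0 1 5 (by decide) (by decide) (by decide), side y 0 2 5 (by decide) (by decide) (by decide), side y 0 3 5 (by decide) (by decide) (by decide), side y 0 4 5 (by decide) (by decide) (by decide), side y 1 2 5 (by decide) (by decide) (by decide), side y 1 3 5 (by decide) (by decide) (by decide), side y 1 4 5 (by decide) (by decide) (by decide), side y 2 3 5 (by decide) (by decide) (by decide), side y 2 4 5 (by decide) (by decide) (by decide), side y 3 4 5 (by decide) (by decide) (by decide)⟩ (cfun y 6)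
    ⟨side y 0 1 6 (by decide) (by decide) (by decide), side y 0 2 6 (by decide) (by decide) (by decide), side y 0 3 6 (by decide) (by decide) (by decide), side y 0 4 6 (by decide) (by decide) (by decide), side y 0 5 6 (by decide) (by decide) (by decide), side y 1 2 6 (by decide) (by decide) (by decide), side y 1 3 6 (by decide) (by decide) (by decide), side y 1 4 6 (by decide) (by decide) (by decide), side y 1 5 6 (by decide) (by decide) (by decide), side y 2 3 6 (by decide) (by decide) (by decide), side y 2 4 6 (by decide) (by decide) (by decide), side y 2 5 6 (by decide) (by decide) (by decide), side y 3 4 6 (by decide) (by decide) (by decide), side y 3 5 6 (by decide) (by decide) (by decide), side y 4 5 6 (by decide) (by decide) (by decide)⟩ (cfun y 7)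
    ⟨side y 0 1 7 (by decide) (by decide) (by decide), side y 0 2 7 (by decide) (by decide) (by decide), side y 0 3 7 (by decide) (by decide) (by decide), side y 0 4 7 (by decide) (by decide) (by decide), side y 0 5 7 (by decide) (by decide) (by decide), side y 0 6 7 (by decide) (by decide) (by decide), side y 1 2 7 (by decide) (by decide) (by decide), side y 1 3 7 (by decide) (by decide) (by decide), side y 1 4 7 (by decide) (by decide) (by decide), side y 1 5 7 (by decide) (by decide) (by decide), side y 1 6 7 (by decide) (by decide) (by decide), side y 2 3 7 (by decide) (by decide) (by decide), side y 2 4 7 (by decide) (by decide) (by decide), side y 2 5 7 (by decide) (by decide) (by decide), side y 2 6 7 (by decide) (by decide) (by decide), side y 3 4 7 (by decide) (by decide) (by decide), side y 3 5 7 (by decide) (by decide) (by decide), side y 3 6 7 (by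 decide) (by decide) (by decide), side y 4 5 7 (by decide) (by decide) (by decide), side y 4 6 7 (by decide) (by decide) (by decide), side y 5 6 7 (by decide) (by decide) (by decide)⟩

theorem cget_pack (y : Perm (Fin 8)) (k : Fin 8) :
    cget (pack8 (cfun y 0) (cfun y 1) (cfun y 2) (cfun y 3) (cfun y 4) (cfun y 5) (cfun y 6) (cfun y 7)) k.val = (y k).val / 2 := by
  have h0 := (cfun y 0).isLt
  have h1 := (cfun y 1).isLt
  have h2 := (cfun y 2).isLt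
  have h3 := (cfun y 3).isLt
  have h4 := (cfun y 4).isLt
  have h5 := (cfun y 5).isLt
  have h6 := (cfun y 6).isLt
  have h7 := (cfun y 7).isLt
  have e : ∀ i, (cfun y i).val = (y i).val / 2 := fun i => rfl
  rw [← e]
  have hk : k = 0 ∨ k = 1 ∨ k = 2 ∨ k = 3 ∨ k = 4 ∨ k = 5 ∨ k = 6 ∨ k = 7 := by
    revert k; decide
  rcases hk with rfl | rfl | rfl | rfl | rfl | rfl | rfl | rfl <;> simp only [cget, pack8] <;>
    norm_num <;> omega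

theorem xor_fact_fin : ∀ a b a' b' : Fin 4, Nat.xor a'.val a.val = Nat.xor b'.val b.val →
    ((a.val = b.val ↔ a'.val = b'.val) ∧ (a.val / 2 = b.val / 2 ↔ a'.val / 2 = b'.val / 2)) := by
  decide

theorem xor_fact (a : ℕ) (ha : a < 4) (b : ℕ) (hb : b < 4) (a' : ℕ) (ha' : a' < 4) (b' : ℕ) (hb' : b' < 4)
    (h : Nat.xor a' a = Nat.xor b' b) :
    ((a = b ↔ a' = b') ∧ (a / 2 = b / 2 ↔ a' / 2 = b' / 2)) :=
  xor_fact_fin ⟨a, ha⟩ ⟨b, hb⟩ ⟨a', ha'⟩ ⟨b', hb'⟩ h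

theorem transfer (y h : Perm (Fin 8))
    (hx : ∀ k : Fin 8, Nat.xor ((y (h k)).val / 2) ((y k).val / 2) =
      Nat.xor ((y (h 0)).val / 2) ((y 0).val / 2)) : y * h * y⁻¹ ∈ P0 := by
  intro i j
  obtain ⟨k, rfl⟩ := y.surjective i
  obtain ⟨l, rfl⟩ := y.surjective j
  simp only [Perm.coe_mul, Function.comp_apply, Perm.coe_inv, Equiv.symm_apply_apply]
  have hk := hx k
  have hl := hx l
  have b1 := (y k).isLt
  have b2 := (y l).isLt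
  have b3 := (y (h k)).isLt
  have b4 := (y (h l)).isLt
  have := xor_fact _ (by omega) _ (by omega) _ (by omega) _ (by omega) (hk.trans hl.symm)
  refine ⟨this.1, ?_⟩
  have e : ∀ x : ℕ, x / 4 = x / 2 / 2 := by intro x; omega
  rw [e, e, e, e]
  exact this.2

theorem main_exists (y : Perm (Fin 8)) : ∃ h ∈ P0, h ≠ 1 ∧ y * h * y⁻¹ ∈ P0 := by
  have hc := key_y y
  obtain ⟨H, hH, hH1⟩ := List.any_eq_true.mp hc
  obtain ⟨h, hP, ⟨k0, hk0⟩, hval⟩ := cands_spec H hH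
  refine ⟨h, hP, ?_, ?_⟩
  · rintro rfl
    exact hk0 rfl
  · apply transfer
    have hall := List.all_eq_true.mp hH1
    intro k
    by_cases hk : k = 0
    · subst hk; rfl
    · have hk' : k.val ∈ [1, 2, 3, 4, 5, 6, 7] := by
        revert hk; revert k; decide
      have := Nat.eq_of_beq_eq_true (hall k.val hk')
      have hv0 : hget H 0 = (h 0).val := (hval 0).symm
      rw [← hval k, hv0] at this
      have c0 := cget_pack y 0
      rw [Fin.val_zero] at c0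
      rw [cget_pack, cget_pack, cget_pack, c0] at this
      exact this

/-- In the symmetric group on 8 letters any two Sylow 2-subgroups have non-trivial intersection: for a Sylow 2-subgroup H and every element x, H ∩ xHx⁻¹ ≠ 1. -/
theorem result (H : Sylow 2 (Equiv.Perm (Fin 8))) (x : Equiv.Perm (Fin 8)) :
    (H : Subgroup (Equiv.Perm (Fin 8))) ⊓ (H : Subgroup (Equiv.Perm (Fin 8))).map (MulAut.conj x).toMonoidHom ≠ ⊥ := by
  obtain ⟨Q, hQ⟩ := isPGroup_P0.exists_le_sylow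
  obtain ⟨g, rfl⟩ := MulAction.exists_smul_eq (Equiv.Perm (Fin 8)) Q H
  obtain ⟨h, hP, hne, hyh⟩ := main_exists (g⁻¹ * x⁻¹ * g)
  have memH : ∀ a ∈ P0, g * a * g⁻¹ ∈ ((g • Q : Sylow 2 (Equiv.Perm (Fin 8))) : Subgroup (Equiv.Perm (Fin 8))) := by
    intro a ha
    rw [Sylow.coe_subgroup_smul]
    have := Subgroup.smul_mem_pointwise_smul a (MulAut.conj g) (Q : Subgroup (Equiv.Perm (Fin 8))) (hQ ha)
    simpa [MulAut.smul_def] using this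
  intro hbot
  have hmem : g * h * g⁻¹ ∈ (⊥ : Subgroup (Equiv.Perm (Fin 8))) := by
    rw [← hbot]
    refine ⟨memH h hP, ?_⟩
    refine ⟨g * ((g⁻¹ * x⁻¹ * g) * h * (g⁻¹ * x⁻¹ * g)⁻¹) * g⁻¹, memH _ hyh, ?_⟩
    simp only [MulEquiv.toMonoidHom_eq_coe, MonoidHom.coe_coe, MulAut.conj_apply]
    group
  rw [Subgroup.mem_bot] at hmem
  apply hne
  have : h = g⁻¹ * (g * h * g⁻¹) * g := by group
  rw [this, hmem]
  group

end Cfsg.Agent.S5763
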