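import Cfsg.Statements.S5817
import Cfsg.Agent.Lib.Helper99.BhrMaxCases

set_option autoImplicit false
open Cfsg

namespace Cfsg.Agent.S5817

/-- Every maximal subgroup of SL_8(q) is of one of the listed geometric types or lies in the residual class. Let F be a finite field with q elements (p its characteristic) and H a maximal subgroup of SL_8(F) (inside GL_8(F)). Then H is the intersection with SL_8(F) of one of: the stabiliser of a proper non-zero subspace; for q ≥ 5, the stabiliser of a decomposition into 8 independent 1-spaces; for q ≥ 3, the stabiliser of a decomposition into 4 independent 2-spaces; the stabiliser of a decomposition into 2 independent 4-spaces; the normaliser of a degree-2 subfield of the matrix algebra; for q ≥ 3, the stabiliser of a tensor decomposition F^2 ⊗ F^4; a subfield group for a subfield F₀ with |F| = |F₀|^r, r prime; for q = p prime with p ≡ 1 mod 4, the normaliser of an absolutely irreducible 2-subgroup R of exponent 4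 and order 2^(2+2m) with centre of order 4, all of whose characteristic abelian subgroups are cyclic, 4 dividing p − 1 (here |R| = 2^8); for q odd, the similarity group of a non-degenerate quadratic form; the similarity group of a non-degenerate symplectic form; the similarity group of a non-degenerate unitary form — or else H lies in the residual class of the linear case (modulo scalars H is almost simple, with absolutely irreducible perfect socle preimage realisable over no proper subfield and fixing no non-degenerate quadratic, symplectic or unitary form). -/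
theorem result {F : Type*} [Field F] [Fintype F] (H : Subgroup (Matrix.GeneralLinearGroup (Fin 8) F)) (hH : Cfsg.Geo.IsMaximalIn (Cfsg.Geo.specialLinear (Fin 8) F) H) :
    (∃ W : Submodule F (Fin 8 → F), W ≠ ⊥ ∧ W ≠ ⊤ ∧ H = Cfsg.Geo.subspaceStabilizer W ⊓ Cfsg.Geo.specialLinear (Fin 8) F) ∨
    (5 ≤ Fintype.card F ∧ ∃ D : Fin 8 → Submodule F (Fin 8 → F), Cfsg.Geo.IsMDecomposition 1 D ∧ H = Cfsg.Geo.decompositionStabilizer D ⊓ Cfsg.Geo.specialLinear (Fin 8) F) ∨
    (3 ≤ Fintype.card F ∧ ∃ D : Fin 4 → Submodule F (Fin 8 → F), Cfsg.Geo.IsMDecomposition 2 D ∧ H = Cfsg.Geo.decompositionStabilizer D ⊓ Cfsg.Geo.specialLinear (Fin 8) F) ∨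
    (∃ D : Fin 2 → Submodule F (Fin 8 → F), Cfsg.Geo.IsMDecomposition 4 D ∧ H = Cfsg.Geo.decompositionStabilizer D ⊓ Cfsg.Geo.specialLinear (Fin 8) F) ∨
    (∃ K : Subalgebra F (Matrix (Fin 8) (Fin 8) F), Cfsg.Geo.IsFieldSubalgebra 2 K ∧ H = Cfsg.Geo.subalgebraNormalizer K ⊓ Cfsg.Geo.specialLinear (Fin 8) F) ∨
    (3 ≤ Fintype.card F ∧ ∃ (e : Fin 8 ≃ Fin 2 × Fin 4) (P : Matrix.GeneralLinearGroup (Fin 8) F), H = Cfsg.Geo.tensorProductSubgroup 2 4 e P ⊓ Cfsg.Geo.specialLinear (Fin 8) F) ∨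
    (∃ (F₀ : Subfield F) (r : ℕ) (P : Matrix.GeneralLinearGroup (Fin 8) F), r.Prime ∧ Fintype.card F = Nat.card F₀ ^ r ∧ H = Cfsg.Geo.subfieldSubgroup F₀ P ⊓ Cfsg.Geo.specialLinear (Fin 8) F) ∨
    ((∃ p : ℕ, p.Prime ∧ Fintype.card F = p ∧ (p % 4 = 1)) ∧ ∃ R : Subgroup (Matrix.GeneralLinearGroup (Fin 8) F), Cfsg.Geo.IsLinearSymplecticTypeData 2 R ∧ H = Cfsg.Geo.subgroupNormalizer R ⊓ Cfsg.Geo.specialLinear (Fin 8) F) ∨
    (Odd (Fintype.card F) ∧ ∃ Q : (Fin 8 → F) → F, Cfsg.Geo.IsNondegenerateQuadraticForm Q ∧ H = Cfsg.Geo.quadSimilarityGroup Q ⊓ Cfsg.Geo.specialLinear (Fin 8) F) ∨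
    (∃ f : (Fin 8 → F) → (Fin 8 → F) → F, Cfsg.Geo.IsSymplecticForm f ∧ H = Cfsg.Geo.similarityGroup f ⊓ Cfsg.Geo.specialLinear (Fin 8) F) ∨
    (∃ (σ : F ≃+* F) (f : (Fin 8 → F) → (Fin 8 → F) → F), Cfsg.Geo.IsUnitaryForm σ f ∧ H = Cfsg.Geo.similarityGroup f ⊓ Cfsg.Geo.specialLinear (Fin 8) F) ∨
    Cfsg.Geo.InLinearResidualClass H := by
  open Cfsg.Agent.Lib.Helper99.Asch in
  rcases maximal_cases (n := 8) (by norm_num) H hH with
    h | h | h | h | h | h | h | h | h | h | h
  · exact Or.inl h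
  · -- decompositions
    obtain ⟨t, m, D, hD, htm, h1, h2, hHe⟩ := h
    have ht2 := hD.two_le
    have htd : t ∣ 8 := ⟨m, htm.symm⟩
    have htle : t ≤ 8 := Nat.le_of_dvd (by norm_num) htd
    interval_cases t
    all_goals first
      | (exfalso; omega)
      | skip
    · -- t = 2, m = 4
      obtain rfl : m = 4 := by omega
      exact Or.inr (Or.inr (Or.inr (Or.inl ⟨D, hD, hHe⟩)))
    · obtain rfl : m = 2 := by omega
      exact Or.inr (Or.inr (Or.inl ⟨h2 rfl, D, hD, hHe⟩))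
    · obtain rfl : m = 1 := by omega
      exact Or.inr (Or.inl ⟨h1 rfl, D, hD, hHe⟩)
  · -- field subalgebras
    obtain ⟨r, K, hr, hrd, hK, hHe⟩ := h
    have hrle : r ≤ 8 := Nat.le_of_dvd (by norm_num) hrd
    have hr2 := hr.two_le
    interval_cases r
    all_goals first
      | (exfalso; revert hrd; decide)
      | (exfalso; revert hr; decide)
      | skip
    · exact Or.inr (Or.inr (Or.inr (Or.inr (Or.inl ⟨K, hK, hHe⟩))))
  · -- tensor products
    obtain ⟨n₁, n₂, e, P, h2, hlt, hmul, hq, hHe⟩ := h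
    have hn1le : n₁ ≤ 2 := by
      by_contra hc
      push Not at hc
      have : 3 * 4 ≤ n₁ * n₂ := Nat.mul_le_mul (by omega) (by omega)
      omega
    obtain rfl : n₁ = 2 := by omega
    obtain rfl : n₂ = 4 := by omega
    exact Or.inr (Or.inr (Or.inr (Or.inr (Or.inr (Or.inl ⟨hq rfl, e, P, hHe⟩)))))
  · -- subfield
    exact Or.inr (Or.inr (Or.inr (Or.inr (Or.inr (Or.inr (Or.inl h))))))
  · -- symplectic type : 8 = 2 ^ 3
    obtain ⟨r, R, m, hR, hm, hn, hHe⟩ := h
    have hr := hR.symplecticType.prime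
    have h2 : (2 : ℕ) ∣ r ^ m := by rw [← hn]; norm_num
    have h2' := (Nat.prime_dvd_prime_iff_eq Nat.prime_two hr).mp (Nat.prime_two.dvd_of_dvd_pow h2)
    subst h2'
    obtain ⟨p, e, hne, hmin, hcases⟩ := hR.field
    obtain ⟨hp, -, hcard, hdvd, -⟩ := hmin
    have key : e = 1 ∧ Nat.card (Subgroup.center R) = 4 := by
      rcases hcases with ⟨hodd, -⟩ | ⟨-, he, hc, -⟩ | ⟨-, -, hι, -⟩
      · exact absurd hodd (by decide)
      · exact ⟨he, hc⟩
      · simp at hι
    obtain ⟨rfl, hc4⟩ := key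
    rw [hc4, pow_one] at hdvd
    rw [pow_one] at hcard
    have hp2 := hp.two_le
    refine Or.inr (Or.inr (Or.inr (Or.inr (Or.inr (Or.inr (Or.inr (Or.inl
      ⟨⟨p, hp, hcard, ?_⟩, R, hR, hHe⟩)))))))
    omega
  · -- tensor wreath : 8 is not m ^ t with m ≥ 3, t ≥ 2
    exfalso
    obtain ⟨m, t, e, P, hm, ht, hn, -⟩ := h
    have : 3 ^ 2 ≤ m ^ t := le_trans (Nat.pow_le_pow_left hm 2) (Nat.pow_le_pow_right (by omega) ht)
    omega
  · -- symplectic
    obtain ⟨f, hf, -, hHe⟩ := h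
    exact Or.inr (Or.inr (Or.inr (Or.inr (Or.inr (Or.inr (Or.inr (Or.inr
        (Or.inr (Or.inl ⟨f, hf, hHe⟩)))))))))
  · -- unitary
    exact Or.inr (Or.inr (Or.inr (Or.inr (Or.inr (Or.inr (Or.inr (Or.inr
        (Or.inr (Or.inr (Or.inl h))))))))))
  · -- quadratic
    obtain ⟨Q, hQ, hodd, hHe⟩ := h
    exact Or.inr (Or.inr (Or.inr (Or.inr (Or.inr (Or.inr (Or.inr (Or.inr
        (Or.inl ⟨hodd, Q, hQ, hHe⟩))))))))
  · -- residual
    exact Or.inr (Or.inr (Or.inr (Or.inr (Or.inr (Or.inr (Or.inr (Or.inr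
        (Or.inr (Or.inr (Or.inr h))))))))))

end Cfsg.Agent.S5817
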