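import Cfsg.Statements.S5826
import Cfsg.Agent.Lib.Helper55.Oe.Core
import Cfsg.Agent.Lib.Helper55.Oe.RowKit
import Cfsg.Agent.Lib.Helper19.OeGEven
import Cfsg.Agent.Lib.Helper52.OeTEven
import Cfsg.Agent.Lib.Helper52.OeTSubfield2
import Cfsg.Agent.Lib.Helper36.OeTensorAlt
import Cfsg.Agent.Lib.Helper43.OePField
import Cfsg.Agent.Lib.Helper52.OePSubfield
import Cfsg.Agent.Lib.Helper45.OeESwap
import Cfsg.Agent.Lib.Helper45.OeETensor2
import Cfsg.Agent.Lib.Helper24.BhrC3Div
import Cfsg.Agent.Lib.Helper40.OeTFour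

set_option autoImplicit false
open Cfsg
open Cfsg.Agent.Lib.Helper55

namespace Cfsg.Agent.S5826

/-- Every maximal subgroup of Ω_8^-(q) is of one of the listed geometric types or lies in the residual class. Let F be a finite field with q elements, Q a non-degenerate quadratic form on F^8 of minus type (no totally singular 4-space), Ω the commutator subgroup of its isometry group, and H a maximal subgroup of Ω (inside GL_8(F)). Then H is the intersection with Ω of one of: the stabiliser of a non-zero totally singular subspace; for q odd, the stabiliser of a non-degenerate subspace of odd dimension; the stabiliser of a non-degenerate 2-space of minus type; for q ≥ 4, the stabiliser of a non-degenerate 2-space of plus type; the stabiliser of a non-degenerate 4-space; for q even, the stabiliser of the span of a non-singular vector; the normaliser of a degree-2 subfield of the matrix algebra; a subfield group of odd prime index whose F₀-structure carries a non-zero multiple of Q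 — or else H lies in the residual class of the orthogonal case (modulo scalars H is almost simple, with absolutely irreducible perfect socle preimage realisable over no proper subfield and fixing no non-degenerate unitary form). -/
theorem result {F : Type*} [Field F] [Fintype F] (Q : (Fin 8 → F) → F) (hQ : Cfsg.Geo.IsNondegenerateQuadraticForm Q) (hminus : ¬ Cfsg.Geo.IsPlusTypeOn Q ⊤) (H : Subgroup (Matrix.GeneralLinearGroup (Fin 8) F)) (hH : Cfsg.Geo.IsMaximalIn (Cfsg.Geo.omegaGL Q) H) :
    (∃ W : Submodule F (Fin 8 → F), W ≠ ⊥ ∧ Cfsg.Geo.IsTotallySingularQuad Q W ∧ H = Cfsg.Geo.subspaceStabilizer W ⊓ Cfsg.Geo.omegaGL Q) ∨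
    (Odd (Fintype.card F) ∧ ∃ W : Submodule F (Fin 8 → F), W ≠ ⊥ ∧ W ≠ ⊤ ∧ Odd (Module.finrank F W) ∧ Cfsg.Geo.IsNondegenerateOn (QuadraticMap.polar Q) W ∧ H = Cfsg.Geo.subspaceStabilizer W ⊓ Cfsg.Geo.omegaGL Q) ∨
    (∃ W : Submodule F (Fin 8 → F), Module.finrank F W = 2 ∧ Cfsg.Geo.IsNondegenerateOn (QuadraticMap.polar Q) W ∧ ¬ Cfsg.Geo.IsPlusTypeOn Q W ∧ H = Cfsg.Geo.subspaceStabilizer W ⊓ Cfsg.Geo.omegaGL Q) ∨
    (4 ≤ Fintype.card F ∧ ∃ W : Submodule F (Fin 8 → F), Module.finrank F W = 2 ∧ Cfsg.Geo.IsNondegenerateOn (QuadraticMap.polar Q) W ∧ Cfsg.Geo.IsPlusTypeOn Q W ∧ H = Cfsg.Geo.subspaceStabilizer W ⊓ Cfsg.Geo.omegaGL Q) ∨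
    (∃ W : Submodule F (Fin 8 → F), Module.finrank F W = 4 ∧ Cfsg.Geo.IsNondegenerateOn (QuadraticMap.polar Q) W ∧ H = Cfsg.Geo.subspaceStabilizer W ⊓ Cfsg.Geo.omegaGL Q) ∨
    (¬ Odd (Fintype.card F) ∧ ∃ v : (Fin 8 → F), Q v ≠ 0 ∧ H = Cfsg.Geo.subspaceStabilizer (Submodule.span F {v}) ⊓ Cfsg.Geo.omegaGL Q) ∨
    (∃ K : Subalgebra F (Matrix (Fin 8) (Fin 8) F), Cfsg.Geo.IsFieldSubalgebra 2 K ∧ H = Cfsg.Geo.subalgebraNormalizer K ⊓ Cfsg.Geo.omegaGL Q) ∨
    (∃ (F₀ : Subfield F) (r : ℕ) (P : Matrix.GeneralLinearGroup (Fin 8) F) (ζ : F), r.Prime ∧ Odd r ∧ Fintype.card F = Nat.card F₀ ^ r ∧ ζ ≠ 0 ∧ Cfsg.Geo.IsQuadFormRationalStructure (fun v : Fin 8 → F => ζ * Q v) F₀ P ∧ H = Cfsg.Geo.subfieldSubgroup F₀ P ⊓ Cfsg.Geo.omegaGL Q) ∨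
    Cfsg.Geo.InOrthogonalResidualClass H := by
  classical
  have hn7 : 7 ≤ 8 := by norm_num
  have hle : H ≤ Cfsg.Geo.omegaGL Q := hH.1.le
  have hI : H ≤ Cfsg.isometryGroup F Q := hle.trans (Oe.omegaGL_le_isometryGroup Q)
  have hfr8 : Module.finrank F (Fin 8 → F) = 8 := Module.finrank_fin_fun F
  rcases Oe.core_oe hQ (Or.inl rfl) hI with hTS | hND | hNS | hDec | hPair | hSA | hU | hTSym | hTAlt |
    hSub | h8 | hRes
  · -- totally singular subspace
    obtain ⟨W, hW0, hts, hWle⟩ := hTS
    left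
    exact ⟨W, hW0, hts, Oe.row_subspace hQ hn7 hH W hW0
      (Oe.ne_top_of_totallySingular hQ (by norm_num) W hts) hWle⟩
  · -- non-degenerate subspace
    obtain ⟨W, hW0, hW1, hnd, hk, hWle, -⟩ := Oe.outND_normalize hQ hI hND
    have hk0 : 0 < Module.finrank F W := by
      rw [Module.finrank_pos_iff_exists_ne_zero]
      obtain ⟨w, hw, hw0⟩ := Submodule.exists_mem_ne_zero_of_ne_bot hW0
      exact ⟨⟨w, hw⟩, fun h => hw0 (congrArg Subtype.val h)⟩
    by_cases hodd : Odd (Module.finrank F W)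
    · right; left
      refine ⟨?_, W, hW0, hW1, hodd, hnd, Oe.row_subspace hQ hn7 hH W hW0 hW1 hWle⟩
      by_contra hq
      have h2 : (2 : F) = 0 := by
        by_contra h2
        exact hq (Oe.odd_card_of_two_ne_zero h2)
      have := Oe.even_finrank_of_nondegenerate_char_two hQ h2 W hnd
      exact (Nat.not_even_iff_odd.2 hodd) this
    · have hev : Even (Module.finrank F W) := Nat.not_odd_iff_even.1 hodd
      have hcases : Module.finrank F W = 2 ∨ Module.finrank F W = 4 := by
        obtain ⟨a, ha⟩ := hev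
        omega
      rcases hcases with h2 | h4
      · rcases Oe.row_plane hQ hn7 hH W h2 hnd hWle with ⟨hnp, heq⟩ | ⟨hq, hp, heq⟩
        · right; right; left
          exact ⟨W, h2, hnd, hnp, heq⟩
        · right; right; right; left
          exact ⟨hq, W, h2, hnd, hp, heq⟩
      · right; right; right; right; left
        exact ⟨W, h4, hnd, Oe.row_subspace hQ hn7 hH W hW0 hW1 hWle⟩
  · -- non-singular vector, characteristic 2
    obtain ⟨h2, v, hv, hvle⟩ := hNS
    right; right; right; right; right; left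
    have hv0 : v ≠ 0 := by
      rintro rfl
      apply hv
      have := hQ.smul 0 (0 : Fin 8 → F)
      simpa using this
    have hS0 : Submodule.span F {v} ≠ ⊥ := by
      rw [Ne, Submodule.span_singleton_eq_bot]
      exact hv0
    have hS1 : Submodule.span F {v} ≠ ⊤ := by
      intro h
      have h1 : Module.finrank F (Submodule.span F {v}) = 1 := finrank_span_singleton hv0
      rw [h, finrank_top, hfr8] at h1
      omega
    exact ⟨Oe.not_odd_card_of_two_eq_zero h2, v, hv,
      Oe.row_subspace hQ hn7 hH _ hS0 hS1 hvle⟩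
  · -- orthogonal decomposition: plus type
    exfalso
    obtain ⟨t, m, D, hD, -⟩ := hDec
    apply hminus
    have hdec := hD.decomp.decomp
    have htm : t * m = 8 := Oe.mul_eq_of_isMDecomposition hdec
    have ht2 := hdec.two_le
    have hm0 := hdec.pos
    by_cases h4 : 4 ∣ t
    · exact Cfsg.Agent.Lib.Helper40.OeTFour.isPlusTypeOn_top_of_four_dvd_of
        (fun m D h1 h2 h3 h4 h5 h6 => Oe.isPlusTypeOn_iSup_of_even hQ m D h1 h2 h3 h4 h5 h6)
        hQ m D hD h4
    · have ht : t = 2 := by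
        have hdvd : t ∣ 8 := ⟨m, htm.symm⟩
        have hle8 : t ≤ 8 := Nat.le_of_dvd (by norm_num) hdvd
        interval_cases t <;> omega
      subst ht
      have hm : m = 4 := by omega
      subst hm
      have := Oe.isPlusTypeOn_iSup_of_even hQ 4 D hdec.finrank_eq hD.decomp.nondegenerate
        hD.decomp.orthogonal hD.isometric (by decide) (by decide)
      rwa [hdec.iSup_eq_top] at this
  · -- totally singular pair: plus type
    exfalso
    obtain ⟨m, D, hD, hts, -⟩ := hPair
    apply hminus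
    have htm : 2 * m = 8 := Oe.mul_eq_of_isMDecomposition hD
    refine ⟨D 0, le_top, hts 0, ?_⟩
    rw [hD.finrank_eq, finrank_top, hfr8]
    omega
  · -- self-adjoint field
    obtain ⟨r, K, hr, hK, -, hKle⟩ := hSA
    have hdvd : r ∣ 8 := Cfsg.Agent.Lib.Helper99.Asch.dvd_of_isFieldSubalgebra r K hK
    have hr2 : r = 2 := by
      have h8 : (8 : ℕ) = 2 ^ 3 := by norm_num
      rw [h8] at hdvd
      exact (Nat.prime_dvd_prime_iff_eq hr Nat.prime_two).1 (hr.dvd_of_dvd_pow hdvd)
    subst hr2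
    right; right; right; right; right; right; left
    exact ⟨K, hK, Oe.eq_inf_of_isMaximalIn hH hKle
      (Oe.not_omegaGL_le_subalgebraNormalizer hQ hn7 2 le_rfl K hK)⟩
  · -- unitary-type field
    obtain ⟨K, hK, -, -, -, hKle⟩ := hU
    right; right; right; right; right; right; left
    exact ⟨K, hK, Oe.eq_inf_of_isMaximalIn hH hKle
      (Oe.not_omegaGL_le_subalgebraNormalizer hQ hn7 2 le_rfl K hK)⟩
  · -- symmetric tensor product
    obtain ⟨h2, n₁, n₂, e, P, f₁, f₂, h1, h2', hf₁, hf₂, hT, hTle⟩ := hTSym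
    have hcard : n₁ * n₂ = 8 := by
      have := Fintype.card_congr e
      simpa using this.symm
    have key : Oe.OutTSPair Q H ∨ Oe.OutFieldU Q H := by
      have hcases : (n₁ = 2 ∧ n₂ = 4) ∨ (n₁ = 4 ∧ n₂ = 2) := by
        have hdvd : n₁ ∣ 8 := ⟨n₂, hcard.symm⟩
        have hle8 : n₁ ≤ 8 := Nat.le_of_dvd (by norm_num) hdvd
        interval_cases n₁ <;> omega
      rcases hcases with ⟨rfl, rfl⟩ | ⟨rfl, rfl⟩
      · exact Oe.tsPair_or_fieldU_of_tensorSym_two hQ h2 hI 4 (by norm_num) e P f₁ f₂ hf₁ hf₂ hT hTle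
      · obtain ⟨hT', hEq, -⟩ := Oe.tensor_swap (QuadraticMap.polar Q) 4 2 e P f₁ f₂ hT
        rw [hEq] at hTle
        exact Oe.tsPair_or_fieldU_of_tensorSym_two hQ h2 hI 4 (by norm_num) _ P f₂ f₁ hf₂ hf₁ hT' hTle
    rcases key with hPair | hU
    · exfalso
      obtain ⟨m, D, hD, hts, -⟩ := hPair
      apply hminus
      have htm : 2 * m = 8 := Oe.mul_eq_of_isMDecomposition hD
      refine ⟨D 0, le_top, hts 0, ?_⟩
      rw [hD.finrank_eq, finrank_top, hfr8]
      omega
    · obtain ⟨K, hK, -, -, -, hKle⟩ := hU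
      right; right; right; right; right; right; left
      exact ⟨K, hK, Oe.eq_inf_of_isMaximalIn hH hKle
        (Oe.not_omegaGL_le_subalgebraNormalizer hQ hn7 2 le_rfl K hK)⟩
  · -- alternating tensor product: plus type
    exfalso
    obtain ⟨n₁, n₂, e, P, f₁, f₂, -, -, hf₁, hf₂, hT, hpure, -⟩ := hTAlt
    exact hminus (Oe.isPlusTypeOn_top_of_tensorAlt hQ n₁ n₂ e P f₁ f₂ hf₁ hf₂ hT hpure)
  · -- subfield
    obtain ⟨F₀, r, P, ζ, hr, hcard, hζ, hrat, hSle⟩ := hSub
    by_cases hr2 : r = 2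
    · exfalso
      subst hr2
      exact hminus (Oe.isPlusTypeOn_top_of_subfield_two hQ (by decide) F₀ hcard P ζ hζ hrat)
    · have hodd : Odd r := hr.odd_of_ne_two hr2
      have hF₀ : F₀ ≠ ⊤ := by
        rintro rfl
        have h1 : Nat.card (⊤ : Subfield F) = Fintype.card F := by
          rw [Nat.card_eq_fintype_card]
          exact Fintype.card_congr Subfield.topEquiv.toEquiv
        rw [h1] at hcard
        have hc1 : 1 < Fintype.card F := Fintype.one_lt_card
        have : Fintype.card F ^ 1 < Fintype.card F ^ r :=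
          Nat.pow_lt_pow_right hc1 hr.one_lt
        rw [pow_one] at this
        omega
      right; right; right; right; right; right; right; left
      exact ⟨F₀, r, P, ζ, hr, hodd, hcard, hζ, hrat, Oe.eq_inf_of_isMaximalIn hH hSle
        (Oe.not_omegaGL_le_subfieldSubgroup hQ hn7 F₀ hF₀ P)⟩
  · exact absurd h8.2 hminus
  · right; right; right; right; right; right; right; right
    exact hRes

end Cfsg.Agent.S5826
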