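import Cfsg.Statements.S5829
import Cfsg.Agent.Lib.Helper99.BhrMaxCases
import Cfsg.Agent.Lib.Helper24.BhrMinfield

set_option autoImplicit false
open Cfsg

namespace Cfsg.Agent.S5829

open Cfsg.Geo Cfsg.Agent.Lib.Helper99.Asch

/-- the field condition of the class of normalisers of `3`-groups of symplectic type -/
theorem field_cond {F : Type*} [Field F] [Fintype F] {p e : ℕ} (hp : 3 ≠ p)
    (h : IsMinimalFieldFor 3 p e F) (he : Odd e) :
    p.Prime ∧ Fintype.card F = p ∧ p % 3 = 1 := by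
  have h' := h
  obtain ⟨hpp, hch, hcard, hdvd, hmin⟩ := h
  have hcop : Nat.Coprime p 3 := (Nat.coprime_primes hpp (by norm_num)).mpr (Ne.symm hp)
  have hf : 3 ∣ p ^ 2 - 1 := by
    have h1 := Nat.ModEq.pow_totient hcop
    rw [Nat.totient_prime (by norm_num : Nat.Prime 3)] at h1
    exact (Nat.modEq_iff_dvd' (Nat.one_le_pow _ _ hpp.pos)).mp h1.symm
  have he2 : e ∣ 2 := dvd_of_isMinimalFieldFor h' 2 (by norm_num) hf
  have he' : e = 1 := by
    have hle : e ≤ 2 := Nat.le_of_dvd (by norm_num) he2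
    rcases he with ⟨c, hc⟩
    omega
  subst he'
  rw [pow_one] at hcard hdvd
  refine ⟨hpp, hcard, ?_⟩
  have := hpp.two_le
  omega

/-- Every maximal subgroup of SL_9(q) is of one of the listed geometric types or lies in the residual class. Let F be a finite field with q elements (p its characteristic) and H a maximal subgroup of SL_9(F) (inside GL_9(F)). Then H is the intersection with SL_9(F) of one of: the stabiliser of a proper non-zero subspace; for q ≥ 5, the stabiliser of a decomposition into 9 independent 1-spaces; the stabiliser of a decomposition into 3 independent 3-spaces; the normaliser of a degree-3 subfield of the matrix algebra; a subfield group for a subfield F₀ with |F| = |F₀|^r, r prime; for q = p prime with p ≡ 1 mod 3, the normaliser of an absolutely irreducible 3-subgroup R of exponent 3 and order 3^(1+2m) with centre of order 3, all of whose characteristic abelian subgroups are cyclic, F being the smallest field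 of characteristic p containing the cube roots of unity (here R is extraspecial of order 3^5); the stabiliser of a tensor decomposition into 2 factors of dimension 3; for q odd, the similarity group of a non-degenerate quadratic form; the similarity group of a non-degenerate unitary form — or else H lies in the residual class of the linear case (modulo scalars H is almost simple, with absolutely irreducible perfect socle preimage realisable over no proper subfield and fixing no non-degenerate quadratic, symplectic or unitary form). -/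
theorem result {F : Type*} [Field F] [Fintype F] (H : Subgroup (Matrix.GeneralLinearGroup (Fin 9) F)) (hH : Cfsg.Geo.IsMaximalIn (Cfsg.Geo.specialLinear (Fin 9) F) H) :
    (∃ W : Submodule F (Fin 9 → F), W ≠ ⊥ ∧ W ≠ ⊤ ∧ H = Cfsg.Geo.subspaceStabilizer W ⊓ Cfsg.Geo.specialLinear (Fin 9) F) ∨
    (5 ≤ Fintype.card F ∧ ∃ D : Fin 9 → Submodule F (Fin 9 → F), Cfsg.Geo.IsMDecomposition 1 D ∧ H = Cfsg.Geo.decompositionStabilizer D ⊓ Cfsg.Geo.specialLinear (Fin 9) F) ∨
    (∃ D : Fin 3 → Submodule F (Fin 9 → F), Cfsg.Geo.IsMDecomposition 3 D ∧ H = Cfsg.Geo.decompositionStabilizer D ⊓ Cfsg.Geo.specialLinear (Fin 9) F) ∨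
    (∃ K : Subalgebra F (Matrix (Fin 9) (Fin 9) F), Cfsg.Geo.IsFieldSubalgebra 3 K ∧ H = Cfsg.Geo.subalgebraNormalizer K ⊓ Cfsg.Geo.specialLinear (Fin 9) F) ∨
    (∃ (F₀ : Subfield F) (r : ℕ) (P : Matrix.GeneralLinearGroup (Fin 9) F), r.Prime ∧ Fintype.card F = Nat.card F₀ ^ r ∧ H = Cfsg.Geo.subfieldSubgroup F₀ P ⊓ Cfsg.Geo.specialLinear (Fin 9) F) ∨
    ((∃ p : ℕ, p.Prime ∧ Fintype.card F = p ∧ (p % 3 = 1)) ∧ ∃ R : Subgroup (Matrix.GeneralLinearGroup (Fin 9) F), Cfsg.Geo.IsLinearSymplecticTypeData 3 R ∧ H = Cfsg.Geo.subgroupNormalizer R ⊓ Cfsg.Geo.specialLinear (Fin 9) F) ∨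
    (∃ (e : Fin 9 ≃ (Fin 2 → Fin 3)) (P : Matrix.GeneralLinearGroup (Fin 9) F), H = Cfsg.Geo.tensorWreathSubgroup 3 2 e P ⊓ Cfsg.Geo.specialLinear (Fin 9) F) ∨
    (Odd (Fintype.card F) ∧ ∃ Q : (Fin 9 → F) → F, Cfsg.Geo.IsNondegenerateQuadraticForm Q ∧ H = Cfsg.Geo.quadSimilarityGroup Q ⊓ Cfsg.Geo.specialLinear (Fin 9) F) ∨
    (∃ (σ : F ≃+* F) (f : (Fin 9 → F) → (Fin 9 → F) → F), Cfsg.Geo.IsUnitaryForm σ f ∧ H = Cfsg.Geo.similarityGroup f ⊓ Cfsg.Geo.specialLinear (Fin 9) F) ∨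
    Cfsg.Geo.InLinearResidualClass H := by
  rcases maximal_cases (by norm_num : 3 ≤ 9) H hH with
    ⟨W, h1, h2, h3⟩ | ⟨t, m, D, hD, htm, hm1, hm2, hHD⟩ | ⟨r, K, hr, hrn, hK, hHK⟩ |
    ⟨n₁, n₂, e, P, h1, h2, h3, h4, hHT⟩ | ⟨F₀, r, P, hr, hc, hHS⟩ | ⟨r, R, m, hR, hm, hn, hHR⟩ |
    ⟨m, t, e, P, hm, ht, hmt, hHW⟩ | ⟨f, hf, hev, hHf⟩ | ⟨σ, f, hf, hHf⟩ | ⟨Q, hQ, hodd, hHQ⟩ | hres
  · exact Or.inl ⟨W, h1, h2, h3⟩
  · -- decompositions: `t * m = 9`
    have ht2 := hD.two_le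
    have hmpos := hD.pos
    have htm' : (t = 9 ∧ m = 1) ∨ (t = 3 ∧ m = 3) := by
      have hle : t ≤ 9 := Nat.le_of_dvd (by norm_num) ⟨m, htm.symm⟩
      interval_cases t <;> omega
    rcases htm' with ⟨rfl, rfl⟩ | ⟨rfl, rfl⟩
    · exact Or.inr (Or.inl ⟨hm1 rfl, D, hD, hHD⟩)
    · exact Or.inr (Or.inr (Or.inl ⟨D, hD, hHD⟩))
  · -- field subalgebras: `r ∣ 9`
    have hr3 : r = 3 := by
      have h9 : r ∣ 3 ^ 2 := by norm_num; exact hrn
      exact (Nat.prime_dvd_prime_iff_eq hr (by norm_num)).mp (hr.dvd_of_dvd_pow h9)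
    subst hr3
    exact Or.inr (Or.inr (Or.inr (Or.inl ⟨K, hK, hHK⟩)))
  · -- tensor products: `n₁ * n₂ = 9`, `2 ≤ n₁ < n₂` is impossible
    exfalso
    have hle : n₁ ≤ 9 := Nat.le_of_dvd (by norm_num) ⟨n₂, h3.symm⟩
    interval_cases n₁ <;> omega
  · exact Or.inr (Or.inr (Or.inr (Or.inr (Or.inl ⟨F₀, r, P, hr, hc, hHS⟩))))
  · -- symplectic type: `9 = r ^ m`
    have hrp := hR.symplecticType.prime
    have hr3 : r = 3 := by
      have hdvd : r ∣ 3 ^ 2 := by
        have : (3 : ℕ) ^ 2 = r ^ m := by rw [← hn]; norm_num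
        rw [this]
        exact dvd_pow_self r (by omega)
      exact (Nat.prime_dvd_prime_iff_eq hrp (by norm_num)).mp (hrp.dvd_of_dvd_pow hdvd)
    subst hr3
    obtain ⟨p, e, hne, hmin, hcase⟩ := hR.field
    have hcase' : Odd e ∧ Nat.card (Subgroup.center R) = 3 := by
      rcases hcase with ⟨_, he, hZ, _⟩ | ⟨h2, _⟩ | ⟨h2, _⟩
      · exact ⟨he, hZ⟩
      · exact absurd h2 (by norm_num)
      · exact absurd h2 (by norm_num)
    rw [hcase'.2] at hmin
    obtain ⟨hpp, hcard, hmod⟩ := field_cond hne hmin hcase'.1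
    exact Or.inr (Or.inr (Or.inr (Or.inr (Or.inr (Or.inl ⟨⟨p, hpp, hcard, hmod⟩, R, hR, hHR⟩)))))
  · -- tensor powers: `m ^ t = 9`, `3 ≤ m`, `2 ≤ t`
    have hmt' : m = 3 ∧ t = 2 := by
      have h2 : m ^ 2 ≤ m ^ t := Nat.pow_le_pow_right (by omega) ht
      have hm3 : m = 3 := by nlinarith
      subst hm3
      refine ⟨rfl, ?_⟩
      have : (3 : ℕ) ^ t = 3 ^ 2 := by rw [hmt]; norm_num
      exact Nat.pow_right_injective (le_refl 2 |>.trans (by norm_num : 2 ≤ 3)) this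
    obtain ⟨rfl, rfl⟩ := hmt'
    exact Or.inr (Or.inr (Or.inr (Or.inr (Or.inr (Or.inr (Or.inl ⟨e, P, hHW⟩))))))
  · exfalso
    exact absurd hev (by decide)
  · exact Or.inr (Or.inr (Or.inr (Or.inr (Or.inr (Or.inr (Or.inr (Or.inr (Or.inl ⟨σ, f, hf, hHf⟩))))))))
  · exact Or.inr (Or.inr (Or.inr (Or.inr (Or.inr (Or.inr (Or.inr (Or.inl ⟨hodd, Q, hQ, hHQ⟩)))))))
  · exact Or.inr (Or.inr (Or.inr (Or.inr (Or.inr (Or.inr (Or.inr (Or.inr (Or.inr hres))))))))

end Cfsg.Agent.S5829
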