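import Cfsg.Statements.S5835
import Cfsg.Agent.Lib.Helper14.AschO2Row9Of
import Cfsg.Agent.Lib.Helper5.AschOMain
import Cfsg.Agent.Lib.Helper43.AschO2Eich
import Cfsg.Agent.Lib.Helper43.AschO2Isotropic
import Cfsg.Agent.Lib.Helper43.AschO2P1A
import Cfsg.Agent.Lib.Helper43.AschO2Plane
import Cfsg.Agent.Lib.Helper43.AschO2P3
import Cfsg.Agent.Lib.Helper73.AschO2P2
import Cfsg.Agent.Lib.Helper73.AschO2P5
import Cfsg.Agent.Lib.Helper15.AschO2P7Core
import Cfsg.Agent.Lib.Helper31.AschO2R1B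
import Cfsg.Agent.Lib.Helper31.AschO2P1B
import Cfsg.Agent.Lib.Helper43.AschO2RPlus3
import Cfsg.Agent.Lib.Helper95.AschO2R2A3

set_option autoImplicit false
open Cfsg

namespace Cfsg.Agent.S5835

open Cfsg.Geo Cfsg.Agent.Lib.Helper5.AschO in
/-- the tensor-square properness from helper15's core and the long root family -/
theorem p7_aux {ι : Type} [Fintype ι] [DecidableEq ι] {F : Type*} [Field F] [Fintype F]
    {Q : (ι → F) → F} (hQ : IsNondegenerateQuadraticForm Q)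
    (hodd : Odd (Fintype.card F)) (h7 : 7 ≤ Fintype.card ι) (k : ℕ) (hk : 3 ≤ k) (e : ι ≃ (Fin 2 → Fin k))
    (P : Matrix.GeneralLinearGroup ι F) :
    ¬ omegaGL Q ≤ tensorWreathSubgroup k 2 e P := by
  obtain ⟨N, p, w, -, hN0, hNN, hNz, hfam⟩ := exists_long_root_family hQ hodd h7
  refine Cfsg.Agent.Lib.Helper15.AschO2P7.not_le_tensorWreath_two_of_longRoot (omegaGL Q)
    (two_ne_zero_of_odd_card hodd) N p w hN0 hNN ?_ (hfam 2⁻¹) k hk e P
  intro z
  refine ⟨QuadraticMap.polar Q z w, - QuadraticMap.polar Q z p, ?_⟩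
  rw [hNz z, neg_smul, sub_eq_add_neg]

/-- Every maximal subgroup of Ω_9(q), q odd, is of one of the listed geometric types or lies in the residual class. Let F be a finite field of odd order q, Q the standard quadratic form x₀² + Σ x_i y_i on F^9 (coordinates Unit ⊕ (Fin 4 ⊕ Fin 4)), Ω the commutator subgroup of its isometry group, and H a maximal subgroup of Ω (inside GL_9(F)). Then H is the intersection with Ω of one of: the stabiliser of a non-zero totally singular subspace; the stabiliser of a non-zero non-degenerate subspace of even dimension (not a plus-type plane when q = 3); for q prime, the stabiliser of a decomposition into nine pairwise orthogonal, pairwise isometric non-degenerate 1-spaces; for q ≥ 5, the stabiliser of a decomposition into three pairwise orthogonal, pairwise isometric non-degenerate 3-spaces; the normaliser of a degree-3 subfield of the matrix algebra, self-adjoint for the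 polar form; a subfield group (|F| = |F₀|^r, r prime) whose F₀-structure carries Q; for q ≥ 5, the stabiliser of a tensor decomposition of the polar form as a tensor square of a symmetric form on F^3 — or else H lies in the residual class of the orthogonal case (modulo scalars H is almost simple, with absolutely irreducible perfect socle preimage realisable over no proper subfield and fixing no non-degenerate unitary form). -/
theorem result {F : Type*} [Field F] [Fintype F] (hodd : Odd (Fintype.card F)) (H : Subgroup (Matrix.GeneralLinearGroup (Unit ⊕ (Fin 4 ⊕ Fin 4)) F)) (hH : Cfsg.Geo.IsMaximalIn (Cfsg.Geo.omegaGL (Cfsg.quadFormOdd 4 F)) H) :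
    (∃ W : Submodule F (Unit ⊕ (Fin 4 ⊕ Fin 4) → F), W ≠ ⊥ ∧ Cfsg.Geo.IsTotallySingularQuad (Cfsg.quadFormOdd 4 F) W ∧ H = Cfsg.Geo.subspaceStabilizer W ⊓ Cfsg.Geo.omegaGL (Cfsg.quadFormOdd 4 F)) ∨
    (∃ W : Submodule F (Unit ⊕ (Fin 4 ⊕ Fin 4) → F), W ≠ ⊥ ∧ Even (Module.finrank F W) ∧ Cfsg.Geo.IsNondegenerateOn (QuadraticMap.polar (Cfsg.quadFormOdd 4 F)) W ∧ ¬ (Fintype.card F = 3 ∧ Module.finrank F W = 2 ∧ Cfsg.Geo.IsPlusTypeOn (Cfsg.quadFormOdd 4 F) W) ∧ H = Cfsg.Geo.subspaceStabilizer W ⊓ Cfsg.Geo.omegaGL (Cfsg.quadFormOdd 4 F)) ∨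
    ((Fintype.card F).Prime ∧ ∃ D : Fin 9 → Submodule F (Unit ⊕ (Fin 4 ⊕ Fin 4) → F), Cfsg.Geo.IsOrthogonalMDecomposition (Cfsg.quadFormOdd 4 F) 1 D ∧ H = Cfsg.Geo.decompositionStabilizer D ⊓ Cfsg.Geo.omegaGL (Cfsg.quadFormOdd 4 F)) ∨
    (5 ≤ Fintype.card F ∧ ∃ D : Fin 3 → Submodule F (Unit ⊕ (Fin 4 ⊕ Fin 4) → F), Cfsg.Geo.IsOrthogonalMDecomposition (Cfsg.quadFormOdd 4 F) 3 D ∧ H = Cfsg.Geo.decompositionStabilizer D ⊓ Cfsg.Geo.omegaGL (Cfsg.quadFormOdd 4 F)) ∨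
    (∃ K : Subalgebra F (Matrix (Unit ⊕ (Fin 4 ⊕ Fin 4)) (Unit ⊕ (Fin 4 ⊕ Fin 4)) F), Cfsg.Geo.IsFieldSubalgebra 3 K ∧ Cfsg.Geo.IsSelfAdjointFor (QuadraticMap.polar (Cfsg.quadFormOdd 4 F)) K ∧ H = Cfsg.Geo.subalgebraNormalizer K ⊓ Cfsg.Geo.omegaGL (Cfsg.quadFormOdd 4 F)) ∨
    (∃ (F₀ : Subfield F) (r : ℕ) (P : Matrix.GeneralLinearGroup (Unit ⊕ (Fin 4 ⊕ Fin 4)) F), r.Prime ∧ Fintype.card F = Nat.card F₀ ^ r ∧ Cfsg.Geo.IsQuadFormRationalStructure (Cfsg.quadFormOdd 4 F) F₀ P ∧ H = Cfsg.Geo.subfieldSubgroup F₀ P ⊓ Cfsg.Geo.omegaGL (Cfsg.quadFormOdd 4 F)) ∨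
    (5 ≤ Fintype.card F ∧ ∃ (e : (Unit ⊕ (Fin 4 ⊕ Fin 4)) ≃ (Fin 2 → Fin 3)) (P : Matrix.GeneralLinearGroup (Unit ⊕ (Fin 4 ⊕ Fin 4)) F) (f₁ : (Fin 3 → F) → (Fin 3 → F) → F), Cfsg.Geo.IsSymmetricForm f₁ ∧ Cfsg.Geo.IsTensorPowerFormStructure id (QuadraticMap.polar (Cfsg.quadFormOdd 4 F)) f₁ e P ∧ H = Cfsg.Geo.tensorWreathSubgroup 3 2 e P ⊓ Cfsg.Geo.omegaGL (Cfsg.quadFormOdd 4 F)) ∨
    Cfsg.Geo.InOrthogonalResidualClass H := by
  have hQ := Cfsg.Agent.Lib.Helper94.isNondegenerateQuadraticForm_quadFormOdd (F := F) 4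
    (Cfsg.Agent.Lib.Helper5.AschO.two_ne_zero_of_odd_card hodd)
  have hcard : Fintype.card (Unit ⊕ (Fin 4 ⊕ Fin 4)) = 9 := by simp
  have h7 : 7 ≤ Fintype.card (Unit ⊕ (Fin 4 ⊕ Fin 4)) := by rw [hcard]; norm_num
  have hn : Odd (Fintype.card (Unit ⊕ (Fin 4 ⊕ Fin 4))) := by rw [hcard]; decide
  exact Cfsg.Agent.Lib.Helper14.AschO2Row9.row9_of hodd H hH
    (Cfsg.Agent.Lib.Helper5.AschO.aschbacher_quadFormOdd hodd 4 (by norm_num) H hH.1.le)
    (fun W h0 hW => Cfsg.Agent.Lib.Helper5.AschO.not_omegaGL_le_stab_singular hQ h7 W h0 hW)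
    (fun W h0 h1 hW => Cfsg.Agent.Lib.Helper5.AschO.not_omegaGL_le_stab_nondegenerate hQ hodd h7 W h0 h1 hW)
    (fun k D hD => Cfsg.Agent.Lib.Helper5.AschO.not_omegaGL_le_decompositionStabilizer_of hQ
      (fun p w hp hpw => Cfsg.Agent.Lib.Helper5.AschO.exists_eichler_mem_omegaGL hQ h7 p w hp hpw)
      (fun U hU h3 => Cfsg.Agent.Lib.Helper5.AschO.exists_singular_of_three_le hQ hodd U hU h3)
      h7 k D hD)
    (fun r hr hr2 K hK => Cfsg.Agent.Lib.Helper5.AschO.not_omegaGL_le_subalgebraNormalizer hQ hodd h7 r hr hr2 K hK)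
    (fun F₀ hF₀ P => Cfsg.Agent.Lib.Helper5.AschO.not_omegaGL_le_subfieldSubgroup_of
      (Cfsg.Agent.Lib.Helper5.AschO.exists_long_root_family hQ hodd h7) h7 F₀ hF₀ P)
    (fun k hk e P => p7_aux hQ hodd h7 k hk e P)
    (fun W h0 h1 hW => Cfsg.Agent.Lib.Helper5.AschO.exists_even_nondegenerate hQ hn W h0 h1 hW)
    (fun hF W hdim hW hpl => Cfsg.Agent.Lib.Helper5.AschO.exists_hyperplane_of_plus_plane hQ hF hn h7 W hdim hW hpl)
    (fun hF _ D hD => Cfsg.Agent.Lib.Helper5.AschO.exists_line_refinement hQ hF D hD)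

end Cfsg.Agent.S5835
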