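import Cfsg.Statements.S5853
import Cfsg.Agent.Lib.Helper99.BhrMaxCases
import Cfsg.Agent.Lib.Helper24.BhrMinfield

set_option autoImplicit false
open Cfsg

namespace Cfsg.Agent.S5853

open Cfsg.Geo Cfsg.Agent.Lib.Helper99.Asch

/-- the field condition of the class of normalisers of `11`-groups of symplectic type -/
theorem field_cond {F : Type*} [Field F] [Fintype F] {p e : ℕ} (hp : 11 ≠ p)
    (h : IsMinimalFieldFor 11 p e F) (he : Odd e) :
    p.Prime ∧ CharP F p ∧ ((Fintype.card F = p ∧ p % 11 = 1) ∨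
      (Fintype.card F = p ^ 5 ∧ (p % 11 = 3 ∨ p % 11 = 4 ∨ p % 11 = 5 ∨ p % 11 = 9))) := by
  have h' := h
  obtain ⟨hpp, hch, hcard, hdvd, hmin⟩ := h
  have hcop : Nat.Coprime p 11 := (Nat.coprime_primes hpp (by norm_num)).mpr (Ne.symm hp)
  have hf : 11 ∣ p ^ 10 - 1 := by
    have h1 := Nat.ModEq.pow_totient hcop
    rw [Nat.totient_prime (by norm_num : Nat.Prime 11)] at h1
    exact (Nat.modEq_iff_dvd' (Nat.one_le_pow _ _ hpp.pos)).mp h1.symm
  have he10 : e ∣ 10 := dvd_of_isMinimalFieldFor h' 10 (by norm_num) hf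
  have he' : e = 1 ∨ e = 5 := by
    have hle : e ≤ 10 := Nat.le_of_dvd (by norm_num) he10
    rcases he with ⟨c, hc⟩
    have : e = 1 ∨ e = 3 ∨ e = 5 ∨ e = 7 ∨ e = 9 := by omega
    rcases this with h | h | h | h | h
    · exact Or.inl h
    · rw [h] at he10; exact absurd he10 (by decide)
    · exact Or.inr h
    · rw [h] at he10; exact absurd he10 (by decide)
    · rw [h] at he10; exact absurd he10 (by decide)
  refine ⟨hpp, hch, ?_⟩
  rcases he' with rfl | rfl
  · left
    rw [pow_one] at hcard hdvd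
    refine ⟨hcard, ?_⟩
    have := hpp.two_le
    omega
  · right
    refine ⟨hcard, ?_⟩
    have h5 : p ^ 5 % 11 = 1 := by
      have h1 : 1 ≤ p ^ 5 := Nat.one_le_pow _ _ hpp.pos
      generalize p ^ 5 = x at h1 hdvd
      omega
    rw [Nat.pow_mod] at h5
    have hk : p % 11 < 11 := Nat.mod_lt _ (by norm_num)
    have h1 : ¬ 11 ∣ p ^ 1 - 1 := hmin 1 (by norm_num) (by norm_num)
    rw [pow_one] at h1
    have hk1 : p % 11 ≠ 1 := by
      intro h
      apply h1
      have := hpp.two_le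
      omega
    generalize p % 11 = k at h5 hk hk1 ⊢
    interval_cases k <;> first | (exact absurd rfl hk1) | (exact absurd h5 (by decide)) | decide

/-- Every maximal subgroup of SL_11(q) is of one of the listed geometric types or lies in the residual class. Let F be a finite field with q elements (p its characteristic) and H a maximal subgroup of SL_11(F) (inside GL_11(F)). Then H is the intersection with SL_11(F) of one of: the stabiliser of a proper non-zero subspace; for q ≥ 5, the stabiliser of a decomposition into 11 independent 1-spaces; the normaliser of a degree-11 subfield of the matrix algebra; a subfield group for a subfield F₀ with |F| = |F₀|^r, r prime; for q = p prime with p ≡ 1 mod 11, or q = p⁵ with p ≡ 3, 4, 5 or 9 mod 11, the normaliser of an absolutely irreducible 11-subgroup R of exponent 11 and order 11^(1+2m) with centre of order 11, all of whose characteristic abelian subgroups are cyclic, F being the smallest field of characteristic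 p containing the eleventh roots of unity (here R is extraspecial of order 11³); for q odd, the similarity group of a non-degenerate quadratic form; the similarity group of a non-degenerate unitary form — or else H lies in the residual class of the linear case (modulo scalars H is almost simple, with absolutely irreducible perfect socle preimage realisable over no proper subfield and fixing no non-degenerate quadratic, symplectic or unitary form). -/
theorem result {F : Type*} [Field F] [Fintype F] (H : Subgroup (Matrix.GeneralLinearGroup (Fin 11) F)) (hH : Cfsg.Geo.IsMaximalIn (Cfsg.Geo.specialLinear (Fin 11) F) H) :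
    (∃ W : Submodule F (Fin 11 → F), W ≠ ⊥ ∧ W ≠ ⊤ ∧ H = Cfsg.Geo.subspaceStabilizer W ⊓ Cfsg.Geo.specialLinear (Fin 11) F) ∨
    (5 ≤ Fintype.card F ∧ ∃ D : Fin 11 → Submodule F (Fin 11 → F), Cfsg.Geo.IsMDecomposition 1 D ∧ H = Cfsg.Geo.decompositionStabilizer D ⊓ Cfsg.Geo.specialLinear (Fin 11) F) ∨
    (∃ K : Subalgebra F (Matrix (Fin 11) (Fin 11) F), Cfsg.Geo.IsFieldSubalgebra 11 K ∧ H = Cfsg.Geo.subalgebraNormalizer K ⊓ Cfsg.Geo.specialLinear (Fin 11) F) ∨
    (∃ (F₀ : Subfield F) (r : ℕ) (P : Matrix.GeneralLinearGroup (Fin 11) F), r.Prime ∧ Fintype.card F = Nat.card F₀ ^ r ∧ H = Cfsg.Geo.subfieldSubgroup F₀ P ⊓ Cfsg.Geo.specialLinear (Fin 11) F) ∨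
    ((∃ p : ℕ, p.Prime ∧ CharP F p ∧ ((Fintype.card F = p ∧ p % 11 = 1) ∨ (Fintype.card F = p ^ 5 ∧ (p % 11 = 3 ∨ p % 11 = 4 ∨ p % 11 = 5 ∨ p % 11 = 9)))) ∧ ∃ R : Subgroup (Matrix.GeneralLinearGroup (Fin 11) F), Cfsg.Geo.IsLinearSymplecticTypeData 11 R ∧ H = Cfsg.Geo.subgroupNormalizer R ⊓ Cfsg.Geo.specialLinear (Fin 11) F) ∨
    (Odd (Fintype.card F) ∧ ∃ Q : (Fin 11 → F) → F, Cfsg.Geo.IsNondegenerateQuadraticForm Q ∧ H = Cfsg.Geo.quadSimilarityGroup Q ⊓ Cfsg.Geo.specialLinear (Fin 11) F) ∨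
    (∃ (σ : F ≃+* F) (f : (Fin 11 → F) → (Fin 11 → F) → F), Cfsg.Geo.IsUnitaryForm σ f ∧ H = Cfsg.Geo.similarityGroup f ⊓ Cfsg.Geo.specialLinear (Fin 11) F) ∨
    Cfsg.Geo.InLinearResidualClass H := by
  rcases maximal_cases (by norm_num : 3 ≤ 11) H hH with
    ⟨W, h1, h2, h3⟩ | ⟨t, m, D, hD, htm, hm1, hm2, hHD⟩ | ⟨r, K, hr, hrn, hK, hHK⟩ |
    ⟨n₁, n₂, e, P, h1, h2, h3, h4, hHT⟩ | ⟨F₀, r, P, hr, hc, hHS⟩ | ⟨r, R, m, hR, hm, hn, hHR⟩ |
    ⟨m, t, e, P, hm, ht, hmt, hHW⟩ | ⟨f, hf, hev, hHf⟩ | ⟨σ, f, hf, hHf⟩ | ⟨Q, hQ, hodd, hHQ⟩ | hres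
  · exact Or.inl ⟨W, h1, h2, h3⟩
  · -- decompositions: `t * m = 11`
    have ht2 := hD.two_le
    have hmpos := hD.pos
    have htm' : t = 11 ∧ m = 1 := by
      have hdvd : t ∣ 11 := ⟨m, htm.symm⟩
      rcases (Nat.dvd_prime (by norm_num : Nat.Prime 11)).mp hdvd with h | h
      · omega
      · subst h
        exact ⟨rfl, by omega⟩
    obtain ⟨rfl, rfl⟩ := htm'
    exact Or.inr (Or.inl ⟨hm1 rfl, D, hD, hHD⟩)
  · -- field subalgebras: `r ∣ 11`
    have hr11 : r = 11 := (Nat.prime_dvd_prime_iff_eq hr (by norm_num)).mp hrn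
    subst hr11
    exact Or.inr (Or.inr (Or.inl ⟨K, hK, hHK⟩))
  · -- tensor products: `n₁ * n₂ = 11` is impossible
    exfalso
    have hdvd : n₁ ∣ 11 := ⟨n₂, h3.symm⟩
    rcases (Nat.dvd_prime (by norm_num : Nat.Prime 11)).mp hdvd with h | h
    · omega
    · subst h
      have : n₂ = 1 := by omega
      omega
  · exact Or.inr (Or.inr (Or.inr (Or.inl ⟨F₀, r, P, hr, hc, hHS⟩)))
  · -- symplectic type: `11 = r ^ m`
    have hrp := hR.symplecticType.prime
    have hr11 : r = 11 := by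
      have hdvd : r ∣ 11 := by
        rw [hn]
        exact dvd_pow_self r (by omega)
      exact (Nat.prime_dvd_prime_iff_eq hrp (by norm_num)).mp hdvd
    subst hr11
    obtain ⟨p, e, hne, hmin, hcase⟩ := hR.field
    have hcase' : Odd e ∧ Nat.card (Subgroup.center R) = 11 := by
      rcases hcase with ⟨_, he, hZ, _⟩ | ⟨h2, _⟩ | ⟨h2, _⟩
      · exact ⟨he, hZ⟩
      · exact absurd h2 (by norm_num)
      · exact absurd h2 (by norm_num)
    rw [hcase'.2] at hmin
    obtain ⟨hpp, hch, hcond⟩ := field_cond hne hmin hcase'.1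
    exact Or.inr (Or.inr (Or.inr (Or.inr (Or.inl ⟨⟨p, hpp, hch, hcond⟩, R, hR, hHR⟩))))
  · -- tensor powers: `m ^ t = 11` is impossible
    exfalso
    have hdvd : m ∣ 11 := by
      rw [← hmt]
      exact dvd_pow_self m (by omega)
    rcases (Nat.dvd_prime (by norm_num : Nat.Prime 11)).mp hdvd with h | h
    · omega
    · subst h
      have h2 : 11 ^ 2 ≤ 11 ^ t := Nat.pow_le_pow_right (by norm_num) ht
      omega
  · exfalso
    exact absurd hev (by decide)
  · exact Or.inr (Or.inr (Or.inr (Or.inr (Or.inr (Or.inr (Or.inl ⟨σ, f, hf, hHf⟩))))))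
  · exact Or.inr (Or.inr (Or.inr (Or.inr (Or.inr (Or.inl ⟨hodd, Q, hQ, hHQ⟩)))))
  · exact Or.inr (Or.inr (Or.inr (Or.inr (Or.inr (Or.inr (Or.inr hres))))))

end Cfsg.Agent.S5853
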