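import Cfsg.Statements.S5871
import Cfsg.Agent.Lib.Helper55.Oe.Core
import Cfsg.Agent.Lib.Helper43.OePField
import Cfsg.Agent.Lib.Helper10.OeEPlus4
import Cfsg.Agent.Lib.Helper38.OeEO3O4P
import Cfsg.Agent.Lib.Helper36.OeRowKit
import Cfsg.Agent.Lib.Helper55.Oe.Between
import Cfsg.Agent.Lib.Helper19.OePIrr
import Cfsg.Agent.Lib.Helper24.OePDecnd
import Cfsg.Agent.Lib.Helper24.OePTspair
import Cfsg.Agent.Lib.Helper19.OePTensor
import Cfsg.Agent.Lib.Helper52.OePSubfield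
import Cfsg.Agent.Lib.Helper19.OeGPerp
import Cfsg.Agent.Lib.Helper19.OeGEven
import Cfsg.Agent.Lib.Helper42.OeTOdd
import Cfsg.Agent.Lib.Helper47.OeTHalfIso
import Cfsg.Agent.Lib.Helper45.OeEFrame
import Cfsg.Agent.Lib.Helper45.OeESwap
import Cfsg.Agent.Lib.Helper45.OeETensor2
import Cfsg.Agent.Lib.Helper20.OeTTensor34
import Cfsg.Agent.Lib.Helper94.TensorSp2
import Cfsg.Agent.Lib.Helper94.OrthFrameBridge
import Cfsg.Agent.Lib.Helper94.OrthFrameBridge2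
import Cfsg.Agent.Lib.Helper24.BhrC3Div
import Cfsg.Agent.Lib.Helper84.AschC5
import Cfsg.Agent.Lib.Helper37.AschC8
import Cfsg.Agent.Lib.Helper51.AschOPerp
import Cfsg.Agent.Lib.Helper36.AschOFrame5

set_option autoImplicit false
open Cfsg

namespace Cfsg.Agent.S5871

section defs

variable {F : Type*} [Field F] [Fintype F] (Q : (Fin 12 → F) → F)
  (H : Subgroup (Matrix.GeneralLinearGroup (Fin 12) F))

/-- disjunct 1 -/
def D1 : Prop :=
  (∃ W : Submodule F (Fin 12 → F), W ≠ ⊥ ∧ Cfsg.Geo.IsTotallySingularQuad Q W ∧ Module.finrank F W ≠ 5 ∧ H = Cfsg.Geo.subspaceStabilizer W ⊓ Cfsg.Geo.omegaGL Q)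

/-- disjunct 2 -/
def D2 : Prop :=
  (Odd (Fintype.card F) ∧ ∃ W : Submodule F (Fin 12 → F), W ≠ ⊥ ∧ W ≠ ⊤ ∧ Odd (Module.finrank F W) ∧ 2 * Module.finrank F W ≠ 12 ∧ Cfsg.Geo.IsNondegenerateOn (QuadraticMap.polar Q) W ∧ H = Cfsg.Geo.subspaceStabilizer W ⊓ Cfsg.Geo.omegaGL Q)

/-- disjunct 3 -/
def D3 : Prop :=
  (∃ W : Submodule F (Fin 12 → F), Module.finrank F W = 2 ∧ Cfsg.Geo.IsNondegenerateOn (QuadraticMap.polar Q) W ∧ ¬ Cfsg.Geo.IsPlusTypeOn Q W ∧ H = Cfsg.Geo.subspaceStabilizer W ⊓ Cfsg.Geo.omegaGL Q)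

/-- disjunct 4 -/
def D4 : Prop :=
  (4 ≤ Fintype.card F ∧ ∃ W : Submodule F (Fin 12 → F), Module.finrank F W = 2 ∧ Cfsg.Geo.IsNondegenerateOn (QuadraticMap.polar Q) W ∧ Cfsg.Geo.IsPlusTypeOn Q W ∧ H = Cfsg.Geo.subspaceStabilizer W ⊓ Cfsg.Geo.omegaGL Q)

/-- disjunct 5 -/
def D5 : Prop :=
  (∃ W : Submodule F (Fin 12 → F), Module.finrank F W = 4 ∧ Cfsg.Geo.IsNondegenerateOn (QuadraticMap.polar Q) W ∧ H = Cfsg.Geo.subspaceStabilizer W ⊓ Cfsg.Geo.omegaGL Q)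

/-- disjunct 6 -/
def D6 : Prop :=
  (¬ Odd (Fintype.card F) ∧ ∃ v : (Fin 12 → F), Q v ≠ 0 ∧ H = Cfsg.Geo.subspaceStabilizer (Submodule.span F {v}) ⊓ Cfsg.Geo.omegaGL Q)

/-- disjunct 7 -/
def D7 : Prop :=
  ((∃ p : ℕ, p.Prime ∧ Odd p ∧ Fintype.card F = p) ∧ ∃ D : Fin 12 → Submodule F (Fin 12 → F), Cfsg.Geo.IsOrthogonalMDecomposition Q 1 D ∧ H = Cfsg.Geo.decompositionStabilizer D ⊓ Cfsg.Geo.omegaGL Q)

/-- disjunct 8 -/
def D8 : Prop :=
  (7 ≤ Fintype.card F ∧ ∃ D : Fin 6 → Submodule F (Fin 12 → F), Cfsg.Geo.IsOrthogonalMDecomposition Q 2 D ∧ (∀ i, Cfsg.Geo.IsPlusTypeOn Q (D i)) ∧ H = Cfsg.Geo.decompositionStabilizer D ⊓ Cfsg.Geo.omegaGL Q)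

/-- disjunct 9 -/
def D9 : Prop :=
  (Fintype.card F ≠ 3 ∧ ∃ D : Fin 6 → Submodule F (Fin 12 → F), Cfsg.Geo.IsOrthogonalMDecomposition Q 2 D ∧ (∀ i, ¬ Cfsg.Geo.IsPlusTypeOn Q (D i)) ∧ H = Cfsg.Geo.decompositionStabilizer D ⊓ Cfsg.Geo.omegaGL Q)

/-- disjunct 10 -/
def D10 : Prop :=
  (Odd (Fintype.card F) ∧ 5 ≤ Fintype.card F ∧ ∃ D : Fin 4 → Submodule F (Fin 12 → F), Cfsg.Geo.IsOrthogonalMDecomposition Q 3 D ∧ H = Cfsg.Geo.decompositionStabilizer D ⊓ Cfsg.Geo.omegaGL Q)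

/-- disjunct 11 -/
def D11 : Prop :=
  (3 ≤ Fintype.card F ∧ ∃ D : Fin 3 → Submodule F (Fin 12 → F), Cfsg.Geo.IsOrthogonalMDecomposition Q 4 D ∧ H = Cfsg.Geo.decompositionStabilizer D ⊓ Cfsg.Geo.omegaGL Q)

/-- disjunct 12 -/
def D12 : Prop :=
  (∃ D : Fin 2 → Submodule F (Fin 12 → F), Cfsg.Geo.IsOrthogonalMDecomposition Q 6 D ∧ H = Cfsg.Geo.decompositionStabilizer D ⊓ Cfsg.Geo.omegaGL Q)

/-- disjunct 13 -/
def D13 : Prop :=
  (∃ D : Fin 2 → Submodule F (Fin 12 → F), Cfsg.Geo.IsMDecomposition 6 D ∧ (∀ i, Cfsg.Geo.IsTotallySingularQuad Q (D i)) ∧ H = Cfsg.Geo.decompositionStabilizer D ⊓ Cfsg.Geo.omegaGL Q)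

/-- disjunct 14 -/
def D14 : Prop :=
  (∃ K : Subalgebra F (Matrix (Fin 12) (Fin 12) F), Cfsg.Geo.IsFieldSubalgebra 2 K ∧ H = Cfsg.Geo.subalgebraNormalizer K ⊓ Cfsg.Geo.omegaGL Q)

/-- disjunct 15 -/
def D15 : Prop :=
  (∃ K : Subalgebra F (Matrix (Fin 12) (Fin 12) F), Cfsg.Geo.IsFieldSubalgebra 3 K ∧ H = Cfsg.Geo.subalgebraNormalizer K ⊓ Cfsg.Geo.omegaGL Q)

/-- disjunct 16 -/
def D16 : Prop :=
  (∃ K : Subalgebra F (Matrix (Fin 12) (Fin 12) F), Cfsg.Geo.IsFieldSubalgebra 2 K ∧ Cfsg.Geo.IsAdjointClosedFor (QuadraticMap.polar Q) K ∧ ¬ Cfsg.Geo.IsSelfAdjointFor (QuadraticMap.polar Q) K ∧ (∀ k ∈ K, ∃ c : F, ∀ v : (Fin 12 → F), Q (Matrix.mulVec k v) = c * Q v) ∧ H = Cfsg.Geo.subalgebraNormalizer K ⊓ Cfsg.Geo.omegaGL Q)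

/-- disjunct 17 -/
def D17 : Prop :=
  (3 ≤ Fintype.card F ∧ ∃ (e : Fin 12 ≃ Fin 2 × Fin 6) (P : Matrix.GeneralLinearGroup (Fin 12) F) (f₁ : (Fin 2 → F) → (Fin 2 → F) → F) (f₂ : (Fin 6 → F) → (Fin 6 → F) → F), Cfsg.Geo.IsSymplecticForm f₁ ∧ Cfsg.Geo.IsSymplecticForm f₂ ∧ Cfsg.Geo.IsTensorFormStructure id (QuadraticMap.polar Q) f₁ f₂ e P ∧ (∀ (x₁ : Fin 2 → F) (x₂ : Fin 6 → F), Q (Matrix.mulVec (P : Matrix (Fin 12) (Fin 12) F) ((fun a : Fin 2 × Fin 6 => x₁ a.1 * x₂ a.2) ∘ e)) = 0) ∧ H = Cfsg.Geo.tensorProductSubgroup 2 6 e P ⊓ Cfsg.Geo.omegaGL Q)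

/-- disjunct 18 -/
def D18 : Prop :=
  (∃ (F₀ : Subfield F) (r : ℕ) (P : Matrix.GeneralLinearGroup (Fin 12) F) (ζ : F), r.Prime ∧ Fintype.card F = Nat.card F₀ ^ r ∧ ζ ≠ 0 ∧ Cfsg.Geo.IsQuadFormRationalStructure (fun v : Fin 12 → F => ζ * Q v) F₀ P ∧ H = Cfsg.Geo.subfieldSubgroup F₀ P ⊓ Cfsg.Geo.omegaGL Q)

/-- disjunct 19 -/
def D19 : Prop :=
  Cfsg.Geo.InOrthogonalResidualClass H

/-- the conclusion of S5871 -/
def Goal : Prop :=
  D1 Q H ∨ D2 Q H ∨ D3 Q H ∨ D4 Q H ∨ D5 Q H ∨ D6 Q H ∨ D7 Q H ∨ D8 Q H ∨ D9 Q H ∨ D10 Q H ∨ D11 Q H ∨ D12 Q H ∨ D13 Q H ∨ D14 Q H ∨ D15 Q H ∨ D16 Q H ∨ D17 Q H ∨ D18 Q H ∨ D19 H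

variable {Q H}

theorem goal1 (h : D1 Q H) : Goal Q H := Or.inl h

theorem goal2 (h : D2 Q H) : Goal Q H := Or.inr (Or.inl h)

theorem goal3 (h : D3 Q H) : Goal Q H := Or.inr (Or.inr (Or.inl h))

theorem goal4 (h : D4 Q H) : Goal Q H := Or.inr (Or.inr (Or.inr (Or.inl h)))

theorem goal5 (h : D5 Q H) : Goal Q H := Or.inr (Or.inr (Or.inr (Or.inr (Or.inl h))))

theorem goal6 (h : D6 Q H) : Goal Q H := Or.inr (Or.inr (Or.inr (Or.inr (Or.inr (Or.inl h)))))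

theorem goal7 (h : D7 Q H) : Goal Q H := Or.inr (Or.inr (Or.inr (Or.inr (Or.inr (Or.inr (Or.inl h))))))

theorem goal8 (h : D8 Q H) : Goal Q H := Or.inr (Or.inr (Or.inr (Or.inr (Or.inr (Or.inr (Or.inr (Or.inl h)))))))

theorem goal9 (h : D9 Q H) : Goal Q H := Or.inr (Or.inr (Or.inr (Or.inr (Or.inr (Or.inr (Or.inr (Or.inr (Or.inl h))))))))

theorem goal10 (h : D10 Q H) : Goal Q H := Or.inr (Or.inr (Or.inr (Or.inr (Or.inr (Or.inr (Or.inr (Or.inr (Or.inr (Or.inl h)))))))))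

theorem goal11 (h : D11 Q H) : Goal Q H := Or.inr (Or.inr (Or.inr (Or.inr (Or.inr (Or.inr (Or.inr (Or.inr (Or.inr (Or.inr (Or.inl h))))))))))

theorem goal12 (h : D12 Q H) : Goal Q H := Or.inr (Or.inr (Or.inr (Or.inr (Or.inr (Or.inr (Or.inr (Or.inr (Or.inr (Or.inr (Or.inr (Or.inl h)))))))))))

theorem goal13 (h : D13 Q H) : Goal Q H := Or.inr (Or.inr (Or.inr (Or.inr (Or.inr (Or.inr (Or.inr (Or.inr (Or.inr (Or.inr (Or.inr (Or.inr (Or.inl h))))))))))))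

theorem goal14 (h : D14 Q H) : Goal Q H := Or.inr (Or.inr (Or.inr (Or.inr (Or.inr (Or.inr (Or.inr (Or.inr (Or.inr (Or.inr (Or.inr (Or.inr (Or.inr (Or.inl h)))))))))))))

theorem goal15 (h : D15 Q H) : Goal Q H := Or.inr (Or.inr (Or.inr (Or.inr (Or.inr (Or.inr (Or.inr (Or.inr (Or.inr (Or.inr (Or.inr (Or.inr (Or.inr (Or.inr (Or.inl h))))))))))))))

theorem goal16 (h : D16 Q H) : Goal Q H := Or.inr (Or.inr (Or.inr (Or.inr (Or.inr (Or.inr (Or.inr (Or.inr (Or.inr (Or.inr (Or.inr (Or.inr (Or.inr (Or.inr (Or.inr (Or.inl h)))))))))))))))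

theorem goal17 (h : D17 Q H) : Goal Q H := Or.inr (Or.inr (Or.inr (Or.inr (Or.inr (Or.inr (Or.inr (Or.inr (Or.inr (Or.inr (Or.inr (Or.inr (Or.inr (Or.inr (Or.inr (Or.inr (Or.inl h))))))))))))))))

theorem goal18 (h : D18 Q H) : Goal Q H := Or.inr (Or.inr (Or.inr (Or.inr (Or.inr (Or.inr (Or.inr (Or.inr (Or.inr (Or.inr (Or.inr (Or.inr (Or.inr (Or.inr (Or.inr (Or.inr (Or.inr (Or.inl h)))))))))))))))))

theorem goal19 (h : D19 H) : Goal Q H := Or.inr (Or.inr (Or.inr (Or.inr (Or.inr (Or.inr (Or.inr (Or.inr (Or.inr (Or.inr (Or.inr (Or.inr (Or.inr (Or.inr (Or.inr (Or.inr (Or.inr (Or.inr (h))))))))))))))))))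

end defs

section cases

open Cfsg.Geo Cfsg.Agent.Lib.Helper55.Oe Cfsg.Agent.Lib.Helper36.OeRowKit
open scoped MatrixGroups Matrix

variable {F : Type*} [Field F] [Fintype F] {Q : (Fin 12 → F) → F}
  {H : Subgroup (GL (Fin 12) F)}

theorem card_ge_two : 2 ≤ Fintype.card F := Fintype.one_lt_card

theorem case_TS (hQ : IsNondegenerateQuadraticForm Q) (hplus : IsPlusTypeOn Q ⊤)
    (hH : IsMaximalIn (omegaGL Q) H) (h : OutTS Q H) : Goal Q H := by
  obtain ⟨W, hW0, hWts, hWle⟩ := h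
  by_cases h5 : Module.finrank F W = 5
  · exact (false_of_exists_between hH hWle
      (exists_between_submax_singular hQ (by norm_num) hplus W hWts (by rw [h5]))).elim
  · exact goal1 ⟨W, hW0, hWts, h5, eq_inf_of_isMaximalIn hH hWle
      (not_omegaGL_le_subspaceStabilizer hQ (by norm_num) W hW0
        (ne_top_of_totallySingular hQ (by norm_num) W hWts))⟩

theorem case_NS (hQ : IsNondegenerateQuadraticForm Q)
    (hH : IsMaximalIn (omegaGL Q) H) (h : OutNS Q H) : Goal Q H := by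
  obtain ⟨h2, v, hv, hle⟩ := h
  refine goal6 ⟨not_odd_card_of_two_eq_zero h2, v, hv, eq_inf_of_isMaximalIn hH hle
    (not_omegaGL_le_subspaceStabilizer hQ (by norm_num) _ ?_ ?_)⟩
  · intro h0
    have hv0 : v ∈ (⊥ : Submodule F (Fin 12 → F)) := by
      rw [← h0]; exact Submodule.mem_span_singleton_self v
    rw [Submodule.mem_bot] at hv0
    rw [hv0] at hv
    exact hv (Q_zero hQ)
  · intro hT
    have h1 : Module.finrank F (Submodule.span F {v}) ≤ 1 := by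
      have := finrank_span_le_card (R := F) ({v} : Set (Fin 12 → F))
      simpa using this
    rw [hT, finrank_top, Module.finrank_fin_fun] at h1
    omega

theorem case_TSPair (hQ : IsNondegenerateQuadraticForm Q)
    (hH : IsMaximalIn (omegaGL Q) H) (h : OutTSPair Q H) : Goal Q H := by
  obtain ⟨m, D, hD, hts, hle⟩ := h
  have hm : 2 * m = 12 :=
    Cfsg.Agent.Lib.Helper51.AschOPerp.mul_eq_of_decomp D hD.indep hD.iSup_eq_top hD.finrank_eq
  obtain rfl : m = 6 := by omega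
  exact goal13 ⟨D, hD, hts, eq_inf_of_isMaximalIn hH hle
    (not_omegaGL_le_decompositionStabilizer_pair hQ (by norm_num) 6 D hD hts)⟩

theorem case_FieldU (hQ : IsNondegenerateQuadraticForm Q)
    (hH : IsMaximalIn (omegaGL Q) H) (h : OutFieldU Q H) : Goal Q H := by
  obtain ⟨K, hK, hac, hnsa, hsim, hle⟩ := h
  exact goal16 ⟨K, hK, hac, hnsa, hsim, eq_inf_of_isMaximalIn hH hle
    (not_omegaGL_le_subalgebraNormalizer hQ (by norm_num) 2 (le_refl 2) K hK)⟩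

theorem case_FieldSA (hQ : IsNondegenerateQuadraticForm Q)
    (hH : IsMaximalIn (omegaGL Q) H) (h : OutFieldSA Q H) : Goal Q H := by
  obtain ⟨r, K, hr, hK, hsa, hle⟩ := h
  have hdvd : r ∣ 12 := Cfsg.Agent.Lib.Helper99.Asch.dvd_of_isFieldSubalgebra r K hK
  have hr2 : 2 ≤ r := hr.two_le
  have hprop := not_omegaGL_le_subalgebraNormalizer hQ (by norm_num) r hr2 K hK
  have hr12 : r ≤ 12 := Nat.le_of_dvd (by norm_num) hdvd
  have hcases : r = 2 ∨ r = 3 := by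
    interval_cases r <;> first | (left; rfl) | (right; rfl) | (exfalso; revert hr; decide) | (exfalso; revert hdvd; decide)
  rcases hcases with rfl | rfl
  · exact goal14 ⟨K, hK, eq_inf_of_isMaximalIn hH hle hprop⟩
  · exact goal15 ⟨K, hK, eq_inf_of_isMaximalIn hH hle hprop⟩

theorem case_Subfield (hQ : IsNondegenerateQuadraticForm Q)
    (hH : IsMaximalIn (omegaGL Q) H) (h : OutSubfield Q H) : Goal Q H := by
  obtain ⟨F₀, r, P, ζ, hr, hcard, hζ, hrat, hle⟩ := h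
  refine goal18 ⟨F₀, r, P, ζ, hr, hcard, hζ, hrat, eq_inf_of_isMaximalIn hH hle
    (not_omegaGL_le_subfieldSubgroup hQ (by norm_num) F₀ ?_ P)⟩
  intro hT
  have h1 : Nat.card F₀ = Fintype.card F := by
    rw [hT, ← Nat.card_eq_fintype_card]
    exact Nat.card_congr (Subfield.topEquiv (K := F)).toEquiv
  rw [h1] at hcard
  have h2 : 2 ≤ Fintype.card F := card_ge_two
  have h3 : (Fintype.card F) ^ 1 < (Fintype.card F) ^ r := Nat.pow_lt_pow_right h2 hr.one_lt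
  rw [pow_one] at h3
  omega

end cases

section cases2

open Cfsg.Geo Cfsg.Agent.Lib.Helper55.Oe Cfsg.Agent.Lib.Helper36.OeRowKit
open scoped MatrixGroups Matrix

variable {F : Type*} [Field F] [Fintype F] {Q : (Fin 12 → F) → F}
  {H : Subgroup (GL (Fin 12) F)}

theorem card_ne_six : Fintype.card F ≠ 6 := by
  intro h6
  obtain ⟨p, hp⟩ := CharP.exists F
  obtain ⟨k, hpp, hk⟩ := FiniteField.card F p
  rw [h6] at hk
  have h2 : 2 ∣ p ^ (k : ℕ) := ⟨3, by omega⟩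
  have h3 : 3 ∣ p ^ (k : ℕ) := ⟨2, by omega⟩
  have e2 := (Nat.prime_dvd_prime_iff_eq Nat.prime_two hpp).mp (Nat.Prime.dvd_of_dvd_pow Nat.prime_two h2)
  have e3 := (Nat.prime_dvd_prime_iff_eq Nat.prime_three hpp).mp (Nat.Prime.dvd_of_dvd_pow Nat.prime_three h3)
  omega

theorem subfield_ne_top_of_card (F₀ : Subfield F) (r : ℕ) (hr : r.Prime)
    (hcard : Fintype.card F = Nat.card F₀ ^ r) : F₀ ≠ ⊤ := by
  intro hT
  have h1 : Nat.card F₀ = Fintype.card F := by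
    rw [hT, ← Nat.card_eq_fintype_card]
    exact Nat.card_congr (Subfield.topEquiv (K := F)).toEquiv
  rw [h1] at hcard
  have h2 : 2 ≤ Fintype.card F := card_ge_two
  have h3 : (Fintype.card F) ^ 1 < (Fintype.card F) ^ r := Nat.pow_lt_pow_right h2 hr.one_lt
  rw [pow_one] at h3
  omega

theorem case_ND_small (hQ : IsNondegenerateQuadraticForm Q) (hplus : IsPlusTypeOn Q ⊤)
    (hH : IsMaximalIn (omegaGL Q) H) (W W' : Submodule F (Fin 12 → F)) (hW0 : W ≠ ⊥) (hWT : W ≠ ⊤)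
    (hnd : IsNondegenerateOn (QuadraticMap.polar Q) W)
    (hnd' : IsNondegenerateOn (QuadraticMap.polar Q) W')
    (horth : AreOrthogonalFor (QuadraticMap.polar Q) W W') (hinf : W ⊓ W' = ⊥) (hsup : W ⊔ W' = ⊤)
    (hdim : Module.finrank F W + Module.finrank F W' = 12)
    (hle : H ≤ subspaceStabilizer W) (hle' : H ≤ subspaceStabilizer W')
    (hk : Module.finrank F W ≤ 6) : Goal Q H := by
  have hprop := not_omegaGL_le_subspaceStabilizer hQ (by norm_num) W hW0 hWT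
  have hHeq := eq_inf_of_isMaximalIn hH hle hprop
  have hkpos : 0 < Module.finrank F W := by
    rw [Nat.pos_iff_ne_zero]; intro h0; exact hW0 (Submodule.finrank_eq_zero.mp h0)
  rcases Nat.even_or_odd (Module.finrank F W) with hev | hodd
  · obtain ⟨j, hj⟩ := hev
    have hc : Module.finrank F W = 2 ∨ Module.finrank F W = 4 ∨ Module.finrank F W = 6 := by omega
    rcases hc with h2 | h4 | h6
    · by_cases hp : IsPlusTypeOn Q W
      · by_cases hc : 4 ≤ Fintype.card F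
        · exact goal4 ⟨hc, W, h2, hnd, hp, hHeq⟩
        · exact (false_of_exists_between hH hle
            (exists_between_plus_plane hQ (by norm_num) (by omega) W h2 hnd hp)).elim
      · exact goal3 ⟨W, h2, hnd, hp, hHeq⟩
    · exact goal5 ⟨W, h4, hnd, hHeq⟩
    · have h6' : Module.finrank F W' = 6 := by omega
      have hiso := areIsometricFor_halves_of_plus hQ hplus W W' hnd hnd' horth hsup
        (by rw [h6, h6']) (by rw [h6]; exact ⟨3, rfl⟩)
      have hD := isOrthogonalMDecomposition_pair W W' hnd hnd' horth hinf hsup hiso 6 (by norm_num)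
        h6 h6'
      have hleD : H ≤ decompositionStabilizer ![W, W'] :=
        (le_inf hle hle').trans (le_decompositionStabilizer_pair W W')
      exact goal12 ⟨![W, W'], hD, eq_inf_of_isMaximalIn hH hleD
        (not_omegaGL_le_decompositionStabilizer hQ (by norm_num) 6 _ hD.decomp)⟩
  · have h2 : (2 : F) ≠ 0 := fun h2 => by
      have := even_finrank_of_nondegenerate_char_two hQ h2 W hnd
      exact (Nat.not_even_iff_odd.mpr hodd) this
    refine goal2 ⟨odd_card_of_two_ne_zero h2, W, hW0, hWT, hodd, ?_, hnd, hHeq⟩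
    obtain ⟨j, hj⟩ := hodd
    omega

theorem case_ND (hQ : IsNondegenerateQuadraticForm Q) (hplus : IsPlusTypeOn Q ⊤)
    (hH : IsMaximalIn (omegaGL Q) H) (h : OutND Q H) : Goal Q H := by
  obtain ⟨W, hW0, hWT, hnd, hle⟩ := h
  obtain ⟨W', hnd', horth, hinf, hsup, hdim, -, hstab⟩ := exists_perp_of_nondegenerate hQ W hnd
  have hI : H ≤ isometryGroup F Q := hH.1.le.trans (omegaGL_le_isometryGroup Q)
  have hle' : H ≤ subspaceStabilizer W' := (le_inf hle hI).trans hstab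
  by_cases hk : Module.finrank F W ≤ 6
  · exact case_ND_small hQ hplus hH W W' hW0 hWT hnd hnd' horth hinf hsup hdim hle hle' hk
  · have hlt : Module.finrank F W < 12 := by
      have := Submodule.finrank_lt hWT
      rwa [Module.finrank_fin_fun] at this
    have hW'0 : W' ≠ ⊥ := by
      intro h0
      rw [h0, finrank_bot] at hdim
      omega
    have hW'T : W' ≠ ⊤ := by
      intro hT
      rw [hT, finrank_top, Module.finrank_fin_fun] at hdim
      omega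
    refine case_ND_small hQ hplus hH W' W hW'0 hW'T hnd' hnd ?_ (by rwa [inf_comm]) (by rwa [sup_comm])
      (by omega) hle' hle (by omega)
    intro u hu v hv
    rw [QuadraticMap.polar_comm]
    exact horth v hv u hu

theorem case_Dec (hQ : IsNondegenerateQuadraticForm Q) (hplus : IsPlusTypeOn Q ⊤)
    (hH : IsMaximalIn (omegaGL Q) H) (h : OutDec Q H) : Goal Q H := by
  obtain ⟨t, m, D, hD, hle⟩ := h
  have hI : H ≤ isometryGroup F Q := hH.1.le.trans (omegaGL_le_isometryGroup Q)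
  have htm : t * m = 12 := Cfsg.Agent.Lib.Helper51.AschOPerp.mul_eq_of_decomp D hD.decomp.decomp.indep
    hD.decomp.decomp.iSup_eq_top hD.decomp.decomp.finrank_eq
  have ht2 : 2 ≤ t := hD.decomp.decomp.two_le
  have hm0 : 0 < m := hD.decomp.decomp.pos
  have hprop := not_omegaGL_le_decompositionStabilizer hQ (by norm_num) m D hD.decomp
  have hHeq := eq_inf_of_isMaximalIn hH hle hprop
  have hfr : Module.finrank F (Fin 12 → F) = 12 := Module.finrank_fin_fun F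
  have hcases : (t = 12 ∧ m = 1) ∨ (t = 6 ∧ m = 2) ∨ (t = 4 ∧ m = 3) ∨ (t = 3 ∧ m = 4) ∨
      (t = 2 ∧ m = 6) := by
    have ht12 : t ≤ 12 := Nat.le_of_dvd (by norm_num) ⟨m, htm.symm⟩
    interval_cases t <;> omega
  rcases hcases with ⟨rfl, rfl⟩ | ⟨rfl, rfl⟩ | ⟨rfl, rfl⟩ | ⟨rfl, rfl⟩ | ⟨rfl, rfl⟩
  · -- twelve lines
    have h2 : (2 : F) ≠ 0 := fun h2 => by
      have := even_finrank_of_nondegenerate_char_two hQ h2 (D 0) (hD.decomp.nondegenerate 0)
      rw [hD.decomp.decomp.finrank_eq] at this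
      exact absurd this (by decide)
    have hodd : Odd (Fintype.card F) := odd_card_of_two_ne_zero h2
    by_cases hp : (Fintype.card F).Prime
    · exact goal7 ⟨⟨Fintype.card F, hp, hodd, rfl⟩, D, hD, hHeq⟩
    · obtain ⟨F₁, r, hr, -, hcard⟩ := Cfsg.Agent.Lib.Helper84.AschC5.exists_prime_degree_subfield
        (⊥ : Subfield F) (Cfsg.Agent.Lib.Helper36.AschOFrame5.bot_ne_top_of_not_prime hp)
      obtain ⟨P, ζ, hζ, hrat, hcont⟩ := exists_subfield_of_frame hQ hodd D hD F₁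
      have hleS : H ≤ subfieldSubgroup F₁ P := (le_inf hle hI).trans hcont
      exact goal18 ⟨F₁, r, P, ζ, hr, hcard, hζ, hrat, eq_inf_of_isMaximalIn hH hleS
        (not_omegaGL_le_subfieldSubgroup hQ (by norm_num) F₁
          (subfield_ne_top_of_card F₁ r hr hcard) P)⟩
  · -- six planes
    by_cases hp : IsPlusTypeOn Q (D 0)
    · have hallp : ∀ i, IsPlusTypeOn Q (D i) := fun i =>
        Cfsg.Agent.Lib.Helper94.isPlusTypeOn_of_isometric (hD.isometric 0 i) hp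
      by_cases hc : 7 ≤ Fintype.card F
      · exact goal8 ⟨hc, D, hD, hallp, hHeq⟩
      · have h2 : 2 ≤ Fintype.card F := card_ge_two
        have h6 : Fintype.card F ≠ 6 := card_ne_six
        exact (false_of_exists_between hH hle
          (Cfsg.Agent.Lib.Helper94.exists_between_hypPlanes hQ (by omega) D hD hallp
            (by norm_num))).elim
    · have hallm : ∀ i, ¬ IsPlusTypeOn Q (D i) := fun i hpi =>
        hp (Cfsg.Agent.Lib.Helper94.isPlusTypeOn_of_isometric (hD.isometric i 0) hpi)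
      by_cases hc : Fintype.card F = 3
      · exact (false_of_exists_between hH hle
          (Cfsg.Agent.Lib.Helper94.exists_between_orthDecomp hQ hc D hD (by rw [hfr]; norm_num)
            (Or.inr ⟨rfl, hallm⟩))).elim
      · exact goal9 ⟨hc, D, hD, hallm, hHeq⟩
  · -- four 3-spaces
    have h2 : (2 : F) ≠ 0 := fun h2 => by
      have := even_finrank_of_nondegenerate_char_two hQ h2 (D 0) (hD.decomp.nondegenerate 0)
      rw [hD.decomp.decomp.finrank_eq] at this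
      exact absurd this (by decide)
    have hodd : Odd (Fintype.card F) := odd_card_of_two_ne_zero h2
    by_cases hc : 5 ≤ Fintype.card F
    · exact goal10 ⟨hodd, hc, D, hD, hHeq⟩
    · have hc3 : Fintype.card F = 3 := by
        have h2 : 2 ≤ Fintype.card F := card_ge_two
        obtain ⟨j, hj⟩ := hodd
        omega
      exact (false_of_exists_between hH hle
        (Cfsg.Agent.Lib.Helper94.exists_between_orthDecomp hQ hc3 D hD (by rw [hfr]; norm_num)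
          (Or.inl rfl))).elim
  · -- three 4-spaces
    by_cases hc : 3 ≤ Fintype.card F
    · exact goal11 ⟨hc, D, hD, hHeq⟩
    · have hc2 : Fintype.card F = 2 := by
        have h2 : 2 ≤ Fintype.card F := card_ge_two
        omega
      have hallp : ∀ i, IsPlusTypeOn Q (D i) := fun i =>
        isPlusTypeOn_block_of_odd hQ 4 D hD (by decide) ⟨2, rfl⟩ hplus i
      obtain ⟨D', hD', hminus, hstab⟩ :=
        Cfsg.Agent.Lib.Helper10.Oe.exists_minus_planes_of_plus_four hQ hc2 D hD hallp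
      have hle' : H ≤ decompositionStabilizer D' := (le_inf hle hI).trans hstab
      exact goal9 ⟨by omega, D', hD', hminus, eq_inf_of_isMaximalIn hH hle'
        (not_omegaGL_le_decompositionStabilizer hQ (by norm_num) 2 D' hD'.decomp)⟩
  · exact goal12 ⟨D, hD, hHeq⟩

theorem tensorSym_two_six (hQ : IsNondegenerateQuadraticForm Q)
    (hH : IsMaximalIn (omegaGL Q) H) (h2 : (2 : F) ≠ 0) (e : Fin 12 ≃ Fin 2 × Fin 6) (P : GL (Fin 12) F)
    (f₁ : (Fin 2 → F) → (Fin 2 → F) → F) (f₂ : (Fin 6 → F) → (Fin 6 → F) → F)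
    (h₁ : IsSymmetricForm f₁) (h₂ : IsSymmetricForm f₂)
    (hT : IsTensorFormStructure id (QuadraticMap.polar Q) f₁ f₂ e P)
    (hle : H ≤ tensorProductSubgroup 2 6 e P) : Goal Q H := by
  have hI : H ≤ isometryGroup F Q := hH.1.le.trans (omegaGL_le_isometryGroup Q)
  rcases tsPair_or_fieldU_of_tensorSym_two hQ h2 hI 6 (by norm_num) e P f₁ f₂ h₁ h₂ hT hle with h | h
  · exact case_TSPair hQ hH h
  · exact case_FieldU hQ hH h

theorem tensorSym_three_four (hQ : IsNondegenerateQuadraticForm Q) (hplus : IsPlusTypeOn Q ⊤)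
    (hH : IsMaximalIn (omegaGL Q) H) (h2 : (2 : F) ≠ 0) (e : Fin 12 ≃ Fin 3 × Fin 4) (P : GL (Fin 12) F)
    (f₁ : (Fin 3 → F) → (Fin 3 → F) → F) (f₂ : (Fin 4 → F) → (Fin 4 → F) → F)
    (h₁ : IsSymmetricForm f₁) (h₂ : IsSymmetricForm f₂)
    (hT : IsTensorFormStructure id (QuadraticMap.polar Q) f₁ f₂ e P)
    (hle : H ≤ tensorProductSubgroup 3 4 e P) : Goal Q H := by
  have hp2 : IsPlusTypeOn (fun v : Fin 4 → F => f₂ v v) ⊤ :=
    (isPlusTypeOn_top_tensorSym_iff hQ h2 3 4 (by decide) ⟨2, rfl⟩ e P f₁ f₂ h₁ h₂ hT).mp hplus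
  obtain ⟨e', P', g₁, g₂, hg₁, hg₂, hT', hpure, hcont⟩ :=
    le_tensorAlt_of_tensorSym_three_four hQ h2 e P f₁ f₂ h₁ h₂ hp2 hT
  have hle' : H ≤ tensorProductSubgroup 2 6 e' P' := (le_inf hle hH.1.le).trans hcont
  have hc3 : 3 ≤ Fintype.card F := by
    have h2' : 2 ≤ Fintype.card F := card_ge_two
    obtain ⟨j, hj⟩ := odd_card_of_two_ne_zero h2
    omega
  exact goal17 ⟨hc3, e', P', g₁, g₂, hg₁, hg₂, hT', hpure, eq_inf_of_isMaximalIn hH hle'
    (not_omegaGL_le_tensorProductSubgroup hQ (by norm_num) 2 6 (le_refl 2) (by norm_num) e' P')⟩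

theorem case_TensorSym (hQ : IsNondegenerateQuadraticForm Q) (hplus : IsPlusTypeOn Q ⊤)
    (hH : IsMaximalIn (omegaGL Q) H) (h : OutTensorSym Q H) : Goal Q H := by
  obtain ⟨h2, n₁, n₂, e, P, f₁, f₂, hn₁, hn₂, hs₁, hs₂, hT, hle⟩ := h
  have hmul : n₁ * n₂ = 12 := by
    have := Fintype.card_congr e
    simpa using this.symm
  have hcases : (n₁ = 2 ∧ n₂ = 6) ∨ (n₁ = 6 ∧ n₂ = 2) ∨ (n₁ = 3 ∧ n₂ = 4) ∨ (n₁ = 4 ∧ n₂ = 3) := by
    have : n₁ ≤ 12 := Nat.le_of_dvd (by norm_num) ⟨n₂, hmul.symm⟩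
    interval_cases n₁ <;> omega
  rcases hcases with ⟨rfl, rfl⟩ | ⟨rfl, rfl⟩ | ⟨rfl, rfl⟩ | ⟨rfl, rfl⟩
  · exact tensorSym_two_six hQ hH h2 e P f₁ f₂ hs₁ hs₂ hT hle
  · obtain ⟨hT', heq, -⟩ := tensor_swap (QuadraticMap.polar Q) 6 2 e P f₁ f₂ hT
    exact tensorSym_two_six hQ hH h2 _ P f₂ f₁ hs₂ hs₁ hT' (heq ▸ hle)
  · exact tensorSym_three_four hQ hplus hH h2 e P f₁ f₂ hs₁ hs₂ hT hle
  · obtain ⟨hT', heq, -⟩ := tensor_swap (QuadraticMap.polar Q) 4 3 e P f₁ f₂ hT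
    exact tensorSym_three_four hQ hplus hH h2 _ P f₂ f₁ hs₂ hs₁ hT' (heq ▸ hle)

theorem tensorAlt_two_six (hQ : IsNondegenerateQuadraticForm Q)
    (hH : IsMaximalIn (omegaGL Q) H) (e : Fin 12 ≃ Fin 2 × Fin 6) (P : GL (Fin 12) F)
    (f₁ : (Fin 2 → F) → (Fin 2 → F) → F) (f₂ : (Fin 6 → F) → (Fin 6 → F) → F)
    (h₁ : IsSymplecticForm f₁) (h₂ : IsSymplecticForm f₂)
    (hT : IsTensorFormStructure id (QuadraticMap.polar Q) f₁ f₂ e P)
    (hpure : ∀ (x₁ : Fin 2 → F) (x₂ : Fin 6 → F),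
      Q (Matrix.mulVec (P : Matrix (Fin 12) (Fin 12) F)
        ((fun a : Fin 2 × Fin 6 => x₁ a.1 * x₂ a.2) ∘ e)) = 0)
    (hle : H ≤ tensorProductSubgroup 2 6 e P) : Goal Q H := by
  by_cases hc : 3 ≤ Fintype.card F
  · exact goal17 ⟨hc, e, P, f₁, f₂, h₁, h₂, hT, hpure, eq_inf_of_isMaximalIn hH hle
      (not_omegaGL_le_tensorProductSubgroup hQ (by norm_num) 2 6 (le_refl 2) (by norm_num) e P)⟩
  · have hc2 : Fintype.card F = 2 := by
      have h2 : 2 ≤ Fintype.card F := card_ge_two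
      omega
    exact (false_of_exists_between hH hle
      (Cfsg.Agent.Lib.Helper94.exists_between_tensor_sp2 hQ hc2 (by norm_num) e P f₁ f₂ h₁ h₂ hT
        hpure)).elim

theorem case_TensorAlt (hQ : IsNondegenerateQuadraticForm Q)
    (hH : IsMaximalIn (omegaGL Q) H) (h : OutTensorAlt Q H) : Goal Q H := by
  obtain ⟨n₁, n₂, e, P, f₁, f₂, hn₁, hn₂, hs₁, hs₂, hT, hpure, hle⟩ := h
  have hmul : n₁ * n₂ = 12 := by
    have := Fintype.card_congr e
    simpa using this.symm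
  obtain ⟨a, ha⟩ := Cfsg.Agent.Lib.Helper37.AschC8.even_of_isSymplecticForm hs₁
  obtain ⟨b, hb⟩ := Cfsg.Agent.Lib.Helper37.AschC8.even_of_isSymplecticForm hs₂
  have hcases : (n₁ = 2 ∧ n₂ = 6) ∨ (n₁ = 6 ∧ n₂ = 2) := by
    have : n₁ ≤ 12 := Nat.le_of_dvd (by norm_num) ⟨n₂, hmul.symm⟩
    interval_cases n₁ <;> omega
  rcases hcases with ⟨rfl, rfl⟩ | ⟨rfl, rfl⟩
  · exact tensorAlt_two_six hQ hH e P f₁ f₂ hs₁ hs₂ hT hpure hle
  · obtain ⟨hT', heq, hpt⟩ := tensor_swap (QuadraticMap.polar Q) 6 2 e P f₁ f₂ hT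
    refine tensorAlt_two_six hQ hH _ P f₂ f₁ hs₂ hs₁ hT' ?_ (heq ▸ hle)
    intro x₁ x₂
    rw [hpt x₂ x₁]
    exact hpure x₂ x₁

/-- the row -/
theorem main (hQ : IsNondegenerateQuadraticForm Q) (hplus : IsPlusTypeOn Q ⊤)
    (hH : IsMaximalIn (omegaGL Q) H) : Goal Q H := by
  have hle : H ≤ omegaGL Q := hH.1.le
  have hI : H ≤ isometryGroup F Q := hle.trans (omegaGL_le_isometryGroup Q)
  rcases core_oe hQ (Or.inr (Or.inr rfl)) hI with h | h | h | h | h | h | h | h | h | h | h | h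
  · exact case_TS hQ hplus hH h
  · exact case_ND hQ hplus hH h
  · exact case_NS hQ hH h
  · exact case_Dec hQ hplus hH h
  · exact case_TSPair hQ hH h
  · exact case_FieldSA hQ hH h
  · exact case_FieldU hQ hH h
  · exact case_TensorSym hQ hplus hH h
  · exact case_TensorAlt hQ hH h
  · exact case_Subfield hQ hH h
  · exact absurd h.1 (by norm_num)
  · exact goal19 h

end cases2

/-- Every maximal subgroup of Ω_12^+(q) is of one of the listed geometric types or lies in the residual class. Let F be a finite field with q elements (characteristic p), Q a non-degenerate quadratic form on F^12 of plus type (Witt index 6: some totally singular 6-space), Ω the commutator subgroup of its isometry group, and H a maximal subgroup of Ω (inside GL_12(F)). Then H is the intersection with Ω of one of: the stabiliser of a non-zero totally singular subspace of dimension ≠ 5; for q odd, the stabiliser of a non-degenerate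 subspace of odd dimension; the stabiliser of a non-degenerate 2-space of minus type; for q ≥ 4, the stabiliser of a non-degenerate 2-space of plus type; the stabiliser of a non-degenerate 4-space; for q even, the stabiliser of the span of a non-singular vector; for q = p an odd prime, the stabiliser of a decomposition into 12 pairwise orthogonal, pairwise isometric non-degenerate 1-spaces; for q ≥ 7, the stabiliser of a decomposition into 6 pairwise orthogonal, pairwise isometric non-degenerate 2-spaces of plus type; for q ≠ 3, the stabiliser of a decomposition into 6 pairwise orthogonal, pairwise isometric non-degenerate 2-spaces of minus type; for q odd with q ≥ 5, the stabiliser of a decomposition into 4 pairwise orthogonal, pairwise isometric non-degenerate 3-spaces; for q ≥ 3, the stabiliser of a decomposition into 3 pairwise orthogonal, pairwise isometric non-degenerate 4-spaces; the stabiliser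 of a decomposition into 2 pairwise orthogonal, pairwise isometric non-degenerate 6-spaces; of a decomposition into two totally singular 6-spaces; the normaliser of a degree-2 subfield of the matrix algebra; the normaliser of a degree-3 subfield of the matrix algebra; the normaliser of a degree-2 subfield K, adjoint-closed but not self-adjoint, acting by similarities of Q; for q ≥ 3, the stabiliser of a tensor decomposition of Q into alternating forms on F^2 and F^6 (Q vanishing on pure tensors); a subfield group (|F| = |F₀|^r, r prime) whose F₀-structure carries a non-zero multiple of Q — or else H lies in the residual class of the orthogonal case (modulo scalars H is almost simple, with absolutely irreducible perfect socle preimage realisable over no proper subfield and fixing no non-degenerate unitary form). -/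
theorem result {F : Type*} [Field F] [Fintype F] (Q : (Fin 12 → F) → F) (hQ : Cfsg.Geo.IsNondegenerateQuadraticForm Q) (hplus : Cfsg.Geo.IsPlusTypeOn Q ⊤) (H : Subgroup (Matrix.GeneralLinearGroup (Fin 12) F)) (hH : Cfsg.Geo.IsMaximalIn (Cfsg.Geo.omegaGL Q) H) :
    (∃ W : Submodule F (Fin 12 → F), W ≠ ⊥ ∧ Cfsg.Geo.IsTotallySingularQuad Q W ∧ Module.finrank F W ≠ 5 ∧ H = Cfsg.Geo.subspaceStabilizer W ⊓ Cfsg.Geo.omegaGL Q) ∨
    (Odd (Fintype.card F) ∧ ∃ W : Submodule F (Fin 12 → F), W ≠ ⊥ ∧ W ≠ ⊤ ∧ Odd (Module.finrank F W) ∧ 2 * Module.finrank F W ≠ 12 ∧ Cfsg.Geo.IsNondegenerateOn (QuadraticMap.polar Q) W ∧ H = Cfsg.Geo.subspaceStabilizer W ⊓ Cfsg.Geo.omegaGL Q) ∨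
    (∃ W : Submodule F (Fin 12 → F), Module.finrank F W = 2 ∧ Cfsg.Geo.IsNondegenerateOn (QuadraticMap.polar Q) W ∧ ¬ Cfsg.Geo.IsPlusTypeOn Q W ∧ H = Cfsg.Geo.subspaceStabilizer W ⊓ Cfsg.Geo.omegaGL Q) ∨
    (4 ≤ Fintype.card F ∧ ∃ W : Submodule F (Fin 12 → F), Module.finrank F W = 2 ∧ Cfsg.Geo.IsNondegenerateOn (QuadraticMap.polar Q) W ∧ Cfsg.Geo.IsPlusTypeOn Q W ∧ H = Cfsg.Geo.subspaceStabilizer W ⊓ Cfsg.Geo.omegaGL Q) ∨
    (∃ W : Submodule F (Fin 12 → F), Module.finrank F W = 4 ∧ Cfsg.Geo.IsNondegenerateOn (QuadraticMap.polar Q) W ∧ H = Cfsg.Geo.subspaceStabilizer W ⊓ Cfsg.Geo.omegaGL Q) ∨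
    (¬ Odd (Fintype.card F) ∧ ∃ v : (Fin 12 → F), Q v ≠ 0 ∧ H = Cfsg.Geo.subspaceStabilizer (Submodule.span F {v}) ⊓ Cfsg.Geo.omegaGL Q) ∨
    ((∃ p : ℕ, p.Prime ∧ Odd p ∧ Fintype.card F = p) ∧ ∃ D : Fin 12 → Submodule F (Fin 12 → F), Cfsg.Geo.IsOrthogonalMDecomposition Q 1 D ∧ H = Cfsg.Geo.decompositionStabilizer D ⊓ Cfsg.Geo.omegaGL Q) ∨
    (7 ≤ Fintype.card F ∧ ∃ D : Fin 6 → Submodule F (Fin 12 → F), Cfsg.Geo.IsOrthogonalMDecomposition Q 2 D ∧ (∀ i, Cfsg.Geo.IsPlusTypeOn Q (D i)) ∧ H = Cfsg.Geo.decompositionStabilizer D ⊓ Cfsg.Geo.omegaGL Q) ∨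
    (Fintype.card F ≠ 3 ∧ ∃ D : Fin 6 → Submodule F (Fin 12 → F), Cfsg.Geo.IsOrthogonalMDecomposition Q 2 D ∧ (∀ i, ¬ Cfsg.Geo.IsPlusTypeOn Q (D i)) ∧ H = Cfsg.Geo.decompositionStabilizer D ⊓ Cfsg.Geo.omegaGL Q) ∨
    (Odd (Fintype.card F) ∧ 5 ≤ Fintype.card F ∧ ∃ D : Fin 4 → Submodule F (Fin 12 → F), Cfsg.Geo.IsOrthogonalMDecomposition Q 3 D ∧ H = Cfsg.Geo.decompositionStabilizer D ⊓ Cfsg.Geo.omegaGL Q) ∨
    (3 ≤ Fintype.card F ∧ ∃ D : Fin 3 → Submodule F (Fin 12 → F), Cfsg.Geo.IsOrthogonalMDecomposition Q 4 D ∧ H = Cfsg.Geo.decompositionStabilizer D ⊓ Cfsg.Geo.omegaGL Q) ∨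
    (∃ D : Fin 2 → Submodule F (Fin 12 → F), Cfsg.Geo.IsOrthogonalMDecomposition Q 6 D ∧ H = Cfsg.Geo.decompositionStabilizer D ⊓ Cfsg.Geo.omegaGL Q) ∨
    (∃ D : Fin 2 → Submodule F (Fin 12 → F), Cfsg.Geo.IsMDecomposition 6 D ∧ (∀ i, Cfsg.Geo.IsTotallySingularQuad Q (D i)) ∧ H = Cfsg.Geo.decompositionStabilizer D ⊓ Cfsg.Geo.omegaGL Q) ∨
    (∃ K : Subalgebra F (Matrix (Fin 12) (Fin 12) F), Cfsg.Geo.IsFieldSubalgebra 2 K ∧ H = Cfsg.Geo.subalgebraNormalizer K ⊓ Cfsg.Geo.omegaGL Q) ∨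
    (∃ K : Subalgebra F (Matrix (Fin 12) (Fin 12) F), Cfsg.Geo.IsFieldSubalgebra 3 K ∧ H = Cfsg.Geo.subalgebraNormalizer K ⊓ Cfsg.Geo.omegaGL Q) ∨
    (∃ K : Subalgebra F (Matrix (Fin 12) (Fin 12) F), Cfsg.Geo.IsFieldSubalgebra 2 K ∧ Cfsg.Geo.IsAdjointClosedFor (QuadraticMap.polar Q) K ∧ ¬ Cfsg.Geo.IsSelfAdjointFor (QuadraticMap.polar Q) K ∧ (∀ k ∈ K, ∃ c : F, ∀ v : (Fin 12 → F), Q (Matrix.mulVec k v) = c * Q v) ∧ H = Cfsg.Geo.subalgebraNormalizer K ⊓ Cfsg.Geo.omegaGL Q) ∨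
    (3 ≤ Fintype.card F ∧ ∃ (e : Fin 12 ≃ Fin 2 × Fin 6) (P : Matrix.GeneralLinearGroup (Fin 12) F) (f₁ : (Fin 2 → F) → (Fin 2 → F) → F) (f₂ : (Fin 6 → F) → (Fin 6 → F) → F), Cfsg.Geo.IsSymplecticForm f₁ ∧ Cfsg.Geo.IsSymplecticForm f₂ ∧ Cfsg.Geo.IsTensorFormStructure id (QuadraticMap.polar Q) f₁ f₂ e P ∧ (∀ (x₁ : Fin 2 → F) (x₂ : Fin 6 → F), Q (Matrix.mulVec (P : Matrix (Fin 12) (Fin 12) F) ((fun a : Fin 2 × Fin 6 => x₁ a.1 * x₂ a.2) ∘ e)) = 0) ∧ H = Cfsg.Geo.tensorProductSubgroup 2 6 e P ⊓ Cfsg.Geo.omegaGL Q) ∨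
    (∃ (F₀ : Subfield F) (r : ℕ) (P : Matrix.GeneralLinearGroup (Fin 12) F) (ζ : F), r.Prime ∧ Fintype.card F = Nat.card F₀ ^ r ∧ ζ ≠ 0 ∧ Cfsg.Geo.IsQuadFormRationalStructure (fun v : Fin 12 → F => ζ * Q v) F₀ P ∧ H = Cfsg.Geo.subfieldSubgroup F₀ P ⊓ Cfsg.Geo.omegaGL Q) ∨
    Cfsg.Geo.InOrthogonalResidualClass H := by
  exact main hQ hplus hH

end Cfsg.Agent.S5871
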