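import Cfsg.Statements.S5885

set_option autoImplicit false
set_option linter.unusedSectionVars false
set_option linter.unusedVariables false
open Cfsg

namespace Cfsg.Agent.S5885

section combinatorial
open scoped Classical in
/-- The combinatorial heart: if `G` induces every 3-cycle on an odd number of points, `H` is
maximal in a point stabiliser `M` and `K ∩ M = H`, then there is no subgroup strictly between
`H` and `K`. -/
theorem no_between {G Ω : Type*} [Group G] [MulAction G Ω] [Fintype Ω]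
    (hodd : Odd (Fintype.card Ω))
    (h3 : ∀ x y z : Ω, x ≠ y → y ≠ z → x ≠ z →
      ∃ g : G, g • x = y ∧ g • y = z ∧ g • z = x ∧ ∀ w, w ≠ x → w ≠ y → w ≠ z → g • w = w)
    (a : Ω) (H K L : Subgroup G)
    (hHmax : ∀ X : Subgroup G, H ≤ X → X ≤ MulAction.stabilizer G a →
      X = H ∨ X = MulAction.stabilizer G a)
    (hHM : H ≤ MulAction.stabilizer G a)
    (hKM : K ⊓ MulAction.stabilizer G a = H) (hHL : H ≤ L) (hLK : L ≤ K) :
    L = H ∨ L = K := by
  by_contra hcon
  push Not at hcon
  obtain ⟨hLH, hLK'⟩ := hcon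
  have hHK : H ≤ K := hHL.trans hLK
  -- the block property
  have hblock : ∀ k ∈ K, ∀ l₁ ∈ L, ∀ l₂ ∈ L, k • l₁ • a = l₂ • a → k ∈ L := by
    intro k hk l₁ hl₁ l₂ hl₂ h
    have h1 : l₂⁻¹ * k * l₁ ∈ K ⊓ MulAction.stabilizer G a := by
      rw [Subgroup.mem_inf, MulAction.mem_stabilizer_iff]
      refine ⟨K.mul_mem (K.mul_mem (K.inv_mem (hLK hl₂)) hk) (hLK hl₁), ?_⟩
      rw [mul_smul, mul_smul, h, inv_smul_smul]
    rw [hKM] at h1
    have h2 := hHL h1
    have h3' : k = l₂ * (l₂⁻¹ * k * l₁) * l₁⁻¹ := by group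
    rw [h3']
    exact L.mul_mem (L.mul_mem hl₂ h2) (L.inv_mem hl₁)
  -- an element of L not in H, and of K not in L
  obtain ⟨l, hlL, hlH⟩ : ∃ l ∈ L, l ∉ H := by
    by_contra hno
    push Not at hno
    exact hLH (le_antisymm hno hHL)
  obtain ⟨k, hkK, hkL⟩ : ∃ k ∈ K, k ∉ L := by
    by_contra hno
    push Not at hno
    exact hLK' (le_antisymm hLK hno)
  set a' := l • a with ha'
  have haa' : a' ≠ a := by
    intro h
    apply hlH
    rw [← hKM]
    exact ⟨hLK hlL, h⟩
  -- the block B and its translate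
  let B : Finset Ω := Finset.univ.filter (fun ω => ∃ l ∈ L, l • a = ω)
  have memB : ∀ ω, ω ∈ B ↔ ∃ l ∈ L, l • a = ω := by
    intro ω
    simp [B]
  have haB : a ∈ B := (memB a).mpr ⟨1, L.one_mem, one_smul _ _⟩
  have ha'B : a' ∈ B := (memB a').mpr ⟨l, hlL, rfl⟩
  let B' : Finset Ω := B.image (fun ω => k • ω)
  have memB' : ∀ ω, ω ∈ B' ↔ ∃ ω₀ ∈ B, k • ω₀ = ω := by
    intro ω
    simp [B']
  have hdisj : Disjoint B B' := by
    rw [Finset.disjoint_left]
    intro ω hω hω'
    obtain ⟨l₂, hl₂, rfl⟩ := (memB ω).mp hω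
    obtain ⟨ω₀, hω₀, h⟩ := (memB' _).mp hω'
    obtain ⟨l₁, hl₁, rfl⟩ := (memB ω₀).mp hω₀
    exact hkL (hblock k hkK l₁ hl₁ l₂ hl₂ h)
  have hcardB' : B'.card = B.card :=
    Finset.card_image_of_injective _ (MulAction.injective k)
  obtain ⟨w, hwB, hwB'⟩ : ∃ w, w ∉ B ∧ w ∉ B' := by
    by_contra hno
    push Not at hno
    have huniv : B ∪ B' = Finset.univ := by
      apply Finset.eq_univ_of_forall
      intro ω
      rw [Finset.mem_union]
      by_cases h : ω ∈ B
      · exact Or.inl h
      · exact Or.inr (hno ω h)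
    have hc : (B ∪ B').card = 2 * B.card := by
      rw [Finset.card_union_of_disjoint hdisj, hcardB']; ring
    rw [huniv, Finset.card_univ] at hc
    rw [hc] at hodd
    exact (Nat.not_odd_iff_even.mpr (even_two_mul _)) hodd
  set x := k • a with hx
  set y := k • a' with hy
  have hxB' : x ∈ B' := (memB' x).mpr ⟨a, haB, rfl⟩
  have hyB' : y ∈ B' := (memB' y).mpr ⟨a', ha'B, rfl⟩
  have hxy : x ≠ y := by
    intro h
    exact haa' (MulAction.injective k h).symm
  have hxB : x ∉ B := fun h => (Finset.disjoint_left.mp hdisj h) hxB'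
  have hyB : y ∉ B := fun h => (Finset.disjoint_left.mp hdisj h) hyB'
  have hxw : x ≠ w := fun h => hwB' (h ▸ hxB')
  have hyw : y ≠ w := fun h => hwB' (h ▸ hyB')
  have hxa : x ≠ a := fun h => hxB (h ▸ haB)
  have hxa' : x ≠ a' := fun h => hxB (h ▸ ha'B)
  have hwa : w ≠ a := fun h => hwB (h ▸ haB)
  have hwa' : w ≠ a' := fun h => hwB (h ▸ ha'B)
  -- the stabiliser of B in M
  let X : Subgroup G :=
    { carrier := {m | m • a = a ∧ ∀ ω, ω ∈ B ↔ m • ω ∈ B}
      one_mem' := ⟨one_smul _ _, fun ω => by rw [one_smul]⟩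
      mul_mem' := by
        rintro m₁ m₂ ⟨h1, h1'⟩ ⟨h2, h2'⟩
        refine ⟨by rw [mul_smul, h2, h1], fun ω => ?_⟩
        rw [mul_smul, ← h1', ← h2']
      inv_mem' := by
        rintro m ⟨h1, h1'⟩
        refine ⟨by rw [inv_smul_eq_iff, h1], fun ω => ?_⟩
        rw [h1' (m⁻¹ • ω), smul_inv_smul] }
  have memX : ∀ m, m ∈ X ↔ (m • a = a ∧ ∀ ω, ω ∈ B ↔ m • ω ∈ B) := fun m => Iff.rfl
  have hHX : H ≤ X := by
    intro m hm
    refine ⟨hHM hm, fun ω => ?_⟩
    rw [memB, memB]
    constructor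
    · rintro ⟨l₀, hl₀, rfl⟩
      exact ⟨m * l₀, L.mul_mem (hHL hm) hl₀, mul_smul _ _ _⟩
    · rintro ⟨l₀, hl₀, h⟩
      refine ⟨m⁻¹ * l₀, L.mul_mem (L.inv_mem (hHL hm)) hl₀, ?_⟩
      rw [mul_smul, h, inv_smul_smul]
  have hXM : X ≤ MulAction.stabilizer G a := fun m hm => hm.1
  rcases hHmax X hHX hXM with hXH | hXM'
  · -- X = H: use the 3-cycle (x y w)
    obtain ⟨g, hgx, hgy, hgw, hgfix⟩ := h3 x y w hxy hyw hxw
    have hgX : g ∈ X := by
      have hfixB : ∀ ω ∈ B, g • ω = ω := by
        intro ω hω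
        apply hgfix
        · exact fun h => hxB (h ▸ hω)
        · exact fun h => hyB (h ▸ hω)
        · exact fun h => hwB (h ▸ hω)
      refine ⟨hfixB a haB, fun ω => ?_⟩
      constructor
      · intro hω
        rw [hfixB ω hω]; exact hω
      · intro hω
        by_contra hωB
        -- g • ω ∈ B is fixed by g, so g • (g • ω) = g • ω, hence g • ω = ω
        have := hfixB _ hω
        exact hωB ((MulAction.injective g this) ▸ hω)
    have hgK : g ∈ K := hHK (hXH ▸ hgX)
    have hconjK : k⁻¹ * g * k ∈ K := K.mul_mem (K.mul_mem (K.inv_mem hkK) hgK) hkK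
    have h1 : (k⁻¹ * g * k) • (1 : G) • a = l • a := by
      rw [one_smul, mul_smul, mul_smul, ← hx, hgx, hy, inv_smul_smul]
    have hconjL := hblock _ hconjK 1 L.one_mem l hlL h1
    have h2 : (k⁻¹ * g * k) • a' ∈ B := by
      rw [memB]
      exact ⟨k⁻¹ * g * k * l, L.mul_mem hconjL hlL, by rw [mul_smul]⟩
    rw [mul_smul, mul_smul, ← hy, hgy] at h2
    apply hwB'
    rw [memB']
    exact ⟨_, h2, smul_inv_smul _ _⟩
  · -- X = M: use the 3-cycle (a' w x)
    obtain ⟨g, hga', hgw, hgx, hgfix⟩ := h3 a' w x hwa'.symm hxw.symm hxa'.symm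
    have hgM : g ∈ MulAction.stabilizer G a := by
      rw [MulAction.mem_stabilizer_iff]
      exact hgfix a haa'.symm hwa.symm hxa.symm
    rw [← hXM'] at hgM
    have := (hgM.2 a').mp ha'B
    rw [hga'] at this
    exact hwB this

end combinatorial

section main

theorem isCoatom_subgroupOf_of {G : Type*} [Group G] (H K : Subgroup G) (hHK : H ≤ K)
    (hne : H ≠ K) (hmax : ∀ L : Subgroup G, H ≤ L → L ≤ K → L = H ∨ L = K) :
    IsCoatom (H.subgroupOf K) := by
  constructor
  · intro h
    rw [Subgroup.subgroupOf_eq_top] at h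
    exact hne (le_antisymm hHK h)
  · intro X hX
    have h1 : H ≤ X.map K.subtype := by
      intro x hx
      exact ⟨⟨x, hHK hx⟩, hX.le (Subgroup.mem_subgroupOf.mpr hx), rfl⟩
    have h2 : X.map K.subtype ≤ K := Subgroup.map_subtype_le X
    have hXeq : X = (X.map K.subtype).subgroupOf K := by
      ext x
      rw [Subgroup.mem_subgroupOf]
      constructor
      · intro hx
        exact ⟨x, hx, rfl⟩
      · rintro ⟨y, hy, hxy⟩
        have : y = x := Subtype.ext hxy
        exact this ▸ hy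
    rcases hmax _ h1 h2 with h | h
    · exfalso
      rw [h] at hXeq
      exact hX.ne hXeq.symm
    · rw [hXeq, h]
      exact Subgroup.subgroupOf_self K

theorem eq_or_eq_of_isCoatom_subgroupOf {G : Type*} [Group G] (H M : Subgroup G) (hHM : H ≤ M)
    (hmax : IsCoatom (H.subgroupOf M)) (X : Subgroup G) (hHX : H ≤ X) (hXM : X ≤ M) :
    X = H ∨ X = M := by
  have h1 : H.subgroupOf M ≤ X.subgroupOf M := by
    intro x hx
    exact hHX hx
  rcases hmax.le_iff.mp h1 with h | h
  · right
    rw [Subgroup.subgroupOf_eq_top] at h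
    exact le_antisymm hXM h
  · left
    apply le_antisymm _ hHX
    intro x hx
    have : (⟨x, hXM hx⟩ : M) ∈ X.subgroupOf M := hx
    rw [h] at this
    exact this

open scoped Classical in
theorem exists_three_cycle {G : Type*} [Group G] [Finite G] (n : ℕ)
    (hA : ∀ P : Subgroup (Equiv.Perm (Fin n)), MulAction.IsPreprimitive P (Fin n) →
      alternatingGroup (Fin n) ≤ P)
    (M : Subgroup G) (hM : IsCoatom M) (hn : M.index = n) :
    ∀ x y z : G ⧸ M, x ≠ y → y ≠ z → x ≠ z →
      ∃ g : G, g • x = y ∧ g • y = z ∧ g • z = x ∧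
        ∀ w, w ≠ x → w ≠ y → w ≠ z → g • w = w := by
  have hcard : Nat.card (G ⧸ M) = n := hn
  have : Fintype (G ⧸ M) := Fintype.ofFinite _
  let e : (G ⧸ M) ≃ Fin n := Finite.equivFinOfCardEq hcard
  have hnt : Nontrivial (G ⧸ M) := by
    rw [← Finite.one_lt_card_iff_nontrivial]
    have h1 : M.index ≠ 1 := fun h => hM.1 (Subgroup.index_eq_one.mp h)
    have h0 : M.index ≠ 0 := Subgroup.index_ne_zero_of_finite
    change 1 < M.index
    omega
  have hprimG : MulAction.IsPreprimitive G (G ⧸ M) := by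
    rw [← MulAction.isCoatom_stabilizer_iff_preprimitive (G := G) ((1 : G) : G ⧸ M),
      MulAction.stabilizer_quotient]
    exact hM
  let ψ : G →* Equiv.Perm (Fin n) :=
    (e.permCongrHom.toMonoidHom).comp (MulAction.toPermHom G (G ⧸ M))
  have hψ : ∀ g i, ψ g i = e (g • e.symm i) := fun g i => rfl
  let φ : G → ψ.range := ψ.rangeRestrict
  let f : (G ⧸ M) →ₑ[φ] Fin n :=
    { toFun := e
      map_smul' := by
        intro g ω
        change e (g • ω) = (ψ g) (e ω)
        rw [hψ, e.symm_apply_apply] }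
  have hprim : MulAction.IsPreprimitive ψ.range (Fin n) :=
    MulAction.IsPreprimitive.of_surjective (f := f) e.surjective
  have hAP := hA ψ.range hprim
  intro x y z hxy hyz hxz
  let σ : Equiv.Perm (G ⧸ M) := Equiv.swap y x * Equiv.swap y z
  have hσ3 : σ.IsThreeCycle := Equiv.Perm.isThreeCycle_swap_mul_swap_same hxy.symm hyz hxz
  have hσalt : e.permCongr σ ∈ alternatingGroup (Fin n) := by
    rw [Equiv.Perm.mem_alternatingGroup, Equiv.Perm.sign_permCongr]
    exact hσ3.sign
  obtain ⟨g, hg⟩ := hAP hσalt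
  have hgσ : ∀ ω, g • ω = σ ω := by
    intro ω
    have h1 : (ψ g) (e ω) = (e.permCongr σ) (e ω) := by rw [hg]
    rw [hψ, e.symm_apply_apply, Equiv.permCongr_apply, e.symm_apply_apply] at h1
    exact e.injective h1
  refine ⟨g, ?_, ?_, ?_, ?_⟩
  · rw [hgσ]
    change Equiv.swap y x (Equiv.swap y z x) = y
    rw [Equiv.swap_apply_of_ne_of_ne hxy hxz, Equiv.swap_apply_right]
  · rw [hgσ]
    change Equiv.swap y x (Equiv.swap y z y) = z
    rw [Equiv.swap_apply_left, Equiv.swap_apply_of_ne_of_ne hyz.symm hxz.symm]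
  · rw [hgσ]
    change Equiv.swap y x (Equiv.swap y z z) = x
    rw [Equiv.swap_apply_right, Equiv.swap_apply_left]
  · intro w hwx hwy hwz
    rw [hgσ]
    change Equiv.swap y x (Equiv.swap y z w) = w
    rw [Equiv.swap_apply_of_ne_of_ne hwy hwz, Equiv.swap_apply_of_ne_of_ne hwy hwx]

/-- Let n be an odd positive integer such that every primitive permutation group of degree n contains the alternating group (so the symmetric and alternating groups are the only primitive groups of degree n). Let G be a finite group, M a maximal subgroup of G of index n, and H a maximal subgroup of M. Then H is a second maximal subgroup of G: H is maximal in every maximal subgroup K of G containing H. -/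
theorem result {G : Type*} [Group G]
    [Finite G] (n : ℕ) (hodd : Odd n)
    (hA : ∀ P : Subgroup (Equiv.Perm (Fin n)), MulAction.IsPreprimitive P (Fin n) → alternatingGroup (Fin n) ≤ P)
    (M : Subgroup G) (hM : IsCoatom M) (hn : M.index = n) (H : Subgroup G) (hHM : H ≤ M)
    (hmax : IsCoatom (H.subgroupOf M)) (K : Subgroup G) (hK : IsCoatom K) (hHK : H ≤ K) :
    IsCoatom (H.subgroupOf K) := by
  classical
  by_cases hKM : K = M
  · subst hKM
    exact hmax
  have hMK : ¬ M ≤ K := by
    intro h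
    rcases eq_or_lt_of_le h with h1 | h1
    · exact hKM h1.symm
    · exact hK.1 (hM.2 K h1)
  have hKMH : K ⊓ M = H := by
    rcases eq_or_eq_of_isCoatom_subgroupOf H M hHM hmax (K ⊓ M) (le_inf hHK hHM) inf_le_right
      with h | h
    · exact h
    · exfalso
      apply hMK
      rw [← h]
      exact inf_le_left
  have hHneK : H ≠ K := by
    intro h
    apply hKM
    have h1 : K ≤ M := h ▸ hHM
    rcases eq_or_lt_of_le h1 with h2 | h2
    · exact h2
    · exact absurd (hK.2 M h2) hM.1
  have : Fintype (G ⧸ M) := Fintype.ofFinite _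
  have hstab : MulAction.stabilizer G ((1 : G) : G ⧸ M) = M := MulAction.stabilizer_quotient M
  have hoddΩ : Odd (Fintype.card (G ⧸ M)) := by
    rw [← Nat.card_eq_fintype_card]
    change Odd M.index
    rw [hn]
    exact hodd
  have h3 := exists_three_cycle n hA M hM hn
  apply isCoatom_subgroupOf_of H K hHK hHneK
  intro L hHL hLK
  apply no_between hoddΩ h3 ((1 : G) : G ⧸ M) H K L
  · intro X hHX hXM
    rw [hstab] at hXM ⊢
    exact eq_or_eq_of_isCoatom_subgroupOf H M hHM hmax X hHX hXM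
  · rw [hstab]; exact hHM
  · rw [hstab]; exact hKMH
  · exact hHL
  · exact hLK

end main

end Cfsg.Agent.S5885
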