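import Cfsg.Statements.S5887

set_option autoImplicit false
set_option linter.unusedSectionVars false
set_option linter.style.haveILetI false
open Cfsg

namespace Cfsg.Agent.S5887

/-- Abstract transvection data: given `y ∉ L v` and a proper subset `U` stable under adding
multiples of `y`, there are a functional `φ` and a vector `u` with `φ u = 0`, `φ v = 0`,
`φ y = 1`, and `y + u ∉ U`. -/
theorem exists_transvection_data {L V : Type*} [Field L] [AddCommGroup V] [Module L V]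
    (v y : V) (hy : y ∉ Submodule.span L {v}) (U : Set V) (hU : U ≠ Set.univ)
    (hUy : ∀ u ∈ U, ∀ ℓ : L, u + ℓ • y ∈ U) :
    ∃ (φ : V →ₗ[L] L) (u : V), φ u = 0 ∧ φ v = 0 ∧ φ y = 1 ∧ y + u ∉ U := by
  obtain ⟨w', hw'⟩ : ∃ w', w' ∉ U := by
    by_contra h
    push Not at h
    exact hU (Set.eq_univ_of_forall h)
  obtain ⟨φ, hφ1, hφ2⟩ :=
    LinearMap.exists_extend_of_notMem (0 : Submodule.span L {v} →ₗ[L] L) hy 1
  have hφv : φ v = 0 := by
    have := congrArg (fun f => f ⟨v, Submodule.mem_span_singleton_self v⟩) hφ1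
    simpa using this
  refine ⟨φ, w' + (1 - φ w') • y - y, ?_, hφv, hφ2, ?_⟩
  · simp [hφ2]
  · intro h
    have h2 : y + (w' + (1 - φ w') • y - y) = w' + (1 - φ w') • y := by abel
    rw [h2] at h
    have := hUy _ h (-(1 - φ w'))
    rw [add_assoc, ← add_smul, add_neg_cancel, zero_smul, add_zero] at this
    exact hw' this

section concrete
variable {F : Type*} [Field F] {n : ℕ}

/-- A subalgebra of the matrix algebra that is commutative with all nonzero elements invertible. -/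
structure FieldLike (L : Subalgebra F (Matrix (Fin n) (Fin n) F)) : Prop where
  comm : ∀ x ∈ L, ∀ y ∈ L, x * y = y * x
  inv : ∀ x ∈ L, x ≠ 0 → ∃ y ∈ L, x * y = 1

theorem FieldLike.isField [NeZero n] {L : Subalgebra F (Matrix (Fin n) (Fin n) F)}
    (hL : FieldLike L) : IsField L where
  exists_pair_ne := ⟨0, 1, fun h => by
    have h1 : ((0 : L) : Matrix (Fin n) (Fin n) F) = ((1 : L) : Matrix (Fin n) (Fin n) F) :=
      congrArg Subtype.val h
    exact zero_ne_one h1⟩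
  mul_comm x y := Subtype.ext (hL.comm x x.2 y y.2)
  mul_inv_cancel {a} ha := by
    obtain ⟨y, hy, hxy⟩ := hL.inv a a.2 (fun h => ha (Subtype.ext h))
    exact ⟨⟨y, hy⟩, Subtype.ext hxy⟩

open Matrix in
/-- Key construction: a unipotent element of `GL_n(F)` centralizing `L` but not normalizing `K`. -/
theorem exists_unipotent [NeZero n] (p : ℕ) [Fact p.Prime] [CharP F p]
    (L K : Subalgebra F (Matrix (Fin n) (Fin n) F)) (hL : FieldLike L) (hK : FieldLike K)
    (hLK : L ≤ K) (x : Matrix (Fin n) (Fin n) F) (hxK : x ∈ K) (hxL : x ∉ L)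
    (hdim : Module.finrank F K < n) :
    ∃ A B : Matrix (Fin n) (Fin n) F, A * B = 1 ∧ B * A = 1 ∧ A.det = 1 ∧
      (∀ a ∈ L, A * a = a * A) ∧ A * x * B ∉ K := by
  classical
  letI : Field L := hL.isField.toField
  have hsmul : ∀ (a : L) (z : Fin n → F), a • z = (a : Matrix (Fin n) (Fin n) F) *ᵥ z :=
    fun a z => rfl
  -- a nonzero vector
  let v : Fin n → F := Pi.single 0 1
  have hv : v ≠ 0 := by
    intro h
    have := congrFun h 0
    simp [v] at this
  let y : Fin n → F := x *ᵥ v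
  -- y ∉ L v
  have hy : y ∉ Submodule.span L {v} := by
    intro hmem
    rw [Submodule.mem_span_singleton] at hmem
    obtain ⟨ℓ, hℓ⟩ := hmem
    rw [hsmul] at hℓ
    have h0 : (x - (ℓ : Matrix (Fin n) (Fin n) F)) *ᵥ v = 0 := by
      rw [Matrix.sub_mulVec, hℓ]; exact sub_self _
    have hmemK : x - (ℓ : Matrix (Fin n) (Fin n) F) ∈ K := K.sub_mem hxK (hLK ℓ.2)
    by_cases hne : x - (ℓ : Matrix (Fin n) (Fin n) F) = 0
    · apply hxL
      rw [sub_eq_zero.mp hne]; exact ℓ.2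
    · obtain ⟨b, hbK, hb⟩ := hK.inv _ hmemK hne
      have hb' : b * (x - (ℓ : Matrix (Fin n) (Fin n) F)) = 1 := by
        rw [hK.comm b hbK _ hmemK]; exact hb
      apply hv
      have : (b * (x - (ℓ : Matrix (Fin n) (Fin n) F))) *ᵥ v = b *ᵥ 0 := by
        rw [← Matrix.mulVec_mulVec, h0]
      rw [hb', Matrix.one_mulVec, Matrix.mulVec_zero] at this
      exact this
  -- U = K v
  let T : K →ₗ[F] (Fin n → F) :=
    { toFun := fun k => (k : Matrix (Fin n) (Fin n) F) *ᵥ v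
      map_add' := fun a b => by simp [Matrix.add_mulVec]
      map_smul' := fun c a => by simp [Matrix.smul_mulVec] }
  let U : Set (Fin n → F) := Set.range T
  have hU : U ≠ Set.univ := by
    intro h
    have hsurj : LinearMap.range T = ⊤ := by
      rw [eq_top_iff]
      intro z _
      have : z ∈ U := by rw [h]; trivial
      exact this
    have h1 := LinearMap.finrank_range_le T
    rw [hsurj, finrank_top, Module.finrank_fin_fun] at h1
    omega
  have hUy : ∀ u ∈ U, ∀ ℓ : L, u + ℓ • y ∈ U := by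
    rintro _ ⟨k, rfl⟩ ℓ
    refine ⟨k + ⟨(ℓ : Matrix (Fin n) (Fin n) F) * x, K.mul_mem (hLK ℓ.2) hxK⟩, ?_⟩
    show ((k : Matrix (Fin n) (Fin n) F) + (ℓ : Matrix (Fin n) (Fin n) F) * x) *ᵥ v =
      (k : Matrix (Fin n) (Fin n) F) *ᵥ v + ℓ • y
    rw [Matrix.add_mulVec, hsmul, ← Matrix.mulVec_mulVec]
  obtain ⟨φ, u, hφu, hφv, hφy, hyu⟩ := exists_transvection_data (L := L) v y hy U hU hUy
  -- the transvection
  let G : (Fin n → F) ≃ₗ[L] (Fin n → F) := LinearEquiv.transvection hφu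
  let GF : (Fin n → F) ≃ₗ[F] (Fin n → F) := G.restrictScalars F
  have hGF : ∀ z, GF z = z + φ z • u := fun z => rfl
  have hGFsymm_v : GF.symm v = v := by
    rw [LinearEquiv.symm_apply_eq, hGF, hφv, zero_smul, add_zero]
  let A : Matrix (Fin n) (Fin n) F := LinearMap.toMatrix' (GF : (Fin n → F) →ₗ[F] (Fin n → F))
  let B : Matrix (Fin n) (Fin n) F :=
    LinearMap.toMatrix' (GF.symm : (Fin n → F) →ₗ[F] (Fin n → F))
  have hA : ∀ z, A *ᵥ z = z + φ z • u := fun z => by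
    rw [LinearMap.toMatrix'_mulVec]; rfl
  have hB : ∀ z, B *ᵥ z = GF.symm z := fun z => by
    rw [LinearMap.toMatrix'_mulVec]; rfl
  have hAB : A * B = 1 := by
    rw [← LinearMap.toMatrix'_comp, ← LinearMap.toMatrix'_id]
    congr 1
    ext z
    simp
  have hBA : B * A = 1 := by
    rw [← LinearMap.toMatrix'_comp, ← LinearMap.toMatrix'_id]
    congr 1
    ext z
    simp
  refine ⟨A, B, hAB, hBA, ?_, ?_, ?_⟩
  · -- det A = 1 via A ^ p = 1
    have hN : (A - 1) * (A - 1) = 0 := by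
      apply Matrix.toLin'.injective
      apply LinearMap.ext
      intro z
      rw [Matrix.toLin'_apply, ← Matrix.mulVec_mulVec]
      have h1 : ∀ w, (A - 1) *ᵥ w = φ w • u := by
        intro w
        rw [Matrix.sub_mulVec, hA, Matrix.one_mulVec, add_sub_cancel_left]
      rw [h1, h1, map_smul, hφu, smul_zero, zero_smul]
      simp
    have hp2 : 2 ≤ p := (Fact.out : p.Prime).two_le
    have hNp : (A - 1) ^ p = 0 := by
      obtain ⟨k, hk⟩ := Nat.exists_eq_add_of_le hp2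
      rw [hk, pow_add, pow_two, hN, zero_mul]
    have hAp : A ^ p = 1 := by
      have h1 : A = (A - 1) + 1 := by abel
      rw [h1, add_pow_char_of_commute p (Commute.one_right _), hNp, one_pow, zero_add]
    have hdet : A.det ^ p = 1 ^ p := by
      rw [← Matrix.det_pow, hAp, Matrix.det_one, one_pow]
    exact frobenius_inj F p hdet
  · intro a ha
    apply Matrix.toLin'.injective
    apply LinearMap.ext
    intro z
    rw [Matrix.toLin'_apply, Matrix.toLin'_apply, ← Matrix.mulVec_mulVec, ← Matrix.mulVec_mulVec,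
      hA, hA]
    have h1 : a *ᵥ z = (⟨a, ha⟩ : L) • z := rfl
    rw [h1, map_smul, smul_eq_mul, mul_smul, Matrix.mulVec_add]
    rfl
  · intro hmem
    apply hyu
    refine ⟨⟨A * x * B, hmem⟩, ?_⟩
    show (A * x * B) *ᵥ v = y + u
    rw [← Matrix.mulVec_mulVec, ← Matrix.mulVec_mulVec, hB, hGFsymm_v, hA]
    show y + φ y • u = y + u
    rw [hφy, one_smul]

end concrete

/-- In a finite field of order `q ^ r` with `s ∣ r`, `1 < s < r`: an element fixed by the
`q^s`-power map but not by the `q`-power map, and an element not fixed by the `q^s`-power map. -/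
theorem exists_elements {E : Type*} [Field E] [Finite E] (q r s : ℕ) (hq : 2 ≤ q)
    (hcard : Nat.card E = q ^ r) (hsr : s ∣ r) (hs1 : 1 < s) (hsr' : s < r) :
    (∃ a : E, a ^ (q ^ s) = a ∧ a ^ q ≠ a) ∧ ∃ b : E, b ^ (q ^ s) ≠ b := by
  obtain ⟨ζ, hζ⟩ := IsCyclic.exists_generator (α := Eˣ)
  have hord : orderOf ζ = q ^ r - 1 := by
    rw [orderOf_eq_card_of_forall_mem_zpowers hζ, Nat.card_units, hcard]
  have hqs_lt : q ^ s < q ^ r := Nat.pow_lt_pow_right hq hsr'
  have hq_lt : q ^ 1 < q ^ s := Nat.pow_lt_pow_right hq hs1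
  rw [pow_one] at hq_lt
  have hdvd : q ^ s - 1 ∣ q ^ r - 1 := by
    obtain ⟨t, rfl⟩ := hsr
    simpa only [one_pow, pow_mul] using Nat.sub_dvd_pow_sub_pow (q ^ s) 1 t
  obtain ⟨k, hk⟩ := hdvd
  have hm0 : 0 < q ^ s - 1 := by omega
  have hk0 : k ≠ 0 := by
    rintro rfl
    rw [mul_zero] at hk
    omega
  constructor
  · -- a = ζ ^ k has order q^s - 1
    have hordk : orderOf (ζ ^ k) = q ^ s - 1 := by
      rw [orderOf_pow_of_dvd hk0 (by rw [hord, hk]; exact dvd_mul_left k _), hord, hk,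
        Nat.mul_div_cancel _ (Nat.pos_of_ne_zero hk0)]
    refine ⟨((ζ ^ k : Eˣ) : E), ?_, ?_⟩
    · have h1 : (ζ ^ k) ^ (q ^ s - 1) = 1 := by rw [← hordk]; exact pow_orderOf_eq_one _
      have h2 : (((ζ ^ k : Eˣ) : E)) ^ (q ^ s - 1) = 1 := by
        rw [← Units.val_pow_eq_pow_val, h1, Units.val_one]
      calc ((ζ ^ k : Eˣ) : E) ^ (q ^ s) = ((ζ ^ k : Eˣ) : E) ^ (q ^ s - 1 + 1) := by
            congr 1; omega
        _ = ((ζ ^ k : Eˣ) : E) := by rw [pow_succ, h2, one_mul]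
    · intro h
      have h3 : (ζ ^ k) ^ (q - 1) ≠ 1 :=
        pow_ne_one_of_lt_orderOf (by omega) (by rw [hordk]; omega)
      apply h3
      apply Units.ext
      rw [Units.val_pow_eq_pow_val, Units.val_one]
      have hne : ((ζ ^ k : Eˣ) : E) ≠ 0 := Units.ne_zero _
      have h4 : ((ζ ^ k : Eˣ) : E) ^ (q - 1) * ((ζ ^ k : Eˣ) : E) = 1 * ((ζ ^ k : Eˣ) : E) := by
        rw [← pow_succ, one_mul]
        have : q - 1 + 1 = q := by omega
        rw [this]; exact h
      exact mul_right_cancel₀ hne h4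
  · refine ⟨(ζ : E), ?_⟩
    intro h
    have h3 : ζ ^ (q ^ s - 1) ≠ 1 :=
      pow_ne_one_of_lt_orderOf (by omega) (by rw [hord]; omega)
    apply h3
    apply Units.ext
    rw [Units.val_pow_eq_pow_val, Units.val_one]
    have hne : (ζ : E) ≠ 0 := Units.ne_zero _
    have h4 : (ζ : E) ^ (q ^ s - 1) * (ζ : E) = 1 * (ζ : E) := by
      rw [← pow_succ, one_mul]
      have : q ^ s - 1 + 1 = q ^ s := by omega
      rw [this]; exact h
    exact mul_right_cancel₀ hne h4

section finite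
variable {F : Type*} [Field F] {n : ℕ} [NeZero n]

/-- The subalgebra of `K` fixed by `x ↦ x ^ (p ^ e)`. -/
def fixedSub (p : ℕ) [Fact p.Prime] [CharP F p] (K : Subalgebra F (Matrix (Fin n) (Fin n) F))
    (hcomm : ∀ x ∈ K, ∀ y ∈ K, x * y = y * x) (e : ℕ) (hF : ∀ c : F, c ^ (p ^ e) = c) :
    Subalgebra F (Matrix (Fin n) (Fin n) F) where
  carrier := {x | x ∈ K ∧ x ^ (p ^ e) = x}
  mul_mem' := by
    rintro x y ⟨hx, hx'⟩ ⟨hy, hy'⟩
    exact ⟨K.mul_mem hx hy, by
      rw [(show Commute x y from hcomm x hx y hy).mul_pow, hx', hy']⟩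
  add_mem' := by
    rintro x y ⟨hx, hx'⟩ ⟨hy, hy'⟩
    exact ⟨K.add_mem hx hy, by
      rw [add_pow_char_pow_of_commute p e (show Commute x y from hcomm x hx y hy), hx', hy']⟩
  algebraMap_mem' c := ⟨K.algebraMap_mem c, by rw [← map_pow, hF]⟩

variable (p : ℕ) [Fact p.Prime] [CharP F p] (K : Subalgebra F (Matrix (Fin n) (Fin n) F))
  (hcomm : ∀ x ∈ K, ∀ y ∈ K, x * y = y * x) (e : ℕ) (hF : ∀ c : F, c ^ (p ^ e) = c)

theorem mem_fixedSub (x : Matrix (Fin n) (Fin n) F) :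
    x ∈ fixedSub p K hcomm e hF ↔ x ∈ K ∧ x ^ (p ^ e) = x := Iff.rfl

theorem fixedSub_le : fixedSub p K hcomm e hF ≤ K := fun _ hx => hx.1

theorem fixedSub_fieldLike (hK : FieldLike K) : FieldLike (fixedSub p K hK.comm e hF) where
  comm x hx y hy := hK.comm x hx.1 y hy.1
  inv x hx hx0 := by
    obtain ⟨y, hyK, hxy⟩ := hK.inv x hx.1 hx0
    refine ⟨y, ⟨hyK, ?_⟩, hxy⟩
    have hyx : y * x = 1 := by rw [hK.comm y hyK x hx.1]; exact hxy
    have h1 : x ^ (p ^ e) * y ^ (p ^ e) = 1 := by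
      rw [← (show Commute x y from hK.comm x hx.1 y hyK).mul_pow, hxy, one_pow]
    rw [hx.2] at h1
    calc y ^ (p ^ e) = (y * x) * y ^ (p ^ e) := by rw [hyx, one_mul]
      _ = y * (x * y ^ (p ^ e)) := mul_assoc _ _ _
      _ = y := by rw [h1, mul_one]

theorem normalizer_le_fixedSub :
    Cfsg.Geo.subalgebraNormalizer K ≤ Cfsg.Geo.subalgebraNormalizer (fixedSub p K hcomm e hF) := by
  intro g hg k
  have hg' : ∀ k : Matrix (Fin n) (Fin n) F, k ∈ K ↔
      (g : Matrix (Fin n) (Fin n) F) * k * ((g⁻¹ : GL (Fin n) F) : Matrix (Fin n) (Fin n) F) ∈ K := hg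
  rw [mem_fixedSub, mem_fixedSub, Units.conj_pow]
  constructor
  · rintro ⟨hk, hk'⟩
    exact ⟨(hg' k).mp hk, by rw [hk']⟩
  · rintro ⟨hk, hk'⟩
    refine ⟨(hg' k).mpr hk, ?_⟩
    have h2 : ((g⁻¹ : GL (Fin n) F) : Matrix (Fin n) (Fin n) F) *
        ((g : Matrix (Fin n) (Fin n) F) * k ^ (p ^ e) *
          ((g⁻¹ : GL (Fin n) F) : Matrix (Fin n) (Fin n) F)) * (g : Matrix (Fin n) (Fin n) F) =
        ((g⁻¹ : GL (Fin n) F) : Matrix (Fin n) (Fin n) F) *
        ((g : Matrix (Fin n) (Fin n) F) * k *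
          ((g⁻¹ : GL (Fin n) F) : Matrix (Fin n) (Fin n) F)) * (g : Matrix (Fin n) (Fin n) F) := by
      rw [hk']
    simpa [mul_assoc] using h2

/-- Matrices commuting with a subalgebra normalize it. -/
theorem mem_normalizer_of_commute (L : Subalgebra F (Matrix (Fin n) (Fin n) F)) (g : GL (Fin n) F)
    (hg : ∀ a ∈ L, (g : Matrix (Fin n) (Fin n) F) * a = a * (g : Matrix (Fin n) (Fin n) F)) :
    g ∈ Cfsg.Geo.subalgebraNormalizer L := by
  intro k
  constructor
  · intro hk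
    rw [hg k hk, mul_assoc, ← Units.val_mul, mul_inv_cancel, Units.val_one, mul_one]
    exact hk
  · intro hk
    have h1 := hg _ hk
    have h2 : k = (g : Matrix (Fin n) (Fin n) F) * k *
        ((g⁻¹ : GL (Fin n) F) : Matrix (Fin n) (Fin n) F) := by
      have : ((g⁻¹ : GL (Fin n) F) : Matrix (Fin n) (Fin n) F) *
          ((g : Matrix (Fin n) (Fin n) F) * ((g : Matrix (Fin n) (Fin n) F) * k *
            ((g⁻¹ : GL (Fin n) F) : Matrix (Fin n) (Fin n) F))) =
          ((g⁻¹ : GL (Fin n) F) : Matrix (Fin n) (Fin n) F) *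
          (((g : Matrix (Fin n) (Fin n) F) * k *
            ((g⁻¹ : GL (Fin n) F) : Matrix (Fin n) (Fin n) F)) * (g : Matrix (Fin n) (Fin n) F)) := by
        rw [h1]
      have h3 : (g : Matrix (Fin n) (Fin n) F) * (k *
          ((g⁻¹ : GL (Fin n) F) : Matrix (Fin n) (Fin n) F)) = k := by
        simpa [mul_assoc] using this
      rw [mul_assoc, h3]
    rw [h2]; exact hk

end finite

section final
variable {F : Type*} [Field F] {n : ℕ}

theorem fieldLike_bot : FieldLike (⊥ : Subalgebra F (Matrix (Fin n) (Fin n) F)) where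
  comm x hx y hy := by
    obtain ⟨c, rfl⟩ := Algebra.mem_bot.mp hx
    exact Algebra.commutes c y
  inv x hx hx0 := by
    obtain ⟨c, rfl⟩ := Algebra.mem_bot.mp hx
    have hc : c ≠ 0 := by
      rintro rfl
      exact hx0 (map_zero _)
    refine ⟨algebraMap F _ c⁻¹, Subalgebra.algebraMap_mem _ _, ?_⟩
    rw [← map_mul, mul_inv_cancel₀ hc, map_one]

end final

theorem result {F : Type*} [Field F]
    [Fintype F] (n r : ℕ) (hr1 : 1 < r) (hrp : ¬ r.Prime) (hrn : r ∣ n) (hlt : r < n)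
    (K : Subalgebra F (Matrix (Fin n) (Fin n) F)) (hK : Cfsg.Geo.IsFieldSubalgebra r K) :
    ¬ IsCoatom (Cfsg.Geo.subalgebraNormalizer K) ∧
      ¬ Cfsg.Geo.IsMaximalIn (Cfsg.Geo.specialLinear (Fin n) F)
        (Cfsg.Geo.subalgebraNormalizer K ⊓ Cfsg.Geo.specialLinear (Fin n) F) := by
  classical
  have hn0 : NeZero n := ⟨by omega⟩
  obtain ⟨p, hchar⟩ := CharP.exists F
  have hp : Fact p.Prime := ⟨CharP.char_is_prime F p⟩
  obtain ⟨f, _, hqf⟩ := FiniteField.card F p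
  set q := Fintype.card F with hq
  have hq2 : 2 ≤ q := Fintype.one_lt_card
  have hKL : FieldLike K := ⟨hK.comm, hK.inv⟩
  -- the prime s
  set s := r.minFac with hs
  have hsp : s.Prime := Nat.minFac_prime (by omega)
  have hsr : s ∣ r := Nat.minFac_dvd r
  have hs1 : 1 < s := hsp.one_lt
  have hsr' : s < r := (Nat.not_prime_iff_minFac_lt (by omega)).mp hrp
  -- Frobenius data
  have hF : ∀ c : F, c ^ (p ^ ((f : ℕ) * s)) = c := by
    intro c
    rw [pow_mul, ← hqf]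
    exact FiniteField.pow_card_pow s c
  have hqs : q ^ s = p ^ ((f : ℕ) * s) := by rw [pow_mul, ← hqf]
  set K₀ := fixedSub p K hKL.comm ((f : ℕ) * s) hF with hK₀
  have hK₀L : FieldLike K₀ := fixedSub_fieldLike p K ((f : ℕ) * s) hF hKL
  have hK₀K : K₀ ≤ K := fixedSub_le p K hKL.comm _ hF
  -- elements
  obtain ⟨⟨a, ha1, ha2⟩, ⟨b, hb⟩⟩ :
      (∃ a : K, a ^ (q ^ s) = a ∧ a ^ q ≠ a) ∧ ∃ b : K, b ^ (q ^ s) ≠ b := by
    letI : Field K := hKL.isField.toField
    have hcard : Nat.card K = q ^ r := by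
      rw [Module.natCard_eq_pow_finrank (K := F) (V := K), hK.finrank_eq, Nat.card_eq_fintype_card]
    exact exists_elements q r s hq2 hcard hsr hs1 hsr'
  have haK₀ : (a : Matrix (Fin n) (Fin n) F) ∈ K₀ := by
    refine ⟨a.2, ?_⟩
    rw [← hqs]
    have := congrArg Subtype.val ha1
    simpa using this
  have ha_bot : (a : Matrix (Fin n) (Fin n) F) ∉ (⊥ : Subalgebra F (Matrix (Fin n) (Fin n) F)) := by
    intro hmem
    obtain ⟨c, hc⟩ := Algebra.mem_bot.mp hmem
    apply ha2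
    apply Subtype.ext
    have h1 : ((a ^ q : K) : Matrix (Fin n) (Fin n) F) = (a : Matrix (Fin n) (Fin n) F) ^ q := by
      simp
    rw [h1, ← hc, ← map_pow, hq, FiniteField.pow_card]
  have hbK₀ : (b : Matrix (Fin n) (Fin n) F) ∉ K₀ := by
    rintro ⟨_, h⟩
    apply hb
    apply Subtype.ext
    have h1 : ((b ^ (q ^ s) : K) : Matrix (Fin n) (Fin n) F) =
        (b : Matrix (Fin n) (Fin n) F) ^ (q ^ s) := by simp
    rw [h1, hqs]; exact h
  -- dimensions
  have hdimK : Module.finrank F K < n := by rw [hK.finrank_eq]; exact hlt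
  have hdimK₀ : Module.finrank F K₀ < n := by
    refine lt_of_le_of_lt ?_ hdimK
    exact Submodule.finrank_mono (show Subalgebra.toSubmodule K₀ ≤ Subalgebra.toSubmodule K from hK₀K)
  -- g₁ ∈ SL, g₁ ∉ N(K₀)
  obtain ⟨A₁, B₁, hAB₁, hBA₁, hdet₁, _, hnot₁⟩ :=
    exists_unipotent p ⊥ K₀ fieldLike_bot hK₀L bot_le _ haK₀ ha_bot hdimK₀
  -- g₂ ∈ SL ∩ N(K₀), g₂ ∉ N(K)
  obtain ⟨A₂, B₂, hAB₂, hBA₂, hdet₂, hcomm₂, hnot₂⟩ :=
    exists_unipotent p K₀ K hK₀L hKL hK₀K _ b.2 hbK₀ hdimK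
  let g₁ : GL (Fin n) F := ⟨A₁, B₁, hAB₁, hBA₁⟩
  let g₂ : GL (Fin n) F := ⟨A₂, B₂, hAB₂, hBA₂⟩
  have hg₁SL : g₁ ∈ Cfsg.Geo.specialLinear (Fin n) F := by
    show Matrix.GeneralLinearGroup.det g₁ = 1
    apply Units.ext
    rw [Matrix.GeneralLinearGroup.val_det_apply]
    exact hdet₁
  have hg₂SL : g₂ ∈ Cfsg.Geo.specialLinear (Fin n) F := by
    show Matrix.GeneralLinearGroup.det g₂ = 1
    apply Units.ext
    rw [Matrix.GeneralLinearGroup.val_det_apply]
    exact hdet₂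
  have hg₁N : g₁ ∉ Cfsg.Geo.subalgebraNormalizer K₀ := by
    intro h
    exact hnot₁ ((h _).mp haK₀)
  have hg₂N₀ : g₂ ∈ Cfsg.Geo.subalgebraNormalizer K₀ := mem_normalizer_of_commute K₀ g₂ hcomm₂
  have hg₂N : g₂ ∉ Cfsg.Geo.subalgebraNormalizer K := by
    intro h
    exact hnot₂ ((h _).mp b.2)
  have hle : Cfsg.Geo.subalgebraNormalizer K ≤ Cfsg.Geo.subalgebraNormalizer K₀ :=
    normalizer_le_fixedSub p K hKL.comm _ hF
  constructor
  · intro hco
    have hlt' : Cfsg.Geo.subalgebraNormalizer K < Cfsg.Geo.subalgebraNormalizer K₀ :=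
      lt_of_le_of_ne hle (fun h => hg₂N (h ▸ hg₂N₀))
    have htop := hco.2 _ hlt'
    apply hg₁N
    rw [htop]; trivial
  · rintro ⟨_, hmax⟩
    rcases hmax (Cfsg.Geo.subalgebraNormalizer K₀ ⊓ Cfsg.Geo.specialLinear (Fin n) F)
      (inf_le_inf_right _ hle) inf_le_right with h | h
    · have : g₂ ∈ Cfsg.Geo.subalgebraNormalizer K ⊓ Cfsg.Geo.specialLinear (Fin n) F := by
        rw [← h]; exact ⟨hg₂N₀, hg₂SL⟩
      exact hg₂N this.1
    · have : g₁ ∈ Cfsg.Geo.subalgebraNormalizer K₀ ⊓ Cfsg.Geo.specialLinear (Fin n) F := by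
        rw [h]; exact hg₁SL
      exact hg₁N this.1

end Cfsg.Agent.S5887
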