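import Cfsg.Statements.S5905

set_option autoImplicit false
set_option linter.unusedSectionVars false
open Cfsg
open scoped Pointwise

namespace Cfsg.Agent.S5905

section
variable {Ω : Type*} [Fintype Ω] [DecidableEq Ω] {b : ℕ} (f : Ω → Fin b)

/-- The stabilizer of the partition given by the fibres of `f`. -/
def pstab : Subgroup (Equiv.Perm Ω) where
  carrier := {g | ∀ x y : Ω, f x = f y ↔ f (g x) = f (g y)}
  one_mem' := fun x y => Iff.rfl
  mul_mem' := by
    intro g h hg hh x y
    rw [hh x y, hg (h x) (h y)]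
    rfl
  inv_mem' := by
    intro g hg x y
    have := hg (g⁻¹ x) (g⁻¹ y)
    simp only [Equiv.Perm.coe_inv, Equiv.apply_symm_apply] at this
    exact this.symm

theorem closure_eq :
    Subgroup.closure {g : Equiv.Perm Ω | ∀ x y : Ω, f x = f y ↔ f (g x) = f (g y)} = pstab f :=
  Subgroup.closure_eq (pstab f)

theorem mem_pstab (g : Equiv.Perm Ω) :
    g ∈ pstab f ↔ ∀ x y : Ω, f x = f y ↔ f (g x) = f (g y) := Iff.rfl

theorem swap_mem {x y : Ω} (h : f x = f y) : Equiv.swap x y ∈ pstab f := by
  have key : ∀ z, f (Equiv.swap x y z) = f z := by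
    intro z
    by_cases hzx : z = x
    · subst hzx; rw [Equiv.swap_apply_left]; exact h.symm
    · by_cases hzy : z = y
      · subst hzy; rw [Equiv.swap_apply_right]; exact h
      · rw [Equiv.swap_apply_of_ne_of_ne hzx hzy]
  intro u v
  rw [key u, key v]

theorem of_semiconj (σ : Equiv.Perm Ω) (τ : Equiv.Perm (Fin b)) (h : ∀ u, f (σ u) = τ (f u)) :
    σ ∈ pstab f := by
  intro u v
  rw [h u, h v, τ.injective.eq_iff]

variable {a : ℕ} (hf : ∀ i : Fin b, Nat.card {x : Ω // f x = i} = a)
include hf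

/-- Coordinates on `Ω` compatible with `f`. -/
noncomputable def coord : Ω ≃ Fin b × Fin a :=
  (Equiv.sigmaFiberEquiv f).symm.trans
    ((Equiv.sigmaCongrRight (fun i =>
      (Fintype.equivFinOfCardEq ((Nat.card_eq_fintype_card).symm.trans (hf i))))).trans
      (Equiv.sigmaEquivProd _ _))

theorem coord_fst (u : Ω) : (coord f hf u).1 = f u := by
  simp [coord]

/-- Lift of a permutation of the labels to a permutation of `Ω`. -/
noncomputable def liftPerm (τ : Equiv.Perm (Fin b)) : Equiv.Perm Ω :=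
  (coord f hf).trans ((Equiv.prodCongr τ (Equiv.refl _)).trans (coord f hf).symm)

theorem f_liftPerm (τ : Equiv.Perm (Fin b)) (u : Ω) : f (liftPerm f hf τ u) = τ (f u) := by
  rw [← coord_fst f hf (liftPerm f hf τ u)]
  simp [liftPerm, coord_fst]

theorem liftPerm_fix (τ : Equiv.Perm (Fin b)) (u : Ω) (h : τ (f u) = f u) :
    liftPerm f hf τ u = u := by
  simp only [liftPerm, Equiv.trans_apply, Equiv.prodCongr_apply, Equiv.coe_refl]
  rw [Equiv.symm_apply_eq]
  ext
  · simp [coord_fst, h]
  · simp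

theorem liftPerm_mem (τ : Equiv.Perm (Fin b)) : liftPerm f hf τ ∈ pstab f :=
  of_semiconj f _ τ (f_liftPerm f hf τ)

/-- `pstab f` is transitive. -/
theorem exists_mem_apply_eq (x y : Ω) : ∃ w ∈ pstab f, w x = y := by
  set σ := liftPerm f hf (Equiv.swap (f x) (f y)) with hσ
  have h1 : f (σ x) = f y := by
    rw [hσ, f_liftPerm f hf, Equiv.swap_apply_left]
  refine ⟨Equiv.swap (σ x) y * σ, (pstab f).mul_mem (swap_mem f h1) (liftPerm_mem f hf _), ?_⟩
  simp

end

section main
variable {Ω : Type*} [Fintype Ω] [DecidableEq Ω] {a b : ℕ} (f : Ω → Fin b)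
  (hf : ∀ i : Fin b, Nat.card {x : Ω // f x = i} = a)
include hf

/-- A block of an overgroup `G` of `pstab f` that contains points in two different fibres
is everything. -/
theorem block_eq_univ {G : Subgroup (Equiv.Perm Ω)} (hG : pstab f ≤ G) {B : Set Ω}
    (hB : MulAction.IsBlock G B) {u v : Ω} (hu : u ∈ B) (hv : v ∈ B) (huv : f u ≠ f v) :
    B = Set.univ := by
  -- elements of pstab fixing a point of B preserve B
  have hpres : ∀ w ∈ pstab f, ∀ p ∈ B, w p ∈ B → ∀ q ∈ B, w q ∈ B := by
    intro w hw p hp hwp q hq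
    have h := (MulAction.isBlock_iff_smul_eq_of_mem.mp hB) (g := ⟨w, hG hw⟩) (a := p) hp hwp
    rw [← h]
    exact ⟨q, hq, rfl⟩
  -- Claim 2: if p, q ∈ B lie in different fibres then the fibre of p lies in B
  have claim2 : ∀ p ∈ B, ∀ q ∈ B, f p ≠ f q → ∀ z, f z = f p → z ∈ B := by
    intro p hp q hq hpq z hz
    by_cases hzp : z = p
    · rw [hzp]; exact hp
    have hsw : Equiv.swap p z ∈ pstab f := swap_mem f hz.symm
    have hq' : Equiv.swap p z q = q := by
      apply Equiv.swap_apply_of_ne_of_ne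
      · rintro rfl; exact hpq rfl
      · rintro rfl; exact hpq hz.symm
    have := hpres _ hsw q hq (by rw [hq']; exact hq) p hp
    rwa [Equiv.swap_apply_left] at this
  rw [Set.eq_univ_iff_forall]
  intro z
  by_cases hzu : f z = f u
  · exact claim2 u hu v hv huv z hzu
  by_cases hzv : f z = f v
  · exact claim2 v hv u hu (Ne.symm huv) z hzv
  -- third fibre
  set σ := liftPerm f hf (Equiv.swap (f v) (f z)) with hσ
  have hσu : σ u = u := by
    apply liftPerm_fix
    apply Equiv.swap_apply_of_ne_of_ne huv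
    exact fun h => hzu h.symm
  have hσv : f (σ v) = f z := by
    rw [hσ, f_liftPerm f hf, Equiv.swap_apply_left]
  have hσvB : σ v ∈ B :=
    hpres σ (liftPerm_mem f hf _) u hu (by rw [hσu]; exact hu) v hv
  exact claim2 (σ v) hσvB u hu (by rw [hσv]; exact hzu) z hσv.symm

theorem result_aux (ha : 2 ≤ a) (hb : 2 ≤ b) : IsCoatom (pstab f) := by
  classical
  -- `f` is surjective with fibres of size `a`
  have hfib : ∀ i : Fin b, ∃ x y : Ω, x ≠ y ∧ f x = i ∧ f y = i := by
    intro i
    have h1 : 1 < Nat.card {x : Ω // f x = i} := by rw [hf i]; omega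
    rw [Nat.card_eq_fintype_card, Fintype.one_lt_card_iff] at h1
    obtain ⟨x, y, hxy⟩ := h1
    exact ⟨x, y, fun h => hxy (Subtype.ext h), x.2, y.2⟩
  constructor
  · -- pstab f ≠ ⊤
    intro htop
    obtain ⟨x, y, hxy, hx, hy⟩ := hfib ⟨0, by omega⟩
    obtain ⟨z, _, _, hz, _⟩ := hfib ⟨1, by omega⟩
    have hmem : Equiv.swap y z ∈ pstab f := by rw [htop]; trivial
    have h01 : (⟨0, by omega⟩ : Fin b) ≠ ⟨1, by omega⟩ := by
      intro h; simp [Fin.ext_iff] at h
    have hzx : z ≠ x := by rintro rfl; exact h01 (hx.symm.trans hz)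
    have hzy : z ≠ y := by rintro rfl; exact h01 (hy.symm.trans hz)
    have := (hmem x y).mp (hx.trans hy.symm)
    rw [Equiv.swap_apply_left, Equiv.swap_apply_of_ne_of_ne hxy hzx.symm] at this
    exact h01 (hx.symm.trans (this.trans hz))
  · intro G hG
    -- a swap in G
    obtain ⟨x₀, y₀, hxy₀, hx₀, hy₀⟩ := hfib ⟨0, by omega⟩
    have hswapG : Equiv.swap x₀ y₀ ∈ G := hG.le (swap_mem f (hx₀.trans hy₀.symm))
    apply Equiv.Perm.subgroup_eq_top_of_isPreprimitive_of_isSwap_mem _ (Equiv.swap x₀ y₀)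
      ⟨x₀, y₀, hxy₀, rfl⟩ hswapG
    -- G is transitive
    have htrans : MulAction.IsPretransitive G Ω := by
      refine ⟨fun x y => ?_⟩
      obtain ⟨w, hw, hwxy⟩ := exists_mem_apply_eq f hf x y
      exact ⟨⟨w, hG.le hw⟩, hwxy⟩
    apply MulAction.IsPreprimitive.of_isTrivialBlock_base x₀
    intro B hx₀B hB
    unfold MulAction.IsTrivialBlock
    by_contra hcon
    push Not at hcon
    obtain ⟨hns, hnu⟩ := hcon
    -- every translate of B lies in a single fibre
    have hsingle : ∀ g : G, ∀ p ∈ g • B, ∀ q ∈ g • B, f p = f q := by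
      intro g p hp q hq
      by_contra hpq
      have hB' : MulAction.IsBlock G (g • B) := hB.translate g
      have := block_eq_univ f hf hG.le hB' hp hq hpq
      apply hnu
      have h2 : g⁻¹ • (g • B) = g⁻¹ • (Set.univ : Set Ω) := by rw [this]
      rw [inv_smul_smul, Set.smul_set_univ] at h2
      exact h2
    -- B contains the fibre of x₀
    obtain ⟨p, hp, q, hq, hpq⟩ := hns
    have hsingleB : ∀ p ∈ B, ∀ q ∈ B, f p = f q := by
      intro p hp q hq
      have := hsingle 1 p (by rwa [one_smul]) q (by rwa [one_smul])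
      exact this
    have hfibB : ∀ z, f z = f p → z ∈ B := by
      intro z hz
      by_cases hzp : z = p
      · rw [hzp]; exact hp
      by_cases hzq : z = q
      · rw [hzq]; exact hq
      have hsw : Equiv.swap q z ∈ pstab f :=
        swap_mem f ((hsingleB q hq p hp).trans hz.symm)
      have hfixp : Equiv.swap q z p = p :=
        Equiv.swap_apply_of_ne_of_ne hpq (Ne.symm hzp)
      have h := (MulAction.isBlock_iff_smul_eq_of_mem.mp hB) (g := ⟨_, hG.le hsw⟩) (a := p) hp
        (by show Equiv.swap q z p ∈ B; rw [hfixp]; exact hp)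
      rw [← h]
      exact ⟨q, hq, Equiv.swap_apply_left q z⟩
    -- now G ≤ pstab f, contradiction
    have hle : G ≤ pstab f := by
      have himp : ∀ g ∈ G, ∀ x y : Ω, f x = f y → f (g x) = f (g y) := by
        intro g hg x y hxy
        obtain ⟨w, hw, hwpx⟩ := exists_mem_apply_eq f hf p x
        -- x, y ∈ w • B
        have hwinv : w⁻¹ ∈ pstab f := (pstab f).inv_mem hw
        have hx' : w⁻¹ x = p := by rw [← hwpx]; simp
        have hy' : w⁻¹ y ∈ B := by
          apply hfibB
          rw [← hx']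
          exact ((hwinv x y).mp hxy).symm
        let gw : G := ⟨g, hg⟩ * ⟨w, hG.le hw⟩
        have hgx : g x ∈ gw • B := by
          refine ⟨p, hp, ?_⟩
          show g (w p) = g x
          rw [hwpx]
        have hgy : g y ∈ gw • B := by
          refine ⟨w⁻¹ y, hy', ?_⟩
          show g (w (w⁻¹ y)) = g y
          simp
        exact hsingle gw _ hgx _ hgy
      intro g hg x y
      refine ⟨himp g hg x y, fun h => ?_⟩
      have := himp g⁻¹ (G.inv_mem hg) (g x) (g y) h
      simpa using this
    exact absurd (le_antisymm hle hG.le) (ne_of_gt hG)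

end main

theorem result {Ω : Type*} [Fintype Ω] [DecidableEq Ω] (a b : ℕ) (ha : 2 ≤ a) (hb : 2 ≤ b)
    (f : Ω → Fin b) (hf : ∀ i : Fin b, Nat.card {x : Ω // f x = i} = a) :
    IsCoatom (Subgroup.closure {g : Equiv.Perm Ω | ∀ x y : Ω, f x = f y ↔ f (g x) = f (g y)}) := by
  rw [closure_eq]
  exact result_aux f hf ha hb

end Cfsg.Agent.S5905
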