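import Cfsg.Statements.S5894
import Cfsg.Agent.S5905

set_option autoImplicit false
open Cfsg
open scoped Pointwise

namespace Cfsg.Agent.S5894

/-- Transport of maximality along an injective homomorphism onto `M`. -/
theorem isCoatom_subgroupOf_range {P Q : Type*} [Group P] [Group Q] (φ : P →* Q)
    (hφ : Function.Injective φ) (M H : Subgroup Q) (hM : M = φ.range) :
    IsCoatom (H.subgroupOf M) ↔ IsCoatom (H.comap φ) := by
  subst hM
  have h := (MonoidHom.ofInjective hφ).comapSubgroup.isCoatom_iff (H.subgroupOf φ.range)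
  rw [← h]
  have : (MonoidHom.ofInjective hφ).comapSubgroup (H.subgroupOf φ.range) = H.comap φ := by
    ext g
    show ((MonoidHom.ofInjective hφ g : φ.range) : Q) ∈ H ↔ φ g ∈ H
    rw [MonoidHom.ofInjective_apply]
  rw [this]

theorem result (m : ℕ) (hm : 2 ≤ m) :
    ∃ M H K : Subgroup (Equiv.Perm (Fin (2 * m))), IsCoatom M ∧ M.index = 2 * m ∧ H ≤ M ∧ IsCoatom (H.subgroupOf M) ∧
      IsCoatom K ∧ H ≤ K ∧ ¬ IsCoatom (H.subgroupOf K) := by
  classical
  -- notation
  let Ω := Fin (2 * m)
  let x₀ : Ω := ⟨0, by omega⟩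
  let x₁ : Ω := ⟨1, by omega⟩
  let t₀ : Ω := ⟨m, by omega⟩
  let T : Set Ω := {y | m ≤ y.val}
  let f : Ω → Fin 2 := fun y => if y.val < m then 0 else 1
  have hfT : ∀ y : Ω, f y = 1 ↔ y ∈ T := by
    intro y
    show (if y.val < m then (0 : Fin 2) else 1) = 1 ↔ m ≤ y.val
    split_ifs with h
    · simp; omega
    · simp; omega
  have hf : ∀ i : Fin 2, Nat.card {x : Ω // f x = i} = m := by
    intro i
    rw [Nat.card_eq_fintype_card, Fintype.card_subtype]
    fin_cases i
    · have : (Finset.univ.filter (fun x : Ω => f x = 0)) =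
          Finset.univ.filter (fun x : Ω => x.val < m) := by
        ext y
        simp only [Finset.mem_filter, Finset.mem_univ, true_and]
        show (if y.val < m then (0 : Fin 2) else 1) = 0 ↔ y.val < m
        split_ifs with h <;> simp [h]
      show (Finset.univ.filter (fun x : Ω => f x = 0)).card = m
      rw [this, Fin.card_filter_val_lt]
      omega
    · have : (Finset.univ.filter (fun x : Ω => f x = 1)) =
          Finset.univ.filter (fun x : Ω => m ≤ x.val) := by
        ext y
        simp only [Finset.mem_filter, Finset.mem_univ, true_and]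
        exact hfT y
      show (Finset.univ.filter (fun x : Ω => f x = 1)).card = m
      rw [this]
      have h1 := Finset.card_filter_add_card_filter_not (s := (Finset.univ : Finset Ω))
        (fun x : Ω => x.val < m)
      have h2 : (Finset.univ.filter (fun x : Ω => ¬ x.val < m)) =
          Finset.univ.filter (fun x : Ω => m ≤ x.val) := by
        ext y; simp
      rw [h2, Fin.card_filter_val_lt, Finset.card_univ, Fintype.card_fin] at h1
      omega
  have hx₀T : x₀ ∉ T := by show ¬ m ≤ 0; omega
  have hx₁T : x₁ ∉ T := by show ¬ m ≤ 1; omega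
  have ht₀T : t₀ ∈ T := le_refl m
  have hx₀₁ : x₀ ≠ x₁ := by
    intro h
    have := congrArg Fin.val h
    simp [x₀, x₁] at this
  -- the groups
  let M : Subgroup (Equiv.Perm Ω) := MulAction.stabilizer (Equiv.Perm Ω) x₀
  let L : Subgroup (Equiv.Perm Ω) := MulAction.stabilizer (Equiv.Perm Ω) T
  let K : Subgroup (Equiv.Perm Ω) := Cfsg.Agent.S5905.pstab f
  have hK : IsCoatom K := Cfsg.Agent.S5905.result_aux f hf hm le_rfl
  have hcardΩ : Nat.card Ω = 2 * m := by simp [Ω]
  have hLK : L ≤ K := by
    intro g hg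
    have hg' := MulAction.mem_stabilizer_set.mp hg
    have key : ∀ y, f (g y) = f y := by
      intro y
      by_cases hy : y ∈ T
      · rw [(hfT y).mpr hy, hfT]
        exact (hg' y).mpr hy
      · have h1 : g y ∉ T := fun h => hy ((hg' y).mp h)
        have e1 : f (g y) ≠ 1 := fun h => h1 ((hfT _).mp h)
        have e2 : f y ≠ 1 := fun h => hy ((hfT _).mp h)
        have : ∀ i : Fin 2, i ≠ 1 → i = 0 := by decide
        rw [this _ e1, this _ e2]
    intro u v
    rw [key u, key v]
  refine ⟨M, M ⊓ L, K, ?_, ?_, inf_le_left, ?_, hK, inf_le_right.trans hLK, ?_⟩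
  · -- M is a coatom
    have := Equiv.Perm.isCoatom_stabilizer (α := Ω) (s := {x₀}) (Set.singleton_nonempty _)
      ⟨x₁, fun h => hx₀₁ (Set.mem_singleton_iff.mp h).symm⟩
      (by rw [hcardΩ, Set.ncard_singleton]; omega)
    rwa [MulAction.stabilizer_singleton] at this
  · -- index
    show (MulAction.stabilizer (Equiv.Perm Ω) x₀).index = 2 * m
    rw [MulAction.index_stabilizer_of_transitive, hcardΩ]
  · -- M ⊓ L is maximal in M
    let φ : Equiv.Perm {y : Ω // y ≠ x₀} →* Equiv.Perm Ω := Equiv.Perm.ofSubtype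
    have hφ : Function.Injective φ := Equiv.Perm.ofSubtype_injective
    have hMr : M = φ.range := by
      ext g
      rw [Equiv.Perm.mem_range_ofSubtype_iff, MulAction.mem_stabilizer_iff]
      constructor
      · intro h y hy
        show y ≠ x₀
        rintro rfl
        rw [Finset.mem_coe, Equiv.Perm.mem_support] at hy
        exact hy h
      · intro h
        by_contra hne
        have : x₀ ∈ (g.support : Set Ω) := by
          rw [Finset.mem_coe, Equiv.Perm.mem_support]; exact hne
        exact h this rfl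
    rw [isCoatom_subgroupOf_range φ hφ M (M ⊓ L) hMr]
    let T' : Set {y : Ω // y ≠ x₀} := {y | y.val ∈ T}
    have hcomap : (M ⊓ L).comap φ = MulAction.stabilizer (Equiv.Perm {y : Ω // y ≠ x₀}) T' := by
      ext g
      rw [Subgroup.mem_comap, Subgroup.mem_inf]
      have h1 : φ g ∈ M := by rw [hMr]; exact ⟨g, rfl⟩
      rw [MulAction.mem_stabilizer_set, MulAction.mem_stabilizer_set]
      constructor
      · rintro ⟨_, h⟩ y
        have := h y.val
        rw [Equiv.Perm.smul_def, Equiv.Perm.ofSubtype_apply_coe] at this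
        exact this
      · intro h
        refine ⟨h1, fun y => ?_⟩
        by_cases hy : y = x₀
        · subst hy
          rw [Equiv.Perm.smul_def, Equiv.Perm.ofSubtype_apply_of_not_mem _ (by simp)]
        · have := h ⟨y, hy⟩
          rw [Equiv.Perm.smul_def]
          show (Equiv.Perm.ofSubtype g) y ∈ T ↔ y ∈ T
          rw [Equiv.Perm.ofSubtype_apply_of_mem g hy]
          exact this
    rw [hcomap]
    apply Equiv.Perm.isCoatom_stabilizer
    · exact ⟨⟨t₀, fun h => hx₀T (h ▸ ht₀T)⟩, ht₀T⟩
    · exact ⟨⟨x₁, hx₀₁.symm⟩, hx₁T⟩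
    · have : Nat.card {y : Ω // y ≠ x₀} = 2 * m - 1 := by
        rw [Nat.card_eq_fintype_card, Fintype.card_subtype_compl, Fintype.card_subtype_eq]
        simp [Ω]
      rw [this]
      omega
  · -- not maximal in K
    intro hco
    -- an element of L not in M
    have hswL : Equiv.swap x₀ x₁ ∈ L := by
      show Equiv.swap x₀ x₁ ∈ MulAction.stabilizer (Equiv.Perm Ω) T
      rw [← stabilizer_compl]
      exact Equiv.Perm.swap_mem_stabilizer hx₀T hx₁T
    have hswM : Equiv.swap x₀ x₁ ∉ M := by
      rw [MulAction.mem_stabilizer_iff, Equiv.Perm.smul_def, Equiv.swap_apply_left]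
      exact hx₀₁.symm
    have hlt : (M ⊓ L).subgroupOf K < L.subgroupOf K := by
      refine lt_of_le_of_ne (Subgroup.subgroupOf_mono K inf_le_right) ?_
      intro heq
      have : (⟨Equiv.swap x₀ x₁, hLK hswL⟩ : K) ∈ (M ⊓ L).subgroupOf K := by
        rw [heq]; exact hswL
      exact hswM this.1
    have htop := hco.2 _ hlt
    rw [Subgroup.subgroupOf_eq_top] at htop
    -- an element of K not in L
    obtain ⟨w, hw, hwx⟩ := Cfsg.Agent.S5905.exists_mem_apply_eq f hf x₀ t₀
    have := MulAction.mem_stabilizer_set.mp (htop hw) x₀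
    rw [Equiv.Perm.smul_def, hwx] at this
    exact hx₀T (this.mp ht₀T)

end Cfsg.Agent.S5894
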