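import Cfsg.Statements.S5895

set_option autoImplicit false
set_option linter.unusedSectionVars false
open Cfsg
open scoped LinearAlgebra.Projectivization

namespace Cfsg.Agent.S5895

/-- Transport of maximality along an injective homomorphism onto `M`. -/
theorem isCoatom_subgroupOf_range {P Q : Type*} [Group P] [Group Q] (φ : P →* Q)
    (hφ : Function.Injective φ) (M H : Subgroup Q) (hM : M = φ.range) :
    IsCoatom (H.subgroupOf M) ↔ IsCoatom (H.comap φ) := by
  subst hM
  have h := (MonoidHom.ofInjective hφ).comapSubgroup.isCoatom_iff (H.subgroupOf φ.range)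
  rw [← h]
  have : (MonoidHom.ofInjective hφ).comapSubgroup (H.subgroupOf φ.range) = H.comap φ := by
    ext g
    show ((MonoidHom.ofInjective hφ g : φ.range) : Q) ∈ H ↔ φ g ∈ H
    rw [MonoidHom.ofInjective_apply]
  rw [this]

/-- If `H < L < K` then `H` is not maximal in `K`. -/
theorem not_isCoatom_subgroupOf {G : Type*} [Group G] (H L K : Subgroup G) (hHL : H ≤ L)
    (hLK : L ≤ K) (hne1 : H ≠ L) (hne2 : L ≠ K) : ¬ IsCoatom (H.subgroupOf K) := by
  intro hco
  have hlt : H.subgroupOf K < L.subgroupOf K := by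
    refine lt_of_le_of_ne (Subgroup.subgroupOf_mono K hHL) ?_
    intro heq
    rw [Subgroup.subgroupOf_inj, inf_eq_left.mpr (hHL.trans hLK), inf_eq_left.mpr hLK] at heq
    exact hne1 heq
  have := hco.2 _ hlt
  rw [Subgroup.subgroupOf_eq_top] at this
  exact hne2 (le_antisymm hLK this)

section
variable {K V : Type*} [Field K] [AddCommGroup V] [Module K V]

/-- The action of `GL(V)` on `Multiplicative V`. -/
def actHom : (V ≃ₗ[K] V) →* MulAut (Multiplicative V) where
  toFun a := AddEquiv.toMultiplicative a.toAddEquiv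
  map_one' := rfl
  map_mul' _ _ := rfl

theorem actHom_apply (a : V ≃ₗ[K] V) (v : Multiplicative V) :
    actHom a v = Multiplicative.ofAdd (a v.toAdd) := rfl

variable (K V) in
/-- The affine group `V ⋊ GL(V)`. -/
abbrev Aff : Type _ := Multiplicative V ⋊[actHom (K := K) (V := V)] (V ≃ₗ[K] V)

open SemidirectProduct

/-- `GL(V)` is transitive on nonzero vectors. -/
theorem exists_apply_eq {v w : V} (hv : v ≠ 0) (hw : w ≠ 0) : ∃ a : V ≃ₗ[K] V, a v = w := by
  have := Projectivization.linearEquiv_is_two_pretransitive K V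
  have : MulAction.IsPretransitive (V ≃ₗ[K] V) (ℙ K V) :=
    MulAction.isPretransitive_of_is_two_pretransitive
  obtain ⟨a, ha⟩ := MulAction.exists_smul_eq (V ≃ₗ[K] V) (Projectivization.mk K v hv)
    (Projectivization.mk K w hw)
  rw [Projectivization.smul_mk, Projectivization.mk_eq_mk_iff] at ha
  obtain ⟨c, hc⟩ := ha
  refine ⟨a.trans (LinearEquiv.smulOfUnit c⁻¹), ?_⟩
  rw [LinearEquiv.trans_apply]
  have : a v = c • w := hc.symm
  rw [this]
  show c⁻¹ • c • w = w
  rw [inv_smul_smul]

/-- The complement `GL(V)` is maximal in the affine group. -/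
theorem isCoatom_range_inr [Nontrivial V] :
    IsCoatom (inr : (V ≃ₗ[K] V) →* Aff K V).range := by
  constructor
  · intro htop
    obtain ⟨v, hv⟩ := exists_ne (0 : V)
    have : (inl (Multiplicative.ofAdd v) : Aff K V) ∈ (inr : (V ≃ₗ[K] V) →* Aff K V).range := by
      rw [htop]; trivial
    obtain ⟨a, ha⟩ := this
    have := congrArg SemidirectProduct.left ha
    rw [left_inr, left_inl] at this
    exact hv (Multiplicative.ofAdd.injective this.symm)
  · intro X hX
    obtain ⟨x, hxX, hx⟩ := SetLike.exists_of_lt hX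
    have hinr : ∀ a : V ≃ₗ[K] V, (inr a : Aff K V) ∈ X := fun a => hX.le ⟨a, rfl⟩
    have hxl : (inl x.left : Aff K V) ∈ X := by
      have h1 : (inl x.left : Aff K V) = x * (inr x.right)⁻¹ := by
        rw [eq_mul_inv_iff_mul_eq, inl_left_mul_inr_right]
      rw [h1]
      exact X.mul_mem hxX (X.inv_mem (hinr _))
    have hxl1 : x.left.toAdd ≠ 0 := by
      intro h
      apply hx
      refine ⟨x.right, ?_⟩
      have h3 := inl_left_mul_inr_right x
      have : x.left = 1 := h
      rw [this, map_one, one_mul] at h3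
      exact h3
    rw [eq_top_iff]
    intro y _
    rw [← inl_left_mul_inr_right y]
    refine X.mul_mem ?_ (hinr _)
    by_cases hy : y.left.toAdd = 0
    · have : y.left = 1 := hy
      rw [this, map_one]; exact X.one_mem
    · obtain ⟨a, ha⟩ := exists_apply_eq (K := K) hxl1 hy
      have h2 : (inl y.left : Aff K V) = inr a * inl x.left * inr a⁻¹ := by
        rw [← inl_aut, actHom_apply, ha]; rfl
      rw [h2]
      exact X.mul_mem (X.mul_mem (hinr _) hxl) (hinr _)

section line
variable (e₀ e₁ : V) (he₀ : e₀ ≠ 0) (he₁ : ∀ c : K, c • e₀ ≠ e₁)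

variable (K) in
/-- The stabilizer of the line spanned by `e₀`. -/
def lineStab : Subgroup (V ≃ₗ[K] V) :=
  MulAction.stabilizer (V ≃ₗ[K] V) (Projectivization.mk K e₀ he₀)

theorem mem_lineStab (a : V ≃ₗ[K] V) : a ∈ lineStab K e₀ he₀ ↔ ∃ c : Kˣ, c • e₀ = a e₀ := by
  unfold lineStab
  rw [MulAction.mem_stabilizer_iff, Projectivization.smul_mk, Projectivization.mk_eq_mk_iff]
  rfl

theorem lineStab_map_mem (a : V ≃ₗ[K] V) (ha : a ∈ lineStab K e₀ he₀) (w : V)
    (hw : w ∈ Submodule.span K {e₀}) : a w ∈ Submodule.span K {e₀} := by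
  rw [mem_lineStab] at ha
  obtain ⟨c, hc⟩ := ha
  rw [Submodule.mem_span_singleton] at hw ⊢
  obtain ⟨t, rfl⟩ := hw
  refine ⟨t * c, ?_⟩
  rw [map_smul, ← hc, mul_smul]
  rfl

include he₁ in
theorem isCoatom_lineStab : IsCoatom (lineStab K e₀ he₀) := by
  have he₁0 : e₁ ≠ 0 := by
    intro h
    apply he₁ 0
    rw [zero_smul, h]
  have : Nontrivial (ℙ K V) := by
    refine ⟨Projectivization.mk K e₁ he₁0, Projectivization.mk K e₀ he₀, ?_⟩
    rw [Ne, Projectivization.mk_eq_mk_iff]
    rintro ⟨c, hc⟩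
    exact he₁ c hc
  have := MulAction.isPreprimitive_of_is_two_pretransitive
    (Projectivization.linearEquiv_is_two_pretransitive K V)
  exact MulAction.IsPreprimitive.isCoatom_stabilizer_of_isPreprimitive
    (G := V ≃ₗ[K] V) (X := ℙ K V) _

/-- The group `W ⋊ P` where `W` is the line and `P` its stabilizer. -/
def midGroup : Subgroup (Aff K V) where
  carrier := {x | x.left.toAdd ∈ Submodule.span K {e₀} ∧ x.right ∈ lineStab K e₀ he₀}
  one_mem' := ⟨Submodule.zero_mem _, Subgroup.one_mem _⟩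
  mul_mem' := by
    rintro x y ⟨hx1, hx2⟩ ⟨hy1, hy2⟩
    refine ⟨?_, Subgroup.mul_mem _ hx2 hy2⟩
    show (x.left * actHom x.right y.left).toAdd ∈ Submodule.span K {e₀}
    rw [toAdd_mul, actHom_apply]
    exact Submodule.add_mem _ hx1 (lineStab_map_mem e₀ he₀ _ hx2 _ hy1)
  inv_mem' := by
    rintro x ⟨hx1, hx2⟩
    refine ⟨?_, Subgroup.inv_mem _ hx2⟩
    show (actHom x.right⁻¹ x.left⁻¹).toAdd ∈ Submodule.span K {e₀}
    rw [actHom_apply]
    apply lineStab_map_mem e₀ he₀ _ (Subgroup.inv_mem _ hx2)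
    rw [toAdd_inv]
    exact Submodule.neg_mem _ hx1

include he₀ he₁ in
/-- The key structural statement in the affine group. -/
theorem main_aux [Finite V] :
    ∃ (M H K' : Subgroup (Aff K V)), IsCoatom M ∧ M.index = Nat.card V ∧ H ≤ M ∧
      IsCoatom (H.subgroupOf M) ∧ IsCoatom K' ∧ H ≤ K' ∧ ¬ IsCoatom (H.subgroupOf K') := by
  have : Nontrivial V := ⟨e₀, 0, he₀⟩
  have hP := isCoatom_lineStab e₀ e₁ he₀ he₁
  have hinj : Function.Injective (inr : (V ≃ₗ[K] V) →* Aff K V) := inr_injective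
  refine ⟨(inr : (V ≃ₗ[K] V) →* Aff K V).range, (lineStab K e₀ he₀).map inr,
    (lineStab K e₀ he₀).comap rightHom, isCoatom_range_inr, ?_, ?_, ?_, ?_, ?_, ?_⟩
  · -- index
    have : Finite (V ≃ₗ[K] V) := Finite.of_injective (fun a => (a : V → V)) DFunLike.coe_injective
    have : Finite (Aff K V) := Finite.of_equiv _ (equivProd (φ := actHom (K := K) (V := V))).symm
    have h1 := Subgroup.index_mul_card (inr : (V ≃ₗ[K] V) →* Aff K V).range
    have h2 : Nat.card (inr : (V ≃ₗ[K] V) →* Aff K V).range = Nat.card (V ≃ₗ[K] V) :=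
      Nat.card_congr (MonoidHom.ofInjective hinj).symm.toEquiv
    have h3 : Nat.card (Aff K V) = Nat.card (Multiplicative V) * Nat.card (V ≃ₗ[K] V) :=
      SemidirectProduct.card
    have h4 : Nat.card (Multiplicative V) = Nat.card V := Nat.card_congr Multiplicative.toAdd
    rw [h2, h3, h4] at h1
    exact Nat.eq_of_mul_eq_mul_right Nat.card_pos h1
  · exact Subgroup.map_le_range _ _
  · rw [isCoatom_subgroupOf_range inr hinj _ _ rfl, Subgroup.comap_map_eq_self_of_injective hinj]
    exact hP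
  · exact Subgroup.isCoatom_comap_of_surjective rightHom_surjective hP
  · rintro _ ⟨a, ha, rfl⟩
    show rightHom (inr a) ∈ lineStab K e₀ he₀
    rw [rightHom_inr]; exact ha
  · apply not_isCoatom_subgroupOf _ (midGroup e₀ he₀)
    · rintro _ ⟨a, ha, rfl⟩
      exact ⟨by rw [left_inr]; exact Submodule.zero_mem _, by rw [right_inr]; exact ha⟩
    · intro x hx
      exact hx.2
    · intro heq
      have h1 : (inl (Multiplicative.ofAdd e₀) : Aff K V) ∈ midGroup e₀ he₀ :=
        ⟨by rw [left_inl]; exact Submodule.mem_span_singleton_self e₀,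
          by rw [right_inl]; exact Subgroup.one_mem _⟩
      rw [← heq] at h1
      obtain ⟨a, _, ha⟩ := h1
      have := congrArg SemidirectProduct.left ha
      rw [left_inr, left_inl] at this
      exact he₀ (Multiplicative.ofAdd.injective this.symm)
    · intro heq
      have h1 : (inl (Multiplicative.ofAdd e₁) : Aff K V) ∈ (lineStab K e₀ he₀).comap rightHom := by
        show rightHom (inl (Multiplicative.ofAdd e₁) : Aff K V) ∈ lineStab K e₀ he₀
        rw [rightHom_inl]; exact Subgroup.one_mem _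
      rw [← heq] at h1
      have h2 := h1.1
      rw [left_inl, Submodule.mem_span_singleton] at h2
      obtain ⟨c, hc⟩ := h2
      exact he₁ c hc

end line

end

theorem result (p d : ℕ) (hp : p.Prime)
    (hd : 2 ≤ d) :
    ∃ (G : Type) (_ : Group G) (_ : Finite G) (M H K : Subgroup G), IsCoatom M ∧ M.index = p ^ d ∧ H ≤ M ∧
      IsCoatom (H.subgroupOf M) ∧ IsCoatom K ∧ H ≤ K ∧ ¬ IsCoatom (H.subgroupOf K) := by
  have : Fact p.Prime := ⟨hp⟩
  have h01 : (⟨1, by omega⟩ : Fin d) ≠ ⟨0, by omega⟩ := by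
    intro h
    have := congrArg Fin.val h
    simp at this
  have he₀ : (Pi.single ⟨0, by omega⟩ 1 : Fin d → ZMod p) ≠ 0 := by
    intro h
    have := congrFun h ⟨0, by omega⟩
    rw [Pi.single_eq_same, Pi.zero_apply] at this
    exact one_ne_zero this
  have he₁ : ∀ c : ZMod p, c • (Pi.single ⟨0, by omega⟩ 1 : Fin d → ZMod p) ≠
      (Pi.single ⟨1, by omega⟩ 1 : Fin d → ZMod p) := by
    intro c h
    have := congrFun h ⟨1, by omega⟩
    rw [Pi.smul_apply, Pi.single_eq_same, Pi.single_eq_of_ne h01, smul_zero] at this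
    exact zero_ne_one this
  have hfin : Finite ((Fin d → ZMod p) ≃ₗ[ZMod p] (Fin d → ZMod p)) :=
    Finite.of_injective (fun a => (a : (Fin d → ZMod p) → (Fin d → ZMod p)))
      DFunLike.coe_injective
  have hfinG : Finite (Aff (ZMod p) (Fin d → ZMod p)) :=
    Finite.of_equiv _ (SemidirectProduct.equivProd
      (φ := actHom (K := ZMod p) (V := Fin d → ZMod p))).symm
  obtain ⟨M, H, K', h1, h2, h3, h4, h5, h6, h7⟩ :=
    main_aux (K := ZMod p) (V := Fin d → ZMod p) _ _ he₀ he₁
  refine ⟨Aff (ZMod p) (Fin d → ZMod p), inferInstance, hfinG, M, H, K', h1, ?_, h3, h4, h5, h6, h7⟩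
  rw [h2]
  simp [Nat.card_eq_fintype_card]

end Cfsg.Agent.S5895
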