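import Cfsg.Statements.S5896
import Cfsg.Agent.Lib.Helper98.StabSolvable

set_option autoImplicit false
set_option linter.unusedSectionVars false
set_option linter.style.haveILetI false
open Cfsg
open RegularWreathProduct

namespace Cfsg.Agent.S5896

section
variable {D Q : Type*} [Group D] [Group Q]

theorem isSolvable_pi [Group.IsSolvable D] : Group.IsSolvable (Q → D) := by
  obtain ⟨n, hn⟩ := (Group.isSolvable_def D).mp inferInstance
  refine (Group.isSolvable_def _).mpr ⟨n, ?_⟩
  rw [eq_bot_iff]
  intro f hf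
  rw [Subgroup.mem_bot]
  funext q
  have h1 := map_derivedSeries_le_derivedSeries (Pi.evalMonoidHom (fun _ : Q => D) q) n
    (Subgroup.mem_map_of_mem _ hf)
  rw [hn, Subgroup.mem_bot] at h1
  exact h1

variable {P : Type*} [Group P] (j : P →* D ≀ᵣ Q)

/-- The left component, as a homomorphism on the kernel of the projection to `Q`. -/
def leftHom : ((rightHom : D ≀ᵣ Q →* Q).comp j).ker →* (Q → D) where
  toFun k := (j k).left
  map_one' := by simp
  map_mul' a b := by
    have ha : (j a).right = 1 := a.2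
    simp [ha]

theorem leftHom_apply (k : ((rightHom : D ≀ᵣ Q →* Q).comp j).ker) : leftHom j k = (j k).left := rfl

theorem leftHom_injective (hj : Function.Injective j) : Function.Injective (leftHom j) := by
  rw [injective_iff_map_eq_one]
  intro k hk
  have hk2 : (j k).right = 1 := k.2
  have : j k = 1 := by
    ext1
    · exact hk
    · exact hk2
  have := hj (this.trans (map_one j).symm)
  exact Subtype.ext this

theorem isSolvable_of_wreath (hj : Function.Injective j) [Group.IsSolvable D] (M : Subgroup Q)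
    [Group.IsSolvable M] (hM : ∀ p, (j p).right ∈ M) : Group.IsSolvable P := by
  have : Group.IsSolvable (Q → D) := isSolvable_pi
  have : Group.IsSolvable ((rightHom : D ≀ᵣ Q →* Q).comp j).ker :=
    Group.isSolvable_of_isSolvable_injective (leftHom_injective j hj)
  refine Group.isSolvable_of_ker_le_range (((rightHom : D ≀ᵣ Q →* Q).comp j).ker.subtype)
    (((rightHom : D ≀ᵣ Q →* Q).comp j).codRestrict M hM) ?_
  intro p hp
  rw [MonoidHom.mem_ker] at hp
  have hp' : ((rightHom : D ≀ᵣ Q →* Q).comp j) p = 1 := congrArg Subtype.val hp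
  exact ⟨⟨p, hp'⟩, rfl⟩

theorem derivedSeries_ne_bot_of_wreath
    (hsurj : ∀ s : D, ∃ c : P, (j c).right = 1 ∧ (j c).left 1 = s) (n : ℕ)
    (hD : derivedSeries D n ≠ ⊥) : derivedSeries P n ≠ ⊥ := by
  intro hP
  apply hD
  set K := ((rightHom : D ≀ᵣ Q →* Q).comp j).ker with hK
  let π : K →* D := (Pi.evalMonoidHom (fun _ : Q => D) 1).comp (leftHom j)
  have hπ : Function.Surjective π := by
    intro s
    obtain ⟨c, hc1, hc2⟩ := hsurj s
    exact ⟨⟨c, hc1⟩, hc2⟩
  rw [← map_derivedSeries_eq hπ n]
  have h1 : (derivedSeries K n).map K.subtype ≤ derivedSeries P n :=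
    map_derivedSeries_le_derivedSeries _ n
  rw [hP, le_bot_iff, Subgroup.map_eq_bot_iff_of_injective _ K.subtype_injective] at h1
  rw [h1, Subgroup.map_bot]

theorem comm_elt [DecidableEq Q] (s : D) (σ : Q) (hσ : σ ≠ 1) :
    ((⟨Pi.mulSingle 1 s, 1⟩ : D ≀ᵣ Q) * inl σ * (⟨Pi.mulSingle 1 s, 1⟩ : D ≀ᵣ Q)⁻¹ * (inl σ)⁻¹).right = 1 ∧
    ((⟨Pi.mulSingle 1 s, 1⟩ : D ≀ᵣ Q) * inl σ * (⟨Pi.mulSingle 1 s, 1⟩ : D ≀ᵣ Q)⁻¹ * (inl σ)⁻¹).left 1 = s := by
  constructor
  · simp
  · have h1 : σ⁻¹ ≠ 1 := by simpa using hσ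
    simp [Pi.mulSingle_apply, h1]

end

theorem derivedSeries_commutator_le (G : Type*) [Group G] (n : ℕ) :
    (derivedSeries (commutator G) n).map (commutator G).subtype ≤ derivedSeries G (n + 1) := by
  induction n with
  | zero =>
    rw [derivedSeries_zero, ← MonoidHom.range_eq_map, Subgroup.range_subtype]
    exact le_of_eq (derivedSeries_one G).symm
  | succ n ih =>
    rw [derivedSeries_succ, Subgroup.map_commutator, derivedSeries_succ (G := G) (n + 1)]
    exact Subgroup.commutator_mono ih ih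

theorem exists_solvable_derivedLength (d : ℕ) :
    ∃ (S : Type) (_ : Group S) (_ : Finite S), Group.IsSolvable S ∧ derivedSeries S d ≠ ⊥ := by
  induction d with
  | zero =>
    refine ⟨Multiplicative (ZMod 2), inferInstance, inferInstance, inferInstance, ?_⟩
    rw [derivedSeries_zero]
    exact top_ne_bot
  | succ d ih =>
    obtain ⟨S, hG, hF, hS, hd⟩ := ih
    classical
    refine ⟨S ≀ᵣ Multiplicative (ZMod 2), inferInstance, inferInstance, ?_, ?_⟩
    · exact isSolvable_of_wreath (MonoidHom.id _) Function.injective_id ⊤ (fun _ => trivial)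
    · have hσ : ∃ σ : Multiplicative (ZMod 2), σ ≠ 1 := exists_ne 1
      obtain ⟨σ, hσ⟩ := hσ
      have key := derivedSeries_ne_bot_of_wreath
        (commutator (S ≀ᵣ Multiplicative (ZMod 2))).subtype (by
          intro s
          obtain ⟨h1, h2⟩ := comm_elt (Q := Multiplicative (ZMod 2)) s σ hσ
          refine ⟨⟨_, ?_⟩, h1, h2⟩
          rw [commutator_def]
          have := Subgroup.commutator_mem_commutator
            (Subgroup.mem_top (⟨Pi.mulSingle 1 s, 1⟩ : S ≀ᵣ Multiplicative (ZMod 2)))
            (Subgroup.mem_top (inl σ : S ≀ᵣ Multiplicative (ZMod 2)))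
          rwa [commutatorElement_def] at this) d hd
      intro h
      apply key
      have h1 := derivedSeries_commutator_le (S ≀ᵣ Multiplicative (ZMod 2)) d
      rw [h, le_bot_iff, Subgroup.map_eq_bot_iff_of_injective _ (Subgroup.subtype_injective _)] at h1
      exact h1


theorem exists_derivedSeries_stable (W : Type*) [Group W] [Finite W] :
    ∃ k, derivedSeries W (k + 1) = derivedSeries W k := by
  by_contra hcon
  push Not at hcon
  have key : ∀ k, Nat.card (derivedSeries W k) + k ≤ Nat.card W := by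
    intro k
    induction k with
    | zero => simp
    | succ k ih =>
      have hle : derivedSeries W (k + 1) ≤ derivedSeries W k := derivedSeries_antitone W (Nat.le_succ k)
      have hlt : Nat.card (derivedSeries W (k + 1)) < Nat.card (derivedSeries W k) := by
        by_contra hge
        push Not at hge
        exact hcon k (Subgroup.eq_of_le_of_card_ge hle hge)
      omega
  have h1 := key (Nat.card W)
  have h2 : 0 < Nat.card (derivedSeries W (Nat.card W)) := Nat.card_pos
  omega

theorem derivedSeries_eq_top_of_perfect (Q : Type*) [Group Q] (hQ : commutator Q = ⊤) (k : ℕ) :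
    derivedSeries Q k = ⊤ := by
  induction k with
  | zero => rfl
  | succ k ih => rw [derivedSeries_succ, ih, ← commutator_def, hQ]

theorem result (d : ℕ) :
    ∃ (G : Type) (_ : Group G) (_ : Finite G) (H : Subgroup G), commutator G = ⊤ ∧ IsCoatom H ∧ Group.IsSolvable H ∧
      derivedSeries H d ≠ ⊥ := by
  classical
  obtain ⟨S, hSG, hSF, hSsolv, hSd⟩ := exists_solvable_derivedLength d
  obtain ⟨M, hMco, hMsolv⟩ := Cfsg.Agent.Lib.Helper98.exists_solvable_coatom
  -- the wreath product and its solvable residual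
  obtain ⟨k, hk⟩ := exists_derivedSeries_stable (S ≀ᵣ alternatingGroup (Fin 5))
  have hQperf : commutator (alternatingGroup (Fin 5)) = ⊤ :=
    commutator_alternatingGroup_eq_top (by simp)
  -- A₅ ≤ G
  have hinl : ∀ σ : alternatingGroup (Fin 5),
      (inl σ : S ≀ᵣ alternatingGroup (Fin 5)) ∈ derivedSeries (S ≀ᵣ alternatingGroup (Fin 5)) k := by
    intro σ
    apply map_derivedSeries_le_derivedSeries (inl : alternatingGroup (Fin 5) →* S ≀ᵣ alternatingGroup (Fin 5)) k
    rw [derivedSeries_eq_top_of_perfect _ hQperf k]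
    exact Subgroup.mem_map_of_mem _ (Subgroup.mem_top σ)
  have hnormal : (derivedSeries (S ≀ᵣ alternatingGroup (Fin 5)) k).Normal := derivedSeries_normal _ k
  -- the projection G → A₅
  let π : derivedSeries (S ≀ᵣ alternatingGroup (Fin 5)) k →* alternatingGroup (Fin 5) :=
    (rightHom : S ≀ᵣ alternatingGroup (Fin 5) →* alternatingGroup (Fin 5)).comp
      (derivedSeries (S ≀ᵣ alternatingGroup (Fin 5)) k).subtype
  have hπ : Function.Surjective π := fun σ => ⟨⟨inl σ, hinl σ⟩, rfl⟩
  refine ⟨derivedSeries (S ≀ᵣ alternatingGroup (Fin 5)) k, inferInstance, inferInstance,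
    M.comap π, ?_, ?_, ?_, ?_⟩
  · -- perfect
    rw [← Group.isPerfect_def, Subgroup.isPerfect_iff]
    exact hk
  · exact Subgroup.isCoatom_comap_of_surjective hπ hMco
  · -- solvable
    exact isSolvable_of_wreath
      ((derivedSeries (S ≀ᵣ alternatingGroup (Fin 5)) k).subtype.comp (M.comap π).subtype)
      ((Subgroup.subtype_injective _).comp (Subgroup.subtype_injective _)) M (fun p => p.2)
  · -- derived length
    obtain ⟨σ, hσ⟩ : ∃ σ : alternatingGroup (Fin 5), σ ≠ 1 := by
      haveI : Nontrivial (alternatingGroup (Fin 5)) :=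
        alternatingGroup.nontrivial_of_three_le_card (by simp)
      exact exists_ne 1
    apply derivedSeries_ne_bot_of_wreath
      ((derivedSeries (S ≀ᵣ alternatingGroup (Fin 5)) k).subtype.comp (M.comap π).subtype) ?_ d hSd
    intro s
    obtain ⟨h1, h2⟩ := comm_elt (Q := alternatingGroup (Fin 5)) s σ hσ
    have hmem : (⟨Pi.mulSingle 1 s, 1⟩ : S ≀ᵣ alternatingGroup (Fin 5)) * inl σ *
        (⟨Pi.mulSingle 1 s, 1⟩ : S ≀ᵣ alternatingGroup (Fin 5))⁻¹ * (inl σ)⁻¹ ∈
        derivedSeries (S ≀ᵣ alternatingGroup (Fin 5)) k :=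
      Subgroup.mul_mem _ (hnormal.conj_mem _ (hinl σ) _) (Subgroup.inv_mem _ (hinl σ))
    refine ⟨⟨⟨_, hmem⟩, ?_⟩, h1, h2⟩
    show π ⟨_, hmem⟩ ∈ M
    have : π ⟨_, hmem⟩ = 1 := h1
    rw [this]
    exact M.one_mem

end Cfsg.Agent.S5896
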