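import Cfsg.Statements.S5902
import Cfsg.Agent.S5901

set_option autoImplicit false
open Cfsg

namespace Cfsg.Agent.S5902

/-- Having a lattice complement is invariant under group isomorphisms. -/
theorem compl_of_map_equiv {G G' : Type*} [Group G] [Group G'] (φ : G ≃* G') (H : Subgroup G)
    (h : ∃ C' : Subgroup G', H.map φ.toMonoidHom ⊔ C' = ⊤ ∧ H.map φ.toMonoidHom ⊓ C' = ⊥) :
    ∃ C : Subgroup G, H ⊔ C = ⊤ ∧ H ⊓ C = ⊥ := by
  obtain ⟨C', h1, h2⟩ := h
  let e : Subgroup G ≃o Subgroup G' := φ.mapSubgroup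
  have he : ∀ K : Subgroup G, e K = K.map φ.toMonoidHom := fun K => rfl
  refine ⟨e.symm C', ?_, ?_⟩
  · apply e.injective
    rw [map_sup, OrderIso.apply_symm_apply, map_top, he, h1]
  · apply e.injective
    rw [map_inf, OrderIso.apply_symm_apply, map_bot, he, h2]

/-- The interval below a subgroup with complemented subgroup lattice is complemented. -/
theorem interval_complemented {G : Type*} [Group G] (X : Subgroup G)
    (hK : ComplementedLattice (Subgroup X)) (Y : Subgroup G) (hY : Y ≤ X) :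
    ∃ C : Subgroup G, ⊥ ≤ C ∧ C ≤ X ∧ Y ⊔ C = X ∧ Y ⊓ C = ⊥ := by
  obtain ⟨C', hC'⟩ := hK.exists_isCompl (Y.subgroupOf X)
  refine ⟨C'.map X.subtype, bot_le, ?_, ?_, ?_⟩
  · exact Subgroup.map_subtype_le C'
  · have h := hC'.sup_eq_top
    have h2 : (Y.subgroupOf X ⊔ C').map X.subtype = X := by
      rw [h, ← MonoidHom.range_eq_map, Subgroup.range_subtype]
    rw [Subgroup.map_sup, Subgroup.map_subgroupOf_eq_of_le hY] at h2
    exact h2
  · have h := hC'.inf_eq_bot
    have h2 : (Y.subgroupOf X ⊓ C').map X.subtype = ⊥ := by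
      rw [h, Subgroup.map_bot]
    rw [Subgroup.map_inf _ _ _ (Subgroup.subtype_injective X),
      Subgroup.map_subgroupOf_eq_of_le hY] at h2
    exact h2

theorem part_one {G : Type*} [Group G] [Finite G] (X M : Subgroup G)
    (hK : ComplementedLattice (Subgroup X))
    (hM : IsCoatom M) (hXM : X ≤ M) (huniq : ∀ M' : Subgroup G, IsCoatom M' → X ≤ M' → M' = M)
    (H : Subgroup G) (hH : ¬ H ≤ M.normalCore) : ∃ C : Subgroup G, H ⊔ C = ⊤ ∧ H ⊓ C = ⊥ := by
  have hXtop : X ≠ ⊤ := by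
    intro h
    apply hM.1
    rw [h] at hXM
    exact top_le_iff.mp hXM
  -- find a conjugate of H not contained in M
  obtain ⟨a, haH, haM⟩ := SetLike.not_le_iff_exists.mp hH
  have : ∃ b : G, b * a * b⁻¹ ∉ M := by
    by_contra hcon
    push Not at hcon
    exact haM hcon
  obtain ⟨b, hb⟩ := this
  apply compl_of_map_equiv (MulAut.conj b) H
  apply Cfsg.Agent.S5901.result ⊥ X M bot_le hXtop _ hM hXM huniq
  · intro hle
    apply hb
    apply hle
    exact ⟨a, haH, by simp [MulAut.conj_apply]⟩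
  · exact inf_bot_eq _
  · intro Y _ hYX
    exact interval_complemented X hK Y hYX

theorem result {G : Type*} [Group G] [Finite G] (X M : Subgroup G)
    (hK : ComplementedLattice (Subgroup X))
    (hM : IsCoatom M) (hXM : X ≤ M) (huniq : ∀ M' : Subgroup G, IsCoatom M' → X ≤ M' → M' = M) :
    (∀ H : Subgroup G, ¬ H ≤ M.normalCore → ∃ C : Subgroup G, H ⊔ C = ⊤ ∧ H ⊓ C = ⊥) ∧
    ComplementedLattice (Subgroup (G ⧸ M.normalCore)) := by
  have h1 := part_one X M hK hM hXM huniq
  refine ⟨h1, ⟨fun Hbar => ?_⟩⟩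
  by_cases hbot : Hbar = ⊥
  · subst hbot
    exact ⟨⊤, isCompl_bot_top⟩
  set f := QuotientGroup.mk' M.normalCore with hf
  have hfs : Function.Surjective f := QuotientGroup.mk'_surjective _
  have hnot : ¬ Hbar.comap f ≤ M.normalCore := by
    intro hle
    apply hbot
    rw [eq_bot_iff]
    intro y hy
    obtain ⟨x, rfl⟩ := hfs y
    have hx : x ∈ Hbar.comap f := hy
    have hx' := hle hx
    rw [Subgroup.mem_bot, hf, QuotientGroup.mk'_apply, QuotientGroup.eq_one_iff]
    exact hx'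
  obtain ⟨C, hC1, hC2⟩ := h1 (Hbar.comap f) hnot
  refine ⟨C.map f, ?_⟩
  rw [isCompl_iff, disjoint_iff, codisjoint_iff]
  constructor
  · rw [eq_bot_iff]
    rintro y ⟨hy1, hy2⟩
    obtain ⟨c, hc, rfl⟩ := hy2
    have : c ∈ Hbar.comap f ⊓ C := ⟨hy1, hc⟩
    rw [hC2, Subgroup.mem_bot] at this
    rw [this, map_one]
    exact Subgroup.one_mem _
  · have : (Hbar.comap f ⊔ C).map f = ⊤ := by
      rw [hC1]
      exact Subgroup.map_top_of_surjective f hfs
    rw [Subgroup.map_sup, Subgroup.map_comap_eq_self_of_surjective hfs] at this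
    exact this

end Cfsg.Agent.S5902
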