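import Cfsg.Statements.S5903
import Cfsg.Agent.S5901
import Cfsg.Agent.S5902

set_option autoImplicit false
open Cfsg

namespace Cfsg.Agent.S5903

/-- The interval `[N, X]` is complemented when the subgroup lattice of `X ⧸ N` is. -/
theorem interval_complemented {G : Type*} [Group G] (X N : Subgroup G) (hNX : N ≤ X)
    [(N.subgroupOf X).Normal] (hK : ComplementedLattice (Subgroup (X ⧸ N.subgroupOf X)))
    (Y : Subgroup G) (hNY : N ≤ Y) (hY : Y ≤ X) :
    ∃ C : Subgroup G, N ≤ C ∧ C ≤ X ∧ Y ⊔ C = X ∧ Y ⊓ C = N := by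
  set π := QuotientGroup.mk' (N.subgroupOf X) with hπ
  have hπs : Function.Surjective π := QuotientGroup.mk'_surjective _
  have hker : π.ker = N.subgroupOf X := QuotientGroup.ker_mk' _
  obtain ⟨Cbar, hC⟩ := hK.exists_isCompl ((Y.subgroupOf X).map π)
  have hYY : ((Y.subgroupOf X).map π).comap π = Y.subgroupOf X := by
    rw [Subgroup.comap_map_eq, hker]
    apply sup_eq_left.mpr
    intro x hx
    exact hNY hx
  have hsup : Y.subgroupOf X ⊔ Cbar.comap π = ⊤ := by
    have := Subgroup.comap_sup_eq π ((Y.subgroupOf X).map π) Cbar hπs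
    rw [hYY, hC.sup_eq_top, Subgroup.comap_top] at this
    exact this
  have hinf : Y.subgroupOf X ⊓ Cbar.comap π = N.subgroupOf X := by
    have := Subgroup.comap_inf ((Y.subgroupOf X).map π) Cbar π
    rw [hYY, hC.inf_eq_bot] at this
    rw [← this]
    exact hker
  have hNC : N.subgroupOf X ≤ Cbar.comap π := by
    exact le_of_eq_of_le hker.symm (Subgroup.ker_le_comap π Cbar)
  refine ⟨(Cbar.comap π).map X.subtype, ?_, Subgroup.map_subtype_le _, ?_, ?_⟩
  · have := Subgroup.map_mono (f := X.subtype) hNC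
    rwa [Subgroup.map_subgroupOf_eq_of_le hNX] at this
  · have h2 : (Y.subgroupOf X ⊔ Cbar.comap π).map X.subtype = X := by
      rw [hsup, ← MonoidHom.range_eq_map, Subgroup.range_subtype]
    rw [Subgroup.map_sup, Subgroup.map_subgroupOf_eq_of_le hY] at h2
    exact h2
  · have h2 : (Y.subgroupOf X ⊓ Cbar.comap π).map X.subtype = N := by
      rw [hinf, Subgroup.map_subgroupOf_eq_of_le hNX]
    rw [Subgroup.map_inf _ _ _ (Subgroup.subtype_injective X),
      Subgroup.map_subgroupOf_eq_of_le hY] at h2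
    exact h2

/-- The key step: for a proper nontrivial `H`, some conjugate of `H` neither contains `N`
nor lies in `M`. -/
theorem exists_conj {G : Type*} [Group G] [Finite G] [IsSimpleGroup G] (M N : Subgroup G)
    (hM : IsCoatom M) (hNM : N ≤ M) (hN : (Nat.card N).Prime)
    (hcen : ∀ n ∈ N, ∀ m ∈ M, m * n = n * m)
    (H : Subgroup G) (hHbot : H ≠ ⊥) (hHtop : H ≠ ⊤) :
    ∃ g : G, ¬ N ≤ H.map (MulAut.conj g).toMonoidHom ∧
      ¬ H.map (MulAut.conj g).toMonoidHom ≤ M := by
  by_contra hcon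
  push Not at hcon
  -- N is nontrivial
  have hNbot : N ≠ ⊥ := by
    intro h
    rw [h] at hN
    simp at hN
    exact Nat.not_prime_one hN
  obtain ⟨n₀, hn₀N, hn₀⟩ := (Subgroup.ne_bot_iff_exists_ne_one).mp hNbot |>.imp
    (fun x hx => hx) |> fun ⟨x, hx⟩ => (⟨(x : G), x.2, fun h => hx (Subtype.ext h)⟩ :
      ∃ n₀ : G, n₀ ∈ N ∧ n₀ ≠ 1)
  -- every subgroup of N is ⊥ or ⊤
  have hNprime : ∀ L : Subgroup G, L ≤ N → L = ⊥ ∨ L = N := by
    intro L hL
    have : Fact (Nat.card N).Prime := ⟨hN⟩
    rcases (L.subgroupOf N).eq_bot_or_eq_top_of_prime_card with h | h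
    · left
      rw [Subgroup.subgroupOf_eq_bot] at h
      exact (disjoint_iff.mp h) ▸ (inf_eq_left.mpr hL).symm
    · right
      rw [Subgroup.subgroupOf_eq_top] at h
      exact le_antisymm hL h
  let S : Set G := Group.conjugatesOfSet (N : Set G)
  let K : Subgroup G := Subgroup.closure (S ∩ H)
  have hKH : K ≤ H := (Subgroup.closure_le H).mpr Set.inter_subset_right
  -- every element of S normalizes K
  have hSnorm : S ⊆ Subgroup.normalizer (K : Set G) := by
    intro x hx
    by_cases hxH : x ∈ H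
    · exact Subgroup.le_normalizer (Subgroup.subset_closure ⟨hx, hxH⟩)
    · -- x centralizes H
      obtain ⟨n, hnN, hxn⟩ := Group.mem_conjugatesOfSet_iff.mp hx
      obtain ⟨g, rfl⟩ := isConj_iff.mp hxn
      -- now x = g * n * g⁻¹
      have hnot : ¬ N ≤ H.map (MulAut.conj g⁻¹).toMonoidHom := by
        intro hle
        obtain ⟨h, hh, hhn⟩ := hle hnN
        apply hxH
        have : g * n * g⁻¹ = h := by
          rw [← hhn]
          simp [MulAut.conj_apply]
          group
        rw [this]; exact hh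
      have hle := hcon g⁻¹ hnot
      have hcomm : ∀ h ∈ H, h * (g * n * g⁻¹) = (g * n * g⁻¹) * h := by
        intro h hh
        have hm : g⁻¹ * h * g ∈ M := by
          apply hle
          exact ⟨h, hh, by simp [MulAut.conj_apply]⟩
        have := hcen n hnN _ hm
        calc h * (g * n * g⁻¹) = g * ((g⁻¹ * h * g) * n) * g⁻¹ := by group
          _ = g * (n * (g⁻¹ * h * g)) * g⁻¹ := by rw [this]
          _ = (g * n * g⁻¹) * h := by group
      have hcent : g * n * g⁻¹ ∈ Subgroup.centralizer (K : Set G) := by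
        rw [Subgroup.mem_centralizer_iff]
        intro k hk
        exact hcomm k (hKH hk)
      exact Subgroup.centralizer_le_normalizer _ hcent
  have hncl : Subgroup.normalClosure (N : Set G) = ⊤ := by
    rcases (Subgroup.normalClosure_normal (s := (N : Set G))).eq_bot_or_eq_top with h | h
    · exfalso
      have : n₀ ∈ Subgroup.normalClosure (N : Set G) := Subgroup.subset_normalClosure hn₀N
      rw [h, Subgroup.mem_bot] at this
      exact hn₀ this
    · exact h
  have hKnormal : K.Normal := by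
    rw [← Subgroup.normalizer_eq_top_iff, eq_top_iff, ← hncl]
    exact (Subgroup.closure_le _).mpr hSnorm
  have hKbot : K = ⊥ := by
    rcases hKnormal.eq_bot_or_eq_top with h | h
    · exact h
    · exfalso
      apply hHtop
      rw [eq_top_iff, ← h]
      exact hKH
  -- hence no conjugate of N lies in H
  have hnoconj : ∀ g : G, ¬ N ≤ H.map (MulAut.conj g).toMonoidHom := by
    intro g hle
    obtain ⟨h, hh, hhn⟩ := hle hn₀N
    have hhS : h ∈ S := by
      rw [Group.mem_conjugatesOfSet_iff]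
      refine ⟨n₀, hn₀N, ?_⟩
      rw [isConj_iff]
      refine ⟨g⁻¹, ?_⟩
      rw [← hhn]
      simp [MulAut.conj_apply]
      group
    have : h ∈ K := Subgroup.subset_closure ⟨hhS, hh⟩
    rw [hKbot, Subgroup.mem_bot] at this
    rw [this, map_one] at hhn
    exact hn₀ hhn.symm
  -- hence H ≤ normalCore M = ⊥
  have hcore : M.normalCore = ⊥ := by
    rcases (Subgroup.normalCore_normal M).eq_bot_or_eq_top with h | h
    · exact h
    · exfalso
      apply hM.1
      rw [eq_top_iff, ← h]
      exact Subgroup.normalCore_le M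
  apply hHbot
  rw [eq_bot_iff, ← hcore]
  intro h hh b
  apply hcon b (hnoconj b)
  exact ⟨h, hh, by simp [MulAut.conj_apply]⟩

theorem result {G : Type*} [Group G] [Finite G] [IsSimpleGroup G] (X M N : Subgroup G)
    (hM : IsCoatom M) (hXM : X ≤ M) (huniq : ∀ M' : Subgroup G, IsCoatom M' → X ≤ M' → M' = M)
    (hNX : N ≤ X) (hN : (Nat.card N).Prime) (hcen : ∀ n ∈ N, ∀ m ∈ M, m * n = n * m)
    [(N.subgroupOf X).Normal] (hK : ComplementedLattice (Subgroup (X ⧸ N.subgroupOf X))) :
    ComplementedLattice (Subgroup G) := by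
  refine ⟨fun H => ?_⟩
  by_cases hHbot : H = ⊥
  · subst hHbot; exact ⟨⊤, isCompl_bot_top⟩
  by_cases hHtop : H = ⊤
  · subst hHtop; exact ⟨⊥, isCompl_top_bot⟩
  have hXtop : X ≠ ⊤ := by
    intro h
    apply hM.1
    rw [h] at hXM
    exact top_le_iff.mp hXM
  obtain ⟨g, hg1, hg2⟩ := exists_conj M N hM (hNX.trans hXM) hN hcen H hHbot hHtop
  have hdisj : H.map (MulAut.conj g).toMonoidHom ⊓ N = ⊥ := by
    have : Fact (Nat.card N).Prime := ⟨hN⟩
    rcases ((H.map (MulAut.conj g).toMonoidHom).subgroupOf N).eq_bot_or_eq_top_of_prime_card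
      with h | h
    · rw [Subgroup.subgroupOf_eq_bot] at h
      exact disjoint_iff.mp h
    · rw [Subgroup.subgroupOf_eq_top] at h
      exact absurd h hg1
  have hex : ∃ C : Subgroup G, H ⊔ C = ⊤ ∧ H ⊓ C = ⊥ := by
    apply Cfsg.Agent.S5902.compl_of_map_equiv (MulAut.conj g) H
    exact Cfsg.Agent.S5901.result N X M hNX hXtop
      (fun Y hNY hYX => interval_complemented X N hNX hK Y hNY hYX)
      hM hXM huniq _ hg2 hdisj
  obtain ⟨C, hC1, hC2⟩ := hex
  exact ⟨C, isCompl_iff.mpr ⟨disjoint_iff.mpr hC2, codisjoint_iff.mpr hC1⟩⟩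

end Cfsg.Agent.S5903
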