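import Cfsg.Statements.S5904

set_option autoImplicit false
open scoped Pointwise
open Cfsg

namespace Cfsg.Agent.S5904

/-- The permutations mapping `O` to `O` or to its complement. -/
def partStab {Ω : Type*} (O : Set Ω) : Subgroup (Equiv.Perm Ω) where
  carrier := {g | g • O = O ∨ g • O = Oᶜ}
  one_mem' := Or.inl (one_smul _ _)
  mul_mem' := by
    intro a b ha hb
    simp only [Set.mem_ofPred_eq] at ha hb ⊢
    rw [mul_smul]
    rcases hb with hb | hb
    · rw [hb]; exact ha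
    · rw [hb, Set.smul_set_compl]
      rcases ha with ha | ha
      · rw [ha]; exact Or.inr rfl
      · rw [ha, compl_compl]; exact Or.inl rfl
  inv_mem' := by
    intro a ha
    simp only [Set.mem_ofPred_eq] at ha ⊢
    rcases ha with ha | ha
    · left
      rw [inv_smul_eq_iff, ha]
    · right
      rw [inv_smul_eq_iff, Set.smul_set_compl, ha, compl_compl]

theorem result {Ω : Type*} [Fintype Ω] [DecidableEq Ω] (hΩ : 2 < Fintype.card Ω)
    (O : Set Ω) (hO : Nat.card O = Nat.card ↥Oᶜ) :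
    ¬ IsCoatom (MulAction.stabilizer (Equiv.Perm Ω) O) := by
  classical
  intro hco
  -- cardinalities
  have hsum : Nat.card O + Nat.card ↥Oᶜ = Fintype.card Ω := by
    rw [Nat.card_coe_set_eq, Nat.card_coe_set_eq, Set.ncard_add_ncard_compl, Nat.card_eq_fintype_card]
  have h2 : 2 ≤ Nat.card O := by omega
  have h2' : 1 ≤ Nat.card ↥Oᶜ := by omega
  -- two distinct elements of O and one of Oᶜ
  rw [Nat.card_coe_set_eq] at h2 h2'
  obtain ⟨a, ha, a', ha', haa'⟩ : ∃ a ∈ O, ∃ a' ∈ O, a ≠ a' := by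
    have : 1 < O.ncard := by omega
    rw [Set.one_lt_ncard_iff] at this
    obtain ⟨x, y, hx, hy, hxy⟩ := this
    exact ⟨x, hx, y, hy, hxy⟩
  obtain ⟨b, hb⟩ : ∃ b, b ∈ Oᶜ := by
    have : 0 < Oᶜ.ncard := by omega
    rw [Set.ncard_pos] at this
    exact this
  -- an element mapping O to Oᶜ
  obtain ⟨e⟩ : Nonempty (O ≃ ↥Oᶜ) := Finite.card_eq.mp hO
  let g : Equiv.Perm Ω :=
    (Equiv.Set.sumCompl O).symm.trans
      ((Equiv.sumCongr e e.symm).trans ((Equiv.sumComm _ _).trans (Equiv.Set.sumCompl O)))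
  have hg_of_mem : ∀ x (hx : x ∈ O), g x = (e ⟨x, hx⟩ : Ω) := by
    intro x hx
    simp [g, Equiv.Set.sumCompl_symm_apply_of_mem hx]
  have hg_of_not_mem : ∀ x (hx : x ∈ Oᶜ), g x = (e.symm ⟨x, hx⟩ : Ω) := by
    intro x hx
    have hx' : x ∉ O := hx
    simp [g, Equiv.Set.sumCompl_symm_apply_of_notMem hx']
  have hgO : g • O = Oᶜ := by
    ext y
    constructor
    · rintro ⟨x, hx, rfl⟩
      show g x ∈ Oᶜ
      rw [hg_of_mem x hx]
      exact (e ⟨x, hx⟩).2
    · intro hy
      refine ⟨(e.symm ⟨y, hy⟩ : Ω), (e.symm ⟨y, hy⟩).2, ?_⟩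
      show g _ = y
      rw [hg_of_mem _ (e.symm ⟨y, hy⟩).2]
      simp
  have hle : MulAction.stabilizer (Equiv.Perm Ω) O ≤ partStab O := by
    intro s hs
    exact Or.inl (MulAction.mem_stabilizer_iff.mp hs)
  have hgP : g ∈ partStab O := Or.inr hgO
  have hgS : g ∉ MulAction.stabilizer (Equiv.Perm Ω) O := by
    intro h
    rw [MulAction.mem_stabilizer_iff, hgO] at h
    have : a ∈ Oᶜ := by rw [h]; exact ha
    exact this ha
  have hlt : MulAction.stabilizer (Equiv.Perm Ω) O < partStab O :=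
    lt_of_le_of_ne hle (fun h => hgS (h ▸ hgP))
  have htop : partStab O = ⊤ := hco.2 _ hlt
  -- but swap a b is not in partStab O
  have hsw : Equiv.swap a b ∈ partStab O := by rw [htop]; trivial
  have hbO : b ∉ O := hb
  have h1 : b ∈ Equiv.swap a b • O := ⟨a, ha, by simp⟩
  have h2 : a' ∈ Equiv.swap a b • O := by
    refine ⟨a', ha', ?_⟩
    show Equiv.swap a b a' = a'
    apply Equiv.swap_apply_of_ne_of_ne (Ne.symm haa')
    rintro rfl
    exact hbO ha'
  rcases hsw with h | h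
  · rw [h] at h1; exact hbO h1
  · rw [h] at h2; exact h2 ha'

end Cfsg.Agent.S5904
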