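import Cfsg.Statements.S5909
import Cfsg.Agent.S5905

set_option autoImplicit false
set_option linter.unusedSectionVars false
set_option linter.unusedVariables false
open Cfsg

namespace Cfsg.Agent.S5909

open Cfsg.Agent.S5905
open scoped Pointwise

set_option maxRecDepth 1000000 in
theorem card6 : (Finset.univ.filter (fun g : Equiv.Perm (Fin 3 × Fin 2) =>
    (∀ x y : Fin 3 × Fin 2, x.1 = y.1 ↔ (g x).1 = (g y).1) ∧ Equiv.Perm.sign g = 1)).card = 24 := by
  decide

set_option maxRecDepth 1000000 in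
theorem card4 : (Finset.univ.filter (fun g : Equiv.Perm (Fin 2 × Fin 2) =>
    (∀ x y : Fin 2 × Fin 2, x.1 = y.1 ↔ (g x).1 = (g y).1) ∧ Equiv.Perm.sign g = 1)).card = 4 := by
  decide


theorem mem_evenStab {Ω : Type*} [Fintype Ω] [DecidableEq Ω] {b : ℕ} (f : Ω → Fin b)
    (g : Equiv.Perm Ω) :
    g ∈ pstab f ⊓ alternatingGroup Ω ↔ g ∈ pstab f ∧ Equiv.Perm.sign g = 1 := by
  rw [Subgroup.mem_inf, Equiv.Perm.mem_alternatingGroup]

/-- Transport of the cardinality of the even partition stabilizer. -/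
theorem card_evenStab_congr {Ω X : Type*} [Fintype Ω] [DecidableEq Ω] [Fintype X] [DecidableEq X]
    {b : ℕ} (e : Ω ≃ X) (f : Ω → Fin b) (f₀ : X → Fin b) (hef : ∀ u, f₀ (e u) = f u) :
    Nat.card (pstab f ⊓ alternatingGroup Ω : Subgroup (Equiv.Perm Ω)) =
      Nat.card (pstab f₀ ⊓ alternatingGroup X : Subgroup (Equiv.Perm X)) := by
  apply Nat.card_congr
  refine Equiv.subtypeEquiv e.permCongr ?_
  intro g
  rw [mem_evenStab, mem_evenStab, Equiv.Perm.sign_permCongr]
  apply and_congr_left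
  intro _
  constructor
  · intro hg x y
    have := hg (e.symm x) (e.symm y)
    rw [← hef, ← hef, ← hef, ← hef] at this
    simpa [Equiv.permCongr_apply] using this
  · intro hg u v
    have := hg (e u) (e v)
    simp only [Equiv.permCongr_apply, Equiv.symm_apply_apply] at this
    rw [hef, hef, hef, hef] at this
    exact this

theorem card_evenStab_of_filter {X : Type*} [Fintype X] [DecidableEq X] {b : ℕ} (f₀ : X → Fin b)
    (N : ℕ) (h : (Finset.univ.filter (fun g : Equiv.Perm X =>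
      (∀ x y : X, f₀ x = f₀ y ↔ f₀ (g x) = f₀ (g y)) ∧ Equiv.Perm.sign g = 1)).card = N) :
    Nat.card (pstab f₀ ⊓ alternatingGroup X : Subgroup (Equiv.Perm X)) = N := by
  rw [← h, ← Fintype.card_subtype, ← Nat.card_eq_fintype_card]
  apply Nat.card_congr
  exact Equiv.subtypeEquivRight (fun g => mem_evenStab f₀ g)

/-- In a finite simple group a proper subgroup of index `k` forces `|G| ≤ k!`. -/
theorem card_le_factorial_index {G : Type*} [Group G] [Finite G] [IsSimpleGroup G]
    (K : Subgroup G) (hK : K ≠ ⊤) : Nat.card G ≤ (K.index).factorial := by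
  have hker : (MulAction.toPermHom G (G ⧸ K)).ker = ⊥ := by
    rcases (MulAction.toPermHom G (G ⧸ K)).normal_ker.eq_bot_or_eq_top with h | h
    · exact h
    · exfalso
      apply hK
      rw [eq_top_iff, ← h, ← Subgroup.normalCore_eq_ker]
      exact Subgroup.normalCore_le K
  have hinj : Function.Injective (MulAction.toPermHom G (G ⧸ K)) :=
    (MonoidHom.ker_eq_bot_iff _).mp hker
  have := Nat.card_le_card_of_injective _ hinj
  rw [Nat.card_perm] at this
  exact this


section
variable {Ω : Type*} [Fintype Ω] [DecidableEq Ω] {a b : ℕ} (f : Ω → Fin b)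
  (hf : ∀ i : Fin b, Nat.card {x : Ω // f x = i} = a)
include hf

theorem exists_pair_in_fibre (ha : 2 ≤ a) (i : Fin b) : ∃ u v : Ω, u ≠ v ∧ f u = i ∧ f v = i := by
  have h1 : 1 < Nat.card {x : Ω // f x = i} := by rw [hf i]; omega
  rw [Nat.card_eq_fintype_card, Fintype.one_lt_card_iff] at h1
  obtain ⟨x, y, hxy⟩ := h1
  exact ⟨x, y, fun h => hxy (Subtype.ext h), x.2, y.2⟩

theorem exists_pair_in_fibre_ne (ha : 3 ≤ a) (p : Ω) :
    ∃ u v : Ω, u ≠ v ∧ u ≠ p ∧ v ≠ p ∧ f u = f p ∧ f v = f p := by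
  have h1 : 2 < Nat.card {x : Ω // f x = f p} := by rw [hf (f p)]; omega
  rw [Nat.card_eq_fintype_card, Fintype.two_lt_card_iff] at h1
  obtain ⟨x, y, z, hxy, hxz, hyz⟩ := h1
  have hxy' : (x : Ω) ≠ y := fun h => hxy (Subtype.ext h)
  have hxz' : (x : Ω) ≠ z := fun h => hxz (Subtype.ext h)
  have hyz' : (y : Ω) ≠ z := fun h => hyz (Subtype.ext h)
  by_cases hx : (x : Ω) = p
  · refine ⟨y, z, hyz', ?_, ?_, y.2, z.2⟩
    · exact fun h => hxy' (hx.trans h.symm)
    · exact fun h => hxz' (hx.trans h.symm)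
  · by_cases hy : (y : Ω) = p
    · refine ⟨x, z, hxz', hx, ?_, x.2, z.2⟩
      exact fun h => hyz' (hy.trans h.symm)
    · exact ⟨x, y, hxy', hx, hy, x.2, y.2⟩

omit hf in
theorem exists_label_notMem (L : Finset (Fin b)) (h : L.card < b) : ∃ i : Fin b, i ∉ L := by
  by_contra hcon
  push Not at hcon
  have : L = Finset.univ := Finset.eq_univ_iff_forall.mpr hcon
  rw [this, Finset.card_univ, Fintype.card_fin] at h
  exact lt_irrefl _ h

/-- A "spare" swap in the partition stabilizer avoiding two points in different fibres. -/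
theorem exists_spare_two (ha : 2 ≤ a) (hab : 3 ≤ a ∨ 3 ≤ b) (p q : Ω) (hpq : f p ≠ f q) :
    ∃ u v : Ω, u ≠ v ∧ f u = f v ∧ u ≠ p ∧ v ≠ p ∧ u ≠ q ∧ v ≠ q := by
  rcases hab with h3 | h3
  · obtain ⟨u, v, huv, hup, hvp, hu, hv⟩ := exists_pair_in_fibre_ne f hf h3 p
    refine ⟨u, v, huv, hu.trans hv.symm, hup, hvp, ?_, ?_⟩
    · rintro rfl; exact hpq hu.symm
    · rintro rfl; exact hpq hv.symm
  · obtain ⟨i, hi⟩ := exists_label_notMem ({f p, f q} : Finset (Fin b)) (by
      have : ({f p, f q} : Finset (Fin b)).card ≤ 2 := Finset.card_le_two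
      omega)
    simp only [Finset.mem_insert, Finset.mem_singleton, not_or] at hi
    obtain ⟨u, v, huv, hu, hv⟩ := exists_pair_in_fibre f hf ha i
    refine ⟨u, v, huv, hu.trans hv.symm, ?_, ?_, ?_, ?_⟩
    · rintro rfl; exact hi.1 hu.symm
    · rintro rfl; exact hi.1 hv.symm
    · rintro rfl; exact hi.2 hu.symm
    · rintro rfl; exact hi.2 hv.symm

/-- The even part of the partition stabilizer. -/
abbrev evenStab : Subgroup (Equiv.Perm Ω) := pstab f ⊓ alternatingGroup Ω

omit hf in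
/-- Parity fix: multiply by a spare swap. -/
theorem parity_fix (w : Equiv.Perm Ω) (hw : w ∈ pstab f) (u v : Ω) (huv : u ≠ v) (hfuv : f u = f v) :
    ∃ h ∈ pstab f ⊓ alternatingGroup Ω, (h = w ∨ h = Equiv.swap u v * w) := by
  rcases Int.units_eq_one_or (Equiv.Perm.sign w) with h1 | h1
  · exact ⟨w, (mem_evenStab f w).mpr ⟨hw, h1⟩, Or.inl rfl⟩
  · refine ⟨Equiv.swap u v * w, (mem_evenStab f _).mpr ⟨(pstab f).mul_mem (swap_mem f hfuv) hw, ?_⟩,
      Or.inr rfl⟩
    rw [Equiv.Perm.sign_mul, Equiv.Perm.sign_swap huv, h1]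
    rfl


theorem exists_spare_other (ha : 2 ≤ a) (hb : 2 ≤ b) (p : Ω) :
    ∃ u v : Ω, u ≠ v ∧ f u = f v ∧ f u ≠ f p := by
  obtain ⟨i, hi⟩ := exists_label_notMem ({f p} : Finset (Fin b)) (by simp; omega)
  rw [Finset.mem_singleton] at hi
  obtain ⟨u, v, huv, hu, hv⟩ := exists_pair_in_fibre f hf ha i
  exact ⟨u, v, huv, hu.trans hv.symm, by rw [hu]; exact hi⟩

/-- (P1) the even partition stabilizer is transitive. -/
theorem even_transitive (ha : 2 ≤ a) (hb : 2 ≤ b) (x y : Ω) :
    ∃ h ∈ pstab f ⊓ alternatingGroup Ω, h x = y := by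
  obtain ⟨w, hw, hwxy⟩ := exists_mem_apply_eq f hf x y
  obtain ⟨u, v, huv, hfuv, hne⟩ := exists_spare_other f hf ha hb y
  obtain ⟨h, hh, hcase⟩ := parity_fix f w hw u v huv hfuv
  refine ⟨h, hh, ?_⟩
  rcases hcase with rfl | rfl
  · exact hwxy
  · rw [Equiv.Perm.mul_apply, hwxy]
    apply Equiv.swap_apply_of_ne_of_ne
    · rintro rfl; exact hne rfl
    · rintro rfl; exact hne hfuv

/-- (P2) fixing `x`, move `y` to `y₂` (both outside the fibre of `x`). -/
theorem even_move_fix (ha : 2 ≤ a) (hab : 3 ≤ a ∨ 3 ≤ b) (x y y₂ : Ω) (hy : f y ≠ f x)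
    (hy₂ : f y₂ ≠ f x) : ∃ h ∈ pstab f ⊓ alternatingGroup Ω, h x = x ∧ h y = y₂ := by
  set σ := liftPerm f hf (Equiv.swap (f y) (f y₂)) with hσ
  have hσx : σ x = x := by
    apply liftPerm_fix
    exact Equiv.swap_apply_of_ne_of_ne (Ne.symm hy) (Ne.symm hy₂)
  have hσy : f (σ y) = f y₂ := by rw [hσ, f_liftPerm f hf, Equiv.swap_apply_left]
  have hw : Equiv.swap (σ y) y₂ * σ ∈ pstab f :=
    (pstab f).mul_mem (swap_mem f hσy) (liftPerm_mem f hf _)
  have hwx : (Equiv.swap (σ y) y₂ * σ) x = x := by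
    rw [Equiv.Perm.mul_apply, hσx]
    apply Equiv.swap_apply_of_ne_of_ne
    · intro h; apply hy₂; rw [← hσy, ← h]
    · rintro rfl; exact hy₂ rfl
  have hwy : (Equiv.swap (σ y) y₂ * σ) y = y₂ := by
    rw [Equiv.Perm.mul_apply, Equiv.swap_apply_left]
  obtain ⟨u, v, huv, hfuv, hux, hvx, huy, hvy⟩ :=
    exists_spare_two f hf ha hab x y₂ (Ne.symm hy₂)
  obtain ⟨h, hh, hcase⟩ := parity_fix f _ hw u v huv hfuv
  refine ⟨h, hh, ?_⟩
  rcases hcase with rfl | rfl
  · exact ⟨hwx, hwy⟩
  · constructor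
    · rw [Equiv.Perm.mul_apply, hwx]
      exact Equiv.swap_apply_of_ne_of_ne hux.symm hvx.symm
    · rw [Equiv.Perm.mul_apply, hwy]
      exact Equiv.swap_apply_of_ne_of_ne huy.symm hvy.symm

/-- (P3) fixing `x`, move `y` to `z` inside the fibre of `x`. -/
theorem even_move_in_fibre (ha : 2 ≤ a) (hb : 2 ≤ b) (x y z : Ω) (hy : f y = f x) (hz : f z = f x)
    (hyx : y ≠ x) (hzx : z ≠ x) : ∃ h ∈ pstab f ⊓ alternatingGroup Ω, h x = x ∧ h y = z := by
  have hw : Equiv.swap y z ∈ pstab f := swap_mem f (hy.trans hz.symm)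
  obtain ⟨u, v, huv, hfuv, hne⟩ := exists_spare_other f hf ha hb x
  obtain ⟨h, hh, hcase⟩ := parity_fix f _ hw u v huv hfuv
  refine ⟨h, hh, ?_⟩
  have hux : u ≠ x := by rintro rfl; exact hne rfl
  have hvx : v ≠ x := by rintro rfl; exact hne hfuv
  have huz : u ≠ z := by rintro rfl; exact hne hz
  have hvz : v ≠ z := by rintro rfl; exact hne (hfuv.trans hz)
  rcases hcase with rfl | rfl
  · exact ⟨Equiv.swap_apply_of_ne_of_ne hyx.symm hzx.symm, Equiv.swap_apply_left y z⟩
  · constructor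
    · rw [Equiv.Perm.mul_apply, Equiv.swap_apply_of_ne_of_ne hyx.symm hzx.symm]
      exact Equiv.swap_apply_of_ne_of_ne hux.symm hvx.symm
    · rw [Equiv.Perm.mul_apply, Equiv.swap_apply_left]
      exact Equiv.swap_apply_of_ne_of_ne huz.symm hvz.symm

/-- (P4) fixing `y`, move `x` to `z` in the same fibre (different from the fibre of `y`). -/
theorem even_swap_fix (ha : 2 ≤ a) (hab : 3 ≤ a ∨ 3 ≤ b) (x z y : Ω) (hxz : f x = f z)
    (hy : f y ≠ f x) : ∃ h ∈ pstab f ⊓ alternatingGroup Ω, h y = y ∧ h x = z := by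
  have hw : Equiv.swap x z ∈ pstab f := swap_mem f hxz
  have hyx : y ≠ x := by rintro rfl; exact hy rfl
  have hyz : y ≠ z := by rintro rfl; exact hy hxz.symm
  -- spare swap avoiding x, z, y
  have hspare : ∃ u v : Ω, u ≠ v ∧ f u = f v ∧ u ≠ y ∧ v ≠ y ∧ u ≠ z ∧ v ≠ z := by
    rcases hab with h3 | h3
    · obtain ⟨u, v, huv, huy, hvy, hu, hv⟩ := exists_pair_in_fibre_ne f hf h3 y
      refine ⟨u, v, huv, hu.trans hv.symm, huy, hvy, ?_, ?_⟩
      · rintro rfl; exact hy (hu.symm.trans hxz.symm)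
      · rintro rfl; exact hy (hv.symm.trans hxz.symm)
    · obtain ⟨i, hi⟩ := exists_label_notMem ({f x, f y} : Finset (Fin b)) (by
        have : ({f x, f y} : Finset (Fin b)).card ≤ 2 := Finset.card_le_two
        omega)
      simp only [Finset.mem_insert, Finset.mem_singleton, not_or] at hi
      obtain ⟨u, v, huv, hu, hv⟩ := exists_pair_in_fibre f hf ha i
      refine ⟨u, v, huv, hu.trans hv.symm, ?_, ?_, ?_, ?_⟩
      · rintro rfl; exact hi.2 hu.symm
      · rintro rfl; exact hi.2 hv.symm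
      · rintro rfl; exact hi.1 (hxz.trans hu).symm
      · rintro rfl; exact hi.1 (hxz.trans hv).symm
  obtain ⟨u, v, huv, hfuv, huy, hvy, huz, hvz⟩ := hspare
  obtain ⟨h, hh, hcase⟩ := parity_fix f _ hw u v huv hfuv
  refine ⟨h, hh, ?_⟩
  rcases hcase with rfl | rfl
  · exact ⟨Equiv.swap_apply_of_ne_of_ne hyx hyz, Equiv.swap_apply_left x z⟩
  · constructor
    · rw [Equiv.Perm.mul_apply, Equiv.swap_apply_of_ne_of_ne hyx hyz]
      exact Equiv.swap_apply_of_ne_of_ne huy.symm hvy.symm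
    · rw [Equiv.Perm.mul_apply, Equiv.swap_apply_left]
      exact Equiv.swap_apply_of_ne_of_ne huz.symm hvz.symm


omit hf in
/-- Elements of a subgroup `K` fixing a point of a block `B` of `K` preserve `B`. -/
theorem block_pres {K : Subgroup (Equiv.Perm Ω)} {B : Set Ω} (hB : MulAction.IsBlock K B)
    (w : Equiv.Perm Ω) (hw : w ∈ K) (p : Ω) (hp : p ∈ B) (hwp : w p ∈ B) (q : Ω) (hq : q ∈ B) :
    w q ∈ B := by
  have h := (MulAction.isBlock_iff_smul_eq_of_mem.mp hB) (g := ⟨w, hw⟩) (a := p) hp hwp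
  rw [← h]
  exact ⟨q, hq, rfl⟩

theorem block_eq_univ_even (ha : 2 ≤ a) (hab : 3 ≤ a ∨ 3 ≤ b) {K : Subgroup (Equiv.Perm Ω)}
    (hK : pstab f ⊓ alternatingGroup Ω ≤ K) {B : Set Ω} (hB : MulAction.IsBlock K B) {x y : Ω}
    (hx : x ∈ B) (hy : y ∈ B) (hxy : f y ≠ f x) : B = Set.univ := by
  rw [Set.eq_univ_iff_forall]
  intro z
  by_cases hz : f z = f x
  · obtain ⟨h, hh, hhy, hhx⟩ := even_swap_fix f hf ha hab x z y hz.symm hxy
    have := block_pres hB h (hK hh) y hy (by rw [hhy]; exact hy) x hx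
    rwa [hhx] at this
  · obtain ⟨h, hh, hhx, hhy⟩ := even_move_fix f hf ha hab x y z hxy hz
    have := block_pres hB h (hK hh) x hx (by rw [hhx]; exact hx) y hy
    rwa [hhy] at this

theorem isPreprimitive_of_not_le (ha : 2 ≤ a) (hb : 2 ≤ b) (hab : 3 ≤ a ∨ 3 ≤ b)
    {K : Subgroup (Equiv.Perm Ω)} (hK : pstab f ⊓ alternatingGroup Ω ≤ K)
    (hKP : ¬ K ≤ pstab f) : MulAction.IsPreprimitive K Ω := by
  classical
  have htrans : MulAction.IsPretransitive K Ω := by
    refine ⟨fun x y => ?_⟩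
    obtain ⟨w, hw, hwxy⟩ := even_transitive f hf ha hb x y
    exact ⟨⟨w, hK hw⟩, hwxy⟩
  have hne : Nonempty Ω := by
    by_contra hemp
    rw [not_nonempty_iff] at hemp
    apply hKP
    intro g _ x
    exact hemp.elim x
  obtain ⟨x₀⟩ := hne
  apply MulAction.IsPreprimitive.of_isTrivialBlock_base x₀
  intro B hx₀B hB
  unfold MulAction.IsTrivialBlock
  by_contra hcon
  push Not at hcon
  obtain ⟨hns, hnu⟩ := hcon
  -- every translate of B lies in a single fibre
  have hsingle : ∀ g : K, ∀ p ∈ g • B, ∀ q ∈ g • B, f p = f q := by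
    intro g p hp q hq
    by_contra hpq
    have hB' : MulAction.IsBlock K (g • B) := hB.translate g
    have := block_eq_univ_even f hf ha hab hK hB' hq hp hpq
    apply hnu
    have h2 : g⁻¹ • (g • B) = g⁻¹ • (Set.univ : Set Ω) := by rw [this]
    rw [inv_smul_smul, Set.smul_set_univ] at h2
    exact h2
  obtain ⟨p, hp, q, hq, hpq⟩ := hns
  have hsingleB : ∀ p ∈ B, ∀ q ∈ B, f p = f q := by
    intro p hp q hq
    exact hsingle 1 p (by rwa [one_smul]) q (by rwa [one_smul])
  -- B contains the fibre of p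
  have hfibB : ∀ z, f z = f p → z ∈ B := by
    intro z hz
    by_cases hzp : z = p
    · rw [hzp]; exact hp
    obtain ⟨h, hh, hhp, hhq⟩ := even_move_in_fibre f hf ha hb p q z (hsingleB q hq p hp) hz
      (Ne.symm hpq) hzp
    have := block_pres hB h (hK hh) p hp (by rw [hhp]; exact hp) q hq
    rwa [hhq] at this
  -- now K ≤ pstab f
  apply hKP
  have himp : ∀ g ∈ K, ∀ x y : Ω, f x = f y → f (g x) = f (g y) := by
    intro g hg x y hxy
    obtain ⟨w, hw, hwpx⟩ := even_transitive f hf ha hb p x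
    have hwP : w ∈ pstab f := hw.1
    have hwinv : w⁻¹ ∈ pstab f := (pstab f).inv_mem hwP
    have hx' : w⁻¹ x = p := by rw [← hwpx]; simp
    have hy' : w⁻¹ y ∈ B := by
      apply hfibB
      rw [← hx']
      exact ((hwinv x y).mp hxy).symm
    let gw : K := ⟨g, hg⟩ * ⟨w, hK hw⟩
    have hgx : g x ∈ gw • B := by
      refine ⟨p, hp, ?_⟩
      show g (w p) = g x
      rw [hwpx]
    have hgy : g y ∈ gw • B := by
      refine ⟨w⁻¹ y, hy', ?_⟩
      show g (w (w⁻¹ y)) = g y
      simp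
    exact hsingle gw _ hgx _ hgy
  intro g hg x y
  refine ⟨himp g hg x y, fun h => ?_⟩
  have := himp g⁻¹ (K.inv_mem hg) (g x) (g y) h
  simpa using this


theorem exists_mate (ha : 2 ≤ a) (s : Ω) : ∃ s' : Ω, s' ≠ s ∧ f s' = f s := by
  obtain ⟨u, v, huv, hu, hv⟩ := exists_pair_in_fibre f hf ha (f s)
  by_cases h : u = s
  · exact ⟨v, fun hvs => huv (h.trans hvs.symm), hv⟩
  · exact ⟨u, h, hu⟩

/-- (3a) a three-cycle inside a fibre. -/
theorem exists_threeCycle_of_three_le (ha : 3 ≤ a) (hb : 1 ≤ b) :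
    ∃ c ∈ pstab f ⊓ alternatingGroup Ω, c.IsThreeCycle := by
  have hne : Nonempty Ω := by
    obtain ⟨u, _, _⟩ := exists_pair_in_fibre f hf (by omega) (⟨0, by omega⟩ : Fin b)
    exact ⟨u⟩
  obtain ⟨p⟩ := hne
  obtain ⟨u, v, huv, hup, hvp, hu, hv⟩ := exists_pair_in_fibre_ne f hf ha p
  have h3 : (Equiv.swap p u * Equiv.swap p v).IsThreeCycle :=
    Equiv.Perm.isThreeCycle_swap_mul_swap_same hup.symm hvp.symm huv
  refine ⟨_, (mem_evenStab f _).mpr ⟨?_, h3.sign⟩, h3⟩
  exact (pstab f).mul_mem (swap_mem f hu.symm) (swap_mem f hv.symm)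

omit hf in
/-- Juggling lemma: from a double transposition and a suitable conjugating element,
get a three-cycle. -/
theorem threeCycle_of_double {K : Subgroup (Equiv.Perm Ω)} (y z p q y' : Ω)
    (hyz : y ≠ z) (hpq : p ≠ q) (hzp : z ≠ p) (hzq : z ≠ q)
    (hy'y : y' ≠ y) (hy'z : y' ≠ z) (hy'p : y' ≠ p) (hy'q : y' ≠ q)
    (he : Equiv.swap y z * Equiv.swap p q ∈ K) (h : Equiv.Perm Ω) (hh : h ∈ K)
    (h1 : h y = y') (h2 : h z = z) (h3 : h p = p) (h4 : h q = q) :
    ∃ c ∈ K, c.IsThreeCycle := by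
  have hconj : h * (Equiv.swap y z * Equiv.swap p q) * h⁻¹ =
      Equiv.swap y' z * Equiv.swap p q := by
    have e1 : h * Equiv.swap y z * h⁻¹ = Equiv.swap y' z := by
      rw [← Equiv.swap_apply_apply, h1, h2]
    have e2 : h * Equiv.swap p q * h⁻¹ = Equiv.swap p q := by
      rw [← Equiv.swap_apply_apply, h3, h4]
    calc h * (Equiv.swap y z * Equiv.swap p q) * h⁻¹
        = (h * Equiv.swap y z * h⁻¹) * (h * Equiv.swap p q * h⁻¹) := by group
      _ = Equiv.swap y' z * Equiv.swap p q := by rw [e1, e2]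
  have hmem : (Equiv.swap y z * Equiv.swap p q) * (Equiv.swap y' z * Equiv.swap p q) ∈ K := by
    rw [← hconj]
    exact K.mul_mem he (K.mul_mem (K.mul_mem hh he) (K.inv_mem hh))
  have hcomm : Equiv.swap p q * Equiv.swap y' z = Equiv.swap y' z * Equiv.swap p q := by
    have hd : Equiv.Perm.Disjoint (Equiv.swap p q) (Equiv.swap y' z) := by
      apply Equiv.Perm.disjoint_swap_swap
      simp only [List.nodup_cons, List.mem_cons, List.not_mem_nil, or_false, not_or,
        List.nodup_nil, and_true, not_false_eq_true]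
      exact ⟨⟨hpq, hy'p.symm, hzp.symm⟩, ⟨hy'q.symm, hzq.symm⟩, hy'z⟩
    exact hd.commute.eq
  have hprod : (Equiv.swap y z * Equiv.swap p q) * (Equiv.swap y' z * Equiv.swap p q) =
      Equiv.swap z y * Equiv.swap z y' := by
    calc (Equiv.swap y z * Equiv.swap p q) * (Equiv.swap y' z * Equiv.swap p q)
        = Equiv.swap y z * (Equiv.swap p q * Equiv.swap y' z) * Equiv.swap p q := by group
      _ = Equiv.swap y z * (Equiv.swap y' z * Equiv.swap p q) * Equiv.swap p q := by rw [hcomm]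
      _ = Equiv.swap y z * Equiv.swap y' z * (Equiv.swap p q * Equiv.swap p q) := by group
      _ = Equiv.swap z y * Equiv.swap z y' := by
          rw [Equiv.swap_mul_self, mul_one, Equiv.swap_comm y z, Equiv.swap_comm y' z]
  rw [hprod] at hmem
  exact ⟨_, hmem, Equiv.Perm.isThreeCycle_swap_mul_swap_same hyz.symm hy'z.symm hy'y.symm⟩


omit hf in
theorem double_swap_mem (x x' u u' : Ω) (hx : x ≠ x') (hu : u ≠ u') (hfx : f x = f x')
    (hfu : f u = f u') : Equiv.swap x x' * Equiv.swap u u' ∈ pstab f ⊓ alternatingGroup Ω := by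
  rw [mem_evenStab]
  refine ⟨(pstab f).mul_mem (swap_mem f hfx) (swap_mem f hfu), ?_⟩
  rw [Equiv.Perm.sign_mul, Equiv.Perm.sign_swap hx, Equiv.Perm.sign_swap hu]
  rfl

theorem exists_threeCycle_of_five_le (ha : 2 ≤ a) (hb : 5 ≤ b) {K : Subgroup (Equiv.Perm Ω)}
    (hK : pstab f ⊓ alternatingGroup Ω ≤ K) (hKP : ¬ K ≤ pstab f) :
    ∃ c ∈ K, c.IsThreeCycle := by
  -- step 1
  have h1 : ∃ g ∈ K, ∃ x x' : Ω, f x = f x' ∧ f (g x) ≠ f (g x') := by
    by_contra hcon
    push Not at hcon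
    apply hKP
    intro g hg u v
    refine ⟨fun h => hcon g hg u v h, fun h => ?_⟩
    have := hcon g⁻¹ (K.inv_mem hg) (g u) (g v) h
    simpa using this
  obtain ⟨g, hg, x, x', hxx', hgx⟩ := h1
  have hxne : x ≠ x' := by rintro rfl; exact hgx rfl
  set y := g x with hy
  set z := g x' with hz
  obtain ⟨y', hy'y, hfy'⟩ := exists_mate f hf ha y
  -- step 3
  obtain ⟨k, hk⟩ := exists_label_notMem ({f x, f (g⁻¹ y')} : Finset (Fin b)) (by
    have : ({f x, f (g⁻¹ y')} : Finset (Fin b)).card ≤ 2 := Finset.card_le_two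
    omega)
  simp only [Finset.mem_insert, Finset.mem_singleton, not_or] at hk
  obtain ⟨u, u', huu', hu, hu'⟩ := exists_pair_in_fibre f hf ha k
  set p := g u with hp
  set q := g u' with hq
  have hxu : x ≠ u := by rintro rfl; exact hk.1 hu.symm
  have hxu' : x ≠ u' := by rintro rfl; exact hk.1 hu'.symm
  have hx'u : x' ≠ u := by rintro rfl; exact hk.1 (hu.symm.trans hxx'.symm)
  have hx'u' : x' ≠ u' := by rintro rfl; exact hk.1 (hu'.symm.trans hxx'.symm)
  have hyz : y ≠ z := fun h => hgx (congrArg f h)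
  have hpq : p ≠ q := fun h => huu' (g.injective h)
  have hzp : z ≠ p := fun h => hx'u (g.injective h)
  have hzq : z ≠ q := fun h => hx'u' (g.injective h)
  have hyp : y ≠ p := fun h => hxu (g.injective h)
  have hyq : y ≠ q := fun h => hxu' (g.injective h)
  have hy'z : y' ≠ z := by
    intro h
    apply hgx
    rw [← h, hfy']
  have hy'p : y' ≠ p := by
    intro h
    apply hk.2
    rw [h, hp]
    simp [hu]
  have hy'q : y' ≠ q := by
    intro h
    apply hk.2
    rw [h, hq]
    simp [hu']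
  -- step 4
  have he : Equiv.swap y z * Equiv.swap p q ∈ K := by
    have hd := hK (double_swap_mem f x x' u u' hxne huu' hxx' (hu.trans hu'.symm))
    have := K.mul_mem (K.mul_mem hg hd) (K.inv_mem hg)
    have e : g * (Equiv.swap x x' * Equiv.swap u u') * g⁻¹ =
        Equiv.swap y z * Equiv.swap p q := by
      rw [hy, hz, hp, hq, Equiv.swap_apply_apply, Equiv.swap_apply_apply]
      group
    rwa [e] at this
  -- step 5
  obtain ⟨m, hm⟩ := exists_label_notMem ({f y, f z, f p, f q} : Finset (Fin b)) (by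
    have : ({f y, f z, f p, f q} : Finset (Fin b)).card ≤ 4 := Finset.card_le_four
    omega)
  simp only [Finset.mem_insert, Finset.mem_singleton, not_or] at hm
  obtain ⟨r, r', hrr', hr, hr'⟩ := exists_pair_in_fibre f hf ha m
  have hh : Equiv.swap y y' * Equiv.swap r r' ∈ K :=
    hK (double_swap_mem f y y' r r' hy'y.symm hrr' hfy'.symm (hr.trans hr'.symm))
  have hfix : ∀ t : Ω, f t ≠ m → t ≠ y → t ≠ y' →
      (Equiv.swap y y' * Equiv.swap r r') t = t := by
    intro t htm hty hty'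
    have h1 : Equiv.swap r r' t = t := by
      apply Equiv.swap_apply_of_ne_of_ne
      · rintro rfl; exact htm hr
      · rintro rfl; exact htm hr'
    rw [Equiv.Perm.mul_apply, h1, Equiv.swap_apply_of_ne_of_ne hty hty']
  refine threeCycle_of_double y z p q y' hyz hpq hzp hzq hy'y hy'z hy'p hy'q he _ hh ?_ ?_ ?_ ?_
  · have h1 : Equiv.swap r r' y = y := by
      apply Equiv.swap_apply_of_ne_of_ne
      · rintro rfl; exact hm.1 hr.symm
      · rintro rfl; exact hm.1 hr'.symm
    rw [Equiv.Perm.mul_apply, h1, Equiv.swap_apply_left]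
  · exact hfix z (fun h => hm.2.1 h.symm) hyz.symm hy'z.symm
  · exact hfix p (fun h => hm.2.2.1 h.symm) hyp.symm hy'p.symm
  · exact hfix q (fun h => hm.2.2.2 h.symm) hyq.symm hy'q.symm


end

section small
variable {Ω : Type*} [Fintype Ω] [DecidableEq Ω]


theorem main_four (f : Ω → Fin 2) (hf : ∀ i : Fin 2, Nat.card {x : Ω // f x = i} = 2)
    (K : Subgroup (Equiv.Perm Ω)) (hHK : pstab f ⊓ alternatingGroup Ω ≤ K)
    (hKA : K ≤ alternatingGroup Ω) (hne : K ≠ pstab f ⊓ alternatingGroup Ω) :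
    K = alternatingGroup Ω := by
  have hcardΩ : Fintype.card Ω = 4 := by
    rw [Fintype.card_congr (coord f hf)]; simp
  have hnt : Nontrivial Ω := Fintype.one_lt_card_iff_nontrivial.mp (by omega)
  have hA : Nat.card (alternatingGroup Ω) = 12 := by
    have := two_mul_nat_card_alternatingGroup (α := Ω)
    rw [Nat.card_perm, Nat.card_eq_fintype_card (α := Ω), hcardΩ] at this
    have h4 : (4 : ℕ).factorial = 24 := rfl
    omega
  have hH : Nat.card (pstab f ⊓ alternatingGroup Ω : Subgroup (Equiv.Perm Ω)) = 4 := by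
    rw [card_evenStab_congr (coord f hf) f (Prod.fst) (coord_fst f hf)]
    exact card_evenStab_of_filter _ 4 card4
  have h1 := Subgroup.card_dvd_of_le hHK
  have h2 := Subgroup.card_dvd_of_le hKA
  rw [hH] at h1
  rw [hA] at h2
  have h3 : Nat.card K ≠ 4 := by
    intro h
    apply hne
    exact (Subgroup.eq_of_le_of_card_ge hHK (by rw [hH, h])).symm
  apply Subgroup.eq_of_le_of_card_ge hKA
  rw [hA]
  obtain ⟨c, hc⟩ := h1
  rw [hc] at h2 h3 ⊢
  have hc3 : c ∣ 3 := by
    have : 4 * c ∣ 4 * 3 := h2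
    exact Nat.dvd_of_mul_dvd_mul_left (by norm_num) this
  have hcle := Nat.le_of_dvd (by norm_num) hc3
  interval_cases c <;> omega

theorem main_six (f : Ω → Fin 3) (hf : ∀ i : Fin 3, Nat.card {x : Ω // f x = i} = 2)
    (K : Subgroup (Equiv.Perm Ω)) (hHK : pstab f ⊓ alternatingGroup Ω ≤ K)
    (hKA : K ≤ alternatingGroup Ω) (hne : K ≠ pstab f ⊓ alternatingGroup Ω) :
    K = alternatingGroup Ω := by
  have hcardΩ : Fintype.card Ω = 6 := by
    rw [Fintype.card_congr (coord f hf)]; simp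
  have hnt : Nontrivial Ω := Fintype.one_lt_card_iff_nontrivial.mp (by omega)
  have hA : Nat.card (alternatingGroup Ω) = 360 := by
    have := two_mul_nat_card_alternatingGroup (α := Ω)
    rw [Nat.card_perm, Nat.card_eq_fintype_card (α := Ω), hcardΩ] at this
    have h6 : (6 : ℕ).factorial = 720 := rfl
    omega
  have hH : Nat.card (pstab f ⊓ alternatingGroup Ω : Subgroup (Equiv.Perm Ω)) = 24 := by
    rw [card_evenStab_congr (coord f hf) f (Prod.fst) (coord_fst f hf)]
    exact card_evenStab_of_filter _ 24 card6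
  have h1 := Subgroup.card_dvd_of_le hHK
  have h2 := Subgroup.card_dvd_of_le hKA
  rw [hH] at h1
  rw [hA] at h2
  have h3 : Nat.card K ≠ 24 := by
    intro h
    apply hne
    exact (Subgroup.eq_of_le_of_card_ge hHK (by rw [hH, h])).symm
  by_contra hKne
  -- K is a proper subgroup of the simple group A₆
  have : IsSimpleGroup (alternatingGroup Ω) :=
    alternatingGroup.isSimpleGroup (by rw [Nat.card_eq_fintype_card, hcardΩ]; norm_num)
  have hK' : K.subgroupOf (alternatingGroup Ω) ≠ ⊤ := by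
    rw [Ne, Subgroup.subgroupOf_eq_top]
    intro h
    exact hKne (le_antisymm hKA h)
  have h4 := card_le_factorial_index (K.subgroupOf (alternatingGroup Ω)) hK'
  rw [hA] at h4
  have h5 : (K.subgroupOf (alternatingGroup Ω)).index * Nat.card K = 360 := by
    have := (K.subgroupOf (alternatingGroup Ω)).card_mul_index
    rw [hA, Nat.card_congr (Subgroup.subgroupOfEquivOfLe hKA).toEquiv] at this
    rw [mul_comm]; exact this
  obtain ⟨c, hc⟩ := h1
  rw [hc] at h2 h3 h5
  have hc15 : c ∣ 15 := by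
    have : 24 * c ∣ 24 * 15 := h2
    exact Nat.dvd_of_mul_dvd_mul_left (by norm_num) this
  have hcle := Nat.le_of_dvd (by norm_num) hc15
  set idx := (K.subgroupOf (alternatingGroup Ω)).index with hidx
  have hfac : ∀ m : ℕ, m ≤ 5 → m.factorial ≤ 120 := by
    intro m hm
    calc m.factorial ≤ (5 : ℕ).factorial := Nat.factorial_le hm
      _ = 120 := rfl
  interval_cases c
  · omega
  · omega
  · omega
  · have : idx = 5 := by omega
    have := hfac idx (by omega)
    omega
  · omega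
  · have : idx = 3 := by omega
    have := hfac idx (by omega)
    omega
  all_goals first | omega | (have : idx ≤ 5 := by omega
                             have := hfac idx this
                             omega)


end small

section
variable {Ω : Type*} [Fintype Ω] [DecidableEq Ω] {a b : ℕ} (f : Ω → Fin b)
  (hf : ∀ i : Fin b, Nat.card {x : Ω // f x = i} = a)
include hf

theorem main_generic (ha : 2 ≤ a) (hb : 2 ≤ b) (hab : 3 ≤ a ∨ 5 ≤ b)
    (K : Subgroup (Equiv.Perm Ω)) (hHK : pstab f ⊓ alternatingGroup Ω ≤ K)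
    (hKA : K ≤ alternatingGroup Ω) (hne : K ≠ pstab f ⊓ alternatingGroup Ω) :
    K = alternatingGroup Ω := by
  have hKP : ¬ K ≤ pstab f := by
    intro h
    exact hne (le_antisymm (le_inf h hKA) hHK)
  have hab' : 3 ≤ a ∨ 3 ≤ b := by
    rcases hab with h | h
    · exact Or.inl h
    · exact Or.inr (by omega)
  have hprim := isPreprimitive_of_not_le f hf ha hb hab' hHK hKP
  have h3 : ∃ c ∈ K, c.IsThreeCycle := by
    rcases hab with h | h
    · obtain ⟨c, hc, hc3⟩ := exists_threeCycle_of_three_le f hf h (by omega)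
      exact ⟨c, hHK hc, hc3⟩
    · exact exists_threeCycle_of_five_le f hf ha h hHK hKP
  obtain ⟨c, hc, hc3⟩ := h3
  exact le_antisymm hKA
    (Equiv.Perm.alternatingGroup_le_of_isPreprimitive_of_isThreeCycle_mem hprim hc3 hc)

theorem card_eq_mul : Fintype.card Ω = b * a := by
  rw [Fintype.card_congr (coord f hf)]; simp

theorem main_all (h8 : Fintype.card Ω ≠ 8) (ha : 2 ≤ a) (hb : 2 ≤ b)
    (K : Subgroup (Equiv.Perm Ω)) (hHK : pstab f ⊓ alternatingGroup Ω ≤ K)
    (hKA : K ≤ alternatingGroup Ω) (hne : K ≠ pstab f ⊓ alternatingGroup Ω) :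
    K = alternatingGroup Ω := by
  by_cases ha3 : 3 ≤ a
  · exact main_generic f hf ha hb (Or.inl ha3) K hHK hKA hne
  by_cases hb5 : 5 ≤ b
  · exact main_generic f hf ha hb (Or.inr hb5) K hHK hKA hne
  have ha2 : a = 2 := by omega
  subst ha2
  have hcard := card_eq_mul f hf
  have hb4 : b ≠ 4 := by
    intro h
    apply h8
    rw [hcard, h]
  have hb23 : b = 2 ∨ b = 3 := by omega
  rcases hb23 with rfl | rfl
  · exact main_four f hf K hHK hKA hne
  · exact main_six f hf K hHK hKA hne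

theorem coatom_final (h8 : Fintype.card Ω ≠ 8) (ha : 2 ≤ a) (hb : 2 ≤ b) :
    IsCoatom ((pstab f ⊓ alternatingGroup Ω).subgroupOf (alternatingGroup Ω)) := by
  constructor
  · -- not top
    rw [Ne, Subgroup.subgroupOf_eq_top]
    intro htop
    -- a three-cycle not in pstab
    obtain ⟨x, x', hxx', hx, hx'⟩ := exists_pair_in_fibre f hf ha (⟨0, by omega⟩ : Fin b)
    obtain ⟨y, _, _, hy, _⟩ := exists_pair_in_fibre f hf ha (⟨1, by omega⟩ : Fin b)
    have hfxy : f x ≠ f y := by
      rw [hx, hy]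
      intro h
      have := congrArg Fin.val h
      simp at this
    have hxy : x ≠ y := fun h => hfxy (congrArg f h)
    have hx'y : x' ≠ y := fun h => hfxy (by rw [← h, hx, hx'])
    have h3 : (Equiv.swap x y * Equiv.swap x x').IsThreeCycle :=
      Equiv.Perm.isThreeCycle_swap_mul_swap_same hxy hxx' hx'y.symm
    have hmem : Equiv.swap x y * Equiv.swap x x' ∈ alternatingGroup Ω :=
      Equiv.Perm.mem_alternatingGroup.mpr h3.sign
    have hp := (htop hmem).1
    have := (hp x x').mp (by rw [hx, hx'])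
    -- (swap x y * swap x x') x = x',  (swap x y * swap x x') x' = y
    have e1 : (Equiv.swap x y * Equiv.swap x x') x = x' := by
      rw [Equiv.Perm.mul_apply, Equiv.swap_apply_left, Equiv.swap_apply_of_ne_of_ne hxx'.symm hx'y]
    have e2 : (Equiv.swap x y * Equiv.swap x x') x' = y := by
      rw [Equiv.Perm.mul_apply, Equiv.swap_apply_right, Equiv.swap_apply_left]
    rw [e1, e2] at this
    exact hfxy (by rw [← this, hx, hx'])
  · intro K' hK'
    set K := K'.map (alternatingGroup Ω).subtype with hKdef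
    have hKA : K ≤ alternatingGroup Ω := by
      rw [hKdef]
      intro g hg
      obtain ⟨g', _, rfl⟩ := hg
      exact g'.2
    have hcomap : K.subgroupOf (alternatingGroup Ω) = K' := by
      rw [hKdef]
      exact Subgroup.comap_map_eq_self_of_injective (Subgroup.subtype_injective _) K'
    have hHK : pstab f ⊓ alternatingGroup Ω ≤ K := by
      intro g hg
      have hgA : g ∈ alternatingGroup Ω := hg.2
      have : (⟨g, hgA⟩ : alternatingGroup Ω) ∈
          (pstab f ⊓ alternatingGroup Ω).subgroupOf (alternatingGroup Ω) := by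
        rw [Subgroup.mem_subgroupOf]; exact hg
      exact ⟨⟨g, hgA⟩, hK'.le this, rfl⟩
    have hne : K ≠ pstab f ⊓ alternatingGroup Ω := by
      intro h
      rw [← hcomap, h] at hK'
      exact lt_irrefl _ hK'
    have := main_all f hf h8 ha hb K hHK hKA hne
    rw [← hcomap, this, Subgroup.subgroupOf_self]


end

/-- Let Ω be a finite set whose size is not 8, and f : Ω → Fin b a labelling with b ≥ 2 whose fibres all have the same size a ≥ 2 (a partition into b blocks of size a). Then the even permutations preserving the partition — the intersection of the imprimitive wreath product S_a ≀ S_b with the alternating group — form a maximal subgroup of the alternating group on Ω. -/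
theorem result {Ω : Type*} [Fintype Ω] [DecidableEq Ω] (h8 : Fintype.card Ω ≠ 8) (a b : ℕ) (ha : 2 ≤ a) (hb : 2 ≤ b)
    (f : Ω → Fin b) (hf : ∀ i : Fin b, Nat.card {x : Ω // f x = i} = a) :
    IsCoatom ((Subgroup.closure {g : Equiv.Perm Ω | ∀ x y : Ω, f x = f y ↔ f (g x) = f (g y)} ⊓ alternatingGroup Ω).subgroupOf (alternatingGroup Ω)) := by
  rw [Cfsg.Agent.S5905.closure_eq]
  exact coatom_final f hf h8 ha hb

end Cfsg.Agent.S5909
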