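import Cfsg.Statements.S5910
import Cfsg.Agent.S5905

set_option autoImplicit false
set_option linter.unusedSectionVars false
open Cfsg

namespace Cfsg.Agent.S5910

/-- The model set: four pairs. -/
abbrev X := Fin 4 × Fin 2

/-- The quaternary relation "the four points sum to zero" on `X` viewed as `𝔽₂³`. -/
def R (p q r s : X) : Prop :=
  (p.1.val ^^^ q.1.val ^^^ r.1.val ^^^ s.1.val = 0) ∧ (p.2 + q.2 + r.2 + s.2 = 0)

instance (p q r s : X) : Decidable (R p q r s) := by unfold R; infer_instance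

theorem tau_claim : ∀ τ : Equiv.Perm (Fin 4), ∀ i j k l : Fin 4,
    i.val ^^^ j.val ^^^ k.val ^^^ l.val = 0 →
    (τ i).val ^^^ (τ j).val ^^^ (τ k).val ^^^ (τ l).val = 0 := by decide

theorem c_claim : ∀ c : Fin 4 → Fin 2,
    (∏ i, (if c i = 0 then (1 : ℤˣ) else -1)) = 1 → ∀ i j k l : Fin 4,
    i.val ^^^ j.val ^^^ k.val ^^^ l.val = 0 → c i + c j + c k + c l = 0 := by decide

theorem sign_addLeft (a : Fin 2) :
    Equiv.Perm.sign (Equiv.addLeft a) = if a = 0 then (1 : ℤˣ) else -1 := by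
  fin_cases a
  · have : (Equiv.addLeft (0 : Fin 2)) = 1 := by ext x; simp
    simp [this]
  · have : (Equiv.addLeft (1 : Fin 2)) = Equiv.swap 0 1 := by
      ext x; fin_cases x <;> simp
    simp [this]

theorem fin2_aux : ∀ a b : Fin 2, a ≠ b → a = 1 + b := by decide

/-- A partition-preserving permutation of `X` is given by a permutation `τ` of the labels and
a shear `c`. -/
theorem exists_tau_c (g : Equiv.Perm X) (hg : ∀ x y : X, x.1 = y.1 ↔ (g x).1 = (g y).1) :
    ∃ (τ : Equiv.Perm (Fin 4)) (c : Fin 4 → Fin 2), ∀ x : X, g x = (τ x.1, x.2 + c x.1) := by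
  have hinj : Function.Injective (fun i : Fin 4 => (g (i, 0)).1) := by
    intro i i' h
    exact (hg (i, 0) (i', 0)).mpr h
  have hbij : Function.Bijective (fun i : Fin 4 => (g (i, 0)).1) :=
    Finite.injective_iff_bijective.mp hinj
  refine ⟨Equiv.ofBijective _ hbij, fun i => (g (i, 0)).2, ?_⟩
  rintro ⟨i, j⟩
  have h1 : (g (i, j)).1 = (g (i, 0)).1 := (hg (i, j) (i, 0)).mp rfl
  ext
  · simp [h1]
  · show ((g (i, j)).2 : ℕ) = ((j + (g (i, 0)).2 : Fin 2) : ℕ)
    congr 1
    fin_cases j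
    · simp
    · have hne : g (i, 1) ≠ g (i, 0) := by
        intro h
        have := g.injective h
        simp at this
      have h2 : (g (i, 1)).2 ≠ (g (i, 0)).2 := by
        intro h
        apply hne
        exact Prod.ext ((hg (i, 1) (i, 0)).mp rfl) h
      exact fin2_aux _ _ h2

/-- Even partition-preserving permutations of `X` preserve `R`. -/
theorem preserves_R (g : Equiv.Perm X) (hg : ∀ x y : X, x.1 = y.1 ↔ (g x).1 = (g y).1)
    (hsign : Equiv.Perm.sign g = 1) (p q r s : X) (h : R p q r s) :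
    R (g p) (g q) (g r) (g s) := by
  obtain ⟨τ, c, hτc⟩ := exists_tau_c g hg
  have hdecomp : g = Equiv.prodCongrLeft (fun _ : Fin 2 => τ) *
      Equiv.prodCongrRight (fun i : Fin 4 => Equiv.addLeft (c i)) := by
    ext x : 1
    rw [hτc x]
    rcases x with ⟨i, j⟩
    simp [Equiv.prodCongrLeft, Equiv.prodCongrRight, add_comm]
  have hs : (∏ i, (if c i = 0 then (1 : ℤˣ) else -1)) = 1 := by
    rw [hdecomp, Equiv.Perm.sign_mul, Equiv.Perm.sign_prodCongrLeft,
      Equiv.Perm.sign_prodCongrRight] at hsign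
    simp only [sign_addLeft] at hsign
    rw [Fin.prod_univ_two, Int.units_mul_self, one_mul] at hsign
    exact hsign
  obtain ⟨h1, h2⟩ := h
  rw [hτc p, hτc q, hτc r, hτc s]
  refine ⟨tau_claim τ _ _ _ _ h1, ?_⟩
  have h3 := c_claim c hs _ _ _ _ h1
  show p.2 + c p.1 + (q.2 + c q.1) + (r.2 + c r.1) + (s.2 + c s.1) = 0
  have : p.2 + c p.1 + (q.2 + c q.1) + (r.2 + c r.1) + (s.2 + c s.1) =
      (p.2 + q.2 + r.2 + s.2) + (c p.1 + c q.1 + c r.1 + c s.1) := by abel
  rw [this, h2, h3, add_zero]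

/-- The double transposition `σ₀`, an affine transvection not preserving the pairs. -/
def σ₀ : Equiv.Perm X := Equiv.swap (0, 1) (1, 1) * Equiv.swap (2, 1) (3, 1)

/-- A three-cycle. -/
def ρ₀ : Equiv.Perm X := Equiv.swap (0, 0) (1, 0) * Equiv.swap (1, 0) (2, 0)

theorem σ₀_R : ∀ p q r s : X, R p q r s ↔ R (σ₀ p) (σ₀ q) (σ₀ r) (σ₀ s) := by decide

theorem sign_σ₀ : Equiv.Perm.sign σ₀ = 1 := by
  unfold σ₀
  rw [Equiv.Perm.sign_mul, Equiv.Perm.sign_swap (by decide), Equiv.Perm.sign_swap (by decide)]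
  rfl

theorem sign_ρ₀ : Equiv.Perm.sign ρ₀ = 1 := by
  unfold ρ₀
  rw [Equiv.Perm.sign_mul, Equiv.Perm.sign_swap (by decide), Equiv.Perm.sign_swap (by decide)]
  rfl

theorem ρ₀_not_R : R (0, 0) (0, 1) (1, 0) (1, 1) ∧
    ¬ R (ρ₀ (0, 0)) (ρ₀ (0, 1)) (ρ₀ (1, 0)) (ρ₀ (1, 1)) := by decide

theorem σ₀_not_pstab : ((0, 0) : X).1 = ((0, 1) : X).1 ∧ (σ₀ (0, 0)).1 ≠ (σ₀ (0, 1)).1 := by decide

/-- If `H < L < K` then `H` is not maximal in `K`. -/
theorem not_isCoatom_subgroupOf {G : Type*} [Group G] (H L K : Subgroup G) (hHL : H ≤ L)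
    (hLK : L ≤ K) (hne1 : H ≠ L) (hne2 : L ≠ K) : ¬ IsCoatom (H.subgroupOf K) := by
  intro hco
  have hlt : H.subgroupOf K < L.subgroupOf K := by
    refine lt_of_le_of_ne (Subgroup.subgroupOf_mono K hHL) ?_
    intro heq
    rw [Subgroup.subgroupOf_inj, inf_eq_left.mpr (hHL.trans hLK), inf_eq_left.mpr hLK] at heq
    exact hne1 heq
  have := hco.2 _ hlt
  rw [Subgroup.subgroupOf_eq_top] at this
  exact hne2 (le_antisymm hLK this)

section
variable {Ω : Type*} [Fintype Ω] [DecidableEq Ω] (e : Ω ≃ X)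

/-- The group of "affine" permutations of `Ω` with respect to the coordinates `e`. -/
def affGroup : Subgroup (Equiv.Perm Ω) where
  carrier := {g | ∀ p q r s : Ω, R (e p) (e q) (e r) (e s) ↔ R (e (g p)) (e (g q)) (e (g r)) (e (g s))}
  one_mem' := fun p q r s => Iff.rfl
  mul_mem' := by
    intro g h hg hh p q r s
    rw [hh p q r s, hg (h p) (h q) (h r) (h s)]
    rfl
  inv_mem' := by
    intro g hg p q r s
    have := hg (g⁻¹ p) (g⁻¹ q) (g⁻¹ r) (g⁻¹ s)
    simp only [Equiv.Perm.coe_inv, Equiv.apply_symm_apply] at this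
    exact this.symm

end

theorem result {Ω : Type*} [Fintype Ω] [DecidableEq Ω] (h8 : Fintype.card Ω = 8)
    (f : Ω → Fin 4) (hf : ∀ i : Fin 4, Nat.card {x : Ω // f x = i} = 2) :
    ¬ IsCoatom ((Subgroup.closure {g : Equiv.Perm Ω | ∀ x y : Ω, f x = f y ↔ f (g x) = f (g y)} ⊓ alternatingGroup Ω).subgroupOf (alternatingGroup Ω)) := by
  classical
  rw [Cfsg.Agent.S5905.closure_eq]
  set e : Ω ≃ X := Cfsg.Agent.S5905.coord f hf with he
  have hef : ∀ u, (e u).1 = f u := Cfsg.Agent.S5905.coord_fst f hf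
  -- conjugates
  have hconj : ∀ (g₀ : Equiv.Perm X) (u : Ω), e ((e.symm.permCongr g₀) u) = g₀ (e u) := by
    intro g₀ u
    simp [Equiv.permCongr_apply]
  have hconj' : ∀ (g : Equiv.Perm Ω) (x : X), (e.permCongr g) x = e (g (e.symm x)) := by
    intro g x
    simp [Equiv.permCongr_apply]
  -- (1) H ≤ L
  have h1 : Cfsg.Agent.S5905.pstab f ⊓ alternatingGroup Ω ≤ affGroup e ⊓ alternatingGroup Ω := by
    have key : ∀ g ∈ Cfsg.Agent.S5905.pstab f ⊓ alternatingGroup Ω, ∀ p q r s : Ω,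
        R (e p) (e q) (e r) (e s) → R (e (g p)) (e (g q)) (e (g r)) (e (g s)) := by
      intro g hg p q r s hR
      have hg1 : ∀ x y : X, x.1 = y.1 ↔ ((e.permCongr g) x).1 = ((e.permCongr g) y).1 := by
        intro x y
        rw [hconj', hconj', hef, hef]
        have := hg.1 (e.symm x) (e.symm y)
        rw [← hef, ← hef] at this
        simpa using this
      have hg2 : Equiv.Perm.sign (e.permCongr g) = 1 := by
        rw [Equiv.Perm.sign_permCongr]
        exact Equiv.Perm.mem_alternatingGroup.mp hg.2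
      have := preserves_R (e.permCongr g) hg1 hg2 (e p) (e q) (e r) (e s) hR
      simpa [hconj'] using this
    intro g hg
    refine ⟨?_, hg.2⟩
    intro p q r s
    refine ⟨key g hg p q r s, fun h => ?_⟩
    have := key g⁻¹ (Subgroup.inv_mem _ hg) (g p) (g q) (g r) (g s) h
    simpa using this
  -- (2) σ
  have h2 : Cfsg.Agent.S5905.pstab f ⊓ alternatingGroup Ω ≠ affGroup e ⊓ alternatingGroup Ω := by
    intro heq
    have hσ : e.symm.permCongr σ₀ ∈ affGroup e ⊓ alternatingGroup Ω := by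
      refine ⟨?_, ?_⟩
      · intro p q r s
        rw [hconj, hconj, hconj, hconj]
        exact σ₀_R _ _ _ _
      · show _ ∈ alternatingGroup Ω
        rw [Equiv.Perm.mem_alternatingGroup, Equiv.Perm.sign_permCongr]
        exact sign_σ₀
    rw [← heq] at hσ
    have := (hσ.1 (e.symm (0, 0)) (e.symm (0, 1))).mp (by rw [← hef, ← hef]; simp)
    rw [← hef, ← hef, hconj, hconj] at this
    simp only [Equiv.apply_symm_apply] at this
    exact σ₀_not_pstab.2 this
  -- (3) ρ
  have h3 : affGroup e ⊓ alternatingGroup Ω ≠ alternatingGroup Ω := by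
    intro heq
    have hρ : e.symm.permCongr ρ₀ ∈ alternatingGroup Ω := by
      rw [Equiv.Perm.mem_alternatingGroup, Equiv.Perm.sign_permCongr]
      exact sign_ρ₀
    rw [← heq] at hρ
    have := (hρ.1 (e.symm (0, 0)) (e.symm (0, 1)) (e.symm (1, 0)) (e.symm (1, 1))).mp
      (by simp only [Equiv.apply_symm_apply]; exact ρ₀_not_R.1)
    rw [hconj, hconj, hconj, hconj] at this
    simp only [Equiv.apply_symm_apply] at this
    exact ρ₀_not_R.2 this
  exact not_isCoatom_subgroupOf _ _ _ h1 inf_le_right h2 h3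

end Cfsg.Agent.S5910
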