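import Cfsg.Statements.S5911

set_option autoImplicit false
set_option linter.unusedSectionVars false
open Cfsg
open Nat
open scoped Pointwise

namespace Cfsg.Agent.S5911

theorem aux_ineq (j : ℕ) : 2 ^ (j + 3) * (j + 4)! < (2 * j + 6)! := by
  induction j with
  | zero => decide
  | succ j ih =>
    have e1 : (j + 1 + 4)! = (j + 5) * (j + 4)! := Nat.factorial_succ (j + 4)
    have e2 : (2 * (j + 1) + 6)! = (2 * j + 8) * ((2 * j + 7) * (2 * j + 6)!) := by
      have : 2 * (j + 1) + 6 = (2 * j + 7) + 1 := by ring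
      rw [this, Nat.factorial_succ, Nat.factorial_succ]
    rw [e1, e2]
    have e3 : 2 ^ (j + 1 + 3) = 2 * 2 ^ (j + 3) := by rw [pow_succ]; ring
    rw [e3]
    have hpos : 0 < (2 * j + 6)! := Nat.factorial_pos _
    have h1 : 2 * 2 ^ (j + 3) * ((j + 5) * (j + 4)!) = (2 * (j + 5)) * (2 ^ (j + 3) * (j + 4)!) := by ring
    rw [h1]
    have h2 : (2 * j + 8) * ((2 * j + 7) * (2 * j + 6)!) = ((2 * j + 8) * (2 * j + 7)) * (2 * j + 6)! := by ring
    rw [h2]
    have h3 : 2 * (j + 5) ≤ (2 * j + 8) * (2 * j + 7) := by nlinarith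
    calc 2 * (j + 5) * (2 ^ (j + 3) * (j + 4)!) < 2 * (j + 5) * (2 * j + 6)! := by
          apply Nat.mul_lt_mul_of_pos_left ih (by omega)
      _ ≤ (2 * j + 8) * (2 * j + 7) * (2 * j + 6)! := Nat.mul_le_mul_right _ h3

theorem numerics (n k : ℕ) (hk : 1 ≤ k) (h2k : 2 * k ≤ n) (hn6 : n ≠ 6)
    (h : (n - 2 * k)! * 2 ^ k * k ! = (n - 2)! * 2) : k = 1 := by
  by_contra hk1
  obtain ⟨m, rfl⟩ : ∃ m, n = m + 2 * k := ⟨n - 2 * k, by omega⟩
  rw [Nat.add_sub_cancel] at h
  have hmpos : 0 < m ! := Nat.factorial_pos m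
  rcases (by omega : k = 2 ∨ k = 3 ∨ 4 ≤ k) with rfl | rfl | hk4
  · have e : (m + 2 * 2 - 2)! = (m + 2) * ((m + 1) * m !) := by
      have : m + 2 * 2 - 2 = (m + 1) + 1 := by omega
      rw [this, Nat.factorial_succ, Nat.factorial_succ]
    rw [e] at h
    have h' : m ! * 4 = m ! * ((m + 2) * (m + 1)) := by
      have : 2 ^ 2 = 4 := by norm_num
      have h2 : (2 : ℕ)! = 2 := rfl
      rw [this, h2] at h
      nlinarith
    have h'' := Nat.eq_of_mul_eq_mul_left hmpos h'
    have : m ≤ 1 := by nlinarith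
    interval_cases m <;> omega
  · have e : (m + 2 * 3 - 2)! = (m + 4) * ((m + 3) * ((m + 2) * ((m + 1) * m !))) := by
      have : m + 2 * 3 - 2 = (m + 3) + 1 := by omega
      rw [this, Nat.factorial_succ, Nat.factorial_succ, Nat.factorial_succ, Nat.factorial_succ]
    rw [e] at h
    have h' : m ! * 24 = m ! * ((m + 4) * (m + 3) * (m + 2) * (m + 1)) := by
      have : 2 ^ 3 = 8 := by norm_num
      have h2 : (3 : ℕ)! = 6 := rfl
      rw [this, h2] at h
      nlinarith
    have h'' := Nat.eq_of_mul_eq_mul_left hmpos h'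
    have : m = 0 := by
      by_contra hm
      have : 1 ≤ m := by omega
      have : (m + 4) * (m + 3) * (m + 2) * (m + 1) ≥ 5 * 4 * 3 * 2 := by
        apply Nat.mul_le_mul (Nat.mul_le_mul (Nat.mul_le_mul _ _) _) _ <;> omega
      omega
    subst this
    exact hn6 rfl
  · obtain ⟨j, rfl⟩ : ∃ j, k = j + 4 := ⟨k - 4, by omega⟩
    have hdvd := Nat.factorial_mul_factorial_dvd_factorial_add m (2 * j + 6)
    have hle := Nat.le_of_dvd (Nat.factorial_pos _) hdvd
    have e : m + 2 * (j + 4) - 2 = m + (2 * j + 6) := by omega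
    rw [e] at h
    have ha := aux_ineq j
    have e3 : 2 ^ (j + 4) = 2 * 2 ^ (j + 3) := by rw [pow_succ]; ring
    rw [e3] at h
    have : m ! * (2 * 2 ^ (j + 3)) * (j + 4)! = (m ! * (2 ^ (j + 3) * (j + 4)!)) * 2 := by ring
    rw [this] at h
    have h5 : m ! * (2 ^ (j + 3) * (j + 4)!) = (m + (2 * j + 6))! := by omega
    have h6 : m ! * (2 ^ (j + 3) * (j + 4)!) < m ! * (2 * j + 6)! :=
      Nat.mul_lt_mul_of_pos_left ha hmpos
    omega

theorem card_centralizer_mulEquiv {G G' : Type*} [Group G] [Group G'] (ψ : G ≃* G') (t : G) :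
    Nat.card (Subgroup.centralizer {ψ t}) = Nat.card (Subgroup.centralizer {t}) := by
  apply Nat.card_congr
  symm
  refine Equiv.subtypeEquiv ψ.toEquiv ?_
  intro x
  simp only [Subgroup.mem_centralizer_singleton_iff]
  show x * t = t * x ↔ ψ x * ψ t = ψ t * ψ x
  rw [← map_mul, ← map_mul, ψ.injective.eq_iff]

theorem isSwap_of_mulEquiv {α β : Type*} [Fintype α] [DecidableEq α] [Fintype β] [DecidableEq β]
    (hcard : Fintype.card α = Fintype.card β) (h6 : Fintype.card α ≠ 6)
    (ψ : Equiv.Perm α ≃* Equiv.Perm β) (t : Equiv.Perm α) (ht : t.IsSwap) : (ψ t).IsSwap := by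
  have hord : orderOf (ψ t) = 2 := by
    rw [MulEquiv.orderOf_eq]
    exact ht.orderOf
  have hprime : (orderOf (ψ t)).Prime := by rw [hord]; exact Nat.prime_two
  obtain ⟨k, hk⟩ := Equiv.Perm.cycleType_prime_order hprime
  rw [hord] at hk
  have hsum : 2 * (k + 1) ≤ Fintype.card β := by
    have h1 := Equiv.Perm.sum_cycleType (ψ t)
    rw [hk, Multiset.sum_replicate, smul_eq_mul] at h1
    have h2 : (ψ t).support.card ≤ Fintype.card β := Finset.card_le_univ _
    omega
  have hc1 := Equiv.Perm.nat_card_centralizer (ψ t)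
  have hc2 := Equiv.Perm.nat_card_centralizer t
  rw [card_centralizer_mulEquiv, hc2, Equiv.Perm.isSwap_iff_cycleType.mp ht, hk] at hc1
  simp only [Multiset.sum_singleton, Multiset.prod_singleton, Multiset.toFinset_singleton,
    Finset.prod_singleton, Multiset.count_singleton_self, Nat.factorial_one, mul_one,
    Multiset.sum_replicate, smul_eq_mul, Multiset.prod_replicate,
    Multiset.toFinset_replicate, Multiset.count_replicate_self] at hc1
  rw [if_neg (by omega)] at hc1
  simp only [Finset.prod_singleton, Multiset.count_replicate_self] at hc1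
  rw [hcard] at hc1 h6
  have := numerics (Fintype.card β) (k + 1) (by omega) (by omega) h6 (by rw [mul_comm 2 (k + 1), ← hc1])
  rw [Equiv.Perm.isSwap_iff_cycleType, hk, this]
  rfl

theorem le_choose : ∀ (m j : ℕ), 1 ≤ j → j + 1 ≤ m → m ≤ m.choose j := by
  intro m
  induction m with
  | zero => intro j h1 h2; omega
  | succ m ih =>
    intro j h1 h2
    obtain ⟨j', rfl⟩ : ∃ j', j = j' + 1 := ⟨j - 1, by omega⟩
    rw [Nat.choose_succ_succ, Nat.succ_eq_add_one]
    rcases Nat.eq_zero_or_pos j' with rfl | hj'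
    · simp
    · rcases (by omega : j' + 1 = m ∨ j' + 2 ≤ m) with h | h
      · rw [h, Nat.choose_self]
        have : m.choose j' = m := by
          have : j' = m - 1 := by omega
          rw [this, Nat.choose_symm (by omega : 1 ≤ m), Nat.choose_one_right]
        omega
      · have a1 := ih j' hj' (by omega)
        have a2 := ih (j' + 1) (by omega) (by omega)
        omega

theorem lt_choose (n k : ℕ) (h2 : 2 ≤ k) (hk : k + 2 ≤ n) : n < n.choose k := by
  obtain ⟨m, rfl⟩ : ∃ m, n = m + 1 := ⟨n - 1, by omega⟩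
  obtain ⟨j, rfl⟩ : ∃ j, k = j + 1 := ⟨k - 1, by omega⟩
  rw [Nat.choose_succ_succ, Nat.succ_eq_add_one]
  have a1 := le_choose m j (by omega) (by omega)
  have a2 := le_choose m (j + 1) (by omega) (by omega)
  omega

/-- A point stabilizer in the symmetric group is generated by the swaps it contains. -/
theorem stabilizer_le_closure {β : Type*} [DecidableEq β] [Finite β] (b : β) :
    MulAction.stabilizer (Equiv.Perm β) b ≤
      Subgroup.closure {σ : Equiv.Perm β | σ.IsSwap ∧ σ b = b} := by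
  intro f hf
  have hfb : f b = b := hf
  rw [mem_closure_isSwap (fun σ hσ => hσ.1)]
  refine ⟨Set.toFinite _, fun x => ?_⟩
  by_cases hx : f x = x
  · rw [hx]; exact MulAction.mem_orbit_self x
  · have hxb : x ≠ b := by rintro rfl; exact hx hfb
    have hfxb : f x ≠ b := by
      intro h
      apply hxb
      apply f.injective
      rw [h, hfb]
    have hmem : Equiv.swap x (f x) ∈ {σ : Equiv.Perm β | σ.IsSwap ∧ σ b = b} :=
      ⟨⟨x, f x, fun h => hx h.symm, rfl⟩, Equiv.swap_apply_of_ne_of_ne hxb.symm hfxb.symm⟩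
    exact ⟨⟨Equiv.swap x (f x), Subgroup.subset_closure hmem⟩, Equiv.swap_apply_left x (f x)⟩

theorem eq_of_le_of_index_eq {G : Type*} [Group G] [Finite G] (H K : Subgroup G) (hle : H ≤ K)
    (hidx : H.index = K.index) : H = K := by
  apply le_antisymm hle
  rw [← Subgroup.relIndex_eq_one]
  have h := Subgroup.relIndex_mul_index hle
  rw [hidx] at h
  have hK : K.index ≠ 0 := Subgroup.index_ne_zero_of_finite
  have : H.relIndex K * K.index = 1 * K.index := by rw [h, one_mul]
  exact Nat.eq_of_mul_eq_mul_right (Nat.pos_of_ne_zero hK) this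

theorem index_stabilizer_set {Ω : Type*} [Fintype Ω] [DecidableEq Ω] (s : Finset Ω) :
    (MulAction.stabilizer (Equiv.Perm Ω) (s : Set Ω)).index = (Fintype.card Ω).choose s.card := by
  have h1 := Set.powersetCard.stabilizer_coe (G := Equiv.Perm Ω) (Set.powersetCard.ofCard (s := s) rfl)
  have h2 : ((Set.powersetCard.ofCard (s := s) rfl : Set.powersetCard Ω s.card) : Set Ω) = (s : Set Ω) := rfl
  rw [h2] at h1
  rw [← h1]
  have := Set.powersetCard.isPretransitive (α := Ω) (n := s.card)
  rw [MulAction.index_stabilizer_of_transitive, Set.powersetCard.card, Nat.card_eq_fintype_card]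

theorem fixed_point_of_swap_generated {Ω : Type*} [Fintype Ω] [DecidableEq Ω]
    (H : Subgroup (Equiv.Perm Ω)) (S : Set (Equiv.Perm Ω)) (hS : ∀ σ ∈ S, σ.IsSwap)
    (hH : H = Subgroup.closure S)
    (hidx : H.index = Fintype.card Ω) (hn : 2 ≤ Fintype.card Ω) :
    ∃ x : Ω, H = MulAction.stabilizer (Equiv.Perm Ω) x := by
  have hne : H ≠ ⊤ := by
    intro h
    rw [h, Subgroup.index_top] at hidx
    omega
  have hnt : ¬ MulAction.IsPretransitive H Ω := by
    intro h
    apply hne
    rw [hH]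
    rw [hH] at h
    exact closure_of_isSwap_of_isPretransitive hS
  have hex : ∃ x y : Ω, y ∉ MulAction.orbit H x := by
    by_contra hcon
    push Not at hcon
    apply hnt
    refine ⟨fun x y => ?_⟩
    exact hcon x y
  obtain ⟨x, y, hy⟩ := hex
  -- it suffices to find a point fixed by H
  suffices hfix : ∃ z : Ω, ∀ h ∈ H, h z = z by
    obtain ⟨z, hz⟩ := hfix
    refine ⟨z, eq_of_le_of_index_eq _ _ (fun h hh => hz h hh) ?_⟩
    rw [hidx, MulAction.index_stabilizer_of_transitive, Nat.card_eq_fintype_card]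
  classical
  set O : Set Ω := MulAction.orbit H x with hO
  have hOinv : ∀ h ∈ H, ∀ z, h z ∈ O ↔ z ∈ O := by
    intro h hh z
    have h1 : MulAction.orbit H (h z) = MulAction.orbit H z :=
      MulAction.orbit_smul (⟨h, hh⟩ : H) z
    rw [hO, ← MulAction.orbit_eq_iff, ← MulAction.orbit_eq_iff, h1]
  set s : Finset Ω := O.toFinset with hs
  have hsO : (s : Set Ω) = O := by simp [hs]
  have hle : H ≤ MulAction.stabilizer (Equiv.Perm Ω) (s : Set Ω) := by
    intro h hh
    rw [MulAction.mem_stabilizer_iff, hsO]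
    ext z
    rw [Set.mem_smul_set_iff_inv_smul_mem]
    exact hOinv h⁻¹ (H.inv_mem hh) z
  have hdvd := Subgroup.index_dvd_of_le hle
  rw [index_stabilizer_set, hidx] at hdvd
  have hle' := Nat.le_of_dvd (by omega) hdvd
  have hxs : x ∈ s := by
    rw [← Finset.mem_coe, hsO]
    exact MulAction.mem_orbit_self x
  have hys : y ∉ s := by
    rw [← Finset.mem_coe, hsO]
    exact hy
  have hk1 : 1 ≤ s.card := Finset.card_pos.mpr ⟨x, hxs⟩
  have hk2 : s.card < Fintype.card Ω := by
    rw [← Finset.card_univ]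
    apply Finset.card_lt_card
    rw [Finset.ssubset_univ_iff]
    intro h
    rw [h] at hys
    exact hys (Finset.mem_univ y)
  have hk : s.card = 1 ∨ s.card + 1 = Fintype.card Ω := by
    by_contra hcon
    push Not at hcon
    have := lt_choose (Fintype.card Ω) s.card (by omega) (by omega)
    omega
  rcases hk with hk | hk
  · refine ⟨x, fun h hh => ?_⟩
    rw [Finset.card_eq_one] at hk
    obtain ⟨a, ha⟩ := hk
    have h1 : h x ∈ s := by
      rw [← Finset.mem_coe, hsO, hOinv h hh, ← hsO]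
      exact hxs
    rw [ha] at h1 hxs
    rw [Finset.mem_singleton] at h1 hxs
    rw [h1, hxs]
  · refine ⟨y, fun h hh => ?_⟩
    have hc : sᶜ.card = 1 := by
      rw [Finset.card_compl]; omega
    rw [Finset.card_eq_one] at hc
    obtain ⟨a, ha⟩ := hc
    have h1 : h y ∈ sᶜ := by
      rw [Finset.mem_compl, ← Finset.mem_coe, hsO, hOinv h hh]
      exact hy
    have h2 : y ∈ sᶜ := Finset.mem_compl.mpr hys
    rw [ha] at h1 h2
    rw [Finset.mem_singleton] at h1 h2
    rw [h1, h2]

theorem main_large {Ω : Type*} [Fintype Ω] [DecidableEq Ω] (h5 : 5 ≤ Fintype.card Ω)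
    (h6 : Fintype.card Ω ≠ 6)
    (H : Subgroup (Equiv.Perm Ω)) (hH : H.index = Fintype.card Ω) :
    ∃ x : Ω, H = MulAction.stabilizer (Equiv.Perm Ω) x := by
  classical
  letI : Fintype (Equiv.Perm Ω ⧸ H) := Fintype.ofFinite _
  set act := MulAction.toPermHom (Equiv.Perm Ω) (Equiv.Perm Ω ⧸ H) with hact
  have hcore : H.normalCore = ⊥ := by
    by_contra hne
    have hnt : Nontrivial H.normalCore := (Subgroup.nontrivial_iff_ne_bot _).mpr hne
    have hle : alternatingGroup Ω ≤ H.normalCore :=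
      Equiv.Perm.alternatingGroup_le_of_normal (by rw [Nat.card_eq_fintype_card]; exact h5) hnt
    have hle' : alternatingGroup Ω ≤ H := hle.trans H.normalCore_le
    have hdvd : H.index ∣ (alternatingGroup Ω).index := Subgroup.index_dvd_of_le hle'
    have hn2 : Nontrivial Ω := Fintype.one_lt_card_iff_nontrivial.mp (by omega)
    rw [alternatingGroup.index_eq_two] at hdvd
    have := Nat.le_of_dvd (by norm_num) hdvd
    omega
  have hinj : Function.Injective act := by
    rw [← MonoidHom.ker_eq_bot_iff, hact, ← Subgroup.normalCore_eq_ker, hcore]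
  have hcard' : Fintype.card (Equiv.Perm Ω ⧸ H) = Fintype.card Ω := by
    rw [← Nat.card_eq_fintype_card]; exact hH
  have hbij : Function.Bijective act := by
    rw [Fintype.bijective_iff_injective_and_card]
    refine ⟨hinj, ?_⟩
    rw [Fintype.card_perm, Fintype.card_perm, hcard']
  set Φ : Equiv.Perm Ω ≃* Equiv.Perm (Equiv.Perm Ω ⧸ H) := MulEquiv.ofBijective act hbij with hΦ
  set pt : Equiv.Perm Ω ⧸ H := ((1 : Equiv.Perm Ω) : Equiv.Perm Ω ⧸ H) with hpt
  have hHstab : ∀ h, h ∈ H ↔ Φ h ∈ MulAction.stabilizer (Equiv.Perm (Equiv.Perm Ω ⧸ H)) pt := by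
    intro h
    have h1 : Φ h ∈ MulAction.stabilizer (Equiv.Perm (Equiv.Perm Ω ⧸ H)) pt ↔ h • pt = pt := by
      rw [MulAction.mem_stabilizer_iff]
      rfl
    rw [h1, ← MulAction.mem_stabilizer_iff, hpt, MulAction.stabilizer_quotient]
  apply fixed_point_of_swap_generated H
    (Φ.symm '' {σ | σ.IsSwap ∧ σ pt = pt}) ?_ ?_ hH (by omega)
  · rintro _ ⟨σ, hσ, rfl⟩
    exact isSwap_of_mulEquiv hcard' (by rw [hcard']; exact h6) Φ.symm σ hσ.1
  · apply le_antisymm
    · intro h hh
      have h1 := stabilizer_le_closure pt ((hHstab h).mp hh)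
      have h2 : Φ.symm (Φ h) ∈ (Subgroup.closure {σ | σ.IsSwap ∧ σ pt = pt}).map Φ.symm.toMonoidHom :=
        Subgroup.mem_map_of_mem _ h1
      rw [MonoidHom.map_closure] at h2
      simpa using h2
    · rw [Subgroup.closure_le]
      rintro _ ⟨σ, hσ, rfl⟩
      show Φ.symm σ ∈ H
      rw [hHstab, MulEquiv.apply_symm_apply]
      exact hσ.2

theorem main_tiny {Ω : Type*} [Fintype Ω] [DecidableEq Ω]
    (hn : (Fintype.card Ω)! = Fintype.card Ω)
    (H : Subgroup (Equiv.Perm Ω)) (hH : H.index = Fintype.card Ω) :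
    ∃ x : Ω, H = MulAction.stabilizer (Equiv.Perm Ω) x := by
  have hpos : 0 < Fintype.card Ω := by rw [← hn]; exact Nat.factorial_pos _
  obtain ⟨x⟩ := Fintype.card_pos_iff.mp hpos
  refine ⟨x, ?_⟩
  have key : ∀ K : Subgroup (Equiv.Perm Ω), K.index = Fintype.card Ω → K = ⊥ := by
    intro K hK
    have h1 := K.card_mul_index
    rw [hK, Nat.card_perm, Nat.card_eq_fintype_card (α := Ω), hn] at h1
    have h2 : Nat.card K = 1 := by
      have : Nat.card K * Fintype.card Ω = 1 * Fintype.card Ω := by rw [h1, one_mul]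
      exact Nat.eq_of_mul_eq_mul_right hpos this
    exact Subgroup.card_eq_one.mp h2
  rw [key H hH, key (MulAction.stabilizer (Equiv.Perm Ω) x)
    (by rw [MulAction.index_stabilizer_of_transitive, Nat.card_eq_fintype_card])]

theorem main_small {Ω : Type*} [Fintype Ω] [DecidableEq Ω] (p : ℕ) (hp : p.Prime)
    (hn : Fintype.card Ω = p + 1) (hfac : (p - 1)! ≤ 2)
    (H : Subgroup (Equiv.Perm Ω)) (hH : H.index = Fintype.card Ω) :
    ∃ x : Ω, H = MulAction.stabilizer (Equiv.Perm Ω) x := by
  have hp2 := hp.two_le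
  -- order of H
  have hcardH : Nat.card H = p ! := by
    have h1 := H.card_mul_index
    rw [hH, Nat.card_perm, Nat.card_eq_fintype_card (α := Ω), hn, Nat.factorial_succ, mul_comm] at h1
    exact Nat.eq_of_mul_eq_mul_left (by omega) h1
  have hpdvd : p ∣ Nat.card H := by
    rw [hcardH]; exact Nat.dvd_factorial hp.pos le_rfl
  have : Fact p.Prime := ⟨hp⟩
  obtain ⟨c, hc⟩ := exists_prime_orderOf_dvd_card' p hpdvd
  -- the subgroup generated by c is normal in H
  have hPcard : Nat.card (Subgroup.zpowers c) = p := by rw [Nat.card_zpowers, hc]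
  have hPidx : (Subgroup.zpowers c).index ≤ 2 := by
    have h1 := (Subgroup.zpowers c).card_mul_index
    rw [hPcard, hcardH] at h1
    have h2 : p ! = p * (p - 1)! := by
      obtain ⟨q, rfl⟩ : ∃ q, p = q + 1 := ⟨p - 1, by omega⟩
      rw [Nat.factorial_succ]; rfl
    rw [h2] at h1
    have := Nat.eq_of_mul_eq_mul_left hp.pos h1
    omega
  have hPnormal : (Subgroup.zpowers c).Normal := by
    have h0 : (Subgroup.zpowers c).index ≠ 0 := Subgroup.index_ne_zero_of_finite
    rcases (by omega : (Subgroup.zpowers c).index = 1 ∨ (Subgroup.zpowers c).index = 2) with h | h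
    · rw [Subgroup.index_eq_one] at h
      rw [h]; infer_instance
    · exact Subgroup.normal_of_index_eq_two h
  -- cycle type of c
  have hord : orderOf (c : Equiv.Perm Ω) = p := by rw [Subgroup.orderOf_coe, hc]
  have hprime : (orderOf (c : Equiv.Perm Ω)).Prime := by rw [hord]; exact hp
  obtain ⟨k, hk⟩ := Equiv.Perm.cycleType_prime_order hprime
  rw [hord] at hk
  have hsupp : (c : Equiv.Perm Ω).support.card = p := by
    have h1 := Equiv.Perm.sum_cycleType (c : Equiv.Perm Ω)
    rw [hk, Multiset.sum_replicate, smul_eq_mul] at h1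
    have h2 : (c : Equiv.Perm Ω).support.card ≤ Fintype.card Ω := Finset.card_le_univ _
    rw [hn] at h2
    have hk0 : k = 0 := by
      by_contra hk0
      have : 2 * p ≤ (k + 1) * p := Nat.mul_le_mul_right p (by omega)
      omega
    rw [hk0] at h1
    omega
  have hcompl : ((c : Equiv.Perm Ω).support)ᶜ.card = 1 := by
    rw [Finset.card_compl, hsupp, hn]; omega
  obtain ⟨x, hx⟩ := Finset.card_eq_one.mp hcompl
  have hfixiff : ∀ y : Ω, (c : Equiv.Perm Ω) y = y ↔ y = x := by
    intro y
    rw [← Equiv.Perm.notMem_support, ← Finset.mem_compl, hx, Finset.mem_singleton]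
  -- H fixes x
  have hfix : ∀ h ∈ H, h x = x := by
    intro h hh
    have hmem : (⟨h, hh⟩ : H)⁻¹ * c * (⟨h, hh⟩ : H)⁻¹⁻¹ ∈ Subgroup.zpowers c :=
      hPnormal.conj_mem c (Subgroup.mem_zpowers c) _
    rw [Subgroup.mem_zpowers_iff] at hmem
    obtain ⟨j, hj⟩ := hmem
    have hj' : ((c : Equiv.Perm Ω)) ^ j = h⁻¹ * (c : Equiv.Perm Ω) * h := by
      have := congrArg (Subtype.val) hj
      simpa using this
    have hcx : ((c : Equiv.Perm Ω) ^ j) x = x :=
      Equiv.Perm.zpow_apply_eq_self_of_apply_eq_self ((hfixiff x).mpr rfl) j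
    rw [hj'] at hcx
    have h3 : (c : Equiv.Perm Ω) (h x) = h x := by
      have : h (h⁻¹ ((c : Equiv.Perm Ω) (h x))) = h x := by
        have h4 : (h⁻¹ * (c : Equiv.Perm Ω) * h) x = h⁻¹ ((c : Equiv.Perm Ω) (h x)) := rfl
        rw [← h4, hcx]
      simpa using this
    exact (hfixiff (h x)).mp h3
  refine ⟨x, eq_of_le_of_index_eq _ _ (fun h hh => hfix h hh) ?_⟩
  rw [hH, MulAction.index_stabilizer_of_transitive, Nat.card_eq_fintype_card]

/-- Let Ω be a finite set whose size n is not 6. Then every subgroup of the symmetric group on Ω of index n is the stabilizer of a point. -/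
theorem result {Ω : Type*} [Fintype Ω] [DecidableEq Ω] (h6 : Fintype.card Ω ≠ 6)
    (H : Subgroup (Equiv.Perm Ω)) (hH : H.index = Fintype.card Ω) :
    ∃ x : Ω, H = MulAction.stabilizer (Equiv.Perm Ω) x := by
  rcases (by omega : Fintype.card Ω = 0 ∨ Fintype.card Ω = 1 ∨ Fintype.card Ω = 2 ∨
      Fintype.card Ω = 3 ∨ Fintype.card Ω = 4 ∨ 5 ≤ Fintype.card Ω) with h | h | h | h | h | h
  · exfalso
    rw [h] at hH
    exact Subgroup.index_ne_zero_of_finite hH
  · exact main_tiny (by rw [h]; rfl) H hH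
  · exact main_tiny (by rw [h]; rfl) H hH
  · exact main_small 2 Nat.prime_two h (by decide) H hH
  · exact main_small 3 Nat.prime_three h (by decide) H hH
  · exact main_large h h6 H hH

end Cfsg.Agent.S5911
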