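import Cfsg.Statements.S5912
import Cfsg.Agent.S5911

set_option autoImplicit false
set_option linter.unusedSectionVars false
set_option linter.style.haveILetI false
open Cfsg
open scoped Pointwise
open Cfsg.Agent.S5911

namespace Cfsg.Agent.S5912

theorem centralizer_card_six {α : Type*} [Fintype α] [DecidableEq α] (hα : Fintype.card α = 6)
    (t : Equiv.Perm α) (k : ℕ) (hk : t.cycleType = Multiset.replicate (k + 1) 2) :
    Nat.card (Subgroup.centralizer {t}) = (6 - 2 * (k + 1)).factorial * 2 ^ (k + 1) * (k + 1).factorial := by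
  rw [Equiv.Perm.nat_card_centralizer, hk, hα]
  simp only [Multiset.sum_replicate, smul_eq_mul, Multiset.prod_replicate,
    Multiset.toFinset_replicate]
  rw [if_neg (by omega)]
  simp only [Finset.prod_singleton, Multiset.count_replicate_self]
  rw [mul_comm (k + 1) 2]

theorem cycleType_of_mulEquiv_six {α β : Type*} [Fintype α] [DecidableEq α] [Fintype β]
    [DecidableEq β] (hα : Fintype.card α = 6) (hβ : Fintype.card β = 6)
    (ψ : Equiv.Perm α ≃* Equiv.Perm β) (t : Equiv.Perm α)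
    (ht : t.cycleType = {2} ∨ t.cycleType = {2, 2, 2}) :
    (ψ t).cycleType = {2} ∨ (ψ t).cycleType = {2, 2, 2} := by
  have hcent : Nat.card (Subgroup.centralizer {t}) = 48 := by
    rcases ht with ht | ht
    · rw [centralizer_card_six hα t 0 (by rw [ht]; rfl)]; rfl
    · rw [centralizer_card_six hα t 2 (by rw [ht]; rfl)]; rfl
  have hordt : orderOf t = 2 := by
    rw [← Equiv.Perm.lcm_cycleType]
    rcases ht with ht | ht <;> rw [ht] <;> rfl
  have hord : orderOf (ψ t) = 2 := by rw [MulEquiv.orderOf_eq, hordt]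
  have hprime : (orderOf (ψ t)).Prime := by rw [hord]; exact Nat.prime_two
  obtain ⟨k, hk⟩ := Equiv.Perm.cycleType_prime_order hprime
  rw [hord] at hk
  have hsum : 2 * (k + 1) ≤ 6 := by
    have h1 := Equiv.Perm.sum_cycleType (ψ t)
    rw [hk, Multiset.sum_replicate, smul_eq_mul] at h1
    have h2 : (ψ t).support.card ≤ Fintype.card β := Finset.card_le_univ _
    omega
  have hc := centralizer_card_six hβ (ψ t) k hk
  rw [card_centralizer_mulEquiv, hcent] at hc
  have hk3 : k ≤ 2 := by omega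
  interval_cases k
  · left; rw [hk]; rfl
  · exfalso; revert hc; decide
  · right; rw [hk]; rfl

theorem card_cycleType_two {α : Type*} [Fintype α] [DecidableEq α] (hα : Fintype.card α = 6) :
    (Finset.univ.filter (fun g : Equiv.Perm α => g.cycleType = {2})).card = 15 := by
  rw [Equiv.Perm.card_of_cycleType, hα]
  rw [if_pos (by decide)]
  decide

theorem card_cycleType_222 {α : Type*} [Fintype α] [DecidableEq α] (hα : Fintype.card α = 6) :
    (Finset.univ.filter (fun g : Equiv.Perm α => g.cycleType = {2, 2, 2})).card = 15 := by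
  rw [Equiv.Perm.card_of_cycleType, hα]
  rw [if_pos (by decide)]
  decide

theorem ne_222 : ({2} : Multiset ℕ) ≠ {2, 2, 2} := by decide

/-- First half of the exotic case: all swaps go to triple transpositions, in both directions. -/
theorem caseB_swaps {α β : Type*} [Fintype α] [DecidableEq α] [Fintype β]
    [DecidableEq β] (hα : Fintype.card α = 6) (hβ : Fintype.card β = 6)
    (ψ : Equiv.Perm α ≃* Equiv.Perm β) (s₀ : Equiv.Perm α) (hs₀ : s₀.IsSwap)
    (h : ¬ (ψ s₀).IsSwap) :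
    (∀ s : Equiv.Perm α, s.IsSwap → (ψ s).cycleType = {2, 2, 2}) ∧
    (∀ s : Equiv.Perm β, s.IsSwap → (ψ.symm s).cycleType = {2, 2, 2}) := by
  have h1 : ∀ s : Equiv.Perm α, s.IsSwap → (ψ s).cycleType = {2, 2, 2} := by
    intro s hs
    have hconj : IsConj s₀ s := by
      rw [Equiv.Perm.isConj_iff_cycleType_eq, Equiv.Perm.isSwap_iff_cycleType.mp hs₀,
        Equiv.Perm.isSwap_iff_cycleType.mp hs]
    have hconj' : IsConj (ψ s₀) (ψ s) := by
      rw [isConj_iff] at hconj ⊢
      obtain ⟨c, hc⟩ := hconj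
      exact ⟨ψ c, by rw [← hc]; simp⟩
    rw [Equiv.Perm.isConj_iff_cycleType_eq] at hconj'
    rw [← hconj']
    rcases cycleType_of_mulEquiv_six hα hβ ψ s₀ (Or.inl (Equiv.Perm.isSwap_iff_cycleType.mp hs₀))
      with h2 | h2
    · exact absurd (Equiv.Perm.isSwap_iff_cycleType.mpr h2) h
    · exact h2
  refine ⟨h1, ?_⟩
  intro s hs
  rcases cycleType_of_mulEquiv_six hβ hα ψ.symm s (Or.inl (Equiv.Perm.isSwap_iff_cycleType.mp hs))
    with h2 | h2
  · exfalso
    have h3 := h1 (ψ.symm s) (Equiv.Perm.isSwap_iff_cycleType.mpr h2)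
    rw [MulEquiv.apply_symm_apply, Equiv.Perm.isSwap_iff_cycleType.mp hs] at h3
    exact ne_222 h3
  · exact h2

/-- If all swaps of `β` are mapped by `χ` to triple transpositions of `α`,
then every triple transposition of `α` is the image of a swap. -/
theorem surj_of_swaps_to_222 {α β : Type*} [Fintype α] [DecidableEq α] [Fintype β]
    [DecidableEq β] (hα : Fintype.card α = 6) (hβ : Fintype.card β = 6)
    (χ : Equiv.Perm β ≃* Equiv.Perm α)
    (h : ∀ s : Equiv.Perm β, s.IsSwap → (χ s).cycleType = {2, 2, 2})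
    (t : Equiv.Perm α) (ht : t.cycleType = {2, 2, 2}) : (χ.symm t).IsSwap := by
  classical
  set S := Finset.univ.filter (fun g : Equiv.Perm β => g.cycleType = {2}) with hS
  set T := Finset.univ.filter (fun g : Equiv.Perm α => g.cycleType = {2, 2, 2}) with hT
  have himg : S.image χ = T := by
    apply Finset.eq_of_subset_of_card_le
    · intro x hx
      rw [Finset.mem_image] at hx
      obtain ⟨s, hs, rfl⟩ := hx
      rw [hS, Finset.mem_filter] at hs
      rw [hT, Finset.mem_filter]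
      exact ⟨Finset.mem_univ _, h s (Equiv.Perm.isSwap_iff_cycleType.mpr hs.2)⟩
    · rw [Finset.card_image_of_injective _ χ.injective, hS, hT, card_cycleType_two hβ,
        card_cycleType_222 hα]
  have htT : t ∈ T := by rw [hT, Finset.mem_filter]; exact ⟨Finset.mem_univ _, ht⟩
  rw [← himg, Finset.mem_image] at htT
  obtain ⟨s, hs, rfl⟩ := htT
  rw [MulEquiv.symm_apply_apply]
  rw [hS, Finset.mem_filter] at hs
  exact Equiv.Perm.isSwap_iff_cycleType.mpr hs.2

theorem stab_of_swapPres {α β : Type*} [Fintype α] [DecidableEq α] [Fintype β] [DecidableEq β]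
    (hcard : Fintype.card α = Fintype.card β) (h2 : 2 ≤ Fintype.card α)
    (ψ : Equiv.Perm α ≃* Equiv.Perm β)
    (hψ : ∀ s : Equiv.Perm β, s.IsSwap → (ψ.symm s).IsSwap) (b : β) :
    ∃ a : α, ∀ g : Equiv.Perm α, g a = a ↔ ψ g b = b := by
  set K : Subgroup (Equiv.Perm α) :=
    (MulAction.stabilizer (Equiv.Perm β) b).comap ψ.toMonoidHom with hK
  have hKmem : ∀ g, g ∈ K ↔ ψ g b = b := fun g => Iff.rfl
  have hidx : K.index = Fintype.card α := by
    rw [hK, Subgroup.index_comap_of_surjective _ ψ.surjective,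
      MulAction.index_stabilizer_of_transitive, Nat.card_eq_fintype_card, hcard]
  have hgen : K = Subgroup.closure (ψ.symm '' {σ | σ.IsSwap ∧ σ b = b}) := by
    apply le_antisymm
    · intro g hg
      have h1 := stabilizer_le_closure b (show ψ g ∈ MulAction.stabilizer (Equiv.Perm β) b from hg)
      have h3 : ψ.symm (ψ g) ∈ (Subgroup.closure {σ | σ.IsSwap ∧ σ b = b}).map ψ.symm.toMonoidHom :=
        Subgroup.mem_map_of_mem _ h1
      rw [MonoidHom.map_closure] at h3
      simpa using h3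
    · rw [Subgroup.closure_le]
      rintro _ ⟨σ, hσ, rfl⟩
      show ψ.symm σ ∈ K
      rw [hKmem, MulEquiv.apply_symm_apply]
      exact hσ.2
  obtain ⟨a, ha⟩ := fixed_point_of_swap_generated K _
    (by rintro _ ⟨σ, hσ, rfl⟩; exact hψ σ hσ.1) hgen hidx h2
  refine ⟨a, fun g => ?_⟩
  rw [← hKmem, ha]
  rfl

theorem divisors_aux : ∀ n ∈ Nat.divisors 120, n % 5 = 1 → n = 1 ∨ n = 6 := by decide

theorem card_sylow_five : Nat.card (Sylow 5 (Equiv.Perm (Fin 5))) = 6 := by
  haveI : Fact (Nat.Prime 5) := ⟨by norm_num⟩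
  have hcardP : Nat.card (Equiv.Perm (Fin 5)) = 120 := by
    rw [Nat.card_perm, Nat.card_fin]; rfl
  obtain ⟨Q⟩ : Nonempty (Sylow 5 (Equiv.Perm (Fin 5))) := inferInstance
  have h1 : Nat.card (Sylow 5 (Equiv.Perm (Fin 5))) ∣ 120 := by
    rw [← hcardP]
    exact (Sylow.card_dvd_index Q).trans (Subgroup.index_dvd_card _)
  have h2 : Nat.card (Sylow 5 (Equiv.Perm (Fin 5))) % 5 = 1 := card_sylow_modEq_one 5 _
  rcases divisors_aux _ (Nat.mem_divisors.mpr ⟨h1, by norm_num⟩) h2 with h | h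
  · exfalso
    have hsub : Subsingleton (Sylow 5 (Equiv.Perm (Fin 5))) :=
      (Nat.card_eq_one_iff_unique.mp h).1
    have hnorm : (Q : Subgroup (Equiv.Perm (Fin 5))).Normal := Sylow.normal_of_subsingleton Q
    have hne : (Q : Subgroup (Equiv.Perm (Fin 5))) ≠ ⊥ :=
      Sylow.ne_bot_of_dvd_card Q (by rw [hcardP]; norm_num)
    have hnt : Nontrivial (Q : Subgroup (Equiv.Perm (Fin 5))) :=
      (Subgroup.nontrivial_iff_ne_bot _).mpr hne
    have hle : alternatingGroup (Fin 5) ≤ Q :=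
      Equiv.Perm.alternatingGroup_le_of_normal (by simp) hnt
    have hdvd := Subgroup.card_dvd_of_le hle
    obtain ⟨k, hk⟩ := (Q.2 : IsPGroup 5 (Q : Subgroup (Equiv.Perm (Fin 5)))).exists_card_eq
    have h60 : 2 * Nat.card (alternatingGroup (Fin 5)) = 120 := by
      rw [two_mul_nat_card_alternatingGroup, hcardP]
    have h2dvd : 2 ∣ Nat.card (alternatingGroup (Fin 5)) := ⟨30, by omega⟩
    have : 2 ∣ 5 ^ k := by
      have h3 : Nat.card (alternatingGroup (Fin 5)) ∣ 5 ^ k := by rw [← hk]; exact hdvd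
      exact h2dvd.trans h3
    have := Nat.Prime.dvd_of_dvd_pow Nat.prime_two this
    omega
  · exact h

theorem exists_transitive_index_six {Ω : Type*} [Fintype Ω] [DecidableEq Ω]
    (h6 : Fintype.card Ω = 6) :
    ∃ H₂ : Subgroup (Equiv.Perm Ω), H₂.index = 6 ∧ ∀ x y : Ω, ∃ g ∈ H₂, g x = y := by
  classical
  haveI : Fact (Nat.Prime 5) := ⟨by norm_num⟩
  have hfin : Finite (Sylow 5 (Equiv.Perm (Fin 5))) := inferInstance
  letI : Fintype (Sylow 5 (Equiv.Perm (Fin 5))) := Fintype.ofFinite _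
  have hcardY : Fintype.card (Sylow 5 (Equiv.Perm (Fin 5))) = 6 := by
    rw [← Nat.card_eq_fintype_card]; exact card_sylow_five
  have hcardP : Nat.card (Equiv.Perm (Fin 5)) = 120 := by
    rw [Nat.card_perm, Nat.card_fin]; rfl
  let e : Sylow 5 (Equiv.Perm (Fin 5)) ≃ Ω := Fintype.equivOfCardEq (by rw [hcardY, h6])
  set ρ := MulAction.toPermHom (Equiv.Perm (Fin 5)) (Sylow 5 (Equiv.Perm (Fin 5))) with hρ
  -- ρ is injective
  have hinj : Function.Injective ρ := by
    rw [← MonoidHom.ker_eq_bot_iff]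
    by_contra hne
    have hnt : Nontrivial ρ.ker := (Subgroup.nontrivial_iff_ne_bot _).mpr hne
    have hle : alternatingGroup (Fin 5) ≤ ρ.ker :=
      Equiv.Perm.alternatingGroup_le_of_normal (by simp) hnt
    obtain ⟨Q⟩ : Nonempty (Sylow 5 (Equiv.Perm (Fin 5))) := inferInstance
    have hle2 : ρ.ker ≤ MulAction.stabilizer (Equiv.Perm (Fin 5)) Q := by
      intro g hg
      rw [MonoidHom.mem_ker] at hg
      rw [MulAction.mem_stabilizer_iff]
      have := congrArg (fun σ => σ Q) hg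
      exact this
    have hdvd := Subgroup.index_dvd_of_le (hle.trans hle2)
    rw [MulAction.index_stabilizer_of_transitive, alternatingGroup.index_eq_two,
      card_sylow_five] at hdvd
    omega
  set ρ' : Equiv.Perm (Fin 5) →* Equiv.Perm Ω := e.permCongrHom.toMonoidHom.comp ρ with hρ'
  have hinj' : Function.Injective ρ' := by
    rw [hρ']
    exact e.permCongrHom.injective.comp hinj
  refine ⟨ρ'.range, ?_, ?_⟩
  · have h1 := (ρ'.range).card_mul_index
    have h2 : Nat.card ρ'.range = 120 := by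
      rw [← hcardP]
      exact Nat.card_congr (Equiv.ofInjective ρ' hinj').symm
    rw [h2, Nat.card_perm, Nat.card_eq_fintype_card, h6] at h1
    have : (6 : ℕ).factorial = 720 := rfl
    omega
  · intro x y
    obtain ⟨g, hg⟩ := MulAction.exists_smul_eq (Equiv.Perm (Fin 5)) (e.symm x) (e.symm y)
    refine ⟨ρ' g, ⟨g, rfl⟩, ?_⟩
    show e (g • (e.symm x)) = y
    rw [hg, Equiv.apply_symm_apply]

theorem cosetEquiv_exists {Ω : Type*} [Fintype Ω] [DecidableEq Ω] (h5 : 5 ≤ Fintype.card Ω)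
    (H : Subgroup (Equiv.Perm Ω)) (hH : H.index = Fintype.card Ω) :
    ∃ Φ : Equiv.Perm Ω ≃* Equiv.Perm (Equiv.Perm Ω ⧸ H),
      ∀ (g : Equiv.Perm Ω) (q : Equiv.Perm Ω ⧸ H), Φ g q = g • q := by
  classical
  letI : Fintype (Equiv.Perm Ω ⧸ H) := Fintype.ofFinite _
  set act := MulAction.toPermHom (Equiv.Perm Ω) (Equiv.Perm Ω ⧸ H) with hact
  have hcore : H.normalCore = ⊥ := by
    by_contra hne
    have hnt : Nontrivial H.normalCore := (Subgroup.nontrivial_iff_ne_bot _).mpr hne
    have hle : alternatingGroup Ω ≤ H.normalCore :=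
      Equiv.Perm.alternatingGroup_le_of_normal (by rw [Nat.card_eq_fintype_card]; exact h5) hnt
    have hle' : alternatingGroup Ω ≤ H := hle.trans H.normalCore_le
    have hdvd : H.index ∣ (alternatingGroup Ω).index := Subgroup.index_dvd_of_le hle'
    have hn2 : Nontrivial Ω := Fintype.one_lt_card_iff_nontrivial.mp (by omega)
    rw [alternatingGroup.index_eq_two] at hdvd
    have := Nat.le_of_dvd (by norm_num) hdvd
    omega
  have hinj : Function.Injective act := by
    rw [← MonoidHom.ker_eq_bot_iff, hact, ← Subgroup.normalCore_eq_ker, hcore]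
  have hcard' : Fintype.card (Equiv.Perm Ω ⧸ H) = Fintype.card Ω := by
    rw [← Nat.card_eq_fintype_card]; exact hH
  have hbij : Function.Bijective act := by
    rw [Fintype.bijective_iff_injective_and_card]
    refine ⟨hinj, ?_⟩
    rw [Fintype.card_perm, Fintype.card_perm, hcard']
  exact ⟨MulEquiv.ofBijective act hbij, fun g q => rfl⟩

theorem dichotomy {Ω : Type*} [Fintype Ω] [DecidableEq Ω] (h6 : Fintype.card Ω = 6)
    (H : Subgroup (Equiv.Perm Ω)) (hH : H.index = 6)
    [Fintype (Equiv.Perm Ω ⧸ H)] [DecidableEq (Equiv.Perm Ω ⧸ H)]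
    (Φ : Equiv.Perm Ω ≃* Equiv.Perm (Equiv.Perm Ω ⧸ H))
    (hΦ : ∀ (g : Equiv.Perm Ω) (q : Equiv.Perm Ω ⧸ H), Φ g q = g • q) :
    (∃ x : Ω, H = MulAction.stabilizer (Equiv.Perm Ω) x) ∨
      (∃ s : Equiv.Perm (Equiv.Perm Ω ⧸ H), s.IsSwap ∧ ¬ (Φ.symm s).IsSwap) := by
  by_cases hall : ∀ s : Equiv.Perm (Equiv.Perm Ω ⧸ H), s.IsSwap → (Φ.symm s).IsSwap
  · left
    have hcard' : Fintype.card (Equiv.Perm Ω ⧸ H) = 6 := by
      rw [← Nat.card_eq_fintype_card]; exact hH
    obtain ⟨a, ha⟩ := stab_of_swapPres (by rw [h6, hcard']) (by omega) Φ hall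
      ((1 : Equiv.Perm Ω) : Equiv.Perm Ω ⧸ H)
    refine ⟨a, ?_⟩
    ext g
    rw [MulAction.mem_stabilizer_iff]
    show g ∈ H ↔ g a = a
    rw [ha g, hΦ, ← MulAction.mem_stabilizer_iff, MulAction.stabilizer_quotient]
  · right
    push Not at hall
    exact hall

theorem result {Ω : Type*} [Fintype Ω] [DecidableEq Ω] (h6 : Fintype.card Ω = 6) :
    ∃ H₁ H₂ : Subgroup (Equiv.Perm Ω), H₁.index = 6 ∧ H₂.index = 6 ∧
      (¬ ∃ g : Equiv.Perm Ω, Subgroup.map (MulAut.conj g).toMonoidHom H₁ = H₂) ∧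
      ∀ H : Subgroup (Equiv.Perm Ω), H.index = 6 →
        ∃ g : Equiv.Perm Ω, Subgroup.map (MulAut.conj g).toMonoidHom H₁ = H ∨ Subgroup.map (MulAut.conj g).toMonoidHom H₂ = H := by
  classical
  have hpos : 0 < Fintype.card Ω := by omega
  obtain ⟨x₀⟩ := Fintype.card_pos_iff.mp hpos
  have hnt : Nontrivial Ω := Fintype.one_lt_card_iff_nontrivial.mp (by omega)
  obtain ⟨H₂, hH₂idx, hH₂trans⟩ := exists_transitive_index_six h6
  have hH₁idx : (MulAction.stabilizer (Equiv.Perm Ω) x₀).index = 6 := by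
    rw [MulAction.index_stabilizer_of_transitive, Nat.card_eq_fintype_card, h6]
  have hconjstab : ∀ g : Equiv.Perm Ω,
      Subgroup.map (MulAut.conj g).toMonoidHom (MulAction.stabilizer (Equiv.Perm Ω) x₀) =
        MulAction.stabilizer (Equiv.Perm Ω) (g x₀) := by
    intro g
    exact (MulAction.stabilizer_smul_eq_stabilizer_map_conj g x₀).symm
  -- a transitive subgroup is not a point stabilizer
  have hnotstab : ∀ x : Ω, H₂ ≠ MulAction.stabilizer (Equiv.Perm Ω) x := by
    intro x hx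
    obtain ⟨y, hy⟩ := exists_ne x
    obtain ⟨k, hk, hky⟩ := hH₂trans x y
    rw [hx] at hk
    exact hy (hky.symm.trans hk)
  refine ⟨MulAction.stabilizer (Equiv.Perm Ω) x₀, H₂, hH₁idx, hH₂idx, ?_, ?_⟩
  · rintro ⟨g, hg⟩
    rw [hconjstab] at hg
    exact hnotstab _ hg.symm
  · intro H hH
    letI : Fintype (Equiv.Perm Ω ⧸ H) := Fintype.ofFinite _
    letI : Fintype (Equiv.Perm Ω ⧸ H₂) := Fintype.ofFinite _
    obtain ⟨Φ, hΦ⟩ := cosetEquiv_exists (by omega) H (by rw [hH, h6])
    obtain ⟨Φ₂, hΦ₂⟩ := cosetEquiv_exists (by omega) H₂ (by rw [hH₂idx, h6])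
    rcases dichotomy h6 H hH Φ hΦ with ⟨x, hx⟩ | ⟨s₁, hs₁, hs₁'⟩
    · obtain ⟨g, hg⟩ := MulAction.exists_smul_eq (Equiv.Perm Ω) x₀ x
      refine ⟨g, Or.inl ?_⟩
      rw [hconjstab, hx]
      congr 1
    · rcases dichotomy h6 H₂ hH₂idx Φ₂ hΦ₂ with ⟨x, hx⟩ | ⟨s₂, hs₂, hs₂'⟩
      · exact absurd hx (hnotstab x)
      · have hcard1 : Fintype.card (Equiv.Perm Ω ⧸ H) = 6 := by
          rw [← Nat.card_eq_fintype_card]; exact hH
        have hcard2 : Fintype.card (Equiv.Perm Ω ⧸ H₂) = 6 := by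
          rw [← Nat.card_eq_fintype_card]; exact hH₂idx
        have hB1 := caseB_swaps hcard1 h6 Φ.symm s₁ hs₁ hs₁'
        have hB2 := caseB_swaps hcard2 h6 Φ₂.symm s₂ hs₂ hs₂'
        have hψ : ∀ s : Equiv.Perm (Equiv.Perm Ω ⧸ H₂), s.IsSwap →
            ((Φ.symm.trans Φ₂).symm s).IsSwap := by
          intro s hs
          have h1 := hB2.1 s hs
          have h2 := surj_of_swaps_to_222 h6 hcard1 Φ.symm hB1.1 (Φ₂.symm s) h1
          exact h2
        obtain ⟨a, ha⟩ := stab_of_swapPres (by rw [hcard1, hcard2]) (by omega)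
          (Φ.symm.trans Φ₂) hψ ((1 : Equiv.Perm Ω) : Equiv.Perm Ω ⧸ H₂)
        obtain ⟨c, rfl⟩ := QuotientGroup.mk_surjective a
        have key : ∀ g : Equiv.Perm Ω, g ∈ H₂ ↔ c⁻¹ * g * c ∈ H := by
          intro g
          have h1 := ha (Φ g)
          have h2 : (Φ.symm.trans Φ₂) (Φ g) = Φ₂ g := by
            show Φ₂ (Φ.symm (Φ g)) = Φ₂ g
            rw [MulEquiv.symm_apply_apply]
          rw [h2, hΦ, hΦ₂] at h1
          have h3 : g • ((1 : Equiv.Perm Ω) : Equiv.Perm Ω ⧸ H₂) = ((1 : Equiv.Perm Ω) : Equiv.Perm Ω ⧸ H₂) ↔ g ∈ H₂ := by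
            rw [← MulAction.mem_stabilizer_iff, MulAction.stabilizer_quotient]
          rw [h3] at h1
          rw [← h1]
          show ((g * c : Equiv.Perm Ω) : Equiv.Perm Ω ⧸ H) = (c : Equiv.Perm Ω ⧸ H) ↔ _
          rw [eq_comm, QuotientGroup.eq, mul_assoc]
        refine ⟨c⁻¹, Or.inr ?_⟩
        ext x
        rw [Subgroup.mem_map_equiv]
        have : (MulAut.conj c⁻¹).symm x = c * x * c⁻¹ := by
          simp [MulAut.conj_symm_apply]
        rw [this, key]
        have : c⁻¹ * (c * x * c⁻¹) * c = x := by group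
        rw [this]

end Cfsg.Agent.S5912
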