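import Cfsg.Statements.S5913

set_option autoImplicit false
open Cfsg

namespace Cfsg.Agent.S5913

theorem center_eq_bot {S : Type*} [Group S] [IsSimpleGroup S] (hS : ¬ IsMulCommutative S) :
    Subgroup.center S = ⊥ := by
  rcases (inferInstance : (Subgroup.center S).Normal).eq_bot_or_eq_top with h | h
  · exact h
  · exfalso
    apply hS
    refine ⟨⟨fun a b => ?_⟩⟩
    have ha : a ∈ Subgroup.center S := by rw [h]; trivial
    exact ((Subgroup.mem_center_iff.mp ha) b).symm

theorem mulSingle_mem {S : Type*} [Group S] [IsSimpleGroup S] (hS : ¬ IsMulCommutative S) (n : ℕ)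
    (N : Subgroup (Fin n → S)) [hN : N.Normal] (x : Fin n → S) (hx : x ∈ N) (i : Fin n)
    (hxi : x i ≠ 1) (s : S) : Pi.mulSingle i s ∈ N := by
  have hc := center_eq_bot hS
  -- there is t not commuting with x i
  have hnc : x i ∉ Subgroup.center S := by
    rw [hc, Subgroup.mem_bot]; exact hxi
  rw [Subgroup.mem_center_iff] at hnc
  push Not at hnc
  obtain ⟨t, ht⟩ := hnc
  -- the comap of N along mulSingle i is a normal subgroup of S
  let Ni : Subgroup S := N.comap (MonoidHom.mulSingle (fun _ : Fin n => S) i)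
  have hNi : Ni.Normal := hN.comap _
  have hmem : t * x i * t⁻¹ * (x i)⁻¹ ∈ Ni := by
    show (MonoidHom.mulSingle (fun _ : Fin n => S) i) (t * x i * t⁻¹ * (x i)⁻¹) ∈ N
    have h1 : Pi.mulSingle i t * x * (Pi.mulSingle i t)⁻¹ * x⁻¹ ∈ N :=
      N.mul_mem (hN.conj_mem x hx _) (N.inv_mem hx)
    convert h1 using 1
    ext j
    by_cases hj : j = i
    · subst hj
      simp
    · simp [Pi.mulSingle_eq_of_ne hj]
  have hne : t * x i * t⁻¹ * (x i)⁻¹ ≠ 1 := by
    intro h
    apply ht
    have : t * x i * t⁻¹ = x i := by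
      rw [mul_inv_eq_one] at h; exact h
    calc t * x i = t * x i * t⁻¹ * t := by group
      _ = x i * t := by rw [this]
  have htop : Ni = ⊤ := by
    rcases hNi.eq_bot_or_eq_top with h | h
    · exfalso
      rw [h, Subgroup.mem_bot] at hmem
      exact hne hmem
    · exact h
  have : s ∈ Ni := by rw [htop]; trivial
  exact this

theorem result {S : Type*} [Group S] [IsSimpleGroup S] (hS : ¬ IsMulCommutative S) (n : ℕ)
    (N : Subgroup (Fin n → S)) [N.Normal] :
    ∃ T : Finset (Fin n), ∀ x : Fin n → S, x ∈ N ↔ ∀ i, i ∉ T → x i = 1 := by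
  classical
  refine ⟨Finset.univ.filter (fun i => ∃ x ∈ N, x i ≠ 1), fun x => ⟨?_, ?_⟩⟩
  · intro hx i hi
    by_contra hne
    apply hi
    simp only [Finset.mem_filter, Finset.mem_univ, true_and]
    exact ⟨x, hx, hne⟩
  · intro hx
    rw [← Finset.noncommProd_mulSingle x]
    apply Subgroup.noncommProd_mem
    intro i _
    by_cases hxi : x i = 1
    · rw [hxi, Pi.mulSingle_one]; exact N.one_mem
    · have hi : i ∈ Finset.univ.filter (fun i => ∃ x ∈ N, x i ≠ 1) := by
        by_contra hi
        exact hxi (hx i hi)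
      simp only [Finset.mem_filter, Finset.mem_univ, true_and] at hi
      obtain ⟨y, hy, hyi⟩ := hi
      exact mulSingle_mem hS n N y hy i hyi (x i)

end Cfsg.Agent.S5913
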