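import Cfsg.Statements.S5914
import Cfsg.Agent.S5913
import Cfsg.Agent.S0721

set_option autoImplicit false
open Cfsg

namespace Cfsg.Agent.S5914

section power
variable {S : Type*} [Group S] {n : ℕ}

/-- Coordinate permutations as automorphisms of `S^n`. -/
def permAut (σ : Equiv.Perm (Fin n)) : (Fin n → S) ≃* (Fin n → S) where
  toFun x := x ∘ σ
  invFun x := x ∘ σ.symm
  left_inv x := by ext i; simp
  right_inv x := by ext i; simp
  map_mul' _ _ := rfl

/-- Transvection automorphisms of `S^n` for commutative `S`: multiply coordinate `j` by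
coordinate `i`. -/
def transvAut (hc : ∀ a b : S, a * b = b * a) (i j : Fin n) (hij : i ≠ j) :
    (Fin n → S) ≃* (Fin n → S) where
  toFun x := x * Pi.mulSingle j (x i)
  invFun x := x * Pi.mulSingle j (x i)⁻¹
  left_inv x := by
    ext k
    by_cases hk : k = j
    · subst hk
      simp [Pi.mulSingle_eq_of_ne hij]
    · simp [Pi.mulSingle_eq_of_ne hk]
  right_inv x := by
    ext k
    by_cases hk : k = j
    · subst hk
      simp [Pi.mulSingle_eq_of_ne hij]
    · simp [Pi.mulSingle_eq_of_ne hk]
  map_mul' x y := by
    ext k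
    by_cases hk : k = j
    · subst hk
      simp only [Pi.mul_apply, Pi.mulSingle_eq_same]
      rw [mul_assoc, mul_assoc, hc (y k) (x i * y i), mul_assoc, hc (y i) (y k)]
    · simp [Pi.mulSingle_eq_of_ne hk]

/-- Subgroups of `S^n` (`S` simple) invariant under all automorphisms are trivial or everything. -/
theorem invariant_eq_bot_or_top [IsSimpleGroup S] (K : Subgroup (Fin n → S))
    (hK : ∀ α : (Fin n → S) ≃* (Fin n → S), ∀ x ∈ K, α x ∈ K) : K = ⊥ ∨ K = ⊤ := by
  classical
  by_cases hS : IsMulCommutative S
  · -- commutative case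
    have hc : ∀ a b : S, a * b = b * a := fun a b => hS.is_comm.comm a b
    by_cases hbot : K = ⊥
    · exact Or.inl hbot
    right
    obtain ⟨x, hxK, hx1⟩ := (Subgroup.ne_bot_iff_exists_ne_one).mp hbot |>
      fun ⟨x, hx⟩ => (⟨(x : Fin n → S), x.2, fun h => hx (Subtype.ext h)⟩ :
        ∃ x : Fin n → S, x ∈ K ∧ x ≠ 1)
    obtain ⟨i, hi⟩ : ∃ i, x i ≠ 1 := by
      by_contra h
      push Not at h
      exact hx1 (funext h)
    -- every s ≠ 1 generates S
    have hgen : ∀ s : S, s ≠ 1 → ∀ t : S, t ∈ Subgroup.zpowers s := by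
      intro s hs t
      have hnorm : (Subgroup.zpowers s).Normal :=
        ⟨fun a ha g => by rw [hc g a, mul_inv_cancel_right]; exact ha⟩
      rcases hnorm.eq_bot_or_eq_top with h | h
      · exfalso
        apply hs
        have : s ∈ Subgroup.zpowers s := Subgroup.mem_zpowers s
        rwa [h, Subgroup.mem_bot] at this
      · rw [h]; trivial
    -- key: from y ∈ K with y i ≠ 1, get all mulSingle j t ∈ K for j ≠ i
    have key : ∀ y ∈ K, ∀ i, y i ≠ 1 → ∀ j, i ≠ j → ∀ t : S, Pi.mulSingle j t ∈ K := by
      intro y hy i hyi j hij t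
      have h1 : transvAut hc i j hij y ∈ K := hK _ y hy
      have h2 : Pi.mulSingle j (y i) ∈ K := by
        have : Pi.mulSingle j (y i) = y⁻¹ * transvAut hc i j hij y := by
          show _ = y⁻¹ * (y * Pi.mulSingle j (y i))
          rw [inv_mul_cancel_left]
        rw [this]
        exact K.mul_mem (K.inv_mem hy) h1
      obtain ⟨k, hk⟩ := Subgroup.mem_zpowers_iff.mp (hgen (y i) hyi t)
      rw [← hk, Pi.mulSingle_zpow]
      exact K.zpow_mem h2 k
    -- mulSingle i (x i) ∈ K
    have hi_mem : Pi.mulSingle i (x i) ∈ K := by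
      set y := x * (Pi.mulSingle i (x i))⁻¹ with hy
      have hyK : y ∈ K := by
        rw [← Finset.noncommProd_mulSingle y]
        apply Subgroup.noncommProd_mem
        intro k _
        by_cases hk : k = i
        · subst hk
          have : y k = 1 := by simp [hy]
          rw [this, Pi.mulSingle_one]; exact K.one_mem
        · exact key x hxK i hi k (Ne.symm hk) _
      have : Pi.mulSingle i (x i) = y⁻¹ * x := by
        rw [hy]; group
      rw [this]
      exact K.mul_mem (K.inv_mem hyK) hxK
    have hall : ∀ j (t : S), Pi.mulSingle j t ∈ K := by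
      intro j t
      by_cases hij : i = j
      · subst hij
        obtain ⟨k, hk⟩ := Subgroup.mem_zpowers_iff.mp (hgen (x i) hi t)
        rw [← hk, Pi.mulSingle_zpow]
        exact K.zpow_mem hi_mem k
      · exact key x hxK i hi j hij t
    rw [eq_top_iff]
    intro z _
    rw [← Finset.noncommProd_mulSingle z]
    apply Subgroup.noncommProd_mem
    intro k _
    exact hall k _
  · -- noncommutative case
    have hnormal : K.Normal := by
      refine ⟨fun x hx g => ?_⟩
      have := hK (MulAut.conj g) x hx
      simpa [MulAut.conj_apply] using this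
    obtain ⟨T, hT⟩ := Cfsg.Agent.S5913.result hS n K
    by_cases hTe : T = ∅
    · left
      rw [eq_bot_iff]
      intro x hx
      rw [Subgroup.mem_bot]
      funext i
      exact (hT x).mp hx i (by rw [hTe]; exact Finset.notMem_empty i)
    · right
      obtain ⟨i, hi⟩ := Finset.nonempty_iff_ne_empty.mpr hTe
      -- S is nontrivial
      obtain ⟨s, hs⟩ : ∃ s : S, s ≠ 1 := by
        by_contra h
        push Not at h
        apply hS
        exact ⟨⟨fun a b => by rw [h a, h b]⟩⟩
      have hmem : Pi.mulSingle i s ∈ K := by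
        rw [hT]
        intro k hk
        apply Pi.mulSingle_eq_of_ne
        rintro rfl
        exact hk hi
      have hTall : ∀ j, j ∈ T := by
        intro j
        by_contra hj
        have h1 := hK (permAut (Equiv.swap i j)) _ hmem
        have h2 := (hT _).mp h1 j hj
        have : permAut (Equiv.swap i j) (Pi.mulSingle i s) j = s := by
          show (Pi.mulSingle i s : Fin n → S) (Equiv.swap i j j) = s
          rw [Equiv.swap_apply_right, Pi.mulSingle_eq_same]
        rw [this] at h2
        exact hs h2
      rw [eq_top_iff]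
      intro x _
      rw [hT]
      intro k hk
      exact absurd (hTall k) hk

end power

/-- Direction (⇐): a power of a simple group is characteristically simple. -/
theorem charSimple_of_equiv {G : Type*} [Group G] {S : Type*} [Group S] [IsSimpleGroup S] {n : ℕ}
    (e : G ≃* (Fin n → S)) (H : Subgroup G) (hH : H.Characteristic) : H = ⊥ ∨ H = ⊤ := by
  have hmap : ∀ α : (Fin n → S) ≃* (Fin n → S), ∀ x ∈ H.map e.toMonoidHom,
      α x ∈ H.map e.toMonoidHom := by
    intro α x hx
    obtain ⟨g, hg, rfl⟩ := hx
    let β : G ≃* G := (e.trans α).trans e.symm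
    have hβ : β g ∈ H := by
      have := (Subgroup.characteristic_iff_map_le.mp hH) β
      exact this ⟨g, hg, rfl⟩
    refine ⟨β g, hβ, ?_⟩
    show e (e.symm (α (e g))) = α (e g)
    rw [MulEquiv.apply_symm_apply]
  rcases invariant_eq_bot_or_top (H.map e.toMonoidHom) hmap with h | h
  · left
    rw [eq_bot_iff]
    intro g hg
    have : e g ∈ H.map e.toMonoidHom := ⟨g, hg, rfl⟩
    rw [h, Subgroup.mem_bot] at this
    rw [Subgroup.mem_bot]
    exact e.injective (this.trans (map_one e).symm)
  · right
    rw [eq_top_iff]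
    intro g _
    have : e g ∈ H.map e.toMonoidHom := by rw [h]; trivial
    obtain ⟨g', hg', hgg'⟩ := this
    rw [← e.injective hgg']
    exact hg'

open SemidirectProduct in
/-- Direction (⇒), via the statement on minimal normal subgroups applied to the holomorph. -/
theorem exists_power_of_charSimple
    {G : Type*} [Group G] [Finite G] [Nontrivial G]
    (hchar : ∀ H : Subgroup G, H.Characteristic → H = ⊥ ∨ H = ⊤) :
    ∃ (S : Type) (_ : Group S) (_ : IsSimpleGroup S) (n : ℕ), 1 ≤ n ∧ Nonempty (G ≃* (Fin n → S)) := by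
  let Hol := G ⋊[MonoidHom.id (MulAut G)] MulAut G
  have hfin : Finite Hol := Finite.of_equiv _ (equivProd (φ := MonoidHom.id (MulAut G))).symm
  let N : Subgroup Hol := (inl : G →* Hol).range
  have hNnormal : N.Normal := by
    show ((inl : G →* Hol).range).Normal
    rw [range_inl_eq_ker_rightHom]
    infer_instance
  have hinj : Function.Injective (inl : G →* Hol) := inl_injective
  have hNbot : N ≠ ⊥ := by
    intro h
    obtain ⟨g, hg⟩ := exists_ne (1 : G)
    have : (inl g : Hol) ∈ N := ⟨g, rfl⟩
    rw [h, Subgroup.mem_bot] at this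
    exact hg (hinj (this.trans (map_one _).symm))
  have hNmin : ∀ M : Subgroup Hol, M.Normal → M ≤ N → M = ⊥ ∨ M = N := by
    intro M hM hMN
    have hMchar : (M.comap (inl : G →* Hol)).Characteristic := by
      rw [Subgroup.characteristic_iff_map_le]
      rintro φ _ ⟨g, hg, rfl⟩
      show inl (φ g) ∈ M
      have h1 : (inl (φ g) : Hol) = inr φ * inl g * inr φ⁻¹ := by
        rw [← inl_aut]; rfl
      rw [h1, map_inv]
      exact hM.conj_mem _ hg _
    rcases hchar _ hMchar with h | h
    · left
      rw [eq_bot_iff]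
      intro m hm
      obtain ⟨g, rfl⟩ := hMN hm
      have : g ∈ M.comap (inl : G →* Hol) := hm
      rw [h, Subgroup.mem_bot] at this
      rw [this, map_one]; exact Subgroup.one_mem _
    · right
      apply le_antisymm hMN
      rintro _ ⟨g, rfl⟩
      have : g ∈ M.comap (inl : G →* Hol) := by rw [h]; trivial
      exact this
  obtain ⟨T, hT, m, hTs, hm, ⟨e⟩⟩ := Cfsg.Agent.S0721.result N hNbot hNmin
  exact ⟨T, hT, hTs, m, hm, ⟨(MonoidHom.ofInjective hinj).trans e⟩⟩


theorem result {G : Type*} [Group G] [Finite G] [Nontrivial G] :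
    (∀ H : Subgroup G, H.Characteristic → H = ⊥ ∨ H = ⊤) ↔
    ∃ (S : Type) (_ : Group S) (_ : IsSimpleGroup S) (n : ℕ), 1 ≤ n ∧ Nonempty (G ≃* (Fin n → S)) := by
  constructor
  · exact exists_power_of_charSimple
  · rintro ⟨S, hS, hSs, n, _, ⟨e⟩⟩ H hH
    exact charSimple_of_equiv e H hH

end Cfsg.Agent.S5914
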