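import Cfsg.Statements.S5938
import Mathlib
import Cfsg.Agent.Lib.Helper42.PrimeFieldMax
import Cfsg.Agent.S0803

set_option autoImplicit false
open Cfsg

namespace Cfsg.Agent.S5938


open Cfsg.Agent.Lib.Helper42

theorem sq_mod_sixteen {p : ℕ} (hp : p % 8 = 1 ∨ p % 8 = 7) : p ^ 2 % 16 = 1 := by
  have h : p % 16 = 1 ∨ p % 16 = 7 ∨ p % 16 = 9 ∨ p % 16 = 15 := by omega
  rw [Nat.pow_mod]
  rcases h with h | h | h | h <;> rw [h]


/-- Let p be a prime with p ≡ ±1 (mod 8) and F a field with p elements. Then PSL_2(F) has a maximal subgroup isomorphic to the symmetric group S_4. -/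
theorem result {F : Type*} [Field F] [Fintype F] (p : ℕ) [Fact p.Prime] (hF : Fintype.card F = p) (hp : p % 8 = 1 ∨ p % 8 = 7) : ∃ H : Subgroup (Matrix.ProjectiveSpecialLinearGroup (Fin 2) F), IsCoatom H ∧ Nonempty (H ≃* Equiv.Perm (Fin 4)) := by
  have hpp : p.Prime := Fact.out
  have hp5 : 5 ≤ p := by
    by_contra hlt
    have : p = 2 ∨ p = 3 ∨ p = 4 := by have := hpp.two_le; omega
    rcases this with h | h | h <;> omega
  obtain ⟨H, ⟨e⟩⟩ := (Cfsg.Agent.S0803.result hF).mpr (sq_mod_sixteen hp)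
  have hc : Nat.card H = 24 := by rw [Nat.card_congr e.toEquiv, natCard_perm_four]
  refine ⟨H, ?_, ⟨e⟩⟩
  apply isCoatom_of_nonDih p hF hp5 H (NonDih.of_equiv e nonDih_perm_four) (by omega)
  intro M hHM _ hM
  have hdvd : Nat.card H ∣ Nat.card M := Subgroup.card_dvd_of_le hHM.le
  rw [hc] at hdvd
  rcases hM with ⟨⟨e'⟩⟩ | ⟨⟨e'⟩⟩ | ⟨⟨e'⟩⟩
  · rw [Nat.card_congr e'.toEquiv, natCard_alt_four] at hdvd
    omega
  · have hc' : Nat.card M = 24 := by rw [Nat.card_congr e'.toEquiv, natCard_perm_four]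
    have := Subgroup.eq_of_le_of_card_ge hHM.le (by omega)
    exact hHM.ne this
  · rw [Nat.card_congr e'.toEquiv, natCard_alt_five] at hdvd
    omega


end Cfsg.Agent.S5938
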