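import Cfsg.Statements.S5939
import Mathlib
import Cfsg.Agent.Lib.Helper42.DicksonMax
import Cfsg.Agent.S0804

set_option autoImplicit false
open Cfsg

namespace Cfsg.Agent.S5939


open Cfsg.Agent.Lib.Helper42

theorem sq_sub_one_mod_five {k : ℕ} (h : k % 5 = 1 ∨ k % 5 = 4) : 5 ∣ k * (k ^ 2 - 1) := by
  have h1 : 1 ≤ k ^ 2 := Nat.one_le_pow _ _ (by omega)
  have h2 : k ^ 2 % 5 = 1 := by
    rw [Nat.pow_mod]
    rcases h with h | h <;> rw [h]
  have h3 : (k ^ 2 - 1) % 5 = 0 := by omega
  exact Dvd.dvd.mul_left (Nat.dvd_of_mod_eq_zero h3) k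

theorem not_five_dvd' {k : ℕ} (h : k % 5 = 2 ∨ k % 5 = 3) : ¬ 5 ∣ k * (k ^ 2 - 1) := by
  have h1 : 1 ≤ k ^ 2 := Nat.one_le_pow _ _ (by omega)
  have h2 : k ^ 2 % 5 = 4 := by
    rw [Nat.pow_mod]
    rcases h with h | h <;> rw [h]
  have h3 : (k ^ 2 - 1) % 5 = 3 := by omega
  rw [Nat.dvd_iff_mod_eq_zero, Nat.mul_mod, h3]
  rcases h with h | h <;> rw [h] <;> norm_num

theorem sq_mod_five {p : ℕ} (h : p % 5 = 2 ∨ p % 5 = 3) : p ^ 2 % 5 = 4 := by
  rw [Nat.pow_mod]
  rcases h with h | h <;> rw [h]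

theorem gcd_two_odd {q : ℕ} (h : q % 2 = 1) : Nat.gcd 2 (q - 1) = 2 := by
  apply Nat.gcd_eq_left
  rw [Nat.dvd_iff_mod_eq_zero]
  omega


/-- Let p be a prime and F a finite field of characteristic p such that either F has p elements and p ≡ ±1 (mod 10), or F has p² elements and p ≡ ±3 (mod 10). Then PSL_2(F) has a maximal subgroup isomorphic to the alternating group A_5. -/
theorem result {F : Type*} [Field F] [Fintype F] (p : ℕ) [Fact p.Prime] [CharP F p] (h : (Fintype.card F = p ∧ (p % 10 = 1 ∨ p % 10 = 9)) ∨ (Fintype.card F = p ^ 2 ∧ (p % 10 = 3 ∨ p % 10 = 7))) : ∃ H : Subgroup (Matrix.ProjectiveSpecialLinearGroup (Fin 2) F), IsCoatom H ∧ Nonempty (H ≃* alternatingGroup (Fin 5)) := by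
  have hpp : p.Prime := Fact.out
  set q := Fintype.card F with hq
  -- arithmetic facts
  have hp2 : p ≠ 2 := by rcases h with ⟨_, h | h⟩ | ⟨_, h | h⟩ <;> omega
  have hpodd : p % 2 = 1 := by rcases h with ⟨_, h | h⟩ | ⟨_, h | h⟩ <;> omega
  have hqodd : q % 2 = 1 := by
    rcases h with ⟨h1, _⟩ | ⟨h1, _⟩
    · rw [h1]; exact hpodd
    · rw [h1, Nat.pow_mod, hpodd]
  have hq5 : 5 ∣ q * (q ^ 2 - 1) := by
    apply sq_sub_one_mod_five
    rcases h with ⟨h1, h2⟩ | ⟨h1, h2⟩
    · rw [h1]; omega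
    · rw [h1]
      have := sq_mod_five (p := p) (by omega)
      omega
  have hq9 : 9 ≤ q := by
    rcases h with ⟨h1, h2⟩ | ⟨h1, h2⟩
    · rw [h1]
      by_contra hlt
      have : p = 1 ∨ p = 9 := by omega
      rcases this with h | h
      · exact hpp.one_lt.ne' h
      · rw [h] at hpp; exact absurd hpp (by norm_num)
    · rw [h1]
      have : 3 ≤ p := by omega
      nlinarith
  have hG := natCard_PSL2_mul (F := F)
  rw [← hq, gcd_two_odd hqodd] at hG
  have hGbig : 60 < Nat.card (Matrix.ProjectiveSpecialLinearGroup (Fin 2) F) := by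
    have h1 : 80 ≤ q ^ 2 - 1 := by
      have : 81 ≤ q ^ 2 := by nlinarith
      omega
    have h2 : 9 * 80 ≤ q * (q ^ 2 - 1) := Nat.mul_le_mul hq9 h1
    omega
  obtain ⟨H, ⟨e⟩⟩ := (Cfsg.Agent.S0804.result (F := F) rfl).mpr hq5
  have hc : Nat.card H = 60 := by rw [Nat.card_congr e.toEquiv, natCard_alt_five]
  have hnd : NonDih H := NonDih.of_equiv e nonDih_alt_five
  refine ⟨H, ⟨?_, fun M hHM => ?_⟩, ⟨e⟩⟩
  · intro htop
    rw [htop, Subgroup.card_top] at hc
    omega
  · by_contra hM
    have hdvd : Nat.card H ∣ Nat.card M := Subgroup.card_dvd_of_le hHM.le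
    rw [hc] at hdvd
    have hMG : Nat.card M ∣ Nat.card (Matrix.ProjectiveSpecialLinearGroup (Fin 2) F) :=
      Subgroup.card_subgroup_dvd_card M
    rcases overgroup_cases_dickson p hp2 H M hnd hHM.le with ⟨⟨e'⟩⟩ | ⟨⟨e'⟩⟩ | ⟨⟨e'⟩⟩ |
      ⟨K, _, _, m, hKm, hK⟩
    · rw [Nat.card_congr e'.toEquiv, natCard_alt_four] at hdvd
      omega
    · rw [Nat.card_congr e'.toEquiv, natCard_perm_four] at hdvd
      omega
    · have hc' : Nat.card M = 60 := by rw [Nat.card_congr e'.toEquiv, natCard_alt_five]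
      have := Subgroup.eq_of_le_of_card_ge hHM.le (by omega)
      exact hHM.ne this
    · set k := Fintype.card K with hk
      have hk2 : 2 ≤ k := Fintype.one_lt_card
      by_cases hkq : k = q
      · -- same field size
        have hKP := natCard_PSL2_mul (F := K)
        have hKG := natCard_PGL2 (F := K)
        rw [← hk, hkq] at hKP hKG
        rw [gcd_two_odd hqodd] at hKP
        rcases hK with ⟨⟨e'⟩⟩ | ⟨⟨e'⟩⟩
        · have hcM : Nat.card M = Nat.card (Matrix.ProjectiveSpecialLinearGroup (Fin 2) F) := by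
            rw [Nat.card_congr e'.toEquiv]; omega
          exact hM (Subgroup.eq_top_of_card_eq M hcM)
        · have hcM : Nat.card M = 2 * Nat.card (Matrix.ProjectiveSpecialLinearGroup (Fin 2) F) := by
            rw [Nat.card_congr e'.toEquiv]; omega
          have := Nat.le_of_dvd (by omega) hMG
          omega
      · -- proper subfield: only `k = p`, `q = p ^ 2`
        have hkp : k = p ∧ (p % 10 = 3 ∨ p % 10 = 7) := by
          have hm0 : m ≠ 0 := by
            rintro rfl
            rw [pow_zero, ← hq] at hKm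
            omega
          have hkdvd : k ∣ q := by
            rw [hq, ← hKm]; exact dvd_pow_self k hm0
          rcases h with ⟨h1, h2⟩ | ⟨h1, h2⟩
          · exfalso
            rw [h1] at hkdvd
            rcases (Nat.dvd_prime hpp).mp hkdvd with h | h
            · omega
            · exact hkq (h.trans h1.symm)
          · refine ⟨?_, h2⟩
            rw [h1] at hkdvd
            obtain ⟨j, hj, hkj⟩ := (Nat.dvd_prime_pow hpp).mp hkdvd
            interval_cases j
            · rw [pow_zero] at hkj; omega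
            · rw [pow_one] at hkj; exact hkj
            · exact absurd (hkj.trans h1.symm) hkq
        obtain ⟨hkp1, hkp2⟩ := hkp
        have h5 : ¬ 5 ∣ k * (k ^ 2 - 1) := by
          apply not_five_dvd'
          rw [hkp1]; omega
        apply h5
        rcases hK with ⟨⟨e'⟩⟩ | ⟨⟨e'⟩⟩
        · have hKP := natCard_PSL2_mul (F := K)
          rw [← hk, ← Nat.card_congr e'.toEquiv] at hKP
          rw [← hKP]
          exact Dvd.dvd.mul_right (dvd_trans (by norm_num) hdvd) _
        · have hKG := natCard_PGL2 (F := K)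
          rw [← hk, ← Nat.card_congr e'.toEquiv] at hKG
          rw [← hKG]
          exact dvd_trans (by norm_num) hdvd


end Cfsg.Agent.S5939
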