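import Cfsg.Statements.S5940
import Mathlib
import Cfsg.Agent.Lib.Helper42.PrimeFieldMax
import Cfsg.Agent.S0802
import Cfsg.Agent.S0803

set_option autoImplicit false
open Cfsg

namespace Cfsg.Agent.S5940


open Cfsg.Agent.Lib.Helper42

theorem sq_mod_sixteen_ne {p : ℕ} (hp : p % 8 = 3 ∨ p % 8 = 5) : p ^ 2 % 16 ≠ 1 := by
  have h : p % 16 = 3 ∨ p % 16 = 5 ∨ p % 16 = 11 ∨ p % 16 = 13 := by omega
  rw [Nat.pow_mod]
  rcases h with h | h | h | h <;> rw [h] <;> norm_num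

theorem not_five_dvd {p : ℕ} (h : p % 5 = 2 ∨ p % 5 = 3) : ¬ 5 ∣ p * (p ^ 2 - 1) := by
  have h1 : 1 ≤ p ^ 2 := Nat.one_le_pow _ _ (by omega)
  have h2 : p ^ 2 % 5 = 4 := by
    rw [Nat.pow_mod]
    rcases h with h | h <;> rw [h]
  have h3 : (p ^ 2 - 1) % 5 = 3 := by omega
  rw [Nat.dvd_iff_mod_eq_zero, Nat.mul_mod, h3]
  rcases h with h | h <;> rw [h] <;> norm_num


/-- Let p ≥ 5 be a prime with p ≡ ±3 (mod 8) and p ≢ ±1 (mod 10), and F a field with p elements. Then PSL_2(F) has a maximal subgroup isomorphic to the alternating group A_4. -/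
theorem result {F : Type*} [Field F] [Fintype F] (p : ℕ) [Fact p.Prime] (hF : Fintype.card F = p) (h5 : 5 ≤ p) (h8 : p % 8 = 3 ∨ p % 8 = 5) (h10 : p % 10 ≠ 1 ∧ p % 10 ≠ 9) : ∃ H : Subgroup (Matrix.ProjectiveSpecialLinearGroup (Fin 2) F), IsCoatom H ∧ Nonempty (H ≃* alternatingGroup (Fin 4)) := by
  have hpp : p.Prime := Fact.out
  have : CharP F p := charP_of_card_eq_prime hF
  obtain ⟨H, ⟨e⟩⟩ := (Cfsg.Agent.S0802.result (F := F) p 1 (by rw [hF, pow_one])).mpr (by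
    rintro ⟨rfl, -⟩
    omega)
  have hc : Nat.card H = 12 := by rw [Nat.card_congr e.toEquiv, natCard_alt_four]
  refine ⟨H, ?_, ⟨e⟩⟩
  apply isCoatom_of_nonDih p hF h5 H (NonDih.of_equiv e nonDih_alt_four) (by omega)
  intro M hHM hpM hM
  rcases hM with ⟨⟨e'⟩⟩ | ⟨⟨e'⟩⟩ | ⟨⟨e'⟩⟩
  · have hc' : Nat.card M = 12 := by rw [Nat.card_congr e'.toEquiv, natCard_alt_four]
    have := Subgroup.eq_of_le_of_card_ge hHM.le (by omega)
    exact hHM.ne this
  · exact sq_mod_sixteen_ne h8 ((Cfsg.Agent.S0803.result hF).mp ⟨M, ⟨e'⟩⟩)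
  · have hc' : Nat.card M = 60 := by rw [Nat.card_congr e'.toEquiv, natCard_alt_five]
    rw [hc'] at hpM
    have hG := two_mul_card_PSL2_prime p hF h5
    have hdvd : Nat.card M ∣ Nat.card (Matrix.ProjectiveSpecialLinearGroup (Fin 2) F) :=
      Subgroup.card_subgroup_dvd_card M
    rw [hc'] at hdvd
    have h5d : 5 ∣ p * (p ^ 2 - 1) := by
      rw [← hG]
      exact Dvd.dvd.mul_left (dvd_trans (by norm_num) hdvd) 2
    by_cases hp5 : p = 5
    · apply hpM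
      rw [hp5]; norm_num
    · have hnd : ¬ 5 ∣ p := by
        intro hd
        rcases (Nat.dvd_prime hpp).mp hd with h | h
        · omega
        · exact hp5 h.symm
      have hmod : p % 5 = 2 ∨ p % 5 = 3 := by
        rw [Nat.dvd_iff_mod_eq_zero] at hnd
        omega
      exact not_five_dvd hmod h5d


end Cfsg.Agent.S5940
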