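import Mathlib
import Cfsg.Statements.S5941
import Cfsg.Agent.Lib.Helper41.DicksonMax3

set_option autoImplicit false
open Cfsg

namespace Cfsg.Agent.S5941

open Cfsg.Agent.Lib.Helper41 Cfsg.Agent.Lib.Helper42 Cfsg.Agent.Lib.Helper11

/-- Let K and F be finite fields of odd characteristic with #F = (#K)². Then PSL_2(F) has a maximal subgroup isomorphic to PGL_2(K). -/
theorem result {F K : Type*} [Field F] [Fintype F] [Field K] [Fintype K] (q : ℕ) (hK : Fintype.card K = q) (hF : Fintype.card F = q ^ 2) (hq : Odd q) : ∃ H : Subgroup (Matrix.ProjectiveSpecialLinearGroup (Fin 2) F), IsCoatom H ∧ Nonempty (H ≃* Matrix.ProjGenLinGroup (Fin 2) K) := by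
  classical
  subst hK
  obtain ⟨φ⟩ := exists_ringHom_of_card_pow (K := K) (F := F) 2 (by norm_num) hF.symm
  obtain ⟨p, hpK⟩ := CharP.exists K
  have hp : Fact p.Prime := ⟨CharP.char_is_prime K p⟩
  have hpF : CharP F p := (RingHom.charP_iff_charP φ p).mp hpK
  obtain ⟨k, -, hk⟩ := FiniteField.card K p
  have hQodd0 : Odd (Fintype.card F) := by rw [hF]; exact hq.pow
  have hsq : ∀ x : K, ∃ d : F, d ^ 2 = φ x :=
    exists_sq_of_even_degree φ 2 even_two hQodd0 hF.symm
  choose δ hδ using hsq
  set q := Fintype.card K with hqdef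
  set Q := Fintype.card F with hQdef
  have hp2 : p ≠ 2 := by
    rintro rfl
    have : Even q := by rw [hk]; exact (even_two).pow_of_ne_zero k.pos.ne'
    exact (Nat.not_even_iff_odd.mpr hq) this
  have hQodd : Odd Q := hQodd0
  have hq3 : 3 ≤ q := by
    have h2 : 2 ≤ q := Fintype.one_lt_card
    rcases hq with ⟨j, hj⟩
    omega
  have hgcdQ : Nat.gcd 2 (Q - 1) = 2 := gcd_two_pred_of_odd hQodd
  set H : Subgroup (Matrix.ProjectiveSpecialLinearGroup (Fin 2) F) := (pglHom φ δ hδ).range with hH
  have eH : H ≃* Matrix.ProjGenLinGroup (Fin 2) K := pglHomRangeEquiv φ δ hδ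
  have hcardH : Nat.card H = q * (q ^ 2 - 1) := by
    rw [Nat.card_congr eH.toEquiv, card_PGL2]
  have hcardG : Nat.card (Matrix.ProjectiveSpecialLinearGroup (Fin 2) F) * 2 = Q * (Q ^ 2 - 1) := by
    have := card_PSL2_mul_gcd (K := F)
    rwa [hgcdQ] at this
  have hQ2 : 2 ≤ Q := Fintype.one_lt_card
  have hfinG : Finite (Matrix.ProjectiveSpecialLinearGroup (Fin 2) F) :=
    Nat.finite_of_card_ne_zero (by
      intro h0
      rw [h0, zero_mul] at hcardG
      have h4Q : 4 ≤ Q ^ 2 := by nlinarith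
      have h1Q : 1 ≤ Q ^ 2 - 1 := by omega
      exact Nat.mul_ne_zero (by omega) (by omega) hcardG.symm)
  have hqQ : 2 * q ≤ Q := by
    rw [hF, pow_two]
    exact Nat.mul_le_mul_right q (by omega)
  have hpH : p ∣ Nat.card H := by
    rw [hcardH, hk]
    exact dvd_mul_of_dvd_left (dvd_pow_self p k.pos.ne') _
  have h24 : 24 ≤ q * (q ^ 2 - 1) := by
    have h9 : 9 ≤ q ^ 2 := by nlinarith
    have h8 : 8 ≤ q ^ 2 - 1 := by omega
    calc 24 = 3 * 8 := by norm_num
      _ ≤ q * (q ^ 2 - 1) := Nat.mul_le_mul hq3 h8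
  have hbig : 2 * (q * (q ^ 2 - 1)) < Q * (Q ^ 2 - 1) := by
    have h2 : q ^ 2 - 1 < Q ^ 2 - 1 := by
      have hqQ' : q < Q := by omega
      have : q ^ 2 < Q ^ 2 := Nat.pow_lt_pow_left hqQ' (by norm_num)
      have : 1 ≤ q ^ 2 := Nat.one_le_pow _ _ (by omega)
      omega
    rw [← mul_assoc]
    exact Nat.mul_lt_mul_of_le_of_lt hqQ h2 (by omega)
  refine ⟨H, ⟨?_, ?_⟩, ⟨eH⟩⟩
  · -- H ≠ ⊤
    intro htop
    have h1 : Nat.card H = Nat.card (Matrix.ProjectiveSpecialLinearGroup (Fin 2) F) := by
      rw [htop, Subgroup.card_top]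
    omega
  · -- maximality
    intro M hHM
    have hle : H ≤ M := hHM.le
    have hdvd : Nat.card H ∣ Nat.card M := Subgroup.card_dvd_of_le hle
    have hlt : Nat.card H < Nat.card M := by
      by_contra hge
      push Not at hge
      exact hHM.ne (Subgroup.eq_of_le_of_card_ge hle hge)
    have hMpos : 0 < Nat.card M := Nat.card_pos
    have hu : prj (upperU (1 : F)) ∈ M := by
      apply hle
      refine ⟨Matrix.SpecialLinearGroup.toGL (upperU 1), ?_⟩
      rw [pglHom_toGL, pslHom_apply, map_upperU, map_one]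
      rfl
    have hl : prj (lowerU (1 : F)) ∈ M := by
      apply hle
      refine ⟨Matrix.SpecialLinearGroup.toGL (lowerU 1), ?_⟩
      rw [pglHom_toGL, pslHom_apply, map_lowerU, map_one]
      rfl
    rcases Cfsg.Agent.S0799.dlist p M with ⟨n, hn, h⟩ | ⟨P, K₁, hK₁, ⟨e⟩⟩ | ⟨⟨e⟩⟩ | ⟨⟨e⟩⟩ | ⟨⟨e⟩⟩ |
      ⟨K', i1, i2, m, hm, h⟩
    · exact (not_clause_a_of_dvd p hp2 (dvd_trans hpH hdvd) n hn h).elim
    · exact (not_clause_b_of_one p M hu hl P K₁ hK₁ e).elim
    · -- A4
      exfalso
      have hM := card_of_equiv_A4 e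
      omega
    · -- S4
      exfalso
      have hM := card_of_equiv_S4 e
      omega
    · -- A5
      exfalso
      have hM := card_of_equiv_A5 e
      by_cases hq3' : q = 3
      · rw [hcardH, hM, hq3'] at hdvd
        norm_num at hdvd
      · have hq5 : 5 ≤ q := by
          rcases hq with ⟨j, hj⟩
          omega
        have h120 : 120 ≤ q * (q ^ 2 - 1) := by
          have h25 : 25 ≤ q ^ 2 := by nlinarith
          have h24' : 24 ≤ q ^ 2 - 1 := by omega
          calc 120 = 5 * 24 := by norm_num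
            _ ≤ q * (q ^ 2 - 1) := Nat.mul_le_mul hq5 h24'
        omega
    · -- clause (d)
      set s := Fintype.card K' with hs
      replace hm : s ^ m = Q := hm
      have hs2 : 2 ≤ s := Fintype.one_lt_card
      have hm0 : m ≠ 0 := by
        rintro rfl
        rw [pow_zero] at hm
        omega
      have hsodd : Odd s := by
        have : Odd (s ^ m) := by rw [hm]; exact hQodd
        exact (Nat.odd_pow_iff hm0).mp this
      have hgcds : Nat.gcd 2 (s - 1) = 2 := gcd_two_pred_of_odd hsodd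
      have hsm : s ^ m = q ^ 2 := by rw [hm, hF]
      have hpc : 2 ≤ p := hp.out.two_le
      rcases h with ⟨⟨e⟩⟩ | ⟨⟨e⟩⟩
      · -- PSL₂(K')
        have hcardM : Nat.card M * 2 = s * (s ^ 2 - 1) := by
          rw [Nat.card_congr e.toEquiv]
          have := card_PSL2_mul_gcd (K := K')
          rwa [hgcds] at this
        have hd : q * (q ^ 2 - 1) ∣ 1 * (s * (s ^ 2 - 1)) := by
          rw [one_mul, ← hcardM, ← hcardH]
          exact dvd_mul_of_dvd_left hdvd 2
        rcases card_eq_or_eq_pow p k 2 m s q 1 hp.out k.pos Nat.prime_two hk hs2 hsm le_rfl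
          (by omega) hd with h1 | h1
        · exfalso
          rw [h1] at hcardM
          omega
        · apply Subgroup.eq_top_of_card_eq
          rw [← hF] at h1
          rw [h1] at hcardM
          omega
      · -- PGL₂(K')
        exfalso
        have hcardM : Nat.card M = s * (s ^ 2 - 1) := by
          rw [Nat.card_congr e.toEquiv, card_PGL2]
        have hd : q * (q ^ 2 - 1) ∣ 1 * (s * (s ^ 2 - 1)) := by
          rw [one_mul, ← hcardM, ← hcardH]
          exact hdvd
        rcases card_eq_or_eq_pow p k 2 m s q 1 hp.out k.pos Nat.prime_two hk hs2 hsm le_rfl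
          (by omega) hd with h1 | h1
        · rw [h1] at hcardM
          omega
        · rw [← hF] at h1
          rw [h1] at hcardM
          have hMle : Nat.card M ≤ Nat.card (Matrix.ProjectiveSpecialLinearGroup (Fin 2) F) :=
            Nat.le_of_dvd Nat.card_pos (Subgroup.card_subgroup_dvd_card M)
          have hGpos : 0 < Nat.card (Matrix.ProjectiveSpecialLinearGroup (Fin 2) F) := Nat.card_pos
          omega

end Cfsg.Agent.S5941
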