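import Mathlib
import Cfsg.Statements.S5942
import Cfsg.Agent.Lib.Helper41.DicksonMax3
import Cfsg.Agent.S0803
import Cfsg.Agent.S0804
import Cfsg.Agent.S0805

set_option autoImplicit false
open Cfsg

namespace Cfsg.Agent.S5942

open Cfsg.Agent.Lib.Helper41 Cfsg.Agent.Lib.Helper42 Cfsg.Agent.Lib.Helper11

/-- Let K and F be finite fields of odd characteristic with #F = (#K)^r for an odd prime r. Then PSL_2(F) has a maximal subgroup isomorphic to PSL_2(K). -/
theorem result {F K : Type*} [Field F] [Fintype F] [Field K] [Fintype K] (q r : ℕ) (hK : Fintype.card K = q) (hF : Fintype.card F = q ^ r) (hq : Odd q) (hr : r.Prime) (hr2 : r ≠ 2) : ∃ H : Subgroup (Matrix.ProjectiveSpecialLinearGroup (Fin 2) F), IsCoatom H ∧ Nonempty (H ≃* Matrix.ProjectiveSpecialLinearGroup (Fin 2) K) := by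
  classical
  subst hK
  obtain ⟨φ⟩ := exists_ringHom_of_card_pow (K := K) (F := F) r hr.one_le hF.symm
  obtain ⟨p, hpK⟩ := CharP.exists K
  have hp : Fact p.Prime := ⟨CharP.char_is_prime K p⟩
  have hpF : CharP F p := (RingHom.charP_iff_charP φ p).mp hpK
  obtain ⟨k, -, hk⟩ := FiniteField.card K p
  have hrodd : Odd r := (hr.eq_two_or_odd').resolve_left hr2
  set q := Fintype.card K with hqdef
  set Q := Fintype.card F with hQdef
  have hp2 : p ≠ 2 := by
    rintro rfl
    have : Even q := by rw [hk]; exact (even_two).pow_of_ne_zero k.pos.ne'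
    exact (Nat.not_even_iff_odd.mpr hq) this
  have hQodd : Odd Q := by rw [hF]; exact hq.pow
  have hq3 : 3 ≤ q := by
    have h2 : 2 ≤ q := Fintype.one_lt_card
    rcases hq with ⟨j, hj⟩
    omega
  have hgcdq : Nat.gcd 2 (q - 1) = 2 := gcd_two_pred_of_odd hq
  have hgcdQ : Nat.gcd 2 (Q - 1) = 2 := gcd_two_pred_of_odd hQodd
  set H : Subgroup (Matrix.ProjectiveSpecialLinearGroup (Fin 2) F) := (pslHom φ).range with hH
  have eH : H ≃* Matrix.ProjectiveSpecialLinearGroup (Fin 2) K := pslHomRangeEquiv φ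
  have hcardH : Nat.card H * 2 = q * (q ^ 2 - 1) := by
    rw [Nat.card_congr eH.toEquiv]
    have := card_PSL2_mul_gcd (K := K)
    rwa [hgcdq] at this
  have hcardG : Nat.card (Matrix.ProjectiveSpecialLinearGroup (Fin 2) F) * 2 = Q * (Q ^ 2 - 1) := by
    have := card_PSL2_mul_gcd (K := F)
    rwa [hgcdQ] at this
  have hQ2 : 2 ≤ Q := Fintype.one_lt_card
  have hfinG : Finite (Matrix.ProjectiveSpecialLinearGroup (Fin 2) F) :=
    Nat.finite_of_card_ne_zero (by
      intro h0
      rw [h0, zero_mul] at hcardG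
      have h4Q : 4 ≤ Q ^ 2 := by nlinarith
      have h1Q : 1 ≤ Q ^ 2 - 1 := by omega
      exact Nat.mul_ne_zero (by omega) (by omega) hcardG.symm)
  have hqQ : q < Q := by
    rw [hF]
    calc q = q ^ 1 := (pow_one q).symm
      _ < q ^ r := Nat.pow_lt_pow_right (by omega) hr.one_lt
  have hpH : p ∣ Nat.card H := by
    have h1 : p ∣ Nat.card H * 2 := by
      rw [hcardH, hk]
      exact dvd_mul_of_dvd_left (dvd_pow_self p k.pos.ne') _
    rcases (Nat.Prime.dvd_mul hp.out).mp h1 with h | h
    · exact h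
    · exfalso
      exact hp2 ((Nat.prime_dvd_prime_iff_eq hp.out Nat.prime_two).mp h)
  refine ⟨H, ⟨?_, ?_⟩, ⟨eH⟩⟩
  · -- H ≠ ⊤
    intro htop
    have h1 : Nat.card H = Nat.card (Matrix.ProjectiveSpecialLinearGroup (Fin 2) F) := by
      rw [htop, Subgroup.card_top]
    have h2 : q ^ 2 - 1 < Q ^ 2 - 1 := by
      have : q ^ 2 < Q ^ 2 := Nat.pow_lt_pow_left hqQ (by norm_num)
      have : 1 ≤ q ^ 2 := Nat.one_le_pow _ _ (by omega)
      omega
    have h3 : q * (q ^ 2 - 1) < Q * (Q ^ 2 - 1) := Nat.mul_lt_mul'' hqQ h2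
    omega
  · -- maximality
    intro M hHM
    have hle : H ≤ M := hHM.le
    have hdvd : Nat.card H ∣ Nat.card M := Subgroup.card_dvd_of_le hle
    have hlt : Nat.card H < Nat.card M := by
      by_contra hge
      push Not at hge
      exact hHM.ne (Subgroup.eq_of_le_of_card_ge hle hge)
    have hMpos : 0 < Nat.card M := Nat.card_pos
    have hu : prj (upperU (1 : F)) ∈ M := by
      apply hle
      refine ⟨upperU 1, ?_⟩
      rw [pslHom_apply, map_upperU, map_one]
      rfl
    have hl : prj (lowerU (1 : F)) ∈ M := by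
      apply hle
      refine ⟨lowerU 1, ?_⟩
      rw [pslHom_apply, map_lowerU, map_one]
      rfl
    rcases Cfsg.Agent.S0799.dlist p M with ⟨n, hn, h⟩ | ⟨P, K₁, hK₁, ⟨e⟩⟩ | ⟨⟨e⟩⟩ | ⟨⟨e⟩⟩ | ⟨⟨e⟩⟩ |
      ⟨K', i1, i2, m, hm, h⟩
    · exact (not_clause_a_of_dvd p hp2 (dvd_trans hpH hdvd) n hn h).elim
    · exact (not_clause_b_of_one p M hu hl P K₁ hK₁ e).elim
    · -- A4
      exfalso
      have hM := card_of_equiv_A4 e
      have h12 : 12 * 2 ≤ q * (q ^ 2 - 1) := by
        have h9 : 9 ≤ q ^ 2 := by nlinarith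
        have h8 : 8 ≤ q ^ 2 - 1 := by omega
        calc 12 * 2 = 3 * 8 := by norm_num
          _ ≤ q * (q ^ 2 - 1) := Nat.mul_le_mul hq3 h8
      omega
    · -- S4
      exfalso
      have hM := card_of_equiv_S4 e
      by_cases hq3' : q = 3
      · have h16 := (Cfsg.Agent.S0803.result (F := F) (q := Q) rfl).mp ⟨M, ⟨e⟩⟩
        obtain ⟨j, hj⟩ := hrodd
        have : Q ^ 2 % 16 = 9 := by
          rw [hF, hq3', hj, ← pow_mul]
          have e1 : (2 * j + 1) * 2 = 4 * j + 2 := by ring
          rw [e1, pow_add, pow_mul, Nat.mul_mod, Nat.pow_mod]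
          norm_num
        omega
      · have hq5 : 5 ≤ q := by
          rcases hq with ⟨j, hj⟩
          omega
        have h60 : 60 * 2 ≤ q * (q ^ 2 - 1) := by
          have h25 : 25 ≤ q ^ 2 := by nlinarith
          have h24 : 24 ≤ q ^ 2 - 1 := by omega
          calc 60 * 2 = 5 * 24 := by norm_num
            _ ≤ q * (q ^ 2 - 1) := Nat.mul_le_mul hq5 h24
        omega
    · -- A5
      exfalso
      have hM := card_of_equiv_A5 e
      by_cases hq3' : q = 3
      · have h5 := (Cfsg.Agent.S0804.result (F := F) (q := Q) rfl).mp ⟨M, ⟨e⟩⟩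
        obtain ⟨j, hj⟩ := hrodd
        have hQ3 : Q = 3 ^ (2 * j + 1) := by rw [hF, hq3', hj]
        have hQ25 : Q ^ 2 % 5 = 4 := by
          rw [hQ3, ← pow_mul]
          have e1 : (2 * j + 1) * 2 = 4 * j + 2 := by ring
          rw [e1, pow_add, pow_mul, Nat.mul_mod, Nat.pow_mod]
          norm_num
        rcases (Nat.Prime.dvd_mul Nat.prime_five).mp h5 with h | h
        · rw [hQ3] at h
          have := Nat.prime_five.dvd_of_dvd_pow h
          omega
        · have h1Q : 1 ≤ Q ^ 2 := Nat.one_le_pow _ _ (by omega)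
          omega
      · have hq5 : 5 ≤ q := by
          rcases hq with ⟨j, hj⟩
          omega
        have h60 : 60 * 2 ≤ q * (q ^ 2 - 1) := by
          have h25 : 25 ≤ q ^ 2 := by nlinarith
          have h24 : 24 ≤ q ^ 2 - 1 := by omega
          calc 60 * 2 = 5 * 24 := by norm_num
            _ ≤ q * (q ^ 2 - 1) := Nat.mul_le_mul hq5 h24
        omega
    · -- clause (d)
      set s := Fintype.card K' with hs
      replace hm : s ^ m = Q := hm
      have hs2 : 2 ≤ s := Fintype.one_lt_card
      have hm0 : m ≠ 0 := by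
        rintro rfl
        rw [pow_zero] at hm
        omega
      have hsodd : Odd s := by
        have : Odd (s ^ m) := by rw [hm]; exact hQodd
        exact (Nat.odd_pow_iff hm0).mp this
      have hgcds : Nat.gcd 2 (s - 1) = 2 := gcd_two_pred_of_odd hsodd
      have hsm : s ^ m = q ^ r := by rw [hm, hF]
      have hpc : 2 ≤ p := hp.out.two_le
      rcases h with ⟨⟨e⟩⟩ | ⟨⟨e⟩⟩
      · -- PSL₂(K')
        have hcardM : Nat.card M * 2 = s * (s ^ 2 - 1) := by
          rw [Nat.card_congr e.toEquiv]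
          have := card_PSL2_mul_gcd (K := K')
          rwa [hgcds] at this
        have hd : q * (q ^ 2 - 1) ∣ 1 * (s * (s ^ 2 - 1)) := by
          rw [one_mul, ← hcardM, ← hcardH]
          exact Nat.mul_dvd_mul_right hdvd 2
        rcases card_eq_or_eq_pow p k r m s q 1 hp.out k.pos hr hk hs2 hsm le_rfl (by omega) hd
          with h1 | h1
        · exfalso
          rw [h1] at hcardM
          omega
        · apply Subgroup.eq_top_of_card_eq
          rw [← hF] at h1
          rw [h1] at hcardM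
          omega
      · -- PGL₂(K')
        exfalso
        have hcardM : Nat.card M = s * (s ^ 2 - 1) := by
          rw [Nat.card_congr e.toEquiv, card_PGL2]
        have hd : q * (q ^ 2 - 1) ∣ 2 * (s * (s ^ 2 - 1)) := by
          rw [← hcardM, ← hcardH, mul_comm 2]
          exact Nat.mul_dvd_mul_right hdvd 2
        rcases card_eq_or_eq_pow p k r m s q 2 hp.out k.pos hr hk hs2 hsm (by norm_num) hpc hd
          with h1 | h1
        · -- s = q: PGL₂(K') ≤ PSL₂(F) forces m even, but m = r
          have hmr : m = r := by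
            rw [h1] at hsm
            exact Nat.pow_right_injective (by omega : 2 ≤ q) hsm
          have hev := (Cfsg.Agent.S0805.result (F := F) (K := K') (q := Q) rfl hQodd m
            (Nat.one_le_iff_ne_zero.mpr hm0) hm).2.mp ⟨M, ⟨e⟩⟩
          rw [hmr] at hev
          exact (Nat.not_even_iff_odd.mpr hrodd) hev
        · -- s = Q: too big
          rw [← hF] at h1
          rw [h1] at hcardM
          have hMle : Nat.card M ≤ Nat.card (Matrix.ProjectiveSpecialLinearGroup (Fin 2) F) :=
            Nat.le_of_dvd Nat.card_pos (Subgroup.card_subgroup_dvd_card M)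
          have hGpos : 0 < Nat.card (Matrix.ProjectiveSpecialLinearGroup (Fin 2) F) := Nat.card_pos
          omega

end Cfsg.Agent.S5942
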