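import Mathlib
import Cfsg.Statements.S5943
import Cfsg.Agent.Lib.Helper41.DicksonMax2

set_option autoImplicit false
open Cfsg

namespace Cfsg.Agent.S5943

open Cfsg.Agent.Lib.Helper41 Cfsg.Agent.Lib.Helper42 Cfsg.Agent.Lib.Helper11

/-- Let K and F be finite fields of characteristic 2 with #K = q > 2 and #F = q^r for a prime r. Then PSL_2(F) has a maximal subgroup isomorphic to PSL_2(K) (which equals PGL_2(K) in characteristic 2). -/
theorem result {F K : Type*} [Field F] [Fintype F] [Field K] [Fintype K] (q r : ℕ) (hK : Fintype.card K = q) (hF : Fintype.card F = q ^ r) (hq : Even q) (hq2 : q ≠ 2) (hr : r.Prime) : ∃ H : Subgroup (Matrix.ProjectiveSpecialLinearGroup (Fin 2) F), IsCoatom H ∧ Nonempty (H ≃* Matrix.ProjectiveSpecialLinearGroup (Fin 2) K) := by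
  classical
  subst hK
  -- characteristic 2
  have hcharK : ringChar K = 2 := FiniteField.even_card_iff_char_two.mpr (Nat.even_iff.mp hq)
  have : CharP K 2 := ringChar.of_eq hcharK
  have : Fact (Nat.Prime 2) := ⟨Nat.prime_two⟩
  obtain ⟨k, -, hk⟩ := FiniteField.card K 2
  have hFeven : Even (Fintype.card F) := by
    rw [hF]; exact hq.pow_of_ne_zero hr.pos.ne'
  have hcharF : ringChar F = 2 := FiniteField.even_card_iff_char_two.mpr (Nat.even_iff.mp hFeven)
  have : CharP F 2 := ringChar.of_eq hcharF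
  have hk2 : 2 ≤ (k : ℕ) := by
    by_contra hlt
    have : (k : ℕ) = 1 := by have := k.pos; omega
    rw [this, pow_one] at hk
    exact hq2 hk
  obtain ⟨φ⟩ := exists_ringHom_of_card_pow (K := K) (F := F) r hr.one_le hF.symm
  set q := Fintype.card K with hqdef
  set Q := Fintype.card F with hQdef
  have hq4 : 4 ≤ q := by
    rw [hk]
    calc 4 = 2 ^ 2 := by norm_num
      _ ≤ 2 ^ (k : ℕ) := Nat.pow_le_pow_right (by norm_num) hk2
  have hgcdq : Nat.gcd 2 (q - 1) = 1 := by
    have : (q - 1) % 2 = 1 := by have := Nat.even_iff.mp hq; omega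
    rw [Nat.gcd_rec, this]; rfl
  have hgcdQ : Nat.gcd 2 (Q - 1) = 1 := by
    have hQ2 : 2 ≤ Q := Fintype.one_lt_card
    have : (Q - 1) % 2 = 1 := by have := Nat.even_iff.mp hFeven; omega
    rw [Nat.gcd_rec, this]; rfl
  set H : Subgroup (Matrix.ProjectiveSpecialLinearGroup (Fin 2) F) := (pslHom φ).range with hH
  have eH : H ≃* Matrix.ProjectiveSpecialLinearGroup (Fin 2) K := pslHomRangeEquiv φ
  have hcardH : Nat.card H = q * (q ^ 2 - 1) := by
    rw [Nat.card_congr eH.toEquiv]
    have := card_PSL2_mul_gcd (K := K)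
    rwa [hgcdq, mul_one] at this
  have hcardG : Nat.card (Matrix.ProjectiveSpecialLinearGroup (Fin 2) F) = Q * (Q ^ 2 - 1) := by
    have := card_PSL2_mul_gcd (K := F)
    rwa [hgcdQ, mul_one] at this
  have hfinG : Finite (Matrix.ProjectiveSpecialLinearGroup (Fin 2) F) :=
    Nat.finite_of_card_ne_zero (by
      rw [hcardG]
      have hQ2 : 2 ≤ Q := Fintype.one_lt_card
      have h4Q : 4 ≤ Q ^ 2 := by nlinarith
      have h1Q : 1 ≤ Q ^ 2 - 1 := by omega
      exact Nat.mul_ne_zero (by omega) (by omega))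
  refine ⟨H, ⟨?_, ?_⟩, ⟨eH⟩⟩
  · -- H ≠ ⊤
    intro htop
    have h1 : Nat.card H = Nat.card (Matrix.ProjectiveSpecialLinearGroup (Fin 2) F) := by
      rw [htop, Subgroup.card_top]
    rw [hcardH, hcardG] at h1
    have hqQ : q < Q := by
      rw [hF]
      calc q = q ^ 1 := (pow_one q).symm
        _ < q ^ r := Nat.pow_lt_pow_right (by omega) hr.one_lt
    have h2 : q ^ 2 - 1 < Q ^ 2 - 1 := by
      have : q ^ 2 < Q ^ 2 := Nat.pow_lt_pow_left hqQ (by norm_num)
      have : 1 ≤ q ^ 2 := Nat.one_le_pow _ _ (by omega)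
      omega
    have h3 : q * (q ^ 2 - 1) < Q * (Q ^ 2 - 1) := Nat.mul_lt_mul'' hqQ h2
    omega
  · -- maximality
    intro M hHM
    have hle : H ≤ M := hHM.le
    have hdvd : Nat.card H ∣ Nat.card M := Subgroup.card_dvd_of_le hle
    have hlt : Nat.card H < Nat.card M := by
      by_contra hge
      push Not at hge
      exact hHM.ne (Subgroup.eq_of_le_of_card_ge hle hge)
    have hMpos : 0 < Nat.card M := Nat.card_pos
    have hu : prj (upperU (1 : F)) ∈ M := by
      apply hle
      refine ⟨upperU 1, ?_⟩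
      rw [pslHom_apply, map_upperU, map_one]
      rfl
    have hl : prj (lowerU (1 : F)) ∈ M := by
      apply hle
      refine ⟨lowerU 1, ?_⟩
      rw [pslHom_apply, map_lowerU, map_one]
      rfl
    have h2F : (2 : F) = 0 := by
      have := CharP.cast_eq_zero F 2
      exact_mod_cast this
    rcases Cfsg.Agent.S0799.dlist 2 M with ⟨n, hn, h⟩ | ⟨P, K₁, hK₁, ⟨e⟩⟩ | ⟨⟨e⟩⟩ | ⟨⟨e⟩⟩ | ⟨⟨e⟩⟩ |
      ⟨K', i1, i2, m, hm, h⟩
    · -- cyclic or dihedral: order not divisible by 4
      exfalso
      rw [← hQdef, hgcdQ, Nat.div_one, Nat.div_one] at hn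
      have hnodd : n % 2 = 1 := by
        have hQe := Nat.even_iff.mp hFeven
        have hQ2 : 2 ≤ Q := Fintype.one_lt_card
        rcases hn with ⟨c, hc⟩ | ⟨c, hc⟩
        · have : (Q + 1) % 2 = 1 := by omega
          rw [hc, Nat.mul_mod] at this
          rcases Nat.mod_two_eq_zero_or_one n with h0 | h1
          · rw [h0] at this; simp at this
          · exact h1
        · have : (Q - 1) % 2 = 1 := by omega
          rw [hc, Nat.mul_mod] at this
          rcases Nat.mod_two_eq_zero_or_one n with h0 | h1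
          · rw [h0] at this; simp at this
          · exact h1
      have h4 : 4 ∣ Nat.card M := by
        refine dvd_trans ?_ hdvd
        rw [hcardH]
        refine dvd_mul_of_dvd_left ?_ _
        rw [hk]
        calc 4 = 2 ^ 2 := by norm_num
          _ ∣ 2 ^ (k : ℕ) := Nat.pow_dvd_pow 2 hk2
      rcases h with ⟨-, hcard⟩ | ⟨⟨e⟩⟩
      · rw [hcard] at h4; omega
      · rw [Nat.card_congr e.toEquiv, DihedralGroup.nat_card] at h4; omega
    · -- clause (b)
      exfalso
      refine not_clause_b_of_mem 2 M hu hl ?_ P K₁ hK₁ e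
      intro h
      have : (9 : F) = 4 := by rw [← h]; norm_num
      have h5 : (1 : F) = 0 := by
        have h9 : (9 : F) = 1 + 2 * 4 := by norm_num
        have h4' : (4 : F) = 2 * 2 := by norm_num
        rw [h9, h4', h2F] at this
        simp at this
      exact one_ne_zero h5
    · exfalso
      have := card_of_equiv_A4 e
      have h60 : 60 ≤ q * (q ^ 2 - 1) := by
        have h16 : 16 ≤ q ^ 2 := by nlinarith
        have h15 : 15 ≤ q ^ 2 - 1 := by omega
        calc 60 = 4 * 15 := by norm_num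
          _ ≤ q * (q ^ 2 - 1) := Nat.mul_le_mul hq4 h15
      omega
    · exfalso
      have := card_of_equiv_S4 e
      have h60 : 60 ≤ q * (q ^ 2 - 1) := by
        have h16 : 16 ≤ q ^ 2 := by nlinarith
        have h15 : 15 ≤ q ^ 2 - 1 := by omega
        calc 60 = 4 * 15 := by norm_num
          _ ≤ q * (q ^ 2 - 1) := Nat.mul_le_mul hq4 h15
      omega
    · exfalso
      have := card_of_equiv_A5 e
      have h60 : 60 ≤ q * (q ^ 2 - 1) := by
        have h16 : 16 ≤ q ^ 2 := by nlinarith
        have h15 : 15 ≤ q ^ 2 - 1 := by omega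
        calc 60 = 4 * 15 := by norm_num
          _ ≤ q * (q ^ 2 - 1) := Nat.mul_le_mul hq4 h15
      omega
    · -- clause (d)
      set s := Fintype.card K' with hs
      replace hm : s ^ m = Q := hm
      have hQpow : Q = 2 ^ ((k : ℕ) * r) := by rw [hF, hk, pow_mul]
      have hm0 : m ≠ 0 := by
        rintro rfl
        rw [pow_zero] at hm
        have hQ2 : 2 ≤ Q := Fintype.one_lt_card
        omega
      have hsdvd : s ∣ 2 ^ ((k : ℕ) * r) := by
        rw [← hQpow, ← hm]; exact dvd_pow_self s hm0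
      obtain ⟨a, -, hsa⟩ := (Nat.dvd_prime_pow Nat.prime_two).mp hsdvd
      have hs2 : 2 ≤ s := Fintype.one_lt_card
      have ha0 : a ≠ 0 := by
        rintro rfl
        rw [pow_zero] at hsa; omega
      have hseven : Even s := by rw [hsa]; exact (even_two).pow_of_ne_zero ha0
      have hgcds : Nat.gcd 2 (s - 1) = 1 := by
        have : (s - 1) % 2 = 1 := by have := Nat.even_iff.mp hseven; omega
        rw [Nat.gcd_rec, this]; rfl
      have hcardM : Nat.card M = s * (s ^ 2 - 1) := by
        rcases h with ⟨⟨e⟩⟩ | ⟨⟨e⟩⟩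
        · rw [Nat.card_congr e.toEquiv]
          have := card_PSL2_mul_gcd (K := K')
          rwa [hgcds, mul_one] at this
        · rw [Nat.card_congr e.toEquiv, card_PGL2]
      -- (q² - 1) ∣ (s² - 1)
      have hd1 : q ^ 2 - 1 ∣ s * (s ^ 2 - 1) := by
        rw [← hcardM]
        refine dvd_trans ?_ hdvd
        rw [hcardH]; exact dvd_mul_left _ _
      have hcop : Nat.Coprime (q ^ 2 - 1) s := by
        rw [hsa]
        apply Nat.Coprime.pow_right
        rw [Nat.coprime_two_right, Nat.odd_iff]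
        have : (q ^ 2) % 2 = 0 := by
          rw [Nat.pow_mod, Nat.even_iff.mp hq]
        have : 1 ≤ q ^ 2 := Nat.one_le_pow _ _ (by omega)
        omega
      have hd2 : q ^ 2 - 1 ∣ s ^ 2 - 1 := hcop.dvd_of_dvd_mul_left hd1
      have hd3 : (2 ^ (k : ℕ)) ^ 2 - 1 ∣ 1 * ((2 ^ a) ^ 2 - 1) := by
        rw [one_mul, ← hk, ← hsa]; exact hd2
      have hpow : (2 ^ a) ^ m = (2 ^ (k : ℕ)) ^ r := by
        rw [← hsa, hm, ← hk, hF]
      rcases eq_or_eq_pow_of_dvd 2 k a m r 1 le_rfl k.pos hr le_rfl (by norm_num) hpow hd3 with h1 | h1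
      · exfalso
        have : s = q := by rw [hsa, hk]; exact h1
        rw [hcardM, hcardH, this] at hlt
        exact lt_irrefl _ hlt
      · have hsQ : s = Q := by rw [hsa, hF, hk]; exact h1
        apply Subgroup.eq_top_of_card_eq
        rw [hcardM, hcardG, hsQ]

end Cfsg.Agent.S5943
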