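import Cfsg.Statements.S5944
-- import your own Cfsg.Agent.* helpers here

set_option autoImplicit false
open Cfsg

namespace Cfsg.Agent.S5944

/-- For n ≠ 4, every proper subgroup of the symmetric group S_n other than the alternating group A_n has index at least n. -/
theorem result (n : ℕ) (hn : n ≠ 4) (H : Subgroup (Equiv.Perm (Fin n))) (hH : H ≠ ⊤) (hA : H ≠ alternatingGroup (Fin n)) : n ≤ H.index := by
  by_contra hlt
  push Not at hlt
  have hk0 : H.index ≠ 0 := Subgroup.index_ne_zero_of_finite
  have hk1 : H.index ≠ 1 := fun h => hH (Subgroup.index_eq_one.mp h)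
  have hk2 : H.index ≠ 2 := fun h => hA (Equiv.Perm.eq_alternatingGroup_of_index_eq_two h)
  have hn5 : 5 ≤ n := by omega
  -- normal core is trivial
  have hcore : H.normalCore = ⊥ := by
    by_contra hne
    have hnt : Nontrivial H.normalCore := (Subgroup.nontrivial_iff_ne_bot _).mpr hne
    have hle : alternatingGroup (Fin n) ≤ H.normalCore :=
      Equiv.Perm.alternatingGroup_le_of_normal (by simpa using hn5) hnt
    have hle' : alternatingGroup (Fin n) ≤ H := hle.trans H.normalCore_le
    have hdvd : H.index ∣ (alternatingGroup (Fin n)).index := Subgroup.index_dvd_of_le hle'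
    have hn2 : Nontrivial (Fin n) := ⟨⟨0, by omega⟩, ⟨1, by omega⟩, by simp [Fin.ext_iff]⟩
    rw [alternatingGroup.index_eq_two] at hdvd
    have := Nat.le_of_dvd (by norm_num) hdvd
    omega
  -- so Perm (Fin n) embeds in Perm (G ⧸ H)
  have hinj : Function.Injective (MulAction.toPermHom (Equiv.Perm (Fin n)) (Equiv.Perm (Fin n) ⧸ H)) := by
    rw [← MonoidHom.ker_eq_bot_iff, ← Subgroup.normalCore_eq_ker, hcore]
  have hcard := Nat.card_le_card_of_injective _ hinj
  rw [Nat.card_perm, Nat.card_perm, Nat.card_fin] at hcard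
  have hidx : Nat.card (Equiv.Perm (Fin n) ⧸ H) = H.index := rfl
  rw [hidx] at hcard
  have h1 : H.index.factorial ≤ (n - 1).factorial := Nat.factorial_le (by omega)
  have h2 : (n - 1).factorial < n.factorial := by
    have : n = (n - 1) + 1 := by omega
    rw [this, Nat.factorial_succ]
    have hpos := Nat.factorial_pos (n - 1)
    have : 2 ≤ n - 1 + 1 := by omega
    simp only [Nat.add_sub_cancel]
    nlinarith
  omega

end Cfsg.Agent.S5944
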