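import Cfsg.Statements.S5945
import Cfsg.Agent.Lib.Helper99.S6Count

set_option autoImplicit false
open Cfsg

namespace Cfsg.Agent.S5945

open Equiv MulAction Cfsg.Agent.Lib.Helper99.S6

lemma St_eq_range (a : Fin 6) :
    St a = (Equiv.Perm.ofSubtype : Perm {x : Fin 6 // x ≠ a} →* Perm (Fin 6)).range := by
  ext g
  rw [mem_St, Equiv.Perm.mem_range_ofSubtype_iff]
  constructor
  · intro h x hx
    simp only [Finset.mem_coe, Equiv.Perm.mem_support] at hx
    show x ≠ a
    rintro rfl
    exact hx h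
  · intro h
    by_contra hne
    have : a ∈ (g.support : Set (Fin 6)) := by
      simp only [Finset.mem_coe, Equiv.Perm.mem_support]
      exact hne
    exact (h this) rfl

lemma St_iso (a : Fin 6) : Nonempty (St a ≃* Perm (Fin 5)) := by
  have e1 : Perm {x : Fin 6 // x ≠ a} ≃* St a :=
    (MonoidHom.ofInjective (f := (Equiv.Perm.ofSubtype : Perm {x : Fin 6 // x ≠ a} →* Perm (Fin 6)))
      Equiv.Perm.ofSubtype_injective).trans (MulEquiv.subgroupCongr (St_eq_range a).symm)
  have hcard : Fintype.card {x : Fin 6 // x ≠ a} = 5 := by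
    rw [Fintype.card_subtype_compl]
    simp
  have e2 : {x : Fin 6 // x ≠ a} ≃ Fin 5 := Fintype.equivFinOfCardEq hcard
  exact ⟨e1.symm.trans e2.permCongrHom⟩

lemma Ex_iso (a : Fin 6) : Nonempty (Ex a ≃* Perm (Fin 5)) := by
  obtain ⟨e⟩ := St_iso a
  have h : (Ex a).map (α0 : G6 →* G6) = St a :=
    Subgroup.map_comap_eq_self_of_surjective α0.surjective (St a)
  exact ⟨((α0.subgroupMap (Ex a)).trans (MulEquiv.subgroupCongr h)).trans e⟩

/-- The symmetric group S_6 has exactly 12 subgroups of index 6; each of them is isomorphic to S_5, and at least one of them is not the stabilizer of any point. -/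
theorem result : Nat.card {H : Subgroup (Equiv.Perm (Fin 6)) // H.index = 6} = 12 ∧ (∀ H : Subgroup (Equiv.Perm (Fin 6)), H.index = 6 → Nonempty (H ≃* Equiv.Perm (Fin 5))) ∧ ∃ H : Subgroup (Equiv.Perm (Fin 6)), H.index = 6 ∧ ∀ a : Fin 6, H ≠ MulAction.stabilizer (Equiv.Perm (Fin 6)) a := by
  refine ⟨card_index_six, ?_, T0, T0_index, ?_⟩
  · intro H hH
    rcases index_six_classification H hH with ⟨a, rfl⟩ | ⟨a, rfl⟩
    · exact St_iso a
    · exact Ex_iso a
  · intro a h
    obtain ⟨x, y, hxy, hmem⟩ := St_has_swap a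
    have : swap x y ∈ T0 := by rw [h]; exact hmem
    exact T0_no_swap x y hxy this

end Cfsg.Agent.S5945
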