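import Cfsg.Statements.S5946
-- import your own Cfsg.Agent.* helpers here

set_option autoImplicit false
open Cfsg

namespace Cfsg.Agent.S5946

/-- Let F ⊆ K be finite fields with [K : F] = n ≥ 2 and regard K as an n-dimensional F-vector space. The Singer group M ≤ GL_F(K) of multiplications by the non-zero elements of K is self-centralizing: every F-linear automorphism of K commuting with all of M lies in M. -/
theorem result {F K : Type*} [Field F] [Fintype F] [Field K] [Fintype K] [Algebra F K] (n : ℕ) (hn : 2 ≤ n) (hdim : Module.finrank F K = n) :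
    Subgroup.centralizer (((Units.map ((Algebra.lmul F K : K →ₐ[F] Module.End F K) : K →* Module.End F K)).range : Subgroup (Module.End F K)ˣ) : Set (Module.End F K)ˣ) = (Units.map ((Algebra.lmul F K : K →ₐ[F] Module.End F K) : K →* Module.End F K)).range := by
  apply le_antisymm
  · intro φ hφ
    rw [Subgroup.mem_centralizer_iff] at hφ
    -- φ commutes with every lmul a, a ≠ 0
    have key : ∀ a : K, (φ : Module.End F K) a = a * (φ : Module.End F K) 1 := by
      intro a
      by_cases ha : a = 0
      · subst ha; simp
      · have h := hφ (Units.map ((Algebra.lmul F K : K →ₐ[F] Module.End F K) : K →* Module.End F K) (Units.mk0 a ha)) ⟨_, rfl⟩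
        have h2 := congrArg (fun ψ : (Module.End F K)ˣ => (ψ : Module.End F K) 1) h
        simp at h2
        exact h2.symm
    have hne : (φ : Module.End F K) 1 ≠ 0 := by
      intro h0
      have : (φ : Module.End F K) = 0 := by
        ext a
        rw [key a, h0]; simp
      have h1 : ((φ⁻¹ : (Module.End F K)ˣ) : Module.End F K) * (φ : Module.End F K) = 1 := by
        rw [← Units.val_mul]; simp
      rw [this, mul_zero] at h1
      have := congrArg (fun ψ : Module.End F K => ψ 1) h1
      simp at this
    refine ⟨Units.mk0 _ hne, ?_⟩
    ext a
    simp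
    rw [key a, mul_comm]
  · intro φ hφ
    rw [Subgroup.mem_centralizer_iff]
    rintro ψ ⟨b, rfl⟩
    obtain ⟨a, rfl⟩ := hφ
    rw [← map_mul, ← map_mul, mul_comm]

end Cfsg.Agent.S5946
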