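import Cfsg.Statements.S5947
import Cfsg.Agent.Lib.Helper99.SingerAbelian
import Cfsg.Agent.Lib.Helper99.PrimePowTwoPow

set_option autoImplicit false
open Cfsg

namespace Cfsg.Agent.S5947

open Cfsg.Agent.Lib.Helper99 Module

/-- Let F ⊆ K be finite fields with |F| = q and [K : F] = n ≥ 2, regard K as an n-dimensional F-vector space, and let M ≤ GL_F(K) be the Singer group of multiplications by non-zero elements of K (cyclic of order q^n − 1). Assume (n, q) ≠ (6, 2), and that it is not the case that n = 2 with q a prime such that q + 1 is a power of 2. Then every abelian subgroup of GL_F(K) of order q^n − 1 is conjugate to M. -/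
theorem result {F K : Type*} [Field F] [Fintype F] [Field K] [Fintype K] [Algebra F K] (n : ℕ) (hn : 2 ≤ n) (hdim : Module.finrank F K = n)
    (hex1 : ¬ (n = 6 ∧ Fintype.card F = 2))
    (hex2 : ¬ (n = 2 ∧ (Fintype.card F).Prime ∧ ∃ a : ℕ, Fintype.card F + 1 = 2 ^ a))
    (U : Subgroup (Module.End F K)ˣ) (hU : IsMulCommutative U) (hcard : Nat.card U = Fintype.card K - 1) :
    ∃ g : (Module.End F K)ˣ, U.map (MulAut.conj g).toMonoidHom = (Units.map ((Algebra.lmul F K : K →ₐ[F] Module.End F K) : K →* Module.End F K)).range := by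
  set q := Fintype.card F with hq
  have hq1 : 1 < q := Fintype.one_lt_card
  have hKcard : Fintype.card K = q ^ n := by rw [← hdim]; exact Module.card_eq_pow_finrank
  -- Zsigmondy prime
  have hz6 : ¬ (q = 2 ∧ n = 6) := fun h => hex1 ⟨h.2, h.1⟩
  have hz2 : ¬ (n = 2 ∧ ∃ m : ℕ, q + 1 = 2 ^ m) := by
    rintro ⟨hn2, m, hm⟩
    obtain ⟨p, hchar⟩ := CharP.exists F
    obtain ⟨e, hp, he⟩ := FiniteField.card F p
    rcases Nat.lt_or_ge (e : ℕ) 2 with h1 | h2
    · have : (e : ℕ) = 1 := by have := e.pos; omega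
      rw [this, pow_one] at he
      exact hex2 ⟨hn2, by rw [hq, he]; exact hp, m, hm⟩
    · rw [← hq] at he
      rw [he] at hm
      exact prime_pow_add_one_ne_two_pow hp h2 hm
  obtain ⟨r, hr, hrdvd, hprim⟩ := zsigmondy q n hq1 (by omega) hz6 hz2
  have : Fact r.Prime := ⟨hr⟩
  -- element of order r
  have hrU : r ∣ Nat.card U := by rw [hcard, hKcard]; exact hrdvd
  obtain ⟨u, hu⟩ := exists_prime_orderOf_dvd_card' r hrU
  set f : Module.End F K := ((u : (Module.End F K)ˣ) : Module.End F K) with hf
  have hfr : f ^ r = 1 := by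
    have h1 : u ^ r = 1 := by rw [← hu]; exact pow_orderOf_eq_one u
    have h2 : ((u : (Module.End F K)ˣ)) ^ r = 1 := by
      have := congrArg Subtype.val h1
      simpa using this
    have h3 := congrArg Units.val h2
    simpa using h3
  have hf1 : f ≠ 1 := by
    intro h
    have h1 : (u : (Module.End F K)ˣ) = 1 := Units.ext h
    have h2 : u = 1 := Subtype.ext h1
    rw [h2, orderOf_one] at hu
    exact hr.one_lt.ne hu
  have hrF : (r : F) ≠ 0 := by
    intro h0
    have hqF : (q : F) = 0 := FiniteField.cast_card_eq_zero F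
    obtain ⟨t, ht⟩ := hrdvd
    have h1 : ((q ^ n - 1 : ℕ) : F) = 0 := by rw [ht]; push_cast; rw [h0, zero_mul]
    have h2 : 1 ≤ q ^ n := Nat.one_le_pow _ _ (by omega)
    rw [Nat.cast_sub h2] at h1
    push_cast at h1
    rw [hqF, zero_pow (by omega), zero_sub, neg_eq_zero] at h1
    exact one_ne_zero h1
  have hirr := irreducible_of_ppd f hfr hf1 hrF (by rw [hdim]; exact hprim)
  exact conj_singer_of_irreducible U hU hcard u u.2 hirr

end Cfsg.Agent.S5947
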