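import Cfsg.Statements.S5949
import Cfsg.Agent.Lib.Helper99.PrimeOrdMain

set_option autoImplicit false
open scoped MatrixGroups
open Cfsg
open Cfsg.Agent.Lib.Helper99 Cfsg.Agent.Lib.Helper99.PrimeOrd

namespace Cfsg.Agent.S5949

/-- Elements of prime order of PSL_n(q) with no fixed `m`-space. Here `T = PSL_n(F)` for a field `F` with `q = p^f` elements (`n ≥ 2`, `(n, q) ≠ (2, 2), (2, 3)`); an element of `T` of prime order `r` is represented by a matrix `x` of determinant 1 with `x^r` scalar and `x` not scalar; `i` denotes the multiplicative order of `q` modulo `r` (when `r ≠ p`), and `(a)_r` the `r`-part of `a`. Let `1 ≤ m ≤ n/2` and let `r` be a prime dividing the number of `m`-dimensional subspaces of `F^n`. Then every element of `T` of order `r` fixes some `m`-dimensional subspace (the action on `m`-spaces is `r`-elusive) if and only if `r ≠ p` and either (i) `i = 1` and (`r ∣ m`, or `(q−1)_r ≥ (n)_r` where in addition `q ≡ 1 (mod 4)` is required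 when `r = 2` and `n` is even), or (ii) `2 ≤ i ≤ m` and `n mod i ≥ m mod i`. -/
theorem result {F : Type*} [Field F] [Fintype F] {p : ℕ} [Fact p.Prime] [CharP F p] {q : ℕ} (hq : Fintype.card F = q)
    (n m : ℕ) (hn : 2 ≤ n) (hT : (n, q) ≠ (2, 2) ∧ (n, q) ≠ (2, 3)) (hm : 1 ≤ m) (hmn : 2 * m ≤ n)
    (r : ℕ) [Fact r.Prime] (hrΩ : r ∣ Nat.card {W : Submodule F (Fin n → F) // Module.finrank F ↥W = m}) :
    (∀ x : Matrix.SpecialLinearGroup (Fin n) F,
      (∃ c : F, ((x ^ r : Matrix.SpecialLinearGroup (Fin n) F) : Matrix (Fin n) (Fin n) F) = c • (1 : Matrix (Fin n) (Fin n) F)) →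
      (∀ c : F, (x : Matrix (Fin n) (Fin n) F) ≠ c • (1 : Matrix (Fin n) (Fin n) F)) →
      ∃ W : Submodule F (Fin n → F), Module.finrank F ↥W = m ∧ W.map (Matrix.toLin' (x : Matrix (Fin n) (Fin n) F)) ≤ W) ↔
    (r ≠ p ∧
      ((orderOf (q : ZMod r) = 1 ∧ (r ∣ m ∨ (padicValNat r n ≤ padicValNat r (q - 1) ∧ (r = 2 → Even n → q % 4 = 1)))) ∨
       (2 ≤ orderOf (q : ZMod r) ∧ orderOf (q : ZMod r) ≤ m ∧ m % orderOf (q : ZMod r) ≤ n % orderOf (q : ZMod r)))) := by
  have hr : r.Prime := Fact.out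
  have hq1 : 1 ≤ q := by rw [← hq]; exact Fintype.card_pos
  obtain ⟨t, ht1, ht2, ht3⟩ := SubCount.exists_of_prime_dvd_card_subspaces (F := F)
    (V := Fin n → F) hr m (by rw [Module.finrank_fin_fun]; omega) hrΩ
  rw [Module.finrank_fin_fun] at ht1 ht2
  rw [hq] at ht3
  have hrp : r ≠ p := by
    rintro rfl
    exact char_not_dvd hq (by omega) ht3
  have hipos := orderOf_card_pos hq r hr hrp
  have hit : orderOf (q : ZMod r) ∣ t := (PrimeOrdNT.orderOf_dvd_iff_dvd_pow_sub_one hq1).mpr ht3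
  have hin : orderOf (q : ZMod r) ≤ n := PrimeOrdNT.le_of_multiple hit ht1 ht2
  have hmod : n % orderOf (q : ZMod r) < m := PrimeOrdNT.mod_lt_of_multiple hipos hit ht1 ht2
  constructor
  · intro hL
    refine ⟨hrp, ?_⟩
    by_cases hi : orderOf (q : ZMod r) = 1
    · exact Or.inl ⟨hi, fwd_one hq r hr hrp hi (by omega) hL⟩
    · right
      have hi2 : 2 ≤ orderOf (q : ZMod r) := by omega
      obtain ⟨x, hx, hns, hnec⟩ := exists_generic hq r hr hrp hi2 hin
      obtain ⟨W, hWm, hW⟩ := hL x hx hns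
      obtain ⟨b₁, b₂, a₁, a₂, h1, h2, h3, h5, h6⟩ := hnec W W le_rfl hW hW
      rw [hWm] at h6
      have hb₂ : b₂ < orderOf (q : ZMod r) := lt_of_le_of_lt h2 (Nat.mod_lt _ hipos)
      have hmm : m % orderOf (q : ZMod r) = b₂ := PrimeOrdNT.mod_of_decomp h6.symm hb₂
      refine ⟨hi2, ?_, by rw [hmm]; exact h2⟩
      rcases Nat.eq_zero_or_pos a₂ with ha | ha
      · rw [ha, mul_zero, add_zero] at h6
        omega
      · have : orderOf (q : ZMod r) * 1 ≤ orderOf (q : ZMod r) * a₂ := Nat.mul_le_mul_left _ ha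
        omega
  · rintro ⟨_, hR⟩ x ⟨c, hx⟩ hns
    rcases structure_thm hq r hr hrp (by omega) x c hx with
      ⟨d, k, hdk, hex⟩ | ⟨hi1, hncond, e, he, hex⟩
    · have hmi : m % orderOf (q : ZMod r) ≤ n % orderOf (q : ZMod r) := by
        rcases hR with ⟨hi1, _⟩ | ⟨_, _, h⟩
        · rw [hi1, Nat.mod_one, Nat.mod_one]
        · exact h
      obtain ⟨b, a, hb, ha, hba⟩ := PrimeOrdNT.sub_arith hdk (by omega) hmi
      obtain ⟨U, W, -, -, hW, -, hfW⟩ := hex b b a a le_rfl hb le_rfl ha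
      exact ⟨W, by rw [hfW, hba], hW⟩
    · rcases hR with ⟨_, hrm | hcond⟩ | ⟨hi2, _, _⟩
      · obtain ⟨a, ha⟩ := hrm
        have hae : a ≤ e := by
          have : r * a ≤ r * e := by rw [← ha, ← he]; omega
          exact Nat.le_of_mul_le_mul_left this hr.pos
        obtain ⟨U, W, -, -, hW, -, hfW⟩ := hex a a le_rfl hae
        exact ⟨W, by rw [hfW, ha], hW⟩
      · exact absurd hcond hncond
      · omega

end Cfsg.Agent.S5949
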