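import Cfsg.Statements.S5951
import Cfsg.Agent.Lib.Helper99.PrimeOrdMain

set_option autoImplicit false
open scoped MatrixGroups
open Cfsg
open Cfsg.Agent.Lib.Helper99 Cfsg.Agent.Lib.Helper99.PrimeOrd

namespace Cfsg.Agent.S5951

/-- Elements of prime order of PSL_n(q) fixing no pair of subspaces `U < W` with `dim U = m`, `dim W = n − m`. Here `T = PSL_n(F)` for a field `F` with `q = p^f` elements (`n ≥ 2`, `(n, q) ≠ (2, 2), (2, 3)`); an element of `T` of prime order `r` is represented by a matrix `x` of determinant 1 with `x^r` scalar and `x` not scalar; `i` denotes the multiplicative order of `q` modulo `r` (when `r ≠ p`), and `(a)_r` the `r`-part of `a`. Let `1 ≤ m < n/2` and let `r` be a prime dividing the number of such pairs. Then every element of `T` of order `r` fixes such a pair (both `U` and `W`) if and only if `r ≠ p` and either (i) `i = 1` and (`r ∣ m`, or `(q−1)_r ≥ (n)_r` with `q ≡ 1 (mod 4)` required when `r = 2` and `n` is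 even), or (ii) `2 ≤ i ≤ m` and `n mod i ≥ 2 (m mod i)`. -/
theorem result {F : Type*} [Field F] [Fintype F] {p : ℕ} [Fact p.Prime] [CharP F p] {q : ℕ} (hq : Fintype.card F = q)
    (n m : ℕ) (hn : 2 ≤ n) (hT : (n, q) ≠ (2, 2) ∧ (n, q) ≠ (2, 3)) (hm : 1 ≤ m) (hmn : 2 * m < n)
    (r : ℕ) [Fact r.Prime]
    (hrΩ : r ∣ Nat.card {P : Submodule F (Fin n → F) × Submodule F (Fin n → F) //
        P.1 ≤ P.2 ∧ Module.finrank F ↥P.1 = m ∧ Module.finrank F ↥P.2 = n - m}) :
    (∀ x : Matrix.SpecialLinearGroup (Fin n) F,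
      (∃ c : F, ((x ^ r : Matrix.SpecialLinearGroup (Fin n) F) : Matrix (Fin n) (Fin n) F) = c • (1 : Matrix (Fin n) (Fin n) F)) →
      (∀ c : F, (x : Matrix (Fin n) (Fin n) F) ≠ c • (1 : Matrix (Fin n) (Fin n) F)) →
      ∃ U W : Submodule F (Fin n → F), U ≤ W ∧ Module.finrank F ↥U = m ∧ Module.finrank F ↥W = n - m ∧
        U.map (Matrix.toLin' (x : Matrix (Fin n) (Fin n) F)) ≤ U ∧ W.map (Matrix.toLin' (x : Matrix (Fin n) (Fin n) F)) ≤ W) ↔
    (r ≠ p ∧
      ((orderOf (q : ZMod r) = 1 ∧ (r ∣ m ∨ (padicValNat r n ≤ padicValNat r (q - 1) ∧ (r = 2 → Even n → q % 4 = 1)))) ∨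
       (2 ≤ orderOf (q : ZMod r) ∧ orderOf (q : ZMod r) ≤ m ∧ 2 * (m % orderOf (q : ZMod r)) ≤ n % orderOf (q : ZMod r)))) := by
  have hr : r.Prime := Fact.out
  have hq1 : 1 ≤ q := by rw [← hq]; exact Fintype.card_pos
  obtain ⟨t, ht1, ht2, ht3⟩ := SubCount.exists_of_prime_dvd_card_flags (F := F)
    (V := Fin n → F) hr m (n - m) (by omega) (by rw [Module.finrank_fin_fun]; omega) hrΩ
  rw [Module.finrank_fin_fun] at ht2
  rw [hq] at ht3
  have ht1' : n - 2 * m < t := by omega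
  have hrp : r ≠ p := by
    rintro rfl
    exact char_not_dvd hq (by omega) ht3
  have hipos := orderOf_card_pos hq r hr hrp
  have hit : orderOf (q : ZMod r) ∣ t := (PrimeOrdNT.orderOf_dvd_iff_dvd_pow_sub_one hq1).mpr ht3
  have hin : orderOf (q : ZMod r) ≤ n := PrimeOrdNT.le_of_multiple hit ht1' ht2
  have hmod : n % orderOf (q : ZMod r) < 2 * m :=
    PrimeOrdNT.mod_lt_of_multiple hipos hit ht1' ht2
  constructor
  · intro hL
    refine ⟨hrp, ?_⟩
    by_cases hi : orderOf (q : ZMod r) = 1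
    · left
      refine ⟨hi, fwd_one hq r hr hrp hi (by omega) ?_⟩
      intro x hx hns
      obtain ⟨U, W, hUW, hUm, hWm, hU, hW⟩ := hL x hx hns
      exact ⟨U, hUm, hU⟩
    · right
      have hi2 : 2 ≤ orderOf (q : ZMod r) := by omega
      obtain ⟨x, hx, hns, hnec⟩ := exists_generic hq r hr hrp hi2 hin
      obtain ⟨U, W, hUW, hUm, hWm, hU, hW⟩ := hL x hx hns
      obtain ⟨b₁, b₂, a₁, a₂, h1, h2, h3, h5, h6⟩ := hnec U W hUW hU hW
      rw [hUm] at h5
      rw [hWm] at h6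
      have h2m := PrimeOrdNT.flag_arith_nec hipos h1 h2 h5.symm h6.symm hmn
      refine ⟨hi2, ?_, h2m⟩
      by_contra hlt
      have : m % orderOf (q : ZMod r) = m := Nat.mod_eq_of_lt (by omega)
      rw [this] at h2m
      omega
  · rintro ⟨_, hR⟩ x ⟨c, hx⟩ hns
    rcases structure_thm hq r hr hrp (by omega) x c hx with
      ⟨d, k, hdk, hex⟩ | ⟨hi1, hncond, e, he, hex⟩
    · have hmi : 2 * (m % orderOf (q : ZMod r)) ≤ n % orderOf (q : ZMod r) := by
        rcases hR with ⟨hi1, _⟩ | ⟨_, _, h⟩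
        · rw [hi1, Nat.mod_one, Nat.mod_one]
        · exact h
      obtain ⟨b₁, b₂, a₁, a₂, hb, hb₂, ha, ha₂, h1, h2⟩ :=
        PrimeOrdNT.flag_arith hipos hdk hmn hmi
      obtain ⟨U, W, hUW, hU, hW, hfU, hfW⟩ := hex b₁ b₂ a₁ a₂ hb hb₂ ha ha₂
      exact ⟨U, W, hUW, by rw [hfU, h1], by rw [hfW, h2], hU, hW⟩
    · rcases hR with ⟨_, hrm | hcond⟩ | ⟨hi2, _, _⟩
      · obtain ⟨a, ha⟩ := hrm
        have h1 : r * (2 * a) < r * e := by
          rw [← he]
          calc r * (2 * a) = 2 * (r * a) := by ring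
            _ = 2 * m := by rw [ha]
            _ < n := hmn
        have h1' : 2 * a < e := Nat.lt_of_mul_lt_mul_left h1
        have h2 : r * (e - a) = n - m := by rw [Nat.mul_sub, ← he, ← ha]
        obtain ⟨U, W, hUW, hU, hW, hfU, hfW⟩ := hex a (e - a) (by omega) (Nat.sub_le e a)
        exact ⟨U, W, hUW, by rw [hfU, ha], by rw [hfW, h2], hU, hW⟩
      · exact absurd hcond hncond
      · omega

end Cfsg.Agent.S5951
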