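import Cfsg.Statements.S5952
-- import your own Cfsg.Agent.* helpers here

set_option autoImplicit false
open Cfsg

namespace Cfsg.Agent.S5952

open Module

variable {F V : Type*} [Field F] [AddCommGroup V] [Module F V] [FiniteDimensional F V]

lemma exists_sub_finrank (C : Submodule F V) (k : ℕ) (hk : k ≤ finrank F C) :
    ∃ C' : Submodule F V, C' ≤ C ∧ finrank F C' = k := by
  let b := Module.finBasis F C
  let v : Fin k → V := fun i => (b (Fin.castLE hk i) : V)
  have hli : LinearIndependent F v := by
    have h1 : LinearIndependent F (fun i : Fin k => b (Fin.castLE hk i)) :=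
      b.linearIndependent.comp _ (Fin.castLE_injective hk)
    exact h1.map' C.subtype (Submodule.ker_subtype C)
  refine ⟨Submodule.span F (Set.range v), ?_, ?_⟩
  · rw [Submodule.span_le]
    rintro _ ⟨i, rfl⟩
    exact (b (Fin.castLE hk i)).2
  · rw [finrank_span_eq_card hli, Fintype.card_fin]

variable (f : V →ₗ[F] V) {s a : ℕ} (U : Fin s → Submodule F V) (C : Submodule F V)

/-- dimension of partial sums -/
lemma finrank_partial (hUdim : ∀ j, finrank F ↥(U j) = a)
    (hdisj : ∀ (S : Finset (Fin s)) (j : Fin s), j ∉ S → Disjoint (U j) (C ⊔ ⨆ i ∈ S, U i))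
    (C' : Submodule F V) (hC' : C' ≤ C) (S : Finset (Fin s)) :
    finrank F ↥(C' ⊔ ⨆ i ∈ S, U i) = finrank F C' + a * S.card := by
  induction S using Finset.induction_on with
  | empty =>
    have : (⨆ i ∈ (∅ : Finset (Fin s)), U i) = ⊥ := by simp
    rw [this, sup_bot_eq]; simp
  | insert j S hj ih =>
    rw [Finset.iSup_insert, Finset.card_insert_of_notMem hj]
    have hd : Disjoint (U j) (C' ⊔ ⨆ i ∈ S, U i) :=
      (hdisj S j hj).mono_right (sup_le_sup_right hC' _)
    have h := Submodule.finrank_sup_add_finrank_inf_eq (U j) (C' ⊔ ⨆ i ∈ S, U i)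
    rw [hd.eq_bot, finrank_bot, add_zero, ih, hUdim] at h
    have e : C' ⊔ (U j ⊔ ⨆ i ∈ S, U i) = U j ⊔ (C' ⊔ ⨆ i ∈ S, U i) := by
      rw [sup_left_comm]
    rw [e, h]; ring

lemma dim_of_invariant (hUinv : ∀ j, U j ∈ Module.End.invtSubmodule f) (hCinv : C ∈ Module.End.invtSubmodule f)
    (hUdim : ∀ j, finrank F ↥(U j) = a)
    (hUirr : ∀ j, ∀ W : Submodule F V, W ≤ U j → W ∈ Module.End.invtSubmodule f → W = ⊥ ∨ W = U j)
    (hdisj : ∀ (S : Finset (Fin s)) (j : Fin s), j ∉ S → Disjoint (U j) (C ⊔ ⨆ i ∈ S, U i))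
    (S : Finset (Fin s)) :
    ∀ W : Submodule F V, W ∈ Module.End.invtSubmodule f → W ≤ C ⊔ ⨆ i ∈ S, U i →
      ∃ c' t' : ℕ, c' ≤ finrank F C ∧ finrank F W = c' + a * t' := by
  induction S using Finset.induction_on with
  | empty =>
    intro W _ hW
    have : (⨆ i ∈ (∅ : Finset (Fin s)), U i) = ⊥ := by simp
    rw [this, sup_bot_eq] at hW
    exact ⟨finrank F W, 0, Submodule.finrank_mono hW, by simp⟩
  | insert j S hj ih =>
    intro W hWinv hW
    set V' := C ⊔ ⨆ i ∈ S, U i with hV'
    have hV'inv : V' ∈ Module.End.invtSubmodule f := by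
      apply Sublattice.sup_mem hCinv
      -- biSup of invariant
      have : ∀ T : Finset (Fin s), (⨆ i ∈ T, U i) ∈ Module.End.invtSubmodule f := by
        intro T
        induction T using Finset.induction_on with
        | empty => simp
        | insert k T _ ihT =>
          rw [Finset.iSup_insert]
          exact Sublattice.sup_mem (hUinv k) ihT
      exact this S
    have hW' : W ≤ V' ⊔ U j := by
      refine hW.trans ?_
      rw [Finset.iSup_insert, hV']
      rw [sup_left_comm, sup_comm]
    set P := (W ⊔ V') ⊓ U j with hP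
    have hPinv : P ∈ Module.End.invtSubmodule f :=
      Sublattice.inf_mem (Sublattice.sup_mem hWinv hV'inv) (hUinv j)
    have hPle : P ≤ U j := inf_le_right
    have hdj : Disjoint (U j) V' := hdisj S j hj
    -- modular law
    have hmod : W ⊔ V' = V' ⊔ P := by
      have h1 : W ⊔ V' ≤ V' ⊔ U j := sup_le hW' le_sup_left
      have h2 : V' ≤ W ⊔ V' := le_sup_right
      calc W ⊔ V' = (V' ⊔ U j) ⊓ (W ⊔ V') := (inf_eq_right.mpr h1).symm
        _ = V' ⊔ (U j ⊓ (W ⊔ V')) := (sup_inf_assoc_of_le (U j) h2)
        _ = V' ⊔ P := by rw [hP, inf_comm]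
    have hdimP : finrank F ↥(V' ⊔ P) = finrank F V' + finrank F P := by
      have h := Submodule.finrank_sup_add_finrank_inf_eq V' P
      have : V' ⊓ P = ⊥ := by
        apply le_bot_iff.mp
        calc V' ⊓ P ≤ V' ⊓ U j := inf_le_inf_left _ hPle
          _ = ⊥ := by rw [inf_comm]; exact hdj.eq_bot
      rw [this, finrank_bot, add_zero] at h
      exact h
    have hdimW : finrank F W = finrank F ↥(W ⊓ V') + finrank F P := by
      have h := Submodule.finrank_sup_add_finrank_inf_eq W V'
      rw [hmod, hdimP] at h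
      omega
    obtain ⟨c', t', hc', ht'⟩ := ih (W ⊓ V') (Sublattice.inf_mem hWinv hV'inv) inf_le_right
    rcases hUirr j P hPle hPinv with h0 | h1
    · refine ⟨c', t', hc', ?_⟩
      rw [hdimW, ht', h0, finrank_bot, add_zero]
    · refine ⟨c', t' + 1, hc', ?_⟩
      rw [hdimW, ht', h1, hUdim]; ring

/-- Which dimensions of invariant subspaces a semisimple linear map has. Let `V` be a finite-dimensional vector space over a field `F` and `f` an invertible semisimple linear map of `V`. Suppose `V` is the internal direct sum of the fixed space `C_V(f)` (the eigenspace for 1) and subspaces `U_1, …, U_s`, each `f`-invariant of dimension `a ≥ 1` on which `f` acts irreducibly (no `f`-invariant subspaces other than 0 and `U_j`). Let `0 < m < dim V` and `ℓ = m mod a`. Then `f` leaves some `m`-dimensional subspace invariant if and only if `dim C_V(f) ≥ m`, or `a ≤ m` and `dim C_V(f) ≥ ℓ`. -/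
theorem result {F V : Type*} [Field F] [AddCommGroup V] [Module F V]
    [FiniteDimensional F V] (f : V →ₗ[F] V) (hf : Function.Bijective f) (hss : Module.End.IsSemisimple f)
    {s a : ℕ} (ha : 1 ≤ a) (U : Fin s → Submodule F V)
    (hUinv : ∀ j, (U j).map f ≤ U j) (hUdim : ∀ j, Module.finrank F ↥(U j) = a)
    (hUirr : ∀ j, ∀ W : Submodule F V, W ≤ U j → W.map f ≤ W → W = ⊥ ∨ W = U j)
    (hdec : DirectSum.IsInternal (fun o : Option (Fin s) => o.elim (Module.End.eigenspace f 1) U))
    (m : ℕ) (hm : 0 < m) (hmV : m < Module.finrank F V) :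
    (∃ W : Submodule F V, Module.finrank F ↥W = m ∧ W.map f ≤ W) ↔
    (m ≤ Module.finrank F ↥(Module.End.eigenspace f 1) ∨
      (a ≤ m ∧ m % a ≤ Module.finrank F ↥(Module.End.eigenspace f 1))) := by
  set C := Module.End.eigenspace f 1 with hC
  have hUinv' : ∀ j, U j ∈ Module.End.invtSubmodule f := fun j =>
    (Module.End.mem_invtSubmodule_iff_map_le f).mpr (hUinv j)
  have hsubinv : ∀ C' : Submodule F V, C' ≤ C → C' ∈ Module.End.invtSubmodule f := by
    intro C' hC'
    rw [Module.End.mem_invtSubmodule_iff_forall_mem_of_mem]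
    intro x hx
    have : f x = x := by
      have := hC' hx
      rw [hC, Module.End.mem_eigenspace_iff] at this
      simpa using this
    rw [this]; exact hx
  have hCinv : C ∈ Module.End.invtSubmodule f := hsubinv C le_rfl
  have hUirr' : ∀ j, ∀ W : Submodule F V, W ≤ U j → W ∈ Module.End.invtSubmodule f → W = ⊥ ∨ W = U j :=
    fun j W h1 h2 => hUirr j W h1 ((Module.End.mem_invtSubmodule_iff_map_le f).mp h2)
  rw [DirectSum.isInternal_submodule_iff_iSupIndep_and_iSup_eq_top] at hdec
  obtain ⟨hind, htop⟩ := hdec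
  have hdisj : ∀ (S : Finset (Fin s)) (j : Fin s), j ∉ S → Disjoint (U j) (C ⊔ ⨆ i ∈ S, U i) := by
    intro S j hj
    have h := hind.disjoint_biSup (x := some j) (y := (insert none (S.map Function.Embedding.some) : Finset (Option (Fin s))))
      (by simp [hj])
    have e : (⨆ o ∈ ((insert none (S.map Function.Embedding.some) : Finset (Option (Fin s))) : Set (Option (Fin s))),
        (fun o : Option (Fin s) => o.elim C U) o) = C ⊔ ⨆ i ∈ S, U i := by
      simp only [Finset.coe_insert, Finset.coe_map, Function.Embedding.some_apply]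
      rw [iSup_insert]
      simp only [Option.elim_none]
      congr 1
      rw [iSup_image]
      simp
    rw [e] at h
    exact h
  have htop' : C ⊔ ⨆ i ∈ (Finset.univ : Finset (Fin s)), U i = ⊤ := by
    rw [← htop, iSup_option]
    simp
  have hdimV : finrank F V = finrank F C + a * s := by
    have h := finrank_partial U C hUdim hdisj C le_rfl Finset.univ
    rw [htop', finrank_top, Finset.card_univ, Fintype.card_fin] at h
    exact h
  constructor
  · rintro ⟨W, hWm, hWinv⟩
    obtain ⟨c', t', hc', ht'⟩ := dim_of_invariant f U C hUinv' hCinv hUdim hUirr' hdisj Finset.univ W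
      ((Module.End.mem_invtSubmodule_iff_map_le f).mpr hWinv) (by rw [htop']; exact le_top)
    rw [hWm] at ht'
    rcases Nat.eq_zero_or_pos t' with h0 | hpos
    · left; subst h0; omega
    · right
      refine ⟨?_, ?_⟩
      · rw [ht']
        calc a = a * 1 := (mul_one a).symm
          _ ≤ a * t' := Nat.mul_le_mul_left a hpos
          _ ≤ c' + a * t' := Nat.le_add_left _ _
      · rw [ht', Nat.add_mul_mod_self_left]
        exact (Nat.mod_le _ _).trans hc'
  · intro h
    -- find k ≤ c, t' ≤ s with k + a t' = m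
    obtain ⟨k, t', hk, ht', hkt⟩ : ∃ k t' : ℕ, k ≤ finrank F C ∧ t' ≤ s ∧ k + a * t' = m := by
      rcases h with h | ⟨h1, h2⟩
      · exact ⟨m, 0, h, Nat.zero_le _, by simp⟩
      · by_cases hts : m / a ≤ s
        · exact ⟨m % a, m / a, h2, hts, Nat.mod_add_div m a⟩
        · refine ⟨m - a * s, s, ?_, le_rfl, ?_⟩
          · omega
          · have : a * s ≤ m := by
              have h3 : a * s ≤ a * (m / a) := Nat.mul_le_mul_left a (by omega)
              have h4 : a * (m / a) ≤ m := Nat.mul_div_le m a
              omega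
            omega
    obtain ⟨C', hC'le, hC'dim⟩ := exists_sub_finrank C k hk
    obtain ⟨S, hS⟩ : ∃ S : Finset (Fin s), S.card = t' := by
      obtain ⟨S, _, hS⟩ := Finset.exists_subset_card_eq (s := (Finset.univ : Finset (Fin s))) (n := t') (by simpa using ht')
      exact ⟨S, hS⟩
    refine ⟨C' ⊔ ⨆ i ∈ S, U i, ?_, ?_⟩
    · rw [finrank_partial U C hUdim hdisj C' hC'le S, hC'dim, hS, hkt]
    · rw [← Module.End.mem_invtSubmodule_iff_map_le]
      apply Sublattice.sup_mem (hsubinv C' hC'le)
      have : ∀ T : Finset (Fin s), (⨆ i ∈ T, U i) ∈ Module.End.invtSubmodule f := by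
        intro T
        induction T using Finset.induction_on with
        | empty => simp
        | insert k T _ ihT =>
          rw [Finset.iSup_insert]
          exact Sublattice.sup_mem (hUinv' k) ihT
      exact this S

end Cfsg.Agent.S5952
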