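import Cfsg.Statements.S5959
-- import your own Cfsg.Agent.* helpers here
import Mathlib
import Cfsg.Agent.Lib.Helper40.NilpotentJordan
import Cfsg.Agent.Lib.Helper40.PSLCharAdj

set_option autoImplicit false
open scoped MatrixGroups
open Cfsg

namespace Cfsg.Agent.S5959

open Cfsg.Agent.Lib.Helper40 Module

universe u

section gen
variable {F : Type u} [Field F] {V : Type*} [AddCommGroup V] [Module F V]

/-- `(X - 1) ^ k u` is `X ^ k u` up to lower terms -/
theorem tower (X : Module.End F V) (u : V) (k : ℕ) :
    ((X - 1) ^ k) u - (X ^ k) u ∈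
      Submodule.span F (Set.range (fun i : Fin k => (X ^ (i : ℕ)) u)) := by
  induction k with
  | zero => simp
  | succ k ih =>
    set S := Submodule.span F (Set.range (fun i : Fin k => (X ^ (i : ℕ)) u)) with hS
    set S' := Submodule.span F (Set.range (fun i : Fin (k + 1) => (X ^ (i : ℕ)) u)) with hS'
    have hSS' : S ≤ S' := by
      apply Submodule.span_mono
      rintro _ ⟨i, rfl⟩
      exact ⟨⟨i, by omega⟩, rfl⟩
    have hXS : ∀ w ∈ S, X w ∈ S' := by
      intro w hw
      have h1 : X w ∈ S.map X := Submodule.mem_map_of_mem hw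
      rw [hS, Submodule.map_span] at h1
      refine Submodule.span_le.mpr ?_ h1
      rintro _ ⟨_, ⟨i, rfl⟩, rfl⟩
      apply Submodule.subset_span
      refine ⟨⟨i + 1, by omega⟩, ?_⟩
      simp only
      rw [pow_succ', Module.End.mul_apply]
    have hk : (X ^ k) u ∈ S' := by
      apply Submodule.subset_span
      exact ⟨⟨k, by omega⟩, rfl⟩
    have heq : ((X - 1) ^ (k + 1)) u - (X ^ (k + 1)) u =
        X (((X - 1) ^ k) u - (X ^ k) u) - (((X - 1) ^ k) u - (X ^ k) u) - (X ^ k) u := by
      rw [pow_succ', pow_succ', Module.End.mul_apply, Module.End.mul_apply, LinearMap.sub_apply,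
        Module.End.one_apply, map_sub]
      abel
    rw [heq]
    exact S'.sub_mem (S'.sub_mem (hXS _ ih) (hSS' ih)) hk

/-- kernel dimensions add over complementary invariant subspaces -/
theorem kd_of_isCompl [FiniteDimensional F V] (N : Module.End F V) (A B : Submodule F V)
    (hAB : IsCompl A B) (hA : ∀ x ∈ A, N x ∈ A) (hB : ∀ x ∈ B, N x ∈ B) (j : ℕ) :
    kd N j = kd (N.restrict hA) j + kd (N.restrict hB) j := by
  rw [← kd_prodMap]
  symm
  apply kd_conj _ N (Submodule.prodEquivOfIsCompl A B hAB)
  rintro ⟨x, y⟩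
  rw [Submodule.coe_prodEquivOfIsCompl', LinearMap.prodMap_apply,
    Submodule.coe_prodEquivOfIsCompl', map_add]
  rfl

/-- a permuted summand moved by `X` forces many blocks of size `m + 1` -/
theorem finrank_le_of_moved [FiniteDimensional F V] {t : ℕ} (D : Fin t → Submodule F V)
    (hind : iSupIndep D) (X : Module.End F V) (σ : Equiv.Perm (Fin t))
    (hmap : ∀ l, (D l).map X = D (σ l)) (j : Fin t) (m : ℕ)
    (hdist : ∀ i, i < m → (σ ^ i) j ≠ (σ ^ m) j) (hinj : Function.Injective (X ^ m)) :
    finrank F (D j) + kd (X - 1) m ≤ finrank F V := by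
  have hXD : ∀ i : ℕ, ∀ u ∈ D j, (X ^ i) u ∈ D ((σ ^ i) j) := by
    intro i
    induction i with
    | zero => intro u hu; simpa using hu
    | succ i ih =>
      intro u hu
      have e1 : (X ^ (i + 1)) u = X ((X ^ i) u) := by rw [pow_succ', Module.End.mul_apply]
      have e2 : (σ ^ (i + 1)) j = σ ((σ ^ i) j) := by rw [pow_succ', Equiv.Perm.mul_apply]
      rw [e1, e2, ← hmap]
      exact Submodule.mem_map_of_mem (ih u hu)
  have hdisj : Disjoint (D j) (LinearMap.ker ((X - 1) ^ m)) := by
    rw [Submodule.disjoint_def]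
    intro u hu hker
    rw [LinearMap.mem_ker] at hker
    have h1 := tower X u m
    rw [hker, zero_sub] at h1
    have h2 : (X ^ m) u ∈ ⨆ l, ⨆ (_ : l ≠ (σ ^ m) j), D l := by
      have h3 : Submodule.span F (Set.range (fun i : Fin m => (X ^ (i : ℕ)) u)) ≤
          ⨆ l, ⨆ (_ : l ≠ (σ ^ m) j), D l := by
        rw [Submodule.span_le]
        rintro _ ⟨i, rfl⟩
        exact Submodule.mem_iSup_of_mem ((σ ^ (i : ℕ)) j)
          (Submodule.mem_iSup_of_mem (hdist i i.2) (hXD i u hu))
      have h4 := h3 h1
      rwa [Submodule.neg_mem_iff] at h4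
    have h5 : (X ^ m) u = 0 :=
      Submodule.disjoint_def.mp (hind ((σ ^ m) j)) _ (hXD m u hu) h2
    have h6 : (X ^ m) u = (X ^ m) 0 := by rw [h5, map_zero]
    exact hinj h6
  unfold kd
  exact Submodule.finrank_add_finrank_le_of_disjoint hdisj

end gen

/-- the core statement about a nilpotent matrix and a decomposition permuted by `1 + A` -/
theorem core {F : Type u} [Field F] (p : ℕ) [Fact p.Prime] [CharP F p] (n a t : ℕ) (ha : 1 ≤ a)
    (μ : Multiset ℕ) (hμ : ∀ b ∈ μ, 0 < b ∧ b ≤ p) (hsum : μ.sum = n) (hcount : μ.count p < a)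
    (A : Matrix (Fin n) (Fin n) F)
    (hkd : ∀ j, kd (Matrix.toLin' A) j = (μ.map (fun b => min j b)).sum)
    (hAp : A ^ p = 0)
    (D : Fin t → Submodule F (Fin n → F)) (hD : Cfsg.Geo.IsMDecomposition a D)
    (σ : Equiv.Perm (Fin t)) (hσ : ∀ j, (D j).map (Matrix.toLin' (1 + A)) = D (σ j)) :
    ∃ ν : Multiset ℕ, ν ≤ μ ∧ ν.sum = a := by
  classical
  have hp : p.Prime := Fact.out
  set N : Module.End F (Fin n → F) := Matrix.toLin' A with hN
  set X : Module.End F (Fin n → F) := Matrix.toLin' (1 + A) with hX
  have hXN : X = 1 + N := by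
    rw [hX, hN, map_add, Matrix.toLin'_one]
    rfl
  have hNX : X - 1 = N := by rw [hXN]; abel
  have hNp : N ^ p = 0 := by
    rw [hN, ← Matrix.toLin'_pow, hAp, map_zero]
  have hfin : finrank F (Fin n → F) = n := Module.finrank_fin_fun F
  have hn1 : 1 ≤ n := by
    have ht : 0 < t := by have := hD.two_le; omega
    have h1 := hD.finrank_eq ⟨0, ht⟩
    have h2 : finrank F (D ⟨0, ht⟩) ≤ finrank F (Fin n → F) := Submodule.finrank_le _
    omega
  have hXp : X ^ p = 1 := by
    have : Nonempty (Fin n) := ⟨⟨0, by omega⟩⟩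
    have h1 : (1 + A) ^ p = 1 := by
      rw [add_pow_char_of_commute p (Commute.one_left A), one_pow, hAp, add_zero]
    rw [hX, ← Matrix.toLin'_pow, h1, Matrix.toLin'_one]
    rfl
  -- `D` is injective
  have hDinj : ∀ l l', D l = D l' → l = l' := by
    intro l l' hll
    by_contra hne
    have h1 : D l ≤ ⨆ k, ⨆ (_ : k ≠ l'), D k := le_iSup₂_of_le l hne le_rfl
    have h2 : Disjoint (D l') (D l) := (hD.indep l').mono_right h1
    rw [hll, disjoint_self] at h2
    have h3 := hD.finrank_eq l'
    rw [h2, finrank_bot] at h3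
    omega
  have hmapi : ∀ i : ℕ, ∀ l, (D l).map (X ^ i) = D ((σ ^ i) l) := by
    intro i
    induction i with
    | zero =>
      intro l
      rw [pow_zero, pow_zero]
      exact Submodule.map_id _
    | succ i ih =>
      intro l
      have e2 : (σ ^ (i + 1)) l = σ ((σ ^ i) l) := by rw [pow_succ', Equiv.Perm.mul_apply]
      rw [e2, ← hσ, ← ih, pow_succ', Module.End.mul_eq_comp, Submodule.map_comp]
  by_cases hfix : ∀ j, σ j = j
  · -- every summand is stabilized
    have ht : 0 < t := by have := hD.two_le; omega
    set j0 : Fin t := ⟨0, ht⟩ with hj0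
    set A₁ := D j0 with hA₁
    set B₁ := ⨆ k, ⨆ (_ : k ≠ j0), D k with hB₁
    have hNinv : ∀ l, ∀ x ∈ D l, N x ∈ D l := by
      intro l x hx
      have h1 : X x ∈ D l := by
        have : X x ∈ (D l).map X := Submodule.mem_map_of_mem hx
        rw [hσ l, hfix l] at this
        exact this
      have h2 : N x = X x - x := by rw [← hNX]; simp
      rw [h2]
      exact (D l).sub_mem h1 hx
    have hcompl : IsCompl A₁ B₁ := by
      refine ⟨hD.indep j0, ?_⟩
      rw [codisjoint_iff, ← top_le_iff, ← hD.iSup_eq_top]
      apply iSup_le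
      intro k
      by_cases hk : k = j0
      · rw [hk]; exact le_sup_left
      · exact le_sup_of_le_right (le_iSup₂_of_le k hk le_rfl)
    have hAinv : ∀ x ∈ A₁, N x ∈ A₁ := hNinv j0
    have hBinv : ∀ x ∈ B₁, N x ∈ B₁ := by
      intro x hx
      have h1 : N x ∈ B₁.map N := Submodule.mem_map_of_mem hx
      have h2 : B₁.map N ≤ B₁ := by
        rw [hB₁, Submodule.map_iSup]
        apply iSup_le
        intro k
        rw [Submodule.map_iSup]
        apply iSup_le
        intro hk
        refine le_iSup₂_of_le k hk ?_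
        rintro _ ⟨y, hy, rfl⟩
        exact hNinv k y hy
      exact h2 h1
    have hNnil : IsNilpotent N := ⟨p, hNp⟩
    obtain ⟨ν, hνpos, hνsum, hνkd⟩ := exists_type (finrank F A₁) (N.restrict hAinv) rfl
      (isNilpotent_restrict N hNnil A₁ hAinv)
    obtain ⟨ν', hν'pos, hν'sum, hν'kd⟩ := exists_type (finrank F B₁) (N.restrict hBinv) rfl
      (isNilpotent_restrict N hNnil B₁ hBinv)
    refine ⟨ν, ?_, ?_⟩
    · have heq : μ = ν + ν' := by
        apply type_unique μ (ν + ν') (fun b hb => (hμ b hb).1)
        · intro b hb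
          rcases Multiset.mem_add.mp hb with h | h
          · exact hνpos b h
          · exact hν'pos b h
        · intro j
          rw [← hkd j, kd_of_isCompl N A₁ B₁ hcompl hAinv hBinv j, hνkd, hν'kd,
            Multiset.map_add, Multiset.sum_add]
      rw [heq]
      exact Multiset.le_add_right ν ν'
    · rw [hνsum, hA₁, hD.finrank_eq]
  · -- some summand is moved: too many blocks of size `p`
    exfalso
    push Not at hfix
    obtain ⟨j, hj⟩ := hfix
    have hper : (σ ^ p) j = j := by
      apply hDinj
      rw [← hmapi p j, hXp]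
      exact Submodule.map_id _
    have hdist : ∀ i, i < p - 1 → (σ ^ i) j ≠ (σ ^ (p - 1)) j := by
      intro i hi heq
      have h1 : (σ ^ (p - 1 - i)) j = j := by
        have : (σ ^ (p - 1)) j = (σ ^ i) ((σ ^ (p - 1 - i)) j) := by
          rw [← Equiv.Perm.mul_apply, ← pow_add]
          congr 2
          omega
        rw [this] at heq
        exact ((σ ^ i).injective heq).symm
      have h2 : Function.IsPeriodicPt σ (p - 1 - i) j := by
        rw [Function.IsPeriodicPt, Function.IsFixedPt, Equiv.Perm.iterate_eq_pow]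
        exact h1
      have h3 : Function.IsPeriodicPt σ p j := by
        rw [Function.IsPeriodicPt, Function.IsFixedPt, Equiv.Perm.iterate_eq_pow]
        exact hper
      have h4 := h2.gcd h3
      have h5 : Nat.gcd (p - 1 - i) p = 1 := by
        rw [Nat.gcd_comm]
        apply (Nat.Prime.coprime_iff_not_dvd hp).mpr
        intro hdvd
        have := Nat.le_of_dvd (by omega) hdvd
        omega
      rw [h5] at h4
      exact hj h4
    have hinj : Function.Injective (X ^ (p - 1)) := by
      have h1 : X ^ (p - 1) * X = 1 := by rw [← pow_succ, Nat.sub_add_cancel hp.one_le, hXp]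
      have h2 : X * X ^ (p - 1) = 1 := by rw [← pow_succ', Nat.sub_add_cancel hp.one_le, hXp]
      intro v w hvw
      have := congrArg X hvw
      rw [← Module.End.mul_apply, ← Module.End.mul_apply, h2] at this
      simpa using this
    have hbound := finrank_le_of_moved D hD.indep X σ hσ j (p - 1) hdist hinj
    rw [hNX, hD.finrank_eq, hfin, hkd] at hbound
    -- count the blocks of size `p`
    have h1 := sum_min_succ μ (p - 1)
    rw [Nat.sub_add_cancel hp.one_le] at h1
    have h2 : (μ.map (fun b => min p b)).sum = n := by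
      rw [← hsum]
      congr 1
      conv_rhs => rw [← Multiset.map_id μ]
      apply Multiset.map_congr rfl
      intro b hb
      have := (hμ b hb).2
      simp only [id]
      omega
    have h3 : μ.countP (fun b => p - 1 < b) = μ.count p := by
      unfold Multiset.count
      apply Multiset.countP_congr rfl
      intro b hb
      have := (hμ b hb).2
      have hp1 := hp.pos
      simp only [eq_iff_iff]
      constructor <;> intro h <;> omega
    omega


/-- Elements of order `p` of PSL_n(q) and imprimitive subgroups: a necessary condition. Here `T = PSL_n(F)` for a field `F` with `q = p^f` elements (`n ≥ 2`, `(n, q) ≠ (2, 2), (2, 3)`), `n = a·t` with `t ≥ 2`, and Ω is the set of direct-sum decompositions of `F^n` into `t` subspaces of dimension `a` (unordered; their number is the number of ordered ones divided by `t!`), whose stabilizers are the imprimitive subgroups of type GL_a(q) ≀ S_t (maximal except in some small cases; maximality is not assumed); an element of `T` of prime order `r` (a matrix `x` of determinant 1 with `x^r`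 scalar, `x` not scalar) fixes a point of Ω when it permutes the summands of some such decomposition. Suppose `p > 2` divides the number of such decompositions. If every element of `T` of order `p` stabilizes such a decomposition, then every partition of `n` into parts of size at most `p` in which the part `p` occurs fewer than `a` times contains (as a sub-multiset) a partition of `a`. -/
theorem result {F : Type*} [Field F] [Fintype F] {p : ℕ} [Fact p.Prime] [CharP F p] {q : ℕ} (hq : Fintype.card F = q)
    (n a t : ℕ) (hn : 2 ≤ n) (hT : (n, q) ≠ (2, 2) ∧ (n, q) ≠ (2, 3)) (hat : n = a * t) (ha : 1 ≤ a) (ht : 2 ≤ t)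
    (hp : 2 < p) (hΩ : p ∣ Nat.card {D : Fin t → Submodule F (Fin n → F) // Cfsg.Geo.IsMDecomposition a D} / Nat.factorial t)
    (h : ∀ x : Matrix.SpecialLinearGroup (Fin n) F,
      (∃ z : F, ((x ^ p : Matrix.SpecialLinearGroup (Fin n) F) : Matrix (Fin n) (Fin n) F) = z • (1 : Matrix (Fin n) (Fin n) F)) →
      (∀ z : F, (x : Matrix (Fin n) (Fin n) F) ≠ z • (1 : Matrix (Fin n) (Fin n) F)) →
      ∃ D : Fin t → Submodule F (Fin n → F), Cfsg.Geo.IsMDecomposition a D ∧
        ∃ σ : Equiv.Perm (Fin t), ∀ j, (D j).map (Matrix.toLin' (x : Matrix (Fin n) (Fin n) F)) = D (σ j)) :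
    (∀ μ : Multiset ℕ, (∀ b ∈ μ, 0 < b ∧ b ≤ p) → μ.sum = n → μ.count p < a → ∃ ν : Multiset ℕ, ν ≤ μ ∧ ν.sum = a) := by
  intro μ hμ hsum hcount
  classical
  have hpp : p.Prime := Fact.out
  have : Nonempty (Fin n) := ⟨⟨0, by omega⟩⟩
  have hfin : finrank F (Fin n → F) = n := Module.finrank_fin_fun F
  by_cases hall : ∀ b ∈ μ, b = 1
  · have hμeq : μ = Multiset.replicate (Multiset.card μ) 1 := Multiset.eq_replicate_card.mpr hall
    have hcard : Multiset.card μ = n := by
      rw [hμeq] at hsum
      simpa using hsum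
    refine ⟨Multiset.replicate a 1, ?_, by simp⟩
    rw [hμeq, hcard, Multiset.replicate_le_replicate]
    rw [hat]
    nlinarith
  · push Not at hall
    obtain ⟨b0, hb0, hb01⟩ := hall
    obtain ⟨A, hAnil, hkd⟩ := exists_matrix_of_type (F := F) μ hsum
    have hAp : A ^ p = 0 := by
      have h1 : kd (Matrix.toLin' A) p = finrank F (Fin n → F) := by
        rw [hkd, hfin, ← hsum]
        congr 1
        conv_rhs => rw [← Multiset.map_id μ]
        apply Multiset.map_congr rfl
        intro b hb
        have := (hμ b hb).2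
        simp only [id]
        omega
      have h2 := (kd_eq_finrank_iff _ _).mp h1
      apply (Matrix.toLin' (R := F) (n := Fin n) (m := Fin n)).injective
      rw [Matrix.toLin'_pow, h2, map_zero]
    have hxp : (1 + A) ^ p = 1 := by
      rw [add_pow_char_of_commute p (Commute.one_left A), one_pow, hAp, add_zero]
    have hdet : (1 + A).det = 1 := by
      apply eq_one_of_pow_char_eq_one p
      rw [← Matrix.det_pow, hxp, Matrix.det_one]
    obtain ⟨D, hD, σ, hσ⟩ := h ⟨1 + A, hdet⟩ ⟨1, by
        rw [one_smul]
        exact hxp⟩ (by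
      intro z hz
      have hz' : 1 + A = z • (1 : Matrix (Fin n) (Fin n) F) := hz
      have hA : A = (z - 1) • (1 : Matrix (Fin n) (Fin n) F) := by
        rw [sub_smul, ← hz', one_smul]
        abel
      have hz1 : (z - 1) ^ p = 0 := by
        have h1 := hAp
        rw [hA, smul_pow, one_pow] at h1
        have h2 := congrFun (congrFun h1 ⟨0, by omega⟩) ⟨0, by omega⟩
        simpa using h2
      have hA0 : A = 0 := by
        rw [hA, pow_eq_zero_iff hpp.ne_zero |>.mp hz1, zero_smul]
      have hk1 : kd (Matrix.toLin' A) 1 = finrank F (Fin n → F) := by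
        rw [kd_eq_finrank_iff, hA0, map_zero, pow_one]
      have hk2 : kd (Matrix.toLin' A) 2 = finrank F (Fin n → F) := by
        rw [kd_eq_finrank_iff, hA0, map_zero]
        simp
      have h3 := sum_min_succ μ 1
      rw [← hkd, ← hkd, hk1, hk2] at h3
      have h4 : 0 < μ.countP (fun b => 1 < b) := by
        rw [Multiset.countP_pos]
        exact ⟨b0, hb0, by have := (hμ b0 hb0).1; omega⟩
      omega)
    exact core p n a t ha μ hμ hsum hcount A hkd hAp D hD σ hσ

end Cfsg.Agent.S5959
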