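import Cfsg.Statements.S5960
import Cfsg.Agent.Lib.Helper13.Symp
import Cfsg.Agent.Lib.Helper23.PlaneDecomp
-- import your own Cfsg.Agent.* helpers here

set_option autoImplicit false
open scoped MatrixGroups
open Cfsg

namespace Cfsg.Agent.S5960

/-- Involutions of PSp_n(q) and imprimitive subgroups. Here `T = PSp_n(q)`, `n = 2d ≥ 4`, `(n, q) ≠ (4, 2)`, realised through the symplectic matrices over the field `F` with `q` elements and the standard alternating form; `n = a·t` with `a` even and `t ≥ 2`, and Ω is the (nonempty) set of orthogonal decompositions of `F^n` into `t` nondegenerate subspaces of dimension `a` (unordered; counted as ordered ones divided by `t!`), whose stabilizers are the imprimitive subgroups of type Sp_a(q) ≀ S_t (maximality is not assumed); an element of `T` of prime order `r` (a symplectic matrix `x` with `x^r` scalar, `x` not scalar) fixes a point of Ω when it permutes the summands of some such decomposition. If the number of such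 decompositions is even, then every involution of `T` stabilizes one of them (the action is 2-elusive). -/
theorem result {F : Type*} [Field F] [Fintype F] {p : ℕ} [Fact p.Prime] [CharP F p] {q : ℕ} (hq : Fintype.card F = q)
    (d : ℕ) (hd : 2 ≤ d) (hT : (d, q) ≠ (2, 2))
    (a t : ℕ) (hat : 2 * d = a * t) (ha : 2 ≤ a) (hae : Even a) (ht : 2 ≤ t) (hΩ : 2 ∣ Nat.card {D : Fin t → Submodule F (Fin d ⊕ Fin d → F) // (Cfsg.Geo.IsMDecomposition a D ∧ (∀ j, ∀ u ∈ D j, u ≠ 0 → ∃ v ∈ D j, Cfsg.sympForm d F u v ≠ 0) ∧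
          (∀ j j', j ≠ j' → ∀ u ∈ D j, ∀ v ∈ D j', Cfsg.sympForm d F u v = 0))} / Nat.factorial t)
    (x : ↥(Matrix.symplecticGroup (Fin d) F))
    (hx1 : ∃ z : F, ((x ^ 2 : ↥(Matrix.symplecticGroup (Fin d) F)) : Matrix (Fin d ⊕ Fin d) (Fin d ⊕ Fin d) F) = z • (1 : Matrix (Fin d ⊕ Fin d) (Fin d ⊕ Fin d) F))
    (hx2 : ∀ z : F, (x : Matrix (Fin d ⊕ Fin d) (Fin d ⊕ Fin d) F) ≠ z • (1 : Matrix (Fin d ⊕ Fin d) (Fin d ⊕ Fin d) F)) :
    ∃ D : Fin t → Submodule F (Fin d ⊕ Fin d → F), (Cfsg.Geo.IsMDecomposition a D ∧ (∀ j, ∀ u ∈ D j, u ≠ 0 → ∃ v ∈ D j, Cfsg.sympForm d F u v ≠ 0) ∧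
          (∀ j j', j ≠ j' → ∀ u ∈ D j, ∀ v ∈ D j', Cfsg.sympForm d F u v = 0)) ∧
        ∃ σ : Equiv.Perm (Fin t), ∀ j, (D j).map (Matrix.toLin' (x : Matrix (Fin d ⊕ Fin d) (Fin d ⊕ Fin d) F)) = D (σ j) := by
  classical
  obtain ⟨z, hz⟩ := hx1
  set X : Matrix (Fin d ⊕ Fin d) (Fin d ⊕ Fin d) F := (x : Matrix (Fin d ⊕ Fin d) (Fin d ⊕ Fin d) F)
    with hX
  have hxx : X * X = z • 1 := by
    rw [← hz, pow_two]
    rfl
  set B := Cfsg.Agent.Lib.Helper13.sympBilin d F with hBdef
  have hBapp : ∀ u v, B u v = Cfsg.sympForm d F u v := fun u v => rfl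
  have hB : ∀ v, B v v = 0 := fun v => Cfsg.Agent.Lib.Helper13.sympForm_self v
  set g := Matrix.toLin' X with hgdef
  have hgapp : ∀ v, g v = Matrix.mulVec X v := fun v => Matrix.toLin'_apply X v
  have hg : ∀ u v, B (g u) (g v) = B u v := by
    intro u v
    rw [hBapp, hBapp, hgapp, hgapp]
    exact Cfsg.Agent.Lib.Helper13.sympForm_mulVec_of_mem x.2 u v
  have hgg : ∀ v, g (g v) = z • v := by
    intro v
    rw [hgapp, hgapp, Matrix.mulVec_mulVec, hxx, Matrix.smul_mulVec, Matrix.one_mulVec]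
  -- a pair with nonzero form
  have hd0 : 0 < d := by omega
  have hpair : Cfsg.sympForm d F (Pi.single (Sum.inr ⟨0, hd0⟩) 1) (Pi.single (Sum.inl ⟨0, hd0⟩) 1) = 1 := by
    rw [Cfsg.Agent.Lib.Helper13.sympForm_single_single]
    simp [Matrix.J]
  have hz1 : z = 1 ∨ z = -1 := by
    have h1 : B (g (g (Pi.single (Sum.inr ⟨0, hd0⟩) 1))) (g (g (Pi.single (Sum.inl ⟨0, hd0⟩) 1))) =
        B (Pi.single (Sum.inr ⟨0, hd0⟩) 1) (Pi.single (Sum.inl ⟨0, hd0⟩) 1) := by rw [hg, hg]
    rw [hgg, hgg] at h1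
    simp only [map_smul, LinearMap.smul_apply, smul_eq_mul, hBapp, hpair, mul_one] at h1
    exact mul_self_eq_one_iff.mp h1
  have hz0 : z ≠ 0 := by
    rcases hz1 with rfl | rfl
    · exact one_ne_zero
    · exact neg_ne_zero.mpr one_ne_zero
  have hnd : Cfsg.Agent.Lib.Helper23.NondegOn B ⊤ := by
    intro m _ hm
    funext i
    rcases i with k | k
    · have := hm (Pi.single (Sum.inr k) 1) Submodule.mem_top
      rw [hBapp, Cfsg.Agent.Lib.Helper13.sympForm_eq_sum, Finset.sum_eq_single k] at this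
      · simpa using this
      · intro i _ hi; simp [hi]
      · intro h; exact absurd (Finset.mem_univ k) h
    · have := hm (Pi.single (Sum.inl k) 1) Submodule.mem_top
      rw [hBapp, Cfsg.Agent.Lib.Helper13.sympForm_eq_sum, Finset.sum_eq_single k] at this
      · simpa using this
      · intro i _ hi; simp [hi]
      · intro h; exact absurd (Finset.mem_univ k) h
  obtain ⟨a', ha'⟩ := hae
  have ha'0 : 0 < a' := by omega
  have hdim : Module.finrank F (Fin d ⊕ Fin d → F) = 2 * a' * t := by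
    rw [Module.finrank_fintype_fun_eq_card, Fintype.card_sum, Fintype.card_fin]
    have : a = 2 * a' := by omega
    rw [← this, ← hat]
    ring
  obtain ⟨D, hfr, hind, htop, horth, hndD, σ, hσ⟩ :=
    Cfsg.Agent.Lib.Helper23.exists_symplectic_decomposition hB g hg z hz0 hgg hnd a' t ha'0 hdim
  refine ⟨D, ⟨⟨ht, by omega, ?_, hind, htop⟩, ?_, ?_⟩, σ, hσ⟩
  · intro j
    rw [hfr j]
    omega
  · intro j u hu hu0
    exact hndD j u hu hu0
  · intro j j' hjj' u hu v hv
    exact horth j j' hjj' u hu v hv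

end Cfsg.Agent.S5960
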