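import Cfsg.Statements.S5962
import Cfsg.Agent.Lib.Helper13.Symp
import Cfsg.Agent.Lib.Helper23.PolarPair
-- import your own Cfsg.Agent.* helpers here

set_option autoImplicit false
open scoped MatrixGroups
open Cfsg

namespace Cfsg.Agent.S5962

/-- Involutions of PSp_n(q), q odd, and the subgroups GL_{n/2}(q).2. Here `T = PSp_n(q)`, `n = 2d ≥ 4`, `q` odd, realised through the symplectic matrices over the field `F` with `q` elements; Ω is the set of unordered pairs `{U, W}` of complementary totally isotropic `d`-spaces (`F^n = U ⊕ W`), whose stabilizers are the subgroups of type GL_d(q).2 (maximal except in some small cases; maximality is not assumed); an element of `T` of prime order `r` (a symplectic matrix `x` with `x^r` scalar, `x` not scalar) fixes such a pair when it fixes or interchanges `U` and `W`. If the number of such pairs is even, every involution of `T` fixes one of them (the action is 2-elusive). -/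
theorem result {F : Type*} [Field F] [Fintype F] {p : ℕ} [Fact p.Prime] [CharP F p] {q : ℕ} (hq : Fintype.card F = q)
    (d : ℕ) (hd : 2 ≤ d) (hT : (d, q) ≠ (2, 2)) (hodd : Odd q)
    (hΩ : 2 ∣ Nat.card {P : Submodule F (Fin d ⊕ Fin d → F) × Submodule F (Fin d ⊕ Fin d → F) // IsCompl P.1 P.2 ∧ (∀ u ∈ P.1, ∀ v ∈ P.1, Cfsg.sympForm d F u v = 0) ∧ (∀ u ∈ P.2, ∀ v ∈ P.2, Cfsg.sympForm d F u v = 0)} / 2)
    (x : ↥(Matrix.symplecticGroup (Fin d) F))
    (hx1 : ∃ z : F, ((x ^ 2 : ↥(Matrix.symplecticGroup (Fin d) F)) : Matrix (Fin d ⊕ Fin d) (Fin d ⊕ Fin d) F) = z • (1 : Matrix (Fin d ⊕ Fin d) (Fin d ⊕ Fin d) F))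
    (hx2 : ∀ z : F, (x : Matrix (Fin d ⊕ Fin d) (Fin d ⊕ Fin d) F) ≠ z • (1 : Matrix (Fin d ⊕ Fin d) (Fin d ⊕ Fin d) F)) :
    ∃ U W : Submodule F (Fin d ⊕ Fin d → F), IsCompl U W ∧ (∀ u ∈ U, ∀ v ∈ U, Cfsg.sympForm d F u v = 0) ∧ (∀ u ∈ W, ∀ v ∈ W, Cfsg.sympForm d F u v = 0) ∧
        ((U.map (Matrix.toLin' (x : Matrix (Fin d ⊕ Fin d) (Fin d ⊕ Fin d) F)) = U ∧ W.map (Matrix.toLin' (x : Matrix (Fin d ⊕ Fin d) (Fin d ⊕ Fin d) F)) = W) ∨
         (U.map (Matrix.toLin' (x : Matrix (Fin d ⊕ Fin d) (Fin d ⊕ Fin d) F)) = W ∧ W.map (Matrix.toLin' (x : Matrix (Fin d ⊕ Fin d) (Fin d ⊕ Fin d) F)) = U)) := by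
  classical
  have h2 : (2 : F) ≠ 0 := by
    intro h
    obtain ⟨m, hm⟩ := hodd
    have h0 : ((Fintype.card F : ℕ) : F) = 0 := Nat.cast_card_eq_zero F
    rw [hq, hm] at h0
    push_cast at h0
    rw [h, zero_mul, zero_add] at h0
    exact one_ne_zero h0
  obtain ⟨z, hz⟩ := hx1
  set X : Matrix (Fin d ⊕ Fin d) (Fin d ⊕ Fin d) F := (x : Matrix (Fin d ⊕ Fin d) (Fin d ⊕ Fin d) F)
    with hX
  have hxx : X * X = z • 1 := by
    rw [← hz, pow_two]
    rfl
  set B := Cfsg.Agent.Lib.Helper13.sympBilin d F with hBdef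
  have hBapp : ∀ u v, B u v = Cfsg.sympForm d F u v := fun u v => rfl
  have hB : ∀ v, B v v = 0 := fun v => Cfsg.Agent.Lib.Helper13.sympForm_self v
  set g := Matrix.toLin' X with hgdef
  have hgapp : ∀ v, g v = Matrix.mulVec X v := fun v => Matrix.toLin'_apply X v
  have hg : ∀ u v, B (g u) (g v) = B u v := by
    intro u v
    rw [hBapp, hBapp, hgapp, hgapp]
    exact Cfsg.Agent.Lib.Helper13.sympForm_mulVec_of_mem x.2 u v
  have hgg : ∀ v, g (g v) = z • v := by
    intro v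
    rw [hgapp, hgapp, Matrix.mulVec_mulVec, hxx, Matrix.smul_mulVec, Matrix.one_mulVec]
  -- a pair with nonzero form
  have hd0 : 0 < d := by omega
  have hpair : Cfsg.sympForm d F (Pi.single (Sum.inr ⟨0, hd0⟩) 1) (Pi.single (Sum.inl ⟨0, hd0⟩) 1) = 1 := by
    rw [Cfsg.Agent.Lib.Helper13.sympForm_single_single]
    simp [Matrix.J]
  have hz1 : z = 1 ∨ z = -1 := by
    have h1 : B (g (g (Pi.single (Sum.inr ⟨0, hd0⟩) 1))) (g (g (Pi.single (Sum.inl ⟨0, hd0⟩) 1))) =
        B (Pi.single (Sum.inr ⟨0, hd0⟩) 1) (Pi.single (Sum.inl ⟨0, hd0⟩) 1) := by rw [hg, hg]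
    rw [hgg, hgg] at h1
    simp only [map_smul, LinearMap.smul_apply, smul_eq_mul, hBapp, hpair, mul_one] at h1
    exact mul_self_eq_one_iff.mp h1
  have hnd : Cfsg.Agent.Lib.Helper23.NondegOn B ⊤ := by
    intro m _ hm
    funext i
    rcases i with k | k
    · have := hm (Pi.single (Sum.inr k) 1) Submodule.mem_top
      rw [hBapp, Cfsg.Agent.Lib.Helper13.sympForm_eq_sum, Finset.sum_eq_single k] at this
      · simpa using this
      · intro i _ hi; simp [hi]
      · intro h; exact absurd (Finset.mem_univ k) h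
    · have := hm (Pi.single (Sum.inl k) 1) Submodule.mem_top
      rw [hBapp, Cfsg.Agent.Lib.Helper13.sympForm_eq_sum, Finset.sum_eq_single k] at this
      · simpa using this
      · intro i _ hi; simp [hi]
      · intro h; exact absurd (Finset.mem_univ k) h
  obtain ⟨U, W, hU, hW, hc, hmap⟩ :=
    Cfsg.Agent.Lib.Helper23.exists_polar_pair hB h2 g hg z hz1 hgg hnd
  exact ⟨U, W, hc, hU, hW, hmap⟩

end Cfsg.Agent.S5962
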