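import Cfsg.Statements.S5963
import Cfsg.Agent.Lib.Helper44.Elusive10
-- import your own Cfsg.Agent.* helpers here

set_option autoImplicit false
open scoped MatrixGroups
open Cfsg

namespace Cfsg.Agent.S5963

/-- Derangements of odd prime order of PSp_n(q), q odd, on pairs of complementary totally isotropic subspaces. Here `T = PSp_n(q)`, `n = 2d ≥ 4`, `q` odd, realised through the symplectic matrices over the field `F` with `q` elements; Ω is the set of unordered pairs `{U, W}` of complementary totally isotropic `d`-spaces (`F^n = U ⊕ W`), whose stabilizers are the subgroups of type GL_d(q).2 (maximal except in some small cases; maximality is not assumed); an element of `T` of prime order `r` (a symplectic matrix `x` with `x^r` scalar, `x` not scalar) fixes such a pair when it fixes or interchanges `U` and `W`. For every odd prime `r ≠ p` dividing the number of such pairs, some element of `T` of order `r` fixes no such pair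 (the action is never `r`-elusive for odd `r ≠ p`). -/
theorem result {F : Type*} [Field F] [Fintype F] {p : ℕ} [Fact p.Prime] [CharP F p] {q : ℕ} (hq : Fintype.card F = q)
    (d : ℕ) (hd : 2 ≤ d) (hT : (d, q) ≠ (2, 2)) (hodd : Odd q)
    (r : ℕ) [Fact r.Prime] (hr2 : r ≠ 2) (hrp : r ≠ p) (hΩ : r ∣ Nat.card {P : Submodule F (Fin d ⊕ Fin d → F) × Submodule F (Fin d ⊕ Fin d → F) // IsCompl P.1 P.2 ∧ (∀ u ∈ P.1, ∀ v ∈ P.1, Cfsg.sympForm d F u v = 0) ∧ (∀ u ∈ P.2, ∀ v ∈ P.2, Cfsg.sympForm d F u v = 0)} / 2) :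
    ∃ x : ↥(Matrix.symplecticGroup (Fin d) F),
      (∃ z : F, ((x ^ r : ↥(Matrix.symplecticGroup (Fin d) F)) : Matrix (Fin d ⊕ Fin d) (Fin d ⊕ Fin d) F) = z • (1 : Matrix (Fin d ⊕ Fin d) (Fin d ⊕ Fin d) F)) ∧
      (∀ z : F, (x : Matrix (Fin d ⊕ Fin d) (Fin d ⊕ Fin d) F) ≠ z • (1 : Matrix (Fin d ⊕ Fin d) (Fin d ⊕ Fin d) F)) ∧
      ¬ (∃ U W : Submodule F (Fin d ⊕ Fin d → F), IsCompl U W ∧ (∀ u ∈ U, ∀ v ∈ U, Cfsg.sympForm d F u v = 0) ∧ (∀ u ∈ W, ∀ v ∈ W, Cfsg.sympForm d F u v = 0) ∧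
        ((U.map (Matrix.toLin' (x : Matrix (Fin d ⊕ Fin d) (Fin d ⊕ Fin d) F)) = U ∧ W.map (Matrix.toLin' (x : Matrix (Fin d ⊕ Fin d) (Fin d ⊕ Fin d) F)) = W) ∨
         (U.map (Matrix.toLin' (x : Matrix (Fin d ⊕ Fin d) (Fin d ⊕ Fin d) F)) = W ∧ W.map (Matrix.toLin' (x : Matrix (Fin d ⊕ Fin d) (Fin d ⊕ Fin d) F)) = U))) := by
  classical
  subst hq
  have hd1 : 1 ≤ d := by omega
  have hrprime : r.Prime := Fact.out
  have hrodd : Odd r := by
    rcases hrprime.eq_two_or_odd' with h | h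
    · exact absurd h hr2
    · exact h
  obtain ⟨i, hid, hri⟩ :=
    Cfsg.Agent.Lib.Helper44.Elu.exists_dvd_of_dvd_pairs (F := F) (p := p) d hd1 r hrprime hrp hΩ
  obtain ⟨j, hj1, hji, hrj, hmin⟩ :=
    Cfsg.Agent.Lib.Helper44.Elu.exists_half_order (Fintype.card F) r (i + 1) hr2 hri
  obtain ⟨X, hXsp, hXr, hXns, hXno⟩ :=
    Cfsg.Agent.Lib.Helper44.Elu.exists_singer_sp (F := F) (p := p) d hodd r hr2 j hj1 (by omega)
      hrj hmin
  let g : GL (Fin d ⊕ Fin d) F := (Cfsg.Agent.Lib.Helper94.glEquiv (Fin d ⊕ Fin d) F).symm X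
  have hgv : ∀ v, (g : Matrix (Fin d ⊕ Fin d) (Fin d ⊕ Fin d) F).mulVec v = X v :=
    Cfsg.Agent.Lib.Helper94.glEquiv_symm_mulVec X
  have hg : g ∈ Cfsg.spGL d F := by
    intro u v
    show Cfsg.sympForm d F ((g : Matrix (Fin d ⊕ Fin d) (Fin d ⊕ Fin d) F).mulVec u)
      ((g : Matrix (Fin d ⊕ Fin d) (Fin d ⊕ Fin d) F).mulVec v) = _
    rw [hgv, hgv]
    exact hXsp u v
  have hmem := Cfsg.Agent.Lib.Helper44.Elu.val_mem_symplecticGroup d g hg
  let x : ↥(Matrix.symplecticGroup (Fin d) F) := ⟨g.1, hmem⟩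
  have hlin : Matrix.toLin' (x : Matrix (Fin d ⊕ Fin d) (Fin d ⊕ Fin d) F) =
      (X : (Fin d ⊕ Fin d → F) →ₗ[F] (Fin d ⊕ Fin d → F)) := by
    apply LinearMap.ext
    intro v
    rw [Matrix.toLin'_apply]
    exact hgv v
  refine ⟨x, ⟨1, ?_⟩, ?_, ?_⟩
  · rw [one_smul]
    have h1 : g ^ r = 1 := by
      show ((Cfsg.Agent.Lib.Helper94.glEquiv (Fin d ⊕ Fin d) F).symm X) ^ r = 1
      rw [← map_pow, hXr, map_one]
    rw [SubmonoidClass.coe_pow]
    show g.1 ^ r = 1
    rw [← Units.val_pow_eq_pow_val, h1, Units.val_one]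
  · intro z hz
    obtain ⟨v, hv⟩ := hXns z
    apply hv
    rw [← hgv]
    show (x : Matrix (Fin d ⊕ Fin d) (Fin d ⊕ Fin d) F).mulVec v = _
    rw [hz, Matrix.smul_mulVec, Matrix.one_mulVec]
  · rintro ⟨U, W, hc, hU, hW, h | h⟩
    · rw [hlin] at h
      refine hXno U W hc.sup_eq_top hU hW (fun u hu => ?_) (fun u hu => ?_)
      · have := Submodule.mem_map_of_mem
          (f := (X : (Fin d ⊕ Fin d → F) →ₗ[F] (Fin d ⊕ Fin d → F))) hu
        rwa [h.1] at this
      · have := Submodule.mem_map_of_mem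
          (f := (X : (Fin d ⊕ Fin d → F) →ₗ[F] (Fin d ⊕ Fin d → F))) hu
        rwa [h.2] at this
    · rw [hlin] at h
      have hUW := Cfsg.Agent.Lib.Helper44.Elu.no_swap X r hrodd hXr U W h.1 h.2
      subst hUW
      have h3 : U = ⊥ := by
        have := hc.disjoint
        rwa [disjoint_self] at this
      have h4 : U = ⊤ := by
        have := hc.codisjoint
        rwa [codisjoint_self] at this
      have : Nonempty (Fin d ⊕ Fin d) := ⟨Sum.inl ⟨0, hd1⟩⟩
      exact bot_ne_top (h3.symm.trans h4)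

end Cfsg.Agent.S5963
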