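import Cfsg.Statements.S5964
import Cfsg.Agent.Lib.Helper99.SubInvB

set_option autoImplicit false
open scoped MatrixGroups
open Cfsg
open Cfsg.Agent.Lib.Helper99 Cfsg.Agent.Lib.Helper99.SubUnip Cfsg.Agent.Lib.Helper99.SubInv

namespace Cfsg.Agent.S5964

/-- Involutions of PSL_n(q) and subfield subgroups. Here `T = PSL_n(F)` for a field `F` with `q = p^f` elements (`n ≥ 2`, `(n, q) ≠ (2, 2), (2, 3)`), `F₀` is the subfield with `q₀` elements where `q = q₀^k` for a prime `k`, and `H` is the subgroup of matrices of determinant 1 lying in the subfield group of `F₀` (invertible matrices over `F₀` times scalars) — a maximal subgroup of type GL_n(q₀) (the case `n = 2`, `q₀ = 2` is excluded); Ω is the set of `T`-conjugates of `H` (cosets of `H`), so an element of `T` of prime order `r` (a matrix `x` of determinant 1 with `x^r` scalar, `x` not scalar) fixes a point of Ω when some conjugate of `x` by a matrix of determinant 1 lies in `H`. Suppose the index of `H` is even. Then every involution of `T` is conjugate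 in `T` into `H` if and only if either `q` is even, or `k = 2` and `(n)_2 ≤ (q − 1)_2`. (For `q` odd and `k` odd the index of `H` is odd, so that case does not arise.) -/
theorem result {F : Type*} [Field F] [Fintype F] {p : ℕ} [Fact p.Prime] [CharP F p] {q : ℕ} (hq : Fintype.card F = q)
    (n : ℕ) (hn : 2 ≤ n) (hT : (n, q) ≠ (2, 2) ∧ (n, q) ≠ (2, 3))
    (F₀ : Subfield F) (k q₀ : ℕ) (hk : k.Prime) (hF₀ : Nat.card ↥F₀ = q₀) (hqk : q = q₀ ^ k) (hC5 : ¬ (n = 2 ∧ q₀ = 2)) (hΩ : 2 ∣ ((Cfsg.Geo.subfieldSubgroup F₀ 1).comap (Matrix.SpecialLinearGroup.toGL : Matrix.SpecialLinearGroup (Fin n) F →* GL (Fin n) F)).index) :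
    (∀ x : Matrix.SpecialLinearGroup (Fin n) F,
      (∃ z : F, ((x ^ 2 : Matrix.SpecialLinearGroup (Fin n) F) : Matrix (Fin n) (Fin n) F) = z • (1 : Matrix (Fin n) (Fin n) F)) →
      (∀ z : F, (x : Matrix (Fin n) (Fin n) F) ≠ z • (1 : Matrix (Fin n) (Fin n) F)) →
      ∃ P : Matrix.SpecialLinearGroup (Fin n) F, P⁻¹ * x * P ∈ ((Cfsg.Geo.subfieldSubgroup F₀ 1).comap (Matrix.SpecialLinearGroup.toGL : Matrix.SpecialLinearGroup (Fin n) F →* GL (Fin n) F))) ↔
    (Odd q → (k = 2 ∧ padicValNat 2 n ≤ padicValNat 2 (q - 1))) := by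
  by_cases hodd : Odd q
  · have hF2 : ringChar F ≠ 2 := by
      intro h
      have h1 := FiniteField.even_card_of_char_two h
      rw [hq] at h1
      have h3 := Nat.odd_iff.mp hodd
      omega
    have h2p : 2 ≠ p := by
      intro h
      apply hF2
      rw [ringChar.eq F p, h]
    have h2F : (2 : F) ≠ 0 := Ring.two_ne_zero hF2
    have hq₀odd : Odd q₀ := by
      rw [hqk] at hodd
      exact (Nat.odd_pow_iff hk.ne_zero).mp hodd
    by_cases hk2 : k = 2
    · have hcard : Fintype.card F = q₀ ^ 2 := by rw [hq, hqk, hk2]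
      have hsq : ∀ a : F₀, IsSquare (a : F) := isSquare_coe_of_card_sq hF2 F₀ hF₀ hcard
      have hq4 : q % 4 = 1 := by
        rw [hqk, hk2]
        obtain ⟨m, hm⟩ := hq₀odd
        rw [hm]
        have h3 : (2 * m + 1) ^ 2 = 4 * (m * m + m) + 1 := by ring
        rw [h3]
        omega
      have h2q : 2 ∣ q - 1 := by omega
      constructor
      · intro hL _
        refine ⟨hk2, ?_⟩
        by_contra hcon
        have hneven : 2 ∣ n := by
          by_contra h
          apply hcon
          rw [padicValNat.eq_zero_of_not_dvd h]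
          exact Nat.zero_le _
        obtain ⟨e, he⟩ := hneven
        obtain ⟨c, hc0, hc, hdet⟩ := PrimeOrdNT.exists_bad_c hq Nat.prime_two h2q he (by omega)
          (fun h => hcon h.1)
        obtain ⟨x, hx1, hx2⟩ := PrimeOrd.exists_nonsplit_bad 2 Nat.prime_two h2p he (by omega)
          c hc0 hc hdet
        obtain ⟨P, hP⟩ := hL x ⟨c, hx1⟩ hx2
        exact not_conj_nonsplit F₀ hsq x c hc hx1 (by omega) P hP
      · intro hR x hxz hxns
        obtain ⟨-, hv⟩ := hR hodd
        obtain ⟨z, hz⟩ := hxz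
        have hz0 : z ≠ 0 := PrimeOrd.scalar_ne_zero (by omega) (x ^ 2) z hz
        have hzsq : ∃ lam : F, lam ^ 2 = z := by
          by_contra hcon
          have hc : ∀ μ : F, μ ^ 2 ≠ z := fun μ hμ => hcon ⟨μ, hμ⟩
          have hA : (x : Matrix (Fin n) (Fin n) F) ^ 2 = z • 1 := by
            rw [← Matrix.SpecialLinearGroup.coe_pow]
            exact hz
          obtain ⟨e, he, hdet, -, -⟩ := PrimeOrd.nonsplit_type 2 Nat.prime_two h2p
            (x : Matrix (Fin n) (Fin n) F) z hz0 hc hA
          rw [x.det_coe] at hdet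
          obtain ⟨μ, hμ⟩ := PrimeOrdNT.no_bad_c hq Nat.prime_two h2q he (by omega)
            ⟨hv, fun _ _ => hq4⟩ hz0 hdet.symm
          exact hc μ hμ
        obtain ⟨lam, hlam⟩ := hzsq
        have hlam0 : lam ≠ 0 := by
          rintro rfl
          rw [zero_pow (by norm_num)] at hlam
          exact hz0 hlam.symm
        refine exists_conj_split h2F F₀ x lam hlam0 ?_ (by omega)
        rw [← pow_two lam, hlam, ← pow_two, ← Matrix.SpecialLinearGroup.coe_pow]
        exact hz
    · exfalso
      have hkodd : Odd k := hk.odd_of_ne_two hk2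
      have h1 := odd_index_subfield F₀ (by omega : 1 ≤ n) hF₀ (hq.trans hqk) hq₀odd hkodd
      exact (Nat.not_even_iff_odd.mpr h1) (even_iff_two_dvd.mpr hΩ)
  · have hp2 : p = 2 := by
      obtain ⟨m, hpp, hm⟩ := FiniteField.card F p
      rw [hq] at hm
      have h1 : Even q := Nat.not_odd_iff_even.mp hodd
      rw [hm] at h1
      exact (Nat.Prime.even_iff hpp).mp (Nat.even_pow.mp h1).1
    subst hp2
    constructor
    · intro _ h
      exact absurd h hodd
    · intro _ x hxz hxns
      obtain ⟨z, hz⟩ := hxz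
      exact exists_conj_char_two F₀ x z hz hxns

end Cfsg.Agent.S5964
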