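import Cfsg.Statements.S5967
import Cfsg.Agent.Lib.Helper99.SpInvC

set_option autoImplicit false
open scoped MatrixGroups
open Cfsg
open Cfsg.Agent.Lib.Helper99 Cfsg.Agent.Lib.Helper99.SpInv Cfsg.Agent.Lib.Helper40

namespace Cfsg.Agent.S5967

/-- Involutions of PSL_n(q) and the symplectic-type subgroups. Here `T = PSL_n(F)` for a field `F` with `q` elements, `n ≥ 4` even, `f` is a nondegenerate alternating form on `F^n`, and `H` is the subgroup of matrices of determinant 1 preserving `f` up to a scalar — a maximal subgroup of type Sp_n(q); Ω is the set of `T`-conjugates of `H` (cosets of `H`), so an element of `T` of prime order `r` (a matrix `x` of determinant 1 with `x^r` scalar, `x` not scalar) fixes a point of Ω when some conjugate of `x` by a matrix of determinant 1 preserves `f` up to a scalar. Suppose the index of `H` is even. Then every involution of `T` is conjugate in `T` into `H` if and only if `(q − 1)_2 ≤ (n)_2`. -/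
theorem result {F : Type*} [Field F] [Fintype F] {p : ℕ} [Fact p.Prime] [CharP F p] {q : ℕ} (hq : Fintype.card F = q)
    (n : ℕ) (hn : 4 ≤ n) (he : Even n) (f : (Fin n → F) → (Fin n → F) → F) (hf : Cfsg.Geo.IsSymplecticForm f)
    (hΩ : 2 ∣ ((Cfsg.Geo.similarityGroup f).comap (Matrix.SpecialLinearGroup.toGL : Matrix.SpecialLinearGroup (Fin n) F →* GL (Fin n) F)).index) :
    (∀ x : Matrix.SpecialLinearGroup (Fin n) F,
      (∃ z : F, ((x ^ 2 : Matrix.SpecialLinearGroup (Fin n) F) : Matrix (Fin n) (Fin n) F) = z • (1 : Matrix (Fin n) (Fin n) F)) →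
      (∀ z : F, (x : Matrix (Fin n) (Fin n) F) ≠ z • (1 : Matrix (Fin n) (Fin n) F)) →
      ∃ P : Matrix.SpecialLinearGroup (Fin n) F, P⁻¹ * x * P ∈ ((Cfsg.Geo.similarityGroup f).comap (Matrix.SpecialLinearGroup.toGL : Matrix.SpecialLinearGroup (Fin n) F →* GL (Fin n) F))) ↔
    padicValNat 2 (q - 1) ≤ padicValNat 2 n := by
  obtain ⟨k, hk⟩ := he
  subst hk
  have hk2 : 2 ≤ k := by omega
  have hq2 : 2 ≤ q := by
    have := Fintype.one_lt_card (α := F)
    omega
  have h2F_of_odd : q % 2 = 1 → (2 : F) ≠ 0 := by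
    intro hodd
    apply Ring.two_ne_zero
    intro h
    have h1 := FiniteField.even_card_of_char_two h
    rw [hq] at h1
    omega
  constructor
  · intro hL
    by_contra hcon
    rw [not_le] at hcon
    have h2dvd : 2 ∣ q - 1 := by
      by_contra h
      rw [padicValNat.eq_zero_of_not_dvd h] at hcon
      omega
    have h2F : (2 : F) ≠ 0 := h2F_of_odd (by omega)
    obtain ⟨x, hx1, hx2, hx3⟩ := exists_bad_sp hq h2F hk2 hcon
    obtain ⟨P, hP⟩ := hL x hx1 hx2
    exact not_conj_mem_of_noSim f hf x hx3 P hP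
  · intro hv x hxz hxns
    obtain ⟨z, hz⟩ := hxz
    by_cases hodd : Odd q
    · have h2F : (2 : F) ≠ 0 := h2F_of_odd (Nat.odd_iff.mp hodd)
      have hz0 : z ≠ 0 := PrimeOrd.scalar_ne_zero (by omega) (x ^ 2) z hz
      have hxx : (x : Matrix (Fin (k + k)) (Fin (k + k)) F) * (x : Matrix (Fin (k + k)) (Fin (k + k)) F)
          = z • (1 : Matrix (Fin (k + k)) (Fin (k + k)) F) := by
        rw [← pow_two, ← Matrix.SpecialLinearGroup.coe_pow]
        exact hz
      by_cases hzsq : ∃ lam : F, lam ^ 2 = z
      · obtain ⟨lam, hlam⟩ := hzsq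
        have hlam0 : lam ≠ 0 := by
          rintro rfl
          rw [zero_pow (by norm_num)] at hlam
          exact hz0 hlam.symm
        refine exists_conj_split_sp (by omega) h2F f hf x lam hlam0 ?_
          (pow_ne_neg_one hq h2F (by omega) hv lam)
        rw [← pow_two lam, hlam]
        exact hxx
      · exact exists_conj_nonsplit (by omega) (by rw [hq]; exact Nat.odd_iff.mp hodd) h2F f hf x z hz0
          (fun μ hμ => hzsq ⟨μ, hμ⟩) hxx
    · have hp2 : p = 2 := by
        obtain ⟨m, hpp, hm⟩ := FiniteField.card F p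
        rw [hq] at hm
        have h1 : Even q := Nat.not_odd_iff_even.mp hodd
        rw [hm] at h1
        exact (Nat.Prime.even_iff hpp).mp (Nat.even_pow.mp h1).1
      subst hp2
      exact exists_conj_char_two_sp (by omega) f hf x z hz

end Cfsg.Agent.S5967
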