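import Cfsg.Statements.S5968
-- import your own Cfsg.Agent.* helpers here
import Mathlib
import Cfsg.Agent.Lib.Helper40.SylowTorus
import Cfsg.Agent.Lib.Helper40.SimIndex
import Cfsg.Agent.Lib.Helper40.SimReduce
import Cfsg.Agent.Lib.Helper40.SimElements

set_option autoImplicit false
open scoped MatrixGroups
open Cfsg

namespace Cfsg.Agent.S5968

open Cfsg.Agent.Lib.Helper40

/-- Derangements of odd prime order of PSL_n(q) on the cosets of a symplectic-type subgroup. Here `T = PSL_n(F)` for a field `F` with `q` elements, `n ≥ 4` even, `f` is a nondegenerate alternating form on `F^n`, and `H` is the subgroup of matrices of determinant 1 preserving `f` up to a scalar — a maximal subgroup of type Sp_n(q); Ω is the set of `T`-conjugates of `H` (cosets of `H`), so an element of `T` of prime order `r` (a matrix `x` of determinant 1 with `x^r` scalar, `x` not scalar) fixes a point of Ω when some conjugate of `x` by a matrix of determinant 1 preserves `f` up to a scalar. For every odd prime `r` dividing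 the index of `H`, with `(n, r) ≠ (6, 3)`, there is an element of `T` of order `r` with no conjugate in `H`. (For `n = 6`, `r = 3` this can fail: when `(q − 1)_3 = 3` every element of order 3 is conjugate into `H`.) -/
theorem result {F : Type*} [Field F] [Fintype F] {p : ℕ} [Fact p.Prime] [CharP F p] {q : ℕ} (hq : Fintype.card F = q)
    (n : ℕ) (hn : 4 ≤ n) (he : Even n) (f : (Fin n → F) → (Fin n → F) → F) (hf : Cfsg.Geo.IsSymplecticForm f)
    (r : ℕ) [Fact r.Prime] (hr2 : r ≠ 2) (hgap : ¬ (n = 6 ∧ r = 3)) (hΩ : r ∣ ((Cfsg.Geo.similarityGroup f).comap (Matrix.SpecialLinearGroup.toGL : Matrix.SpecialLinearGroup (Fin n) F →* GL (Fin n) F)).index) :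
    ∃ x : Matrix.SpecialLinearGroup (Fin n) F,
      (∃ z : F, ((x ^ r : Matrix.SpecialLinearGroup (Fin n) F) : Matrix (Fin n) (Fin n) F) = z • (1 : Matrix (Fin n) (Fin n) F)) ∧
      (∀ z : F, (x : Matrix (Fin n) (Fin n) F) ≠ z • (1 : Matrix (Fin n) (Fin n) F)) ∧
      ∀ P : Matrix.SpecialLinearGroup (Fin n) F, P⁻¹ * x * P ∉ ((Cfsg.Geo.similarityGroup f).comap (Matrix.SpecialLinearGroup.toGL : Matrix.SpecialLinearGroup (Fin n) F →* GL (Fin n) F)) := by
  classical
  have hr : r.Prime := Fact.out
  have hp : p.Prime := Fact.out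
  subst hq
  obtain ⟨k, hk⟩ := he
  subst hk
  have hq1 : 1 ≤ Fintype.card F := Fintype.card_pos
  have key : ∃ X : Matrix (Fin (k + k)) (Fin (k + k)) F,
      X.det = 1 ∧ X ^ r = 1 ∧ (∀ z : F, X ≠ z • 1) ∧ NoSim X := by
    obtain ⟨a, -, ha⟩ := FiniteField.card F p
    rcases prime_dvd_index_simSL f hf r hr hΩ with h | ⟨j, hj, hdvd⟩
    · rw [ha] at h
      have hrp : r = p := (Nat.prime_dvd_prime_iff_eq hr hp).mp (hr.dvd_of_dvd_pow h)
      have hr3 : 3 ≤ r := by
        have := hr.two_le
        omega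
      subst hrp
      exact exists_noSim_unip r hr3 (k + k) (by omega)
    · have h1 := (dvd_pow_sub_one_iff hq1 _).1 hdvd
      have hodd : Odd (orderOf ((Fintype.card F : ℕ) : ZMod r)) :=
        Odd.of_dvd_nat ⟨j + 1, rfl⟩ h1
      have hle : orderOf ((Fintype.card F : ℕ) : ZMod r) ≤ 2 * (j + 1) + 1 :=
        Nat.le_of_dvd (by omega) h1
      have hrp : r ≠ p := by
        intro hrp
        have h2 : r ∣ Fintype.card F ^ (2 * (j + 1) + 1) := by
          rw [ha, hrp]
          exact dvd_pow (dvd_pow_self p a.ne_zero) (by omega)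
        have h3 : 1 ≤ Fintype.card F ^ (2 * (j + 1) + 1) := Nat.one_le_pow _ _ hq1
        have h4 := Nat.dvd_sub h2 hdvd
        have h5 : Fintype.card F ^ (2 * (j + 1) + 1) - (Fintype.card F ^ (2 * (j + 1) + 1) - 1) = 1 := by
          omega
        rw [h5] at h4
        exact hr.one_lt.ne' (Nat.dvd_one.mp h4)
      by_cases he1 : orderOf ((Fintype.card F : ℕ) : ZMod r) = 1
      · have h2 : r ∣ Fintype.card F ^ 1 - 1 := by
          rw [dvd_pow_sub_one_iff hq1 1, he1]
        rw [pow_one] at h2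
        exact exists_noSim_diag r hr hr2 h2 (k + k) hn ⟨k, rfl⟩ hgap
      · exact exists_noSim_torus p r hrp hodd he1 (k + k) (by omega)
  obtain ⟨X, hdet, hXr, hXns, hX⟩ := key
  obtain ⟨x, hx⟩ : ∃ x : Matrix.SpecialLinearGroup (Fin (k + k)) F,
      (x : Matrix (Fin (k + k)) (Fin (k + k)) F) = X := ⟨⟨X, hdet⟩, rfl⟩
  refine ⟨x, ⟨1, ?_⟩, ?_, ?_⟩
  · rw [Matrix.SpecialLinearGroup.coe_pow, one_smul, hx]
    exact hXr
  · intro z
    rw [hx]
    exact hXns z
  · intro P
    exact not_conj_mem_of_noSim f hf x (by rw [hx]; exact hX) P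

end Cfsg.Agent.S5968
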