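import Cfsg.Statements.S5969
import Cfsg.Agent.Lib.Helper99.ExtInvD

set_option autoImplicit false
open scoped MatrixGroups
open Cfsg
open Cfsg.Agent.Lib.Helper99 Cfsg.Agent.Lib.Helper99.SpInv Cfsg.Agent.Lib.Helper99.ExtInv

namespace Cfsg.Agent.S5969

/-- Involutions of PSL_n(q) and extension-field subgroups of degree 2. Here `T = PSL_n(F)` for a field `F` with `q = p^f` elements (`n ≥ 2`, `(n, q) ≠ (2, 2), (2, 3)`), `k` is a prime dividing `n`, `K` is a subalgebra of the `n × n` matrices that is a field of degree `k` over `F` (an extension-field structure F_{q^k} on `F^n`), and `H` is the subgroup of matrices of determinant 1 normalizing `K` — a subgroup of type GL_{n/k}(q^k) (maximal except in some small cases; maximality is not assumed); Ω is the set of cosets of `H` in `T`, so an element of `T` of prime order `r` (a matrix `x` of determinant 1 with `x^r` scalar, `x` not scalar) fixes a point of Ω when some conjugate of `x` by a matrix of determinant 1 normalizes `K`. Take `k = 2` and suppose the index of `H`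 is even. Then every involution of `T` is conjugate in `T` into `H` if and only if `n = 2`, or `q` is odd and `(q − 1)_2 ≤ (n)_2`. -/
theorem result {F : Type*} [Field F] [Fintype F] {p : ℕ} [Fact p.Prime] [CharP F p] {q : ℕ} (hq : Fintype.card F = q)
    (n : ℕ) (hn : 2 ≤ n) (hT : (n, q) ≠ (2, 2) ∧ (n, q) ≠ (2, 3))
    (k : ℕ) (hk : k.Prime) (hkn : k ∣ n) (K : Subalgebra F (Matrix (Fin n) (Fin n) F)) (hK : Cfsg.Geo.IsFieldSubalgebra k K) (hk2 : k = 2) (hΩ : 2 ∣ ((Cfsg.Geo.subalgebraNormalizer K).comap (Matrix.SpecialLinearGroup.toGL : Matrix.SpecialLinearGroup (Fin n) F →* GL (Fin n) F)).index) :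
    (∀ x : Matrix.SpecialLinearGroup (Fin n) F,
      (∃ z : F, ((x ^ 2 : Matrix.SpecialLinearGroup (Fin n) F) : Matrix (Fin n) (Fin n) F) = z • (1 : Matrix (Fin n) (Fin n) F)) →
      (∀ z : F, (x : Matrix (Fin n) (Fin n) F) ≠ z • (1 : Matrix (Fin n) (Fin n) F)) →
      ∃ P : Matrix.SpecialLinearGroup (Fin n) F, P⁻¹ * x * P ∈ ((Cfsg.Geo.subalgebraNormalizer K).comap (Matrix.SpecialLinearGroup.toGL : Matrix.SpecialLinearGroup (Fin n) F →* GL (Fin n) F))) ↔
    (n = 2 ∨ (Odd q ∧ padicValNat 2 (q - 1) ≤ padicValNat 2 n)) := by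
  classical
  subst hk2
  obtain ⟨m, hm⟩ := hkn
  have hn2 : n = m + m := by omega
  subst hn2
  have hm0 : 0 < m := by omega
  have h2F_of_odd : q % 2 = 1 → (2 : F) ≠ 0 := by
    intro hodd
    apply Ring.two_ne_zero
    intro h
    have h1 := FiniteField.even_card_of_char_two h
    rw [hq] at h1
    omega
  have hp2_of_even : Even q → p = 2 := by
    intro h1
    obtain ⟨f, hpp, hf⟩ := FiniteField.card F p
    rw [hq] at hf
    rw [hf] at h1
    exact (Nat.Prime.even_iff hpp).mp (Nat.even_pow.mp h1).1
  obtain ⟨κ, s, d, hκ, hκκ, hroot, hκns, hgen⟩ := exists_gen hK (by omega)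
  obtain ⟨e, he⟩ := exists_std_coords κ s d hκκ hroot
  constructor
  · intro hall
    by_contra hcon
    push Not at hcon
    obtain ⟨hne2, hcon2⟩ := hcon
    have hm2 : 2 ≤ m := by omega
    rcases Nat.even_or_odd q with hqe | hqo
    · have hp2 := hp2_of_even hqe
      subst hp2
      obtain ⟨x, c, hsq, hns, hr⟩ := exists_bad_transvection (F := F) (n := m + m) (by omega)
      obtain ⟨P, hP⟩ := hall x hsq hns
      exact not_conj_of_rank_one hK (by omega) x c hr P hP
    · obtain ⟨x, c, hsq, hns, hr⟩ :=
        exists_bad_diag hq (h2F_of_odd (Nat.odd_iff.mp hqo)) hm2 (hcon2 hqo)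
      obtain ⟨P, hP⟩ := hall x hsq hns
      exact not_conj_of_rank_one hK (by omega) x c hr P hP
  · intro hcase x hxz hns
    obtain ⟨z, hz⟩ := hxz
    rcases Nat.even_or_odd q with hqe | hqo
    · have hm1 : m = 1 := by
        rcases hcase with h | ⟨h, _⟩
        · omega
        · exact absurd hqe (Nat.not_even_iff_odd.mpr h)
      have hp2 := hp2_of_even hqe
      subst hp2
      exact exists_conj_char_two_K' hm1 hκ hgen hroot e he x z hz hns
    · have h2F : (2 : F) ≠ 0 := h2F_of_odd (Nat.odd_iff.mp hqo)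
      have hz0 : z ≠ 0 := PrimeOrd.scalar_ne_zero (by omega) (x ^ 2) z hz
      have hxx : (x : Matrix (Fin (m + m)) (Fin (m + m)) F) * (x : Matrix (Fin (m + m)) (Fin (m + m)) F)
          = z • (1 : Matrix (Fin (m + m)) (Fin (m + m)) F) := by
        rw [← pow_two, ← Matrix.SpecialLinearGroup.coe_pow]
        exact hz
      by_cases hzsq : ∃ lam : F, lam ^ 2 = z
      · obtain ⟨lam, hlam⟩ := hzsq
        have hlam0 : lam ≠ 0 := by
          rintro rfl
          rw [zero_pow (by norm_num)] at hlam
          exact hz0 hlam.symm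
        refine exists_conj_split_K hm0 h2F hκ hgen e he x lam hlam0 ?_ ?_
        · rw [← pow_two lam, hlam]
          exact hxx
        · rcases hcase with h | ⟨_, hv⟩
          · right
            omega
          · left
            exact pow_ne_neg_one hq h2F (by omega) hv lam
      · exact exists_conj_nonsplit_K hm0 (by rw [hq]; exact Nat.odd_iff.mp hqo) h2F hκ hgen hroot
          e he x z hz0 (fun μ hμ => hzsq ⟨μ, hμ⟩) hxx

end Cfsg.Agent.S5969
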