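import Cfsg.Statements.S5970
import Cfsg.Agent.Lib.Helper99.SingerConj

set_option autoImplicit false
open scoped MatrixGroups
open Cfsg
open Cfsg.Agent.Lib.Helper99 Cfsg.Agent.Lib.Helper99.PrimeOrd Cfsg.Agent.Lib.Helper99.FieldNorm

namespace Cfsg.Agent.S5970

/-- Elements of order `n` of PSL_n(q), `n` prime, and the normalizer of a Singer cycle. Here `T = PSL_n(F)` for a field `F` with `q = p^f` elements (`n ≥ 2`, `(n, q) ≠ (2, 2), (2, 3)`), `k` is a prime dividing `n`, `K` is a subalgebra of the `n × n` matrices that is a field of degree `k` over `F` (an extension-field structure F_{q^k} on `F^n`), and `H` is the subgroup of matrices of determinant 1 normalizing `K` — a subgroup of type GL_{n/k}(q^k) (maximal except in some small cases; maximality is not assumed); Ω is the set of cosets of `H` in `T`, so an element of `T` of prime order `r` (a matrix `x` of determinant 1 with `x^r` scalar, `x` not scalar) fixes a point of Ω when some conjugate of `x` by a matrix of determinant 1 normalizes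 `K`. Take `k = n > 3` prime with `n ≠ p` (so `H` is the normalizer of a Singer cycle), and suppose `n` divides the index of `H`. Then every element of `T` of order `n` is conjugate in `T` into `H` if and only if the multiplicative order of `q` modulo `n` is `n − 1`. -/
theorem result {F : Type*} [Field F] [Fintype F] {p : ℕ} [Fact p.Prime] [CharP F p] {q : ℕ} (hq : Fintype.card F = q)
    (n : ℕ) (hn : 2 ≤ n) (hT : (n, q) ≠ (2, 2) ∧ (n, q) ≠ (2, 3))
    (k : ℕ) (hk : k.Prime) (hkn : k ∣ n) (K : Subalgebra F (Matrix (Fin n) (Fin n) F)) (hK : Cfsg.Geo.IsFieldSubalgebra k K) (hkn' : k = n) (hn3 : 3 < n) (hnp : n ≠ p) (hΩ : n ∣ ((Cfsg.Geo.subalgebraNormalizer K).comap (Matrix.SpecialLinearGroup.toGL : Matrix.SpecialLinearGroup (Fin n) F →* GL (Fin n) F)).index) :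
    (∀ x : Matrix.SpecialLinearGroup (Fin n) F,
      (∃ z : F, ((x ^ n : Matrix.SpecialLinearGroup (Fin n) F) : Matrix (Fin n) (Fin n) F) = z • (1 : Matrix (Fin n) (Fin n) F)) →
      (∀ z : F, (x : Matrix (Fin n) (Fin n) F) ≠ z • (1 : Matrix (Fin n) (Fin n) F)) →
      ∃ P : Matrix.SpecialLinearGroup (Fin n) F, P⁻¹ * x * P ∈ ((Cfsg.Geo.subalgebraNormalizer K).comap (Matrix.SpecialLinearGroup.toGL : Matrix.SpecialLinearGroup (Fin n) F →* GL (Fin n) F))) ↔
    orderOf (q : ZMod n) = n - 1 := by
  subst hkn'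
  have hq1 : 1 ≤ q := by rw [← hq]; exact Fintype.card_pos
  have hkF : (k : F) ≠ 0 := natCast_ne_zero_of_ne_char k hk hnp
  have hdvd := orderOf_card_dvd hq k hk hnp
  have hpos := orderOf_card_pos hq k hk hnp
  constructor
  · intro hL
    by_contra hne
    obtain ⟨t, ht⟩ := hdvd
    have ht2 : 2 ≤ t := by
      rcases t with _ | _ | t
      · rw [mul_zero] at ht; omega
      · exfalso; apply hne; omega
      · omega
    have hmul : orderOf (q : ZMod k) * 2 ≤ orderOf (q : ZMod k) * t := Nat.mul_le_mul_left _ ht2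
    have hd2 : 2 ≤ k - orderOf (q : ZMod k) := by omega
    obtain ⟨x, hx1, hx2, hx3⟩ : ∃ x : Matrix.SpecialLinearGroup (Fin k) F,
        ((x ^ k : Matrix.SpecialLinearGroup (Fin k) F) : Matrix (Fin k) (Fin k) F)
          = (1 : F) • (1 : Matrix (Fin k) (Fin k) F) ∧
        (∀ c : F, (x : Matrix (Fin k) (Fin k) F) ≠ c • (1 : Matrix (Fin k) (Fin k) F)) ∧
        2 ≤ Module.finrank F (LinearMap.ker (Matrix.toLin' (x : Matrix (Fin k) (Fin k) F)
          - (1 : F) • (1 : Module.End F (Fin k → F)))) := by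
      by_cases hi1 : orderOf (q : ZMod k) = 1
      · have hkq : k ∣ q - 1 := (PrimeOrdNT.orderOf_eq_one_iff_dvd hq1).mp hi1
        exact exists_diag_bad hq hk (by omega) hkq
      · obtain ⟨x, h1, h2, h3⟩ := exists_split_bad hq k hk hnp (by omega) (n := k)
          (d := k - orderOf (q : ZMod k)) (k := 1) (by omega) le_rfl
        exact ⟨x, h1, h2, by rw [h3]; exact hd2⟩
    obtain ⟨P, hP⟩ := hL x ⟨1, hx1⟩ hx2
    exact not_conj_mem_of_finrank_ker hK hk x hx2 1 hx3 P hP
  · intro hord x hxz hxns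
    obtain ⟨z, hz⟩ := hxz
    have hz0 : z ≠ 0 := scalar_ne_zero (by omega) (x ^ k) z hz
    have hr1 : ¬ k ∣ Fintype.card F - 1 := by
      rw [hq, ← PrimeOrdNT.orderOf_eq_one_iff_dvd hq1, hord]
      omega
    obtain ⟨lam, hlam⟩ := PrimeOrdNT.exists_pow_eq_of_not_dvd hk hr1 hz0
    have hlam0 : lam ≠ 0 := by
      rintro rfl
      rw [zero_pow hk.ne_zero] at hlam
      exact hz0 hlam.symm
    set y : Matrix (Fin k) (Fin k) F := lam⁻¹ • (x : Matrix (Fin k) (Fin k) F) with hy
    have hxy : (x : Matrix (Fin k) (Fin k) F) = lam • y := by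
      rw [hy, smul_smul, mul_inv_cancel₀ hlam0, one_smul]
    have hyk : y ^ k = 1 := by
      rw [hy, _root_.smul_pow, ← Matrix.SpecialLinearGroup.coe_pow, hz, smul_smul, inv_pow, hlam,
        inv_mul_cancel₀ hz0, one_smul]
    have hy1 : y ≠ 1 := by
      intro h1
      apply hxns lam
      rw [hxy, h1]
    have hchar := charpoly_eq_of_pow_eq_one hq hk hnp hord (by omega) y hyk hy1
    exact exists_sl_conj hK (by omega) hkF x hlam0 y hxy hchar

end Cfsg.Agent.S5970
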