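import Cfsg.Statements.S5971
import Cfsg.Agent.Lib.Helper99.Singer3

set_option autoImplicit false
open scoped MatrixGroups
open Cfsg
open Cfsg.Agent.Lib.Helper99 Cfsg.Agent.Lib.Helper99.PrimeOrd Cfsg.Agent.Lib.Helper99.FieldNorm

namespace Cfsg.Agent.S5971

/-- Elements of order 3 of PSL_3(q) and the normalizer of a Singer cycle. Here `T = PSL_n(F)` for a field `F` with `q = p^f` elements (`n ≥ 2`, `(n, q) ≠ (2, 2), (2, 3)`), `k` is a prime dividing `n`, `K` is a subalgebra of the `n × n` matrices that is a field of degree `k` over `F` (an extension-field structure F_{q^k} on `F^n`), and `H` is the subgroup of matrices of determinant 1 normalizing `K` — a subgroup of type GL_{n/k}(q^k) (maximal except in some small cases; maximality is not assumed); Ω is the set of cosets of `H` in `T`, so an element of `T` of prime order `r` (a matrix `x` of determinant 1 with `x^r` scalar, `x` not scalar) fixes a point of Ω when some conjugate of `x` by a matrix of determinant 1 normalizes `K`. Take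 `n = k = 3` and suppose 3 divides the index of `H`. Then every element of `T` of order 3 is conjugate in `T` into `H` if and only if `q ≡ 4, 7` or `8 (mod 9)`. -/
theorem result {F : Type*} [Field F] [Fintype F] {p : ℕ} [Fact p.Prime] [CharP F p] {q : ℕ} (hq : Fintype.card F = q)
    (n : ℕ) (hn : n = 3) (k : ℕ) (hk : k.Prime) (hkn : k ∣ n) (K : Subalgebra F (Matrix (Fin n) (Fin n) F)) (hK : Cfsg.Geo.IsFieldSubalgebra k K) (hk3 : k = 3) (hΩ : 3 ∣ ((Cfsg.Geo.subalgebraNormalizer K).comap (Matrix.SpecialLinearGroup.toGL : Matrix.SpecialLinearGroup (Fin n) F →* GL (Fin n) F)).index) :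
    (∀ x : Matrix.SpecialLinearGroup (Fin n) F,
      (∃ z : F, ((x ^ 3 : Matrix.SpecialLinearGroup (Fin n) F) : Matrix (Fin n) (Fin n) F) = z • (1 : Matrix (Fin n) (Fin n) F)) →
      (∀ z : F, (x : Matrix (Fin n) (Fin n) F) ≠ z • (1 : Matrix (Fin n) (Fin n) F)) →
      ∃ P : Matrix.SpecialLinearGroup (Fin n) F, P⁻¹ * x * P ∈ ((Cfsg.Geo.subalgebraNormalizer K).comap (Matrix.SpecialLinearGroup.toGL : Matrix.SpecialLinearGroup (Fin n) F →* GL (Fin n) F))) ↔
    (q % 9 = 4 ∨ q % 9 = 7 ∨ q % 9 = 8) := by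
  subst hn
  subst hk3
  have hp : p.Prime := Fact.out
  have hq1 : 1 ≤ q := by rw [← hq]; exact Fintype.card_pos
  have hpq : p ∣ q := by
    rw [← hq, ← CharP.cast_eq_zero_iff F p]
    exact Nat.cast_card_eq_zero F
  constructor
  · intro hL
    by_contra hne
    have hcases : q % 3 = 0 ∨ q % 9 = 1 ∨ (q % 9 = 2 ∨ q % 9 = 5) := by omega
    rcases hcases with h0 | h1 | h25
    · have h3q : 3 ∣ q := Nat.dvd_of_mod_eq_zero h0
      obtain ⟨f, -, hf⟩ := FiniteField.card F p
      rw [hq] at hf
      rw [hf] at h3q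
      have h3p : 3 = p :=
        (Nat.prime_dvd_prime_iff_eq Nat.prime_three hp).mp (Nat.prime_three.dvd_of_dvd_pow h3q)
      subst h3p
      obtain ⟨x, hx1, hx2, hx3⟩ := exists_transvection_bad (F := F)
      obtain ⟨P, hP⟩ := hL x ⟨1, hx1⟩ hx2
      exact not_conj_mem_of_finrank_ker hK Nat.prime_three x hx2 1 hx3 P hP
    · have h9 : 9 ∣ Fintype.card F - 1 := by rw [hq]; omega
      obtain ⟨x, hx1, hx2, lam, hx3⟩ := exists_diag_bad_three h9
      obtain ⟨P, hP⟩ := hL x hx1 hx2
      exact not_conj_mem_of_finrank_ker hK Nat.prime_three x hx2 lam hx3 P hP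
    · exact not_three_dvd_index hq hK h25 hΩ
  · intro hq9 x hxz hxns
    have h3p : 3 ≠ p := by
      rintro rfl
      omega
    have h9 : ¬ 9 ∣ Fintype.card F - 1 := by rw [hq]; omega
    obtain ⟨z, hz⟩ := hxz
    have hz1 := scalar_eq_one_of_cube h3p h9 x z hz
    have hx3 : (x : Matrix (Fin 3) (Fin 3) F) ^ 3 = 1 := by
      rw [← Matrix.SpecialLinearGroup.coe_pow, hz, hz1, one_smul]
    have hchar := charpoly_eq_of_cube (x : Matrix (Fin 3) (Fin 3) F) hx3 x.det_coe hxns
    have h3F : ((3 : ℕ) : F) ≠ 0 := natCast_ne_zero_of_ne_char 3 Nat.prime_three h3p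
    exact exists_sl_conj hK (by norm_num) h3F x one_ne_zero (x : Matrix (Fin 3) (Fin 3) F)
      (one_smul _ _).symm hchar

end Cfsg.Agent.S5971
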