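import Cfsg.Statements.S5983
import Cfsg.Agent.Lib.Helper44.Elusive8
import Cfsg.Agent.Lib.Helper94.OrthBridge
import Cfsg.Agent.Lib.Helper94.OrthSiegel
-- import your own Cfsg.Agent.* helpers here

set_option autoImplicit false
open scoped MatrixGroups
open Cfsg

namespace Cfsg.Agent.S5983


open Matrix Module Cfsg.Agent.Lib.Helper44 Cfsg.Agent.Lib.Helper44.Elu

section aux
variable {F : Type*} [Field F] [Fintype F] [CharP F 2]

/-- a scalar symplectic matrix is the identity (characteristic two) -/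
theorem scalar_sp_eq_one (d : ℕ) (hd : 1 ≤ d) (Q : QuadraticForm F (Fin d ⊕ Fin d → F))
    (hQ : (QuadraticMap.polarBilin Q).Nondegenerate)
    (hpol : ∀ u v, QuadraticMap.polar (⇑Q) u v = Cfsg.sympForm d F u v)
    (x : GL (Fin d ⊕ Fin d) F) (hx : x ∈ Cfsg.spGL d F) (z : F)
    (hz : (x : Matrix (Fin d ⊕ Fin d) (Fin d ⊕ Fin d) F) = z • (1 : Matrix (Fin d ⊕ Fin d) (Fin d ⊕ Fin d) F)) :
    (x : Matrix (Fin d ⊕ Fin d) (Fin d ⊕ Fin d) F) = 1 := by
  rw [mem_spGL_iff_polar d Q hpol] at hx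
  have hne : (Pi.single (Sum.inl (⟨0, by omega⟩ : Fin d)) (1 : F) : Fin d ⊕ Fin d → F) ≠ 0 := by
    intro h
    have := congrFun h (Sum.inl (⟨0, by omega⟩ : Fin d))
    simp at this
  obtain ⟨w, hw⟩ : ∃ w, QuadraticMap.polar (⇑Q)
      (Pi.single (Sum.inl (⟨0, by omega⟩ : Fin d)) (1 : F) : Fin d ⊕ Fin d → F) w ≠ 0 := by
    by_contra hcon
    push Not at hcon
    exact hne (hQ.1 _ hcon)
  have h1 := hx (Pi.single (Sum.inl (⟨0, by omega⟩ : Fin d)) (1 : F)) w
  rw [hz, Matrix.smul_mulVec, Matrix.smul_mulVec, Matrix.one_mulVec, Matrix.one_mulVec,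
    QuadraticMap.polar_smul_left, QuadraticMap.polar_smul_right, smul_eq_mul, smul_eq_mul] at h1
  have h2 : z * z = 1 := by
    have : (z * z - 1) * QuadraticMap.polar (⇑Q)
        (Pi.single (Sum.inl (⟨0, by omega⟩ : Fin d)) (1 : F)) w = 0 := by linear_combination h1
    rcases mul_eq_zero.mp this with h | h
    · exact sub_eq_zero.mp h
    · exact absurd h hw
  rw [hz, eq_one_of_mul_self z h2, one_smul]

end aux



/-- Elements of prime order of PSp_n(q), q even, and the subgroups of orthogonal type. Here `T = Sp_{2d}(F)` for a field `F` of characteristic 2 with `q` elements (`d ≥ 2`, `(d, q) ≠ (2, 2)`), realised as the invertible matrices preserving the standard alternating form; `Q` is a non-degenerate quadratic form on `F^{2d}` whose polar form is that alternating form, and `H` is the subgroup of `T` preserving `Q` up to a scalar (equivalently preserving `Q`) — a subgroup of type O^±_{2d}(q) (maximality is not assumed); `Q` is of plus type when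 `F^{2d}` contains a `d`-dimensional subspace on which `Q` vanishes, of minus type otherwise. Ω is the set of cosets of `H` in `T`, so an element of `T` of prime order `r` (`x ∈ T` with `x^r` scalar, `x` not scalar) fixes a point of Ω exactly when some `T`-conjugate of `x` preserves `Q`. Let `r` be a prime dividing the index of `H`. Then every element of `T` of order `r` fixes a point of Ω if and only if `r = 2` and either `Q` is of plus type or `d` is odd. -/
theorem result {F : Type*} [Field F] [Fintype F] {p : ℕ} [Fact p.Prime] [CharP F p] {q : ℕ} (hq : Fintype.card F = q)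
    (hp : p = 2) (d : ℕ) (hd : 2 ≤ d) (hT : (d, q) ≠ (2, 2)) (Q : (Fin d ⊕ Fin d → F) → F) (hQ : Cfsg.Geo.IsNondegenerateQuadraticForm Q)
    (hQf : ∀ u v, QuadraticMap.polar Q u v = Cfsg.sympForm d F u v)
    (r : ℕ) [Fact r.Prime]
    (hΩ : r ∣ (Cfsg.Geo.quadSimilarityGroup Q).relIndex (Cfsg.spGL d F)) :
    (∀ x ∈ Cfsg.spGL d F, (∃ z : F, ((x ^ r : GL (Fin d ⊕ Fin d) F) : Matrix (Fin d ⊕ Fin d) (Fin d ⊕ Fin d) F) = z • (1 : Matrix (Fin d ⊕ Fin d) (Fin d ⊕ Fin d) F)) →
      (∀ z : F, (x : Matrix (Fin d ⊕ Fin d) (Fin d ⊕ Fin d) F) ≠ z • (1 : Matrix (Fin d ⊕ Fin d) (Fin d ⊕ Fin d) F)) →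
      ∃ g ∈ Cfsg.spGL d F, g⁻¹ * x * g ∈ Cfsg.Geo.quadSimilarityGroup Q) ↔
    (r = 2 ∧ (Cfsg.Geo.IsPlusTypeOn Q ⊤ ∨ Odd d)) := by
  subst hp
  classical
  have hD := Cfsg.Agent.Lib.Helper94.quadData_polarBilin hQ
  have hnd := Cfsg.Agent.Lib.Helper94.nondeg_polarBilin hQ
  set Q₀ : QuadraticForm F (Fin d ⊕ Fin d → F) := hD.toQF with hQ₀def
  have hcoe : ∀ v, Q₀ v = Q v := fun v => rfl
  have hQ₀ : (QuadraticMap.polarBilin Q₀).Nondegenerate := hD.nondeg_toQF hnd
  have hpol : ∀ u v, QuadraticMap.polar (⇑Q₀) u v = Cfsg.sympForm d F u v := hQf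
  have hcard : Fintype.card (Fin d ⊕ Fin d) = 2 * d := by
    rw [Fintype.card_sum, Fintype.card_fin]; ring
  have hplusiff : Cfsg.Geo.IsPlusTypeOn Q ⊤ ↔ PlusT d Q₀ := by
    constructor
    · rintro ⟨U, -, hUs, hUd⟩
      refine ⟨U, ?_, fun u hu => hUs u hu⟩
      rw [finrank_top, Module.finrank_fintype_fun_eq_card, hcard] at hUd
      omega
    · rintro ⟨U, hU, hU0⟩
      refine ⟨U, le_top, fun u hu => hU0 u hu, ?_⟩
      rw [finrank_top, Module.finrank_fintype_fun_eq_card, hcard, hU]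
  rw [hplusiff]
  -- what the hypothesis gives for one element
  have Hcons : (∀ x ∈ Cfsg.spGL d F, (∃ z : F, ((x ^ r : GL (Fin d ⊕ Fin d) F) : Matrix (Fin d ⊕ Fin d) (Fin d ⊕ Fin d) F) = z • (1 : Matrix (Fin d ⊕ Fin d) (Fin d ⊕ Fin d) F)) →
      (∀ z : F, (x : Matrix (Fin d ⊕ Fin d) (Fin d ⊕ Fin d) F) ≠ z • (1 : Matrix (Fin d ⊕ Fin d) (Fin d ⊕ Fin d) F)) →
      ∃ g ∈ Cfsg.spGL d F, g⁻¹ * x * g ∈ Cfsg.Geo.quadSimilarityGroup Q) →
      ∀ x ∈ Cfsg.spGL d F, x ^ r = 1 →
        (x : Matrix (Fin d ⊕ Fin d) (Fin d ⊕ Fin d) F) ≠ 1 →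
        ∃ g : GL (Fin d ⊕ Fin d) F,
          (∀ u v, QuadraticMap.polar (⇑Q₀) ((g : Matrix (Fin d ⊕ Fin d) (Fin d ⊕ Fin d) F) *ᵥ u)
            ((g : Matrix (Fin d ⊕ Fin d) (Fin d ⊕ Fin d) F) *ᵥ v) = QuadraticMap.polar (⇑Q₀) u v) ∧
          ∀ v, Q₀ (((g⁻¹ * x * g : GL (Fin d ⊕ Fin d) F) : Matrix (Fin d ⊕ Fin d) (Fin d ⊕ Fin d) F) *ᵥ v) = Q₀ v := by
    intro H x hx hxr hx1
    obtain ⟨g, hg, hgx⟩ := H x hx ⟨1, by rw [hxr, one_smul]; rfl⟩
      (fun z hz => hx1 (scalar_sp_eq_one d (by omega) Q₀ hQ₀ hpol x hx z hz))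
    refine ⟨g, (mem_spGL_iff_polar d Q₀ hpol g).mp hg, ?_⟩
    have hmem : g⁻¹ * x * g ∈ Cfsg.spGL d F :=
      mul_mem (mul_mem (inv_mem hg) hx) hg
    exact (Cfsg.Agent.Lib.Helper13.mem_isometryGroup_iff _ _).mp
      (sim_mem_isometry d Q₀ hpol hQ₀ (by omega) _ hmem hgx)
  constructor
  · intro H
    have Hc := Hcons H
    have hr2 : r = 2 := by
      by_contra hne
      have hdv := odd_prime_dvd_of_dvd_relIndex d Q₀ hpol hQ₀ hd r (Fact.out) hne hΩ
      by_cases hplus : PlusT d Q₀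
      · -- a Singer element of minus type
        have hdvd : r ∣ Fintype.card F ^ d + 1 := hdv.1 hplus
        obtain ⟨b, hab⟩ := exists_aniso_one (F := F)
        obtain ⟨Qm, hQmpol, hQmminus⟩ := exists_minus_form (F := F) d hd
        have hQmnd : (QuadraticMap.polarBilin Qm).Nondegenerate := by
          have : QuadraticMap.polarBilin Qm = QuadraticMap.polarBilin Q₀ := by
            apply LinearMap.ext₂
            intro u v
            rw [QuadraticMap.polarBilin_apply_apply, QuadraticMap.polarBilin_apply_apply, hQmpol, hpol]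
          rw [this]
          exact hQ₀
        rcases classify_type d hd hcard Qm hQmnd b hab with ⟨hp', _⟩ | ⟨_, Φ, hΦ⟩
        · exact hQmminus hp'
        rcases exists_fpf_isometry d (by omega) 1 b hab r hne hdvd with
          ⟨y, hyiso, hyr, hyfpf⟩ | ⟨y, hyiso, hyr, hyfpf⟩
        · exact Cfsg.Agent.S5986.no_fpf_plus d (by omega) r hne hdvd y hyiso hyr hyfpf
        · set x := conjGL Φ.symm y with hxdef
          have hT : ∀ w, Qm (Φ.symm w) = Cfsg.quadFormMinus (d - 1) F 1 b w := by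
            intro w
            rw [← hΦ, LinearEquiv.apply_symm_apply]
          have hxiso : x ∈ Cfsg.isometryGroup F (⇑Qm) :=
            conjGL_mem Φ.symm (Cfsg.quadFormMinus (d - 1) F 1 b) (⇑Qm) hT y hyiso
          have hxsp : x ∈ Cfsg.spGL d F := isometry_mem_spGL d Qm hQmpol x hxiso
          have hxr : x ^ r = 1 := by rw [hxdef, ← map_pow, hyr, map_one]
          have hxfpf : ∀ v, (x : Matrix (Fin d ⊕ Fin d) (Fin d ⊕ Fin d) F) *ᵥ v = v → v = 0 := by
            intro v hv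
            obtain ⟨w, rfl⟩ := Φ.symm.surjective v
            rw [hxdef, conjGL_mulVec] at hv
            have := hyfpf w (Φ.symm.injective hv)
            rw [this, map_zero]
          have hx1 : (x : Matrix (Fin d ⊕ Fin d) (Fin d ⊕ Fin d) F) ≠ 1 := by
            intro h1
            have := hxfpf (Pi.single (Sum.inl (⟨0, by omega⟩ : Fin d)) (1 : F))
              (by rw [h1, Matrix.one_mulVec])
            have := congrFun this (Sum.inl (⟨0, by omega⟩ : Fin d))
            simp at this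
          obtain ⟨g, hg, hgx⟩ := Hc x hxsp hxr hx1
          have := type_eq_of_conj d Q₀ Qm hQmnd (fun u v => by rw [hQmpol, hpol]) x g hg hgx hxfpf
            ((Cfsg.Agent.Lib.Helper13.mem_isometryGroup_iff _ _).mp hxiso)
          exact hQmminus (this.mpr hplus)
      · -- a Levi element
        have hdvd : r ∣ Fintype.card F ^ d - 1 := hdv.2 hplus
        obtain ⟨g₀, hgr, hgu⟩ := exists_fpf_matrix (F := F) d (by omega) r hdvd
        set x := (leviGL g₀ : GL (Fin d ⊕ Fin d) F) with hxdef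
        have hxiso : x ∈ Cfsg.isometryGroup F (⇑(hypQF d F)) := leviGL_mem g₀
        have hxsp : x ∈ Cfsg.spGL d F := isometry_mem_spGL d (hypQF d F) (hypQF_polar_symp d) x hxiso
        have hxr : x ^ r = 1 := by rw [hxdef, ← map_pow, hgr, map_one]
        have hxfpf : ∀ v, (x : Matrix (Fin d ⊕ Fin d) (Fin d ⊕ Fin d) F) *ᵥ v = v → v = 0 :=
          fun v hv => levi_fpf d g₀ hgu v hv
        have hx1 : (x : Matrix (Fin d ⊕ Fin d) (Fin d ⊕ Fin d) F) ≠ 1 := by
          intro h1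
          have := hxfpf (Pi.single (Sum.inl (⟨0, by omega⟩ : Fin d)) (1 : F))
            (by rw [h1, Matrix.one_mulVec])
          have := congrFun this (Sum.inl (⟨0, by omega⟩ : Fin d))
          simp at this
        obtain ⟨g, hg, hgx⟩ := Hc x hxsp hxr hx1
        have := type_eq_of_conj d Q₀ (hypQF d F) hypQF_nondeg
          (fun u v => by rw [hypQF_polar_symp, hpol]) x g hg hgx hxfpf
          ((Cfsg.Agent.Lib.Helper13.mem_isometryGroup_iff _ _).mp hxiso)
        exact hplus (this.mp (plusT_hypQF d))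
    refine ⟨hr2, ?_⟩
    by_contra hcon
    push Not at hcon
    obtain ⟨hminus, hodd⟩ := hcon
    have heven : Even d := Nat.not_odd_iff_even.mp hodd
    set x := (Cfsg.Agent.S5985.invGL d : GL (Fin d ⊕ Fin d) F) with hxdef
    have hxiso : x ∈ Cfsg.isometryGroup F (⇑(hypQF d F)) := Cfsg.Agent.S5985.invGL_mem d
    have hxsp : x ∈ Cfsg.spGL d F := isometry_mem_spGL d (hypQF d F) (hypQF_polar_symp d) x hxiso
    have hxr : x ^ r = 1 := by
      rw [hr2]
      apply Units.ext
      rw [Units.val_pow_eq_pow_val, sq, Units.val_one]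
      exact Cfsg.Agent.S5985.invMat_mul_self d
    have hx1 : (x : Matrix (Fin d ⊕ Fin d) (Fin d ⊕ Fin d) F) ≠ 1 := by
      intro h1
      have h2 := congrFun (congrFun h1 (Sum.inl (⟨0, by omega⟩ : Fin d))) (Sum.inr (⟨1, by omega⟩ : Fin d))
      change Cfsg.Agent.S5985.invMat d F _ _ = _ at h2
      unfold Cfsg.Agent.S5985.invMat Cfsg.Agent.S5985.offD at h2
      simp at h2
    obtain ⟨g, hg, hgx⟩ := Hc x hxsp hxr hx1
    -- the pulled-back form is invariant under x and vanishes on the image of x - 1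
    apply hminus
    rw [← plusT_pullQF d Q₀ g]
    have hinvt : ∀ v, pullQF Q₀ g ((x : Matrix (Fin d ⊕ Fin d) (Fin d ⊕ Fin d) F) *ᵥ v) = pullQF Q₀ g v := by
      intro v
      rw [pullQF_apply, pullQF_apply]
      have := hgx (((g⁻¹ : GL (Fin d ⊕ Fin d) F) : Matrix (Fin d ⊕ Fin d) (Fin d ⊕ Fin d) F) *ᵥ v)
      rw [Units.val_mul, Units.val_mul, ← Matrix.mulVec_mulVec, ← Matrix.mulVec_mulVec,
        mulVec_inv_mulVec] at this
      exact this
    have hginv : ∀ u v, QuadraticMap.polar (⇑Q₀) (((g⁻¹ : GL (Fin d ⊕ Fin d) F) : Matrix (Fin d ⊕ Fin d) (Fin d ⊕ Fin d) F) *ᵥ u)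
        (((g⁻¹ : GL (Fin d ⊕ Fin d) F) : Matrix (Fin d ⊕ Fin d) (Fin d ⊕ Fin d) F) *ᵥ v) = QuadraticMap.polar (⇑Q₀) u v := by
      intro u v
      have := hg (((g⁻¹ : GL (Fin d ⊕ Fin d) F) : Matrix (Fin d ⊕ Fin d) (Fin d ⊕ Fin d) F) *ᵥ u)
        (((g⁻¹ : GL (Fin d ⊕ Fin d) F) : Matrix (Fin d ⊕ Fin d) (Fin d ⊕ Fin d) F) *ᵥ v)
      rw [mulVec_inv_mulVec, mulVec_inv_mulVec] at this
      exact this.symm
    have hpullpol : ∀ u v, QuadraticMap.polar (⇑(pullQF Q₀ g)) u v = hypBil d F u v := by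
      intro u v
      rw [← sympForm_eq_hypBil, ← hpol, ← hginv u v]
      unfold QuadraticMap.polar
      rw [pullQF_apply, pullQF_apply, pullQF_apply, Matrix.mulVec_add]
    let pr : (Fin d ⊕ Fin d → F) →ₗ[F] (Fin d → F) := LinearMap.funLeft F F Sum.inr
    have hpr : Function.Surjective pr :=
      LinearMap.funLeft_surjective_of_injective F F _ Sum.inr_injective
    have hker : finrank F (LinearMap.ker pr) = d := by
      have h1 := LinearMap.finrank_range_add_finrank_ker pr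
      rw [LinearMap.range_eq_top.mpr hpr, finrank_top, Module.finrank_fintype_fun_eq_card,
        Module.finrank_fintype_fun_eq_card, Fintype.card_sum, Fintype.card_fin] at h1
      omega
    refine ⟨LinearMap.ker pr, hker, ?_⟩
    intro u hu
    have hu2 : u ∘ Sum.inr = 0 := LinearMap.mem_ker.mp hu
    -- u = (x - 1) v with v = (0, offD u₁)
    set v : Fin d ⊕ Fin d → F := Sum.elim 0 (Cfsg.Agent.S5985.offD d F *ᵥ (u ∘ Sum.inl)) with hv
    have hxv : (x : Matrix (Fin d ⊕ Fin d) (Fin d ⊕ Fin d) F) *ᵥ v = v + u := by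
      change Cfsg.Agent.S5985.invMat d F *ᵥ v = v + u
      rw [Cfsg.Agent.S5985.invMat_mulVec, hv]
      simp only [Sum.elim_comp_inl, Sum.elim_comp_inr, zero_add, Matrix.mulVec_mulVec,
        Cfsg.Agent.S5985.offD_mul_self d heven, Matrix.one_mulVec]
      funext i
      rcases i with i | i
      · simp
      · have := congrFun hu2 i
        simp only [Function.comp_apply, Pi.zero_apply] at this
        simp [this]
    have h3 := hinvt v
    rw [hxv] at h3
    have h4 : QuadraticMap.polar (⇑(pullQF Q₀ g)) v u = 0 := by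
      rw [hpullpol, hypBil_apply]
      have h7 := Cfsg.Agent.S5985.offD_quad d (u ∘ Sum.inl)
      rw [dotProduct] at h7
      rw [← h7]
      apply Finset.sum_congr rfl
      intro i _
      have h5 : v (Sum.inl i) = 0 := by rw [hv]; rfl
      have h6 : v (Sum.inr i) = (Cfsg.Agent.S5985.offD d F *ᵥ (u ∘ Sum.inl)) i := by rw [hv]; rfl
      rw [h5, h6, Function.comp_apply]
      ring
    unfold QuadraticMap.polar at h4
    linear_combination -h4 + h3
  · rintro ⟨hr2, htype⟩ x hx ⟨z, hz⟩ hns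
    have hx2sp : x ^ r ∈ Cfsg.spGL d F := Subgroup.pow_mem _ hx r
    have hx2 : (x : Matrix (Fin d ⊕ Fin d) (Fin d ⊕ Fin d) F) * (x : Matrix (Fin d ⊕ Fin d) (Fin d ⊕ Fin d) F) = 1 := by
      have h1 := scalar_sp_eq_one d (by omega) Q₀ hQ₀ hpol (x ^ r) hx2sp z hz
      rwa [hr2, Units.val_pow_eq_pow_val, sq] at h1
    have hxpol := (mem_spGL_iff_polar d Q₀ hpol x).mp hx
    obtain ⟨Q', hQ'pol, hQ'x, hQ'type⟩ := exists_invariant_of_type d hd hcard Q₀ hQ₀
      (x : Matrix (Fin d ⊕ Fin d) (Fin d ⊕ Fin d) F) hx2 hxpol (PlusT d Q₀)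
      (fun hn _ => htype.resolve_left hn)
    have hQ'nd : (QuadraticMap.polarBilin Q').Nondegenerate := by
      have : QuadraticMap.polarBilin Q' = QuadraticMap.polarBilin Q₀ := by
        apply LinearMap.ext₂
        intro u v
        rw [QuadraticMap.polarBilin_apply_apply, QuadraticMap.polarBilin_apply_apply, hQ'pol]
      rw [this]
      exact hQ₀
    obtain ⟨g, hg⟩ := exists_isometry_of_same_type d hd hcard Q₀ Q' hQ₀ hQ'nd hQ'type
    have hgsp : g ∈ Cfsg.spGL d F := by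
      rw [mem_spGL_iff_polar d Q₀ hpol]
      intro u v
      rw [← hQ'pol]
      unfold QuadraticMap.polar
      rw [← Matrix.mulVec_add, hg, hg, hg]
    refine ⟨g, hgsp, 1, fun v => ?_⟩
    rw [Units.val_one, one_mul, Units.val_mul, Units.val_mul, ← Matrix.mulVec_mulVec,
      ← Matrix.mulVec_mulVec]
    show Q₀ _ = Q₀ v
    rw [← hg, mulVec_inv_mulVec, hQ'x, hg]

end Cfsg.Agent.S5983
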