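import Cfsg.Statements.S5997
import Mathlib
import Cfsg.Agent.Lib.Helper41.SL2Trace

set_option autoImplicit false
open scoped MatrixGroups
open Cfsg

namespace Cfsg.Agent.S5997


open Cfsg.Agent.Lib.Helper41

section Mat

variable {F : Type*} [Field F]

local notation "M2" => Matrix (Fin 2) (Fin 2) F

/-- Cayley–Hamilton for `2 × 2` matrices -/
theorem ch2 (A : M2) : A * A = A.trace • A - A.det • (1 : M2) := by
  ext i j
  fin_cases i <;> fin_cases j <;>
    simp [Matrix.mul_apply, Fin.sum_univ_two, Matrix.det_fin_two, Matrix.trace_fin_two] <;> ring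

/-- polarized Cayley–Hamilton for traceless matrices -/
theorem anticomm_traceless (A B : M2) (hA : A.trace = 0) (hB : B.trace = 0) :
    A * B + B * A = (A * B).trace • (1 : M2) := by
  rw [Matrix.trace_fin_two] at hA hB
  have a11 : A 1 1 = -A 0 0 := by linear_combination hA
  have b11 : B 1 1 = -B 0 0 := by linear_combination hB
  ext i j
  fin_cases i <;> fin_cases j <;>
    simp [Matrix.mul_apply, Fin.sum_univ_two, Matrix.trace_fin_two, a11, b11] <;> ring

theorem smul_one_eq_zero {c : F} (h : c • (1 : M2) = 0) : c = 0 := by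
  have := congrFun (congrFun h 0) 0
  simpa using this

theorem neg_one_ne_zero_mat : (-1 : M2) ≠ 0 := by
  intro h
  have := congrFun (congrFun h 0) 0
  simp at this

/-- a non-scalar matrix `A` with `t • A = s • 1` has `t = 0` and `s = 0` -/
theorem coeff_zero_of_smul_eq {A : M2} (hA : ∀ z : F, A ≠ z • (1 : M2)) {t s : F}
    (h : t • A = s • (1 : M2)) : t = 0 ∧ s = 0 := by
  by_cases ht : t = 0
  · subst ht
    rw [zero_smul] at h
    exact ⟨rfl, smul_one_eq_zero h.symm⟩
  · exfalso
    apply hA (t⁻¹ * s)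
    have := congrArg (fun X => t⁻¹ • X) h
    simp only [smul_smul, inv_mul_cancel₀ ht, one_smul] at this
    exact this

end Mat

section Quat

variable {F : Type*} [Field F]

local notation "M2" => Matrix (Fin 2) (Fin 2) F

/-- quaternion relations -/
structure QRel (I J : M2) : Prop where
  hI : I * I = -1
  hJ : J * J = -1
  hJI : J * I = -(I * J)

namespace QRel

variable {I J : Matrix (Fin 2) (Fin 2) F} (h : QRel I J)
include h

theorem KI : I * J * I = J := by
  rw [mul_assoc, h.hJI, mul_neg, ← mul_assoc, h.hI]; simp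

theorem IK : I * (I * J) = -J := by
  rw [← mul_assoc, h.hI]; simp

theorem JK : J * (I * J) = I := by
  rw [← mul_assoc, h.hJI, neg_mul, mul_assoc, h.hJ]; simp

theorem KJ : I * J * J = -I := by
  rw [mul_assoc, h.hJ]; simp

theorem KK : I * J * (I * J) = -1 := by
  rw [← mul_assoc, h.KI, h.hJ]

theorem IJ_ne_zero : I * J ≠ 0 := by
  intro h0
  have := h.KK
  rw [h0, zero_mul] at this
  exact neg_one_ne_zero_mat this.symm

theorem not_scalar_I (h2 : (2 : F) ≠ 0) : ∀ z : F, I ≠ z • (1 : M2) := by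
  intro z hz
  have h1 : J * I = I * J := by rw [hz]; simp
  rw [h.hJI] at h1
  have h3 : (2 : F) • (I * J) = 0 := by
    rw [two_smul]
    nth_rw 1 [← h1]
    simp
  rcases smul_eq_zero.mp h3 with h4 | h4
  · exact h2 h4
  · exact h.IJ_ne_zero h4

theorem symm' : QRel J I where
  hI := h.hJ
  hJ := h.hI
  hJI := by rw [h.hJI, neg_neg]

theorem trace_I (h2 : (2 : F) ≠ 0) : I.trace = 0 := by
  have hc := ch2 I
  rw [h.hI] at hc
  have h1 : I.trace • I = (I.det - 1) • (1 : M2) := by
    rw [sub_smul, one_smul]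
    have : I.trace • I = -1 + I.det • (1 : M2) := by rw [hc]; abel
    rw [this]; abel
  exact (coeff_zero_of_smul_eq (h.not_scalar_I h2) h1).1

theorem det_I (h2 : (2 : F) ≠ 0) : I.det = 1 := by
  have hc := ch2 I
  rw [h.hI, h.trace_I h2, zero_smul, zero_sub] at hc
  have h1 : (I.det - 1) • (1 : M2) = 0 := by
    rw [sub_smul, one_smul]
    have : I.det • (1 : M2) = 1 := by
      have := congrArg Neg.neg hc
      simpa using this.symm
    rw [this]; simp
  have := smul_one_eq_zero h1
  linear_combination this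

theorem trace_J (h2 : (2 : F) ≠ 0) : J.trace = 0 := h.symm'.trace_I h2

theorem det_J (h2 : (2 : F) ≠ 0) : J.det = 1 := h.symm'.det_I h2

theorem trace_K (h2 : (2 : F) ≠ 0) : (I * J).trace = 0 := by
  have h1 : (I * J).trace = (J * I).trace := Matrix.trace_mul_comm I J
  rw [h.hJI, Matrix.trace_neg] at h1
  have h3 : (2 : F) * (I * J).trace = 0 := by linear_combination h1
  rcases mul_eq_zero.mp h3 with h4 | h4
  · exact absurd h4 h2
  · exact h4

/-- the commutant of `I, J` consists of scalars -/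
theorem scalar_of_commute (h2 : (2 : F) ≠ 0) {Y : M2} (hYI : Y * I = I * Y) (hYJ : Y * J = J * Y) :
    ∃ z : F, Y = z • (1 : M2) := by
  set c : F := Y.trace / 2 with hc
  set Y' : M2 := Y - c • (1 : M2) with hY'
  have htr : Y'.trace = 0 := by
    rw [hY', Matrix.trace_sub, Matrix.trace_smul, Matrix.trace_one, Fintype.card_fin, hc]
    simp only [smul_eq_mul, Nat.cast_ofNat]
    field_simp
    ring
  have hY'I : Y' * I = I * Y' := by
    rw [hY', sub_mul, mul_sub, hYI]; simp
  have hY'J : Y' * J = J * Y' := by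
    rw [hY', sub_mul, mul_sub, hYJ]; simp
  have h1 := anticomm_traceless Y' I htr (h.trace_I h2)
  rw [← hY'I, ← two_smul F (Y' * I)] at h1
  set s : F := (Y' * I).trace with hs
  -- multiply by `I` on the right
  have h3 : (2 : F) • Y' = (-s) • I := by
    have := congrArg (fun X => X * I) h1
    simp only [smul_mul_assoc, one_mul] at this
    rw [mul_assoc, h.hI] at this
    have e : (2 : F) • Y' = -((2 : F) • (Y' * (-1))) := by simp
    rw [e, this]; simp
  -- commute with `J`
  have h4 : (-s) • (I * J) = (-s) • (J * I) := by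
    have e1 : ((2 : F) • Y') * J = J * ((2 : F) • Y') := by
      rw [smul_mul_assoc, mul_smul_comm, hY'J]
    rw [h3] at e1
    simpa [smul_mul_assoc, mul_smul_comm] using e1
  rw [h.hJI] at h4
  have h5 : ((2 : F) * (-s)) • (I * J) = 0 := by
    rw [mul_smul, two_smul]
    nth_rw 2 [h4]
    simp
  have hs0 : s = 0 := by
    rcases smul_eq_zero.mp h5 with h6 | h6
    · rcases mul_eq_zero.mp h6 with h7 | h7
      · exact absurd h7 h2
      · linear_combination -h7
    · exact absurd h6 h.IJ_ne_zero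
  rw [hs0, neg_zero, zero_smul] at h3
  have hY0 : Y' = 0 := by
    rcases smul_eq_zero.mp h3 with h6 | h6
    · exact absurd h6 h2
    · exact h6
  refine ⟨c, ?_⟩
  have := sub_eq_zero.mp (hY'.symm.trans hY0)
  exact this

end QRel

end Quat

section Hurwitz

variable {F : Type*} [Field F]

local notation "M2" => Matrix (Fin 2) (Fin 2) F

namespace QRel

variable {I J : Matrix (Fin 2) (Fin 2) F} (h : QRel I J)
include h

/-- twice the Hurwitz unit -/
def vv (I J : Matrix (Fin 2) (Fin 2) F) : Matrix (Fin 2) (Fin 2) F := -1 + I + J + I * J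

omit h in
theorem vv_def : vv I J = -1 + I + J + I * J := rfl

theorem vv_mul_I : vv I J * I = I * J * vv I J := by
  simp only [vv_def, add_mul, mul_add, neg_mul, mul_neg, one_mul, mul_one, h.hI, h.hJI, h.KI, h.KJ,
    h.KK]
  abel

theorem vv_mul_J : vv I J * J = I * vv I J := by
  simp only [vv_def, add_mul, mul_add, neg_mul, mul_neg, one_mul, mul_one, h.hI, h.hJ, h.IK, h.KJ]
  abel

theorem vv_mul_vv : vv I J * vv I J = -((2 : F) • vv I J) - (4 : F) • (1 : M2) := by
  simp only [vv_def, add_mul, mul_add, neg_mul, mul_neg, one_mul, mul_one, h.hI, h.hJ, h.hJI, h.KI,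
    h.KJ, h.KK, h.IK, h.JK]
  module

theorem trace_vv (h2 : (2 : F) ≠ 0) : (vv I J).trace = -2 := by
  simp only [vv_def, Matrix.trace_add, Matrix.trace_neg, Matrix.trace_one, Fintype.card_fin,
    h.trace_I h2, h.trace_J h2, h.trace_K h2]
  norm_num

end QRel

end Hurwitz

section HurwitzUnit

variable {F : Type*} [Field F]

local notation "M2" => Matrix (Fin 2) (Fin 2) F

namespace QRel

variable {I J : Matrix (Fin 2) (Fin 2) F} (h : QRel I J)
include h

/-- the Hurwitz unit `(-1 + I + J + IJ)/2`, of order `3` -/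
def uu (I J : Matrix (Fin 2) (Fin 2) F) : Matrix (Fin 2) (Fin 2) F := (2 : F)⁻¹ • vv I J

omit h in
theorem uu_def : uu I J = (2 : F)⁻¹ • vv I J := rfl

theorem uu_mul_I : uu I J * I = I * J * uu I J := by
  rw [uu_def, smul_mul_assoc, mul_smul_comm, h.vv_mul_I]

theorem uu_mul_J : uu I J * J = I * uu I J := by
  rw [uu_def, smul_mul_assoc, mul_smul_comm, h.vv_mul_J]

theorem uu_mul_uu (h2 : (2 : F) ≠ 0) : uu I J * uu I J = -1 - uu I J := by
  set c : F := (2 : F)⁻¹ with hc
  have hc2 : 2 * c = 1 := mul_inv_cancel₀ h2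
  have e1 : c * c * 2 = c := by linear_combination c * hc2
  have e2 : c * c * 4 = 1 := by linear_combination (2 * c + 1) * hc2
  rw [uu_def, smul_mul_smul_comm, h.vv_mul_vv, smul_sub, smul_neg, smul_smul, smul_smul, e1, e2,
    one_smul]
  abel

theorem trace_uu (h2 : (2 : F) ≠ 0) : (uu I J).trace = -1 := by
  rw [uu_def, Matrix.trace_smul, h.trace_vv h2, smul_eq_mul]
  field_simp

theorem det_uu (h2 : (2 : F) ≠ 0) : (uu I J).det = 1 := by
  have hc := ch2 (uu I J)
  rw [h.uu_mul_uu h2, h.trace_uu h2] at hc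
  have h1 : ((uu I J).det - 1) • (1 : M2) = 0 := by
    rw [sub_smul, one_smul]
    have : (uu I J).det • (1 : M2) = 1 := by
      have e : (uu I J).det • (1 : M2) = (-1 : F) • uu I J - (-1 - uu I J) := by rw [hc]; abel
      rw [e, neg_one_smul]; abel
    rw [this]; simp
  have := smul_one_eq_zero h1
  linear_combination this

end QRel

end HurwitzUnit

section Group

variable {F : Type*} [Field F]

local notation "M2" => Matrix (Fin 2) (Fin 2) F

theorem mem_sl_iff (x : GL (Fin 2) F) :
    x ∈ Cfsg.Geo.specialLinear (Fin 2) F ↔ (x : Matrix (Fin 2) (Fin 2) F).det = 1 := by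
  unfold Cfsg.Geo.specialLinear
  rw [MonoidHom.mem_ker]
  constructor
  · intro h
    have := congrArg Units.val h
    simpa using this
  · intro h
    apply Units.ext
    simpa using h

theorem gl_ext {x y : GL (Fin 2) F}
    (h : (x : Matrix (Fin 2) (Fin 2) F) = (y : Matrix (Fin 2) (Fin 2) F)) : x = y := Units.ext h

/-- generators of the quaternion subgroup -/
theorem quat_facts :
    (QuaternionGroup.a 1 : QuaternionGroup 2) * QuaternionGroup.a 1 = QuaternionGroup.a 2 ∧
    (QuaternionGroup.xa 0 : QuaternionGroup 2) * QuaternionGroup.xa 0 = QuaternionGroup.a 2 ∧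
    (QuaternionGroup.a 2 : QuaternionGroup 2) * QuaternionGroup.a 2 = 1 ∧
    (QuaternionGroup.a 2 : QuaternionGroup 2) ≠ 1 ∧
    (QuaternionGroup.xa 0 : QuaternionGroup 2) * QuaternionGroup.a 1
      = QuaternionGroup.a 2 * QuaternionGroup.a 1 * QuaternionGroup.xa 0 := by
  refine ⟨by decide, by decide, by decide, by decide, by decide⟩

theorem quat_closure (q : QuaternionGroup 2) :
    q ∈ Subgroup.closure ({QuaternionGroup.a 1, QuaternionGroup.xa 0} : Set (QuaternionGroup 2)) := by
  have ha : (QuaternionGroup.a 1 : QuaternionGroup 2) ∈ Subgroup.closure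
      ({QuaternionGroup.a 1, QuaternionGroup.xa 0} : Set (QuaternionGroup 2)) :=
    Subgroup.subset_closure (by simp)
  have hx : (QuaternionGroup.xa 0 : QuaternionGroup 2) ∈ Subgroup.closure
      ({QuaternionGroup.a 1, QuaternionGroup.xa 0} : Set (QuaternionGroup 2)) :=
    Subgroup.subset_closure (by simp)
  have hai : ∀ i : ZMod (2 * 2), (QuaternionGroup.a i : QuaternionGroup 2) ∈ Subgroup.closure
      ({QuaternionGroup.a 1, QuaternionGroup.xa 0} : Set (QuaternionGroup 2)) := by
    intro i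
    have : (QuaternionGroup.a i : QuaternionGroup 2) = QuaternionGroup.a 1 ^ (ZMod.val i) := by
      rw [QuaternionGroup.a_one_pow]
      congr 1
      exact (ZMod.natCast_zmod_val i).symm
    rw [this]
    exact Subgroup.pow_mem _ ha _
  cases q with
  | a i => exact hai i
  | xa i =>
    have : (QuaternionGroup.xa i : QuaternionGroup 2) = QuaternionGroup.xa 0 * QuaternionGroup.a i := by
      rw [QuaternionGroup.xa_mul_a, zero_add]
    rw [this]
    exact Subgroup.mul_mem _ hx (hai i)

end Group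

section Setup

variable {F : Type*} [Field F]

local notation "M2" => Matrix (Fin 2) (Fin 2) F

/-- the first generator of `R`, as an element of `GL₂` -/
noncomputable def genI (R : Subgroup (GL (Fin 2) F)) (e : ↥R ≃* QuaternionGroup 2) : GL (Fin 2) F :=
  ((e.symm (QuaternionGroup.a 1) : ↥R) : GL (Fin 2) F)

/-- the second generator of `R` -/
noncomputable def genJ (R : Subgroup (GL (Fin 2) F)) (e : ↥R ≃* QuaternionGroup 2) : GL (Fin 2) F :=
  ((e.symm (QuaternionGroup.xa 0) : ↥R) : GL (Fin 2) F)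

variable (R : Subgroup (GL (Fin 2) F)) (e : ↥R ≃* QuaternionGroup 2)

theorem genI_mem : genI R e ∈ R := (e.symm (QuaternionGroup.a 1)).2

theorem genJ_mem : genJ R e ∈ R := (e.symm (QuaternionGroup.xa 0)).2

theorem mem_closure_gen {n : GL (Fin 2) F} (hn : n ∈ R) :
    n ∈ Subgroup.closure ({genI R e, genJ R e} : Set (GL (Fin 2) F)) := by
  have h1 := quat_closure (e ⟨n, hn⟩)
  have h2 : (R.subtype.comp e.symm.toMonoidHom) (e ⟨n, hn⟩) ∈
      (Subgroup.closure ({QuaternionGroup.a 1, QuaternionGroup.xa 0} :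
        Set (QuaternionGroup 2))).map (R.subtype.comp e.symm.toMonoidHom) :=
    Subgroup.mem_map_of_mem _ h1
  rw [MonoidHom.map_closure] at h2
  have h3 : (R.subtype.comp e.symm.toMonoidHom) (e ⟨n, hn⟩) = n := by simp
  rw [h3] at h2
  have h4 : (R.subtype.comp e.symm.toMonoidHom) ''
      ({QuaternionGroup.a 1, QuaternionGroup.xa 0} : Set (QuaternionGroup 2))
      = ({genI R e, genJ R e} : Set (GL (Fin 2) F)) := by
    rw [Set.image_pair]
    rfl
  rw [h4] at h2
  exact h2

theorem qrel_gen (h2 : (2 : F) ≠ 0) :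
    QRel ((genI R e : GL (Fin 2) F) : Matrix (Fin 2) (Fin 2) F)
      ((genJ R e : GL (Fin 2) F) : Matrix (Fin 2) (Fin 2) F) := by
  obtain ⟨q1, q2, q3, q4, q5⟩ := quat_facts
  set z : GL (Fin 2) F := ((e.symm (QuaternionGroup.a 2) : ↥R) : GL (Fin 2) F) with hz
  have g1 : genI R e * genI R e = z := by
    show ((e.symm (QuaternionGroup.a 1) : ↥R) : GL (Fin 2) F) * (e.symm (QuaternionGroup.a 1) : ↥R)
      = (e.symm (QuaternionGroup.a 2) : ↥R)
    rw [← Subgroup.coe_mul, ← map_mul, q1]
  have g2 : genJ R e * genJ R e = z := by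
    show ((e.symm (QuaternionGroup.xa 0) : ↥R) : GL (Fin 2) F) * (e.symm (QuaternionGroup.xa 0) : ↥R)
      = (e.symm (QuaternionGroup.a 2) : ↥R)
    rw [← Subgroup.coe_mul, ← map_mul, q2]
  have g3 : z * z = 1 := by
    show ((e.symm (QuaternionGroup.a 2) : ↥R) : GL (Fin 2) F) * (e.symm (QuaternionGroup.a 2) : ↥R)
      = 1
    rw [← Subgroup.coe_mul, ← map_mul, q3, map_one, Subgroup.coe_one]
  have g4 : z ≠ 1 := by
    intro hh
    apply q4
    have h1 : e.symm (QuaternionGroup.a 2) = 1 := Subtype.ext hh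
    have h2 := congrArg e h1
    rw [MulEquiv.apply_symm_apply, map_one] at h2
    exact h2
  have g5 : genJ R e * genI R e = z * genI R e * genJ R e := by
    show ((e.symm (QuaternionGroup.xa 0) : ↥R) : GL (Fin 2) F) * (e.symm (QuaternionGroup.a 1) : ↥R)
      = (e.symm (QuaternionGroup.a 2) : ↥R) * (e.symm (QuaternionGroup.a 1) : ↥R)
        * (e.symm (QuaternionGroup.xa 0) : ↥R)
    rw [← Subgroup.coe_mul, ← Subgroup.coe_mul, ← Subgroup.coe_mul, ← map_mul, ← map_mul, ← map_mul,
      q5]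
  set I : M2 := ((genI R e : GL (Fin 2) F) : M2) with hI
  set J : M2 := ((genJ R e : GL (Fin 2) F) : M2) with hJ
  set Z : M2 := ((z : GL (Fin 2) F) : M2) with hZ
  have m1 : I * I = Z := by rw [hI, hZ, ← Units.val_mul, g1]
  have m2 : J * J = Z := by rw [hJ, hZ, ← Units.val_mul, g2]
  have m3 : Z * Z = 1 := by rw [hZ, ← Units.val_mul, g3, Units.val_one]
  have m4 : Z ≠ 1 := by
    intro hh
    apply g4
    apply Units.ext
    rw [Units.val_one]; exact hh
  have m5 : J * I = Z * I * J := by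
    rw [hI, hJ, hZ, ← Units.val_mul, ← Units.val_mul, ← Units.val_mul, g5]
  have dI : I.det ≠ 0 := by
    have := (Matrix.isUnit_iff_isUnit_det I).mp (genI R e).isUnit
    exact this.ne_zero
  have dJ : J.det ≠ 0 := by
    have := (Matrix.isUnit_iff_isUnit_det J).mp (genJ R e).isUnit
    exact this.ne_zero
  have dZ : Z.det = 1 := by
    have := congrArg Matrix.det m5
    rw [Matrix.det_mul, Matrix.det_mul, Matrix.det_mul] at this
    have h3 : (Z.det - 1) * (I.det * J.det) = 0 := by linear_combination -this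
    rcases mul_eq_zero.mp h3 with h4 | h4
    · linear_combination h4
    · exact absurd h4 (mul_ne_zero dI dJ)
  -- `Z` is scalar
  have hch := ch2 Z
  rw [m3, dZ, one_smul] at hch
  have hsm : Z.trace • Z = (2 : F) • (1 : M2) := by
    rw [two_smul]
    have : Z.trace • Z = 1 + 1 := by
      have e1 : Z.trace • Z = (Z.trace • Z - 1) + 1 := by abel
      rw [e1, ← hch]
    exact this
  have hscal : ∃ c : F, Z = c • (1 : M2) := by
    by_contra hno
    push Not at hno
    exact h2 (coeff_zero_of_smul_eq hno hsm).2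
  obtain ⟨c, hc⟩ := hscal
  have hcc : c * c = 1 := by
    rw [hc, smul_mul_smul_comm, one_mul] at m3
    have := congrFun (congrFun m3 0) 0
    simpa using this
  have hc1 : c ≠ 1 := by
    rintro rfl
    apply m4
    rw [hc, one_smul]
  have hcm : c = -1 := by
    have : (c - 1) * (c + 1) = 0 := by linear_combination hcc
    rcases mul_eq_zero.mp this with h3 | h3
    · exact absurd (by linear_combination h3) hc1
    · linear_combination h3
  have hZm : Z = -1 := by rw [hc, hcm]; simp
  refine ⟨by rw [m1, hZm], by rw [m2, hZm], ?_⟩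
  rw [m5, hZm]; simp

end Setup

section Normalizer

variable {F : Type*} [Field F]

local notation "M2" => Matrix (Fin 2) (Fin 2) F

variable (R : Subgroup (GL (Fin 2) F)) (e : ↥R ≃* QuaternionGroup 2) (h2 : (2 : F) ≠ 0)

/-- the Hurwitz unit as an element of `GL₂(F)` -/
noncomputable def hurwitzGL : GL (Fin 2) F :=
  Matrix.GeneralLinearGroup.mkOfDetNeZero
    (QRel.uu ((genI R e : GL (Fin 2) F) : Matrix (Fin 2) (Fin 2) F)
      ((genJ R e : GL (Fin 2) F) : Matrix (Fin 2) (Fin 2) F))
    (by rw [(qrel_gen R e h2).det_uu h2]; exact one_ne_zero)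

theorem coe_hurwitzGL : ((hurwitzGL R e h2 : GL (Fin 2) F) : Matrix (Fin 2) (Fin 2) F)
    = QRel.uu ((genI R e : GL (Fin 2) F) : Matrix (Fin 2) (Fin 2) F)
      ((genJ R e : GL (Fin 2) F) : Matrix (Fin 2) (Fin 2) F) := rfl

theorem hurwitzGL_mem_sl : hurwitzGL R e h2 ∈ Cfsg.Geo.specialLinear (Fin 2) F := by
  rw [mem_sl_iff, coe_hurwitzGL]
  exact (qrel_gen R e h2).det_uu h2

theorem hurwitzGL_mul_genI :
    hurwitzGL R e h2 * genI R e = genI R e * genJ R e * hurwitzGL R e h2 := by
  apply gl_ext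
  rw [Units.val_mul, Units.val_mul, Units.val_mul, coe_hurwitzGL]
  exact (qrel_gen R e h2).uu_mul_I

theorem hurwitzGL_mul_genJ :
    hurwitzGL R e h2 * genJ R e = genI R e * hurwitzGL R e h2 := by
  apply gl_ext
  rw [Units.val_mul, Units.val_mul, coe_hurwitzGL]
  exact (qrel_gen R e h2).uu_mul_J

include e in
theorem finite_R : Finite ↥R := Finite.of_equiv _ e.symm.toEquiv

theorem hurwitzGL_mem_normalizer :
    hurwitzGL R e h2 ∈ Cfsg.Geo.subgroupNormalizer R := by
  unfold Cfsg.Geo.subgroupNormalizer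
  have hfin : Finite ((R : Set (GL (Fin 2) F))) := finite_R R e
  apply Subgroup.mem_normalizer_fintype
  intro n hn
  have hcl := mem_closure_gen R e hn
  have hle : Subgroup.closure ({genI R e, genJ R e} : Set (GL (Fin 2) F)) ≤
      R.comap (MulAut.conj (hurwitzGL R e h2)).toMonoidHom := by
    rw [Subgroup.closure_le]
    intro g hg
    rcases hg with rfl | rfl
    · show (MulAut.conj (hurwitzGL R e h2)) (genI R e) ∈ R
      rw [MulAut.conj_apply, hurwitzGL_mul_genI, mul_inv_cancel_right]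
      exact R.mul_mem (genI_mem R e) (genJ_mem R e)
    · show (MulAut.conj (hurwitzGL R e h2)) (genJ R e) ∈ R
      rw [MulAut.conj_apply, hurwitzGL_mul_genJ, mul_inv_cancel_right]
      exact genI_mem R e
  have := hle hcl
  simpa [MulAut.conj_apply] using this

end Normalizer

section Conj

variable {F : Type*} [Field F] [Fintype F]

local notation "M2" => Matrix (Fin 2) (Fin 2) F

/-- elements of `SL₂` (inside `GL₂`) with the same trace `t`, `t² ≠ 4`, are conjugate under `SL₂` -/
theorem exists_conj_of_trace_eq {x y : GL (Fin 2) F}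
    (hx : x ∈ Cfsg.Geo.specialLinear (Fin 2) F) (hy : y ∈ Cfsg.Geo.specialLinear (Fin 2) F)
    (htr : (x : Matrix (Fin 2) (Fin 2) F).trace = (y : Matrix (Fin 2) (Fin 2) F).trace)
    (h4 : (x : Matrix (Fin 2) (Fin 2) F).trace ^ 2 ≠ 4) :
    ∃ g ∈ Cfsg.Geo.specialLinear (Fin 2) F, g⁻¹ * x * g = y := by
  rw [mem_sl_iff] at hx hy
  set xs : Matrix.SpecialLinearGroup (Fin 2) F := ⟨(x : M2), hx⟩ with hxs
  set ys : Matrix.SpecialLinearGroup (Fin 2) F := ⟨(y : M2), hy⟩ with hys
  have hc : IsConj xs ys := by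
    apply isConj_of_tr2_eq
    · rw [tr2_eq_trace]; exact h4
    · rw [tr2_eq_trace, tr2_eq_trace]; exact htr
  rw [isConj_iff] at hc
  obtain ⟨c, hc⟩ := hc
  refine ⟨Matrix.SpecialLinearGroup.toGL c⁻¹, ?_, ?_⟩
  · rw [mem_sl_iff, Matrix.SpecialLinearGroup.coe_GL_coe_matrix]
    exact (c⁻¹).2
  · have hxx : x = Matrix.SpecialLinearGroup.toGL xs := gl_ext rfl
    have hyy : y = Matrix.SpecialLinearGroup.toGL ys := gl_ext rfl
    rw [hxx, hyy, ← map_inv, ← map_mul, ← map_mul, inv_inv, hc]

omit [Fintype F] in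
theorem trace_of_sq_scalar {x : Matrix (Fin 2) (Fin 2) F} (hdet : x.det = 1)
    (hns : ∀ z : F, x ≠ z • (1 : M2)) {z : F} (hz : x * x = z • (1 : M2)) : x.trace = 0 := by
  have hc := ch2 x
  rw [hz, hdet, one_smul] at hc
  have h1 : x.trace • x = (z + 1) • (1 : M2) := by
    rw [add_smul, one_smul, hc]; abel
  exact (coeff_zero_of_smul_eq hns h1).1

omit [Fintype F] in
theorem trace_of_cube_scalar {x : Matrix (Fin 2) (Fin 2) F} (hdet : x.det = 1)
    (hns : ∀ z : F, x ≠ z • (1 : M2)) {z : F} (hz : x * x * x = z • (1 : M2)) :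
    x.trace = -1 ∨ x.trace = 1 := by
  have hc := ch2 x
  rw [hdet, one_smul] at hc
  set t := x.trace with ht
  have h3 : x * x * x = (t * t - 1) • x - t • (1 : M2) := by
    rw [hc, sub_mul, smul_mul_assoc, hc, one_mul, smul_sub, smul_smul, sub_smul, one_smul]
    abel
  rw [hz] at h3
  have h1 : (t * t - 1) • x = (z + t) • (1 : M2) := by
    rw [add_smul, h3]; abel
  have := (coeff_zero_of_smul_eq hns h1).1
  have h5 : (t + 1) * (t - 1) = 0 := by linear_combination this
  rcases mul_eq_zero.mp h5 with h6 | h6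
  · left; linear_combination h6
  · right; linear_combination h6

end Conj

section Backward

variable {F : Type*} [Field F] [Fintype F]

local notation "M2" => Matrix (Fin 2) (Fin 2) F

variable (R : Subgroup (GL (Fin 2) F)) (e : ↥R ≃* QuaternionGroup 2) (h2 : (2 : F) ≠ 0)

omit [Fintype F] in
include h2 in
theorem genI_mem_sl : genI R e ∈ Cfsg.Geo.specialLinear (Fin 2) F := by
  rw [mem_sl_iff]
  exact (qrel_gen R e h2).det_I h2

omit [Fintype F] in
theorem le_subgroupNormalizer : R ≤ Cfsg.Geo.subgroupNormalizer R := Subgroup.le_normalizer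

include e h2 in
theorem backward_two (x : GL (Fin 2) F) (hx : x ∈ Cfsg.Geo.specialLinear (Fin 2) F)
    (hz : ∃ z : F, ((x ^ 2 : GL (Fin 2) F) : Matrix (Fin 2) (Fin 2) F) = z • (1 : M2))
    (hns : ∀ z : F, (x : Matrix (Fin 2) (Fin 2) F) ≠ z • (1 : M2)) :
    ∃ g ∈ Cfsg.Geo.specialLinear (Fin 2) F, g⁻¹ * x * g ∈ Cfsg.Geo.subgroupNormalizer R := by
  obtain ⟨z, hz⟩ := hz
  rw [Units.val_pow_eq_pow_val, pow_two] at hz
  have hdet := (mem_sl_iff x).mp hx
  have htr := trace_of_sq_scalar hdet hns hz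
  have h4 : (4 : F) ≠ 0 := by
    have : (4 : F) = 2 * 2 := by norm_num
    rw [this]; exact mul_ne_zero h2 h2
  obtain ⟨g, hg, hgx⟩ := exists_conj_of_trace_eq hx (genI_mem_sl R e h2)
    (by rw [htr, (qrel_gen R e h2).trace_I h2]) (by
      rw [htr]
      intro h
      apply h4
      rw [← h]; ring)
  exact ⟨g, hg, by rw [hgx]; exact le_subgroupNormalizer R (genI_mem R e)⟩

include e h2 in
theorem backward_three (h3 : (3 : F) ≠ 0) (x : GL (Fin 2) F)
    (hx : x ∈ Cfsg.Geo.specialLinear (Fin 2) F)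
    (hz : ∃ z : F, ((x ^ 3 : GL (Fin 2) F) : Matrix (Fin 2) (Fin 2) F) = z • (1 : M2))
    (hns : ∀ z : F, (x : Matrix (Fin 2) (Fin 2) F) ≠ z • (1 : M2)) :
    ∃ g ∈ Cfsg.Geo.specialLinear (Fin 2) F, g⁻¹ * x * g ∈ Cfsg.Geo.subgroupNormalizer R := by
  obtain ⟨z, hz⟩ := hz
  rw [Units.val_pow_eq_pow_val, pow_succ, pow_two] at hz
  have hdet := (mem_sl_iff x).mp hx
  have hq := qrel_gen R e h2
  have h14 : ((1 : F)) ≠ 4 := by
    intro h
    apply h3
    linear_combination -h
  rcases trace_of_cube_scalar hdet hns hz with htr | htr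
  · obtain ⟨g, hg, hgx⟩ := exists_conj_of_trace_eq hx (hurwitzGL_mem_sl R e h2)
      (by rw [htr, coe_hurwitzGL, hq.trace_uu h2]) (by
        rw [htr]
        intro h
        apply h14
        rw [← h]; ring)
    exact ⟨g, hg, by rw [hgx]; exact hurwitzGL_mem_normalizer R e h2⟩
  · set y : GL (Fin 2) F := genI R e * genI R e * hurwitzGL R e h2 with hy
    have hyM : (y : M2) = -(QRel.uu ((genI R e : GL (Fin 2) F) : M2)
        ((genJ R e : GL (Fin 2) F) : M2)) := by
      rw [hy, Units.val_mul, Units.val_mul, coe_hurwitzGL, hq.hI]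
      simp
    have hysl : y ∈ Cfsg.Geo.specialLinear (Fin 2) F :=
      Subgroup.mul_mem _ (Subgroup.mul_mem _ (genI_mem_sl R e h2) (genI_mem_sl R e h2))
        (hurwitzGL_mem_sl R e h2)
    have hyN : y ∈ Cfsg.Geo.subgroupNormalizer R :=
      Subgroup.mul_mem _ (le_subgroupNormalizer R (R.mul_mem (genI_mem R e) (genI_mem R e)))
        (hurwitzGL_mem_normalizer R e h2)
    obtain ⟨g, hg, hgx⟩ := exists_conj_of_trace_eq hx hysl
      (by rw [htr, hyM, Matrix.trace_neg, hq.trace_uu h2, neg_neg]) (by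
        rw [htr]
        intro h
        apply h14
        rw [← h]; ring)
    exact ⟨g, hg, by rw [hgx]; exact hyN⟩

end Backward

theorem arith_aux (n r : ℕ) (hpr : r.Prime) (h5 : 5 ≤ r) (hdvd : n ∣ 8) (hge : 2 ≤ n)
    (hmod : 8 ≡ n [MOD r]) : n = 8 := by
  have hle : n ≤ 8 := Nat.le_of_dvd (by norm_num) hdvd
  have hr' : r ∣ 8 - n := (Nat.modEq_iff_dvd' hle).mp hmod.symm
  by_contra hne
  have hpos : 0 < 8 - n := by omega
  have hrle : r ≤ 8 - n := Nat.le_of_dvd hpos hr'
  interval_cases n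
  · interval_cases r
    · omega
    · exact absurd hpr (by norm_num)
  · omega
  · omega
  · omega
  · omega
  · omega
  · omega

section FixedPoints

variable {G : Type*} [Group G]

/-- conjugation action of a subgroup of the normalizer -/
@[reducible] def conjAct (R Y : Subgroup G) (hY : Y ≤ Subgroup.normalizer (R : Set G)) :
    MulAction ↥Y ↥R where
  smul g h := ⟨(g : G) * h * (g : G)⁻¹, (Subgroup.mem_set_normalizer_iff.mp (hY g.2) h).mp h.2⟩
  one_smul h := Subtype.ext (by
    show ((1 : ↥Y) : G) * h * ((1 : ↥Y) : G)⁻¹ = h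
    simp)
  mul_smul a b h := Subtype.ext (by
    show ((a * b : ↥Y) : G) * h * ((a * b : ↥Y) : G)⁻¹ = (a : G) * ((b : G) * h * (b : G)⁻¹) * (a : G)⁻¹
    rw [Subgroup.coe_mul]
    group)

/-- an element of prime order `r ≥ 5` normalizing a group `R` of order `8` with a nontrivial element
commuting with it centralizes `R` -/
theorem centralizes_of_prime_order (R : Subgroup G) (hR : Nat.card R = 8) (z : G) (hzR : z ∈ R)
    (hz1 : z ≠ 1) (y : G) (hzy : y * z = z * y) (hyN : y ∈ Subgroup.normalizer (R : Set G))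
    (r : ℕ) [Fact r.Prime] (hr : 5 ≤ r) (hy : y ^ r = 1) : ∀ h ∈ R, y * h = h * y := by
  have hfin : Finite ↥R := Nat.finite_of_card_ne_zero (by rw [hR]; norm_num)
  set Y : Subgroup G := Subgroup.zpowers y with hYdef
  have hY : Y ≤ Subgroup.normalizer (R : Set G) := Subgroup.zpowers_le.mpr hyN
  have hP : IsPGroup r ↥Y := by
    rintro ⟨g, hg⟩
    obtain ⟨m, rfl⟩ := Subgroup.mem_zpowers_iff.mp hg
    refine ⟨1, ?_⟩
    apply Subtype.ext
    rw [pow_one, Subgroup.coe_pow, Subgroup.coe_one, ← zpow_natCast, ← zpow_mul, mul_comm, zpow_mul,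
      zpow_natCast, hy, one_zpow]
  letI := conjAct R Y hY
  have hmod := hP.card_modEq_card_fixedPoints ↥R
  set C : Subgroup ↥R := (Subgroup.centralizer ({y} : Set G)).subgroupOf R with hC
  have hfix : (MulAction.fixedPoints ↥Y ↥R : Set ↥R) = (C : Set ↥R) := by
    ext h
    rw [MulAction.mem_fixedPoints, SetLike.mem_coe, hC, Subgroup.mem_subgroupOf,
      Subgroup.mem_centralizer_singleton_iff]
    constructor
    · intro hh
      have := hh ⟨y, Subgroup.mem_zpowers y⟩
      have h1 : y * (h : G) * y⁻¹ = h := congrArg Subtype.val this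
      calc (h : G) * y = y * h * y⁻¹ * y := by rw [h1]
        _ = y * h := by group
    · intro hh g
      apply Subtype.ext
      show (g : G) * h * (g : G)⁻¹ = h
      obtain ⟨m, hm⟩ := Subgroup.mem_zpowers_iff.mp g.2
      have hc : Commute (h : G) y := hh
      have hc2 : Commute (h : G) (g : G) := by
        rw [← hm]; exact hc.zpow_right m
      rw [← hc2.eq, mul_assoc, mul_inv_cancel, mul_one]
  have hcard : Nat.card (MulAction.fixedPoints ↥Y ↥R) = Nat.card C := by
    exact Nat.card_congr (Equiv.setCongr hfix)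
  rw [hcard, hR] at hmod
  have hdvd : Nat.card C ∣ 8 := by
    rw [← hR]; exact Subgroup.card_subgroup_dvd_card C
  have hge : 2 ≤ Nat.card C := by
    have hzC : (⟨z, hzR⟩ : ↥R) ∈ C := by
      rw [hC, Subgroup.mem_subgroupOf, Subgroup.mem_centralizer_singleton_iff]
      exact hzy.symm
    have hnt : Nontrivial C := by
      refine ⟨⟨⟨⟨z, hzR⟩, hzC⟩, 1, ?_⟩⟩
      intro hh
      apply hz1
      have := congrArg (fun t : C => ((t : ↥R) : G)) hh
      simpa using this
    exact Finite.one_lt_card_iff_nontrivial.mpr hnt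
  have hle : Nat.card C ≤ 8 := Nat.le_of_dvd (by norm_num) hdvd
  have hC8 : Nat.card C = 8 := arith_aux _ r Fact.out hr hdvd hge hmod
  have htop : C = ⊤ := Subgroup.eq_top_of_card_eq C (by rw [hC8, hR])
  intro h hh
  have : (⟨h, hh⟩ : ↥R) ∈ C := by rw [htop]; exact Subgroup.mem_top _
  rw [hC, Subgroup.mem_subgroupOf, Subgroup.mem_centralizer_singleton_iff] at this
  exact this.symm

end FixedPoints

section Forward

variable {F : Type*} [Field F] [Fintype F]

theorem natCard_R (R : Subgroup (GL (Fin 2) F)) (e : ↥R ≃* QuaternionGroup 2) : Nat.card ↥R = 8 := by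
  rw [Nat.card_congr e.toEquiv, Nat.card_eq_fintype_card, QuaternionGroup.card]

omit [Fintype F] in
theorem scalar_sl_torsion (r : ℕ) (hpr : r.Prime) (hr5 : 5 ≤ r) (y : GL (Fin 2) F)
    (hy : y ∈ Cfsg.Geo.specialLinear (Fin 2) F) (hyr : y ^ r = 1)
    (hsc : ∃ z : F, (y : Matrix (Fin 2) (Fin 2) F) = z • (1 : Matrix (Fin 2) (Fin 2) F)) : y = 1 := by
  obtain ⟨z, hz⟩ := hsc
  have hdet := (mem_sl_iff y).mp hy
  rw [hz] at hdet
  have hz2 : z * z = 1 := by
    simpa [Matrix.det_smul, pow_two] using hdet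
  have hy2 : y ^ 2 = 1 := by
    apply gl_ext
    rw [Units.val_pow_eq_pow_val, hz, pow_two, Units.val_one, smul_mul_smul_comm, hz2, one_smul,
      one_mul]
  have h1 : orderOf y ∣ 2 := orderOf_dvd_of_pow_eq_one hy2
  have h2' : orderOf y ∣ r := orderOf_dvd_of_pow_eq_one hyr
  have h3 : orderOf y ∣ Nat.gcd 2 r := Nat.dvd_gcd h1 h2'
  have hcop : Nat.gcd 2 r = 1 := (Nat.coprime_primes Nat.prime_two hpr).mpr (by omega)
  rw [hcop, Nat.dvd_one] at h3
  exact orderOf_eq_one_iff.mp h3

theorem forward (R : Subgroup (GL (Fin 2) F)) (e : ↥R ≃* QuaternionGroup 2) (h2 : (2 : F) ≠ 0)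
    (r : ℕ) [Fact r.Prime] (hr5 : 5 ≤ r)
    (hΩ : r ∣ Nat.card ↥(Cfsg.Geo.specialLinear (Fin 2) F))
    (H : ∀ x ∈ Cfsg.Geo.specialLinear (Fin 2) F,
      (∃ z : F, ((x ^ r : GL (Fin 2) F) : Matrix (Fin 2) (Fin 2) F)
        = z • (1 : Matrix (Fin 2) (Fin 2) F)) →
      (∀ z : F, (x : Matrix (Fin 2) (Fin 2) F) ≠ z • (1 : Matrix (Fin 2) (Fin 2) F)) →
      ∃ g ∈ Cfsg.Geo.specialLinear (Fin 2) F, g⁻¹ * x * g ∈ Cfsg.Geo.subgroupNormalizer R) :
    False := by
  have hpr : r.Prime := Fact.out
  obtain ⟨x, hx⟩ := exists_prime_orderOf_dvd_card'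
    (G := ↥(Cfsg.Geo.specialLinear (Fin 2) F)) r hΩ
  have hxr : (x : GL (Fin 2) F) ^ r = 1 := by
    rw [← Subgroup.coe_pow, ← hx, pow_orderOf_eq_one, Subgroup.coe_one]
  have hx1 : (x : GL (Fin 2) F) ≠ 1 := by
    intro h
    have h' : x = 1 := Subtype.ext h
    rw [h', orderOf_one] at hx
    have := hpr.one_lt
    omega
  obtain ⟨g, hg, hgN⟩ := H x x.2 ⟨1, by rw [hxr]; simp⟩
    (fun z hz => hx1 (scalar_sl_torsion r hpr hr5 x x.2 hxr ⟨z, hz⟩))
  set y : GL (Fin 2) F := g⁻¹ * x * g with hy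
  have hyr : y ^ r = 1 := by
    have : y = g⁻¹ * x * (g⁻¹)⁻¹ := by rw [inv_inv]
    rw [this, conj_pow, hxr, mul_one, mul_inv_cancel]
  have hysl : y ∈ Cfsg.Geo.specialLinear (Fin 2) F :=
    Subgroup.mul_mem _ (Subgroup.mul_mem _ (Subgroup.inv_mem _ hg) x.2) hg
  have hy1 : y ≠ 1 := by
    intro h
    apply hx1
    have : (x : GL (Fin 2) F) = g * y * g⁻¹ := by rw [hy]; group
    rw [this, h, mul_one, mul_inv_cancel]
  have hq := qrel_gen R e h2
  have hzy : y * (genI R e * genI R e) = (genI R e * genI R e) * y := by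
    apply gl_ext
    rw [Units.val_mul, Units.val_mul (genI R e * genI R e) y, Units.val_mul (genI R e) (genI R e),
      hq.hI]
    simp
  have hz1 : genI R e * genI R e ≠ 1 := by
    intro h
    have h' := congrArg (fun u : GL (Fin 2) F => (u : Matrix (Fin 2) (Fin 2) F)) h
    simp only [Units.val_mul, Units.val_one] at h'
    rw [hq.hI] at h'
    have h00 := congrFun (congrFun h' 0) 0
    simp at h00
    apply h2
    linear_combination -h00
  have hcen := centralizes_of_prime_order R (natCard_R R e) (genI R e * genI R e)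
    (R.mul_mem (genI_mem R e) (genI_mem R e)) hz1 y hzy hgN r hr5 hyr
  have hcI := hcen _ (genI_mem R e)
  have hcJ := hcen _ (genJ_mem R e)
  have hsc := hq.scalar_of_commute h2 (Y := (y : Matrix (Fin 2) (Fin 2) F))
    (by rw [← Units.val_mul, hcI, Units.val_mul]) (by rw [← Units.val_mul, hcJ, Units.val_mul])
  exact hy1 (scalar_sl_torsion r hpr hr5 y hysl hyr hsc)

end Forward


/-- Elements of prime order of PSL_2(p) and the normalizer of a quaternion subgroup. Here `T = PSL_2(F)` for the field `F` with `p` elements, `p ≥ 5` prime; `R` is a subgroup of GL_2(F) isomorphic to the quaternion group of order 8 (an absolutely irreducible 2-group of symplectic type), and `H` is the subgroup of matrices of determinant 1 normalizing `R` — a subgroup of type 2^{1+2}.O₂⁻(2), isomorphic modulo scalars to A₄ or S₄ (maximality is not assumed). Ω is the set of cosets of `H` in `T`, so an element of `T` of prime order `r` (a matrix `x` of determinant 1 with `x^r` scalar, `x` not scalar) fixes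 a point of Ω exactly when some conjugate of `x` by a matrix of determinant 1 normalizes `R`. Let `r` be a prime dividing the index of `H`. Then every element of `T` of order `r` fixes a point of Ω if and only if `r = 2` or `r = 3`. -/
theorem result {F : Type*} [Field F] [Fintype F] {p : ℕ} [Fact p.Prime] [CharP F p] (hF : Fintype.card F = p) (hp : 5 ≤ p)
    (R : Subgroup (GL (Fin 2) F)) (hR : Nonempty (↥R ≃* QuaternionGroup 2))
    (r : ℕ) [Fact r.Prime]
    (hΩ : r ∣ (Cfsg.Geo.subgroupNormalizer R).relIndex (Cfsg.Geo.specialLinear (Fin 2) F)) :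
    (∀ x ∈ Cfsg.Geo.specialLinear (Fin 2) F, (∃ z : F, ((x ^ r : GL (Fin 2) F) : Matrix (Fin 2) (Fin 2) F) = z • (1 : Matrix (Fin 2) (Fin 2) F)) →
      (∀ z : F, (x : Matrix (Fin 2) (Fin 2) F) ≠ z • (1 : Matrix (Fin 2) (Fin 2) F)) →
      ∃ g ∈ Cfsg.Geo.specialLinear (Fin 2) F, g⁻¹ * x * g ∈ Cfsg.Geo.subgroupNormalizer R) ↔ (r = 2 ∨ r = 3) := by
  obtain ⟨e⟩ := hR
  have h2 : (2 : F) ≠ 0 := by
    intro h
    have h' : ((2 : ℕ) : F) = 0 := by exact_mod_cast h
    rw [CharP.cast_eq_zero_iff F p] at h'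
    have := Nat.le_of_dvd (by norm_num) h'
    omega
  have h3 : (3 : F) ≠ 0 := by
    intro h
    have h' : ((3 : ℕ) : F) = 0 := by exact_mod_cast h
    rw [CharP.cast_eq_zero_iff F p] at h'
    have := Nat.le_of_dvd (by norm_num) h'
    omega
  constructor
  · intro H
    by_contra hne
    push Not at hne
    have hpr : r.Prime := Fact.out
    have hr5 : 5 ≤ r := by
      have h2le := hpr.two_le
      by_contra hlt
      push Not at hlt
      interval_cases r
      · exact hne.1 rfl
      · exact hne.2 rfl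
      · exact absurd hpr (by norm_num)
    exact forward R e h2 r hr5 (dvd_trans hΩ (Subgroup.relIndex_dvd_card _ _)) H
  · rintro (rfl | rfl)
    · intro x hx hz hns
      exact backward_two R e h2 x hx hz hns
    · intro x hx hz hns
      exact backward_three R e h2 h3 x hx hz hns


end Cfsg.Agent.S5997
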