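import Cfsg.Statements.S5998
import Cfsg.Agent.Lib.Helper99.NrmC

set_option autoImplicit false
open scoped MatrixGroups
open Cfsg
open Matrix Cfsg.Geo Cfsg.Agent.Lib.Helper99.Nrm3

namespace Cfsg.Agent.S5998

/-- Elements of prime order of PSL_3(p), p ≡ 1 (mod 3), and the normalizer of an extraspecial subgroup of order 27. Here `T = PSL_3(F)` for the field `F` with `p` elements, `p` a prime with `p ≡ 1 (mod 3)`; `R` is a non-abelian subgroup of GL_3(F) of order 27 and exponent 3 (an extraspecial group 3^{1+2}, acting absolutely irreducibly), and `H` is the subgroup of matrices of determinant 1 normalizing `R` — a subgroup of type 3^{1+2}.Sp₂(3) (maximality is not assumed). Ω is the set of cosets of `H` in `T`, so an element of `T` of prime order `r` (a matrix `x` of determinant 1 with `x^r` scalar, `x` not scalar) fixes a point of Ω exactly when some conjugate of `x` by a matrix of determinant 1 normalizes `R`. Let `r` be a prime dividing the index of `H`. Then every element of `T` of order `r`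 fixes a point of Ω if and only if `r = 2`, or `r = 3` and `p ≡ 1 (mod 9)`. -/
theorem result {F : Type*} [Field F] [Fintype F] {p : ℕ} [Fact p.Prime] [CharP F p] (hF : Fintype.card F = p) (hp3 : p % 3 = 1)
    (R : Subgroup (GL (Fin 3) F)) (hR : Nat.card R = 27) (hRe : Monoid.exponent R = 3) (hRna : ¬ IsMulCommutative R)
    (r : ℕ) [Fact r.Prime]
    (hΩ : r ∣ (Cfsg.Geo.subgroupNormalizer R).relIndex (Cfsg.Geo.specialLinear (Fin 3) F)) :
    (∀ x ∈ Cfsg.Geo.specialLinear (Fin 3) F, (∃ z : F, ((x ^ r : GL (Fin 3) F) : Matrix (Fin 3) (Fin 3) F) = z • (1 : Matrix (Fin 3) (Fin 3) F)) →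
      (∀ z : F, (x : Matrix (Fin 3) (Fin 3) F) ≠ z • (1 : Matrix (Fin 3) (Fin 3) F)) →
      ∃ g ∈ Cfsg.Geo.specialLinear (Fin 3) F, g⁻¹ * x * g ∈ Cfsg.Geo.subgroupNormalizer R) ↔ (r = 2 ∨ (r = 3 ∧ p % 9 = 1)) := by
  classical
  have h3F : (3 : F) ≠ 0 := three_ne_zero_of hp3
  have h2F : (2 : F) ≠ 0 := two_ne_zero_of hp3
  haveI : Finite R := Nat.finite_of_card_ne_zero (by rw [hR]; norm_num)
  obtain ⟨a, b, cc, lam, 𝔢, hNF⟩ := exists_normal_form hF hp3 R hR hRe hRna
  have hrp : r.Prime := Fact.out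
  have hdet3 : ∀ (x : GL (Fin 3) F) (k : ℕ) (z : F), x ∈ specialLinear (Fin 3) F →
      ((x ^ k : GL (Fin 3) F) : Matrix (Fin 3) (Fin 3) F) = z • (1 : Matrix (Fin 3) (Fin 3) F) →
      z ^ 3 = 1 := by
    intro x k z hx hz
    have h1 := congrArg Matrix.det hz
    rw [Units.val_pow_eq_pow_val, Matrix.det_pow, (mem_specialLinear_iff x).1 hx, one_pow,
      Matrix.det_smul, Matrix.det_one, mul_one, Fintype.card_fin] at h1
    exact h1.symm
  constructor
  · intro hall
    by_cases hr2 : r = 2
    · exact Or.inl hr2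
    by_cases hr3 : r = 3
    · right
      refine ⟨hr3, ?_⟩
      by_contra hp9
      apply not_dvd_card_specialLinear hF hp3 hp9
      have hRN : R ≤ subgroupNormalizer R ⊓ specialLinear (Fin 3) F :=
        le_inf (by unfold subgroupNormalizer; exact Subgroup.le_normalizer)
          hNF.le_specialLinear
      have e1 := Subgroup.relIndex_mul_relIndex ⊥ R
        (subgroupNormalizer R ⊓ specialLinear (Fin 3) F) bot_le hRN
      have e2 := Subgroup.relIndex_mul_relIndex ⊥
        (subgroupNormalizer R ⊓ specialLinear (Fin 3) F) (specialLinear (Fin 3) F) bot_le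
        inf_le_right
      rw [Subgroup.relIndex_bot_left, Subgroup.relIndex_bot_left, hR] at e1
      rw [Subgroup.relIndex_bot_left, Subgroup.relIndex_bot_left,
        Subgroup.inf_relIndex_right] at e2
      rw [hr3] at hΩ
      obtain ⟨k, hk⟩ := hΩ
      rw [← e2, ← e1, hk]
      exact ⟨R.relIndex (subgroupNormalizer R ⊓ specialLinear (Fin 3) F) * k, by ring⟩
    · exfalso
      have hr5 : 5 ≤ r := by
        have h2 := hrp.two_le
        by_contra hlt
        push Not at hlt
        interval_cases r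
        · exact hr2 rfl
        · exact hr3 rfl
        · norm_num at hrp
      have hdvd : r ∣ Nat.card (specialLinear (Fin 3) F) :=
        dvd_trans hΩ (Subgroup.relIndex_dvd_card _ _)
      obtain ⟨x0, hx0⟩ := exists_prime_orderOf_dvd_card' r hdvd
      obtain ⟨x, hxdef⟩ : ∃ x : GL (Fin 3) F, x = (x0 : GL (Fin 3) F) := ⟨_, rfl⟩
      have hxS : x ∈ specialLinear (Fin 3) F := by
        rw [hxdef]
        exact x0.2
      have hxr : x ^ r = 1 := by
        have h1 : x0 ^ r = 1 := by
          rw [← hx0]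
          exact pow_orderOf_eq_one x0
        have h2 := congrArg Subtype.val h1
        rw [hxdef]
        simpa using h2
      have hx1 : x ≠ 1 := by
        intro h1
        have h2 : x0 = 1 := Subtype.ext (by rw [← hxdef, h1]; rfl)
        rw [h2, orderOf_one] at hx0
        exact hrp.one_lt.ne hx0
      have hxns : ∀ z : F, (x : Matrix (Fin 3) (Fin 3) F)
          ≠ z • (1 : Matrix (Fin 3) (Fin 3) F) := by
        intro z hz
        have hz3 : z ^ 3 = 1 := by
          apply hdet3 x 1 z hxS
          rw [pow_one]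
          exact hz
        have hzr : z ^ r = 1 := by
          have h1 := congrArg Units.val hxr
          rw [Units.val_pow_eq_pow_val, hz, Units.val_one, _root_.smul_pow, one_pow] at h1
          have h2 : z ^ r • (1 : Matrix (Fin 3) (Fin 3) F)
              = (1 : F) • (1 : Matrix (Fin 3) (Fin 3) F) := by rw [h1, one_smul]
          exact smul_one_inj h2
        have hcop : Nat.Coprime 3 r :=
          (Nat.coprime_primes Nat.prime_three hrp).2 (Ne.symm hr3)
        have hz1 : z = 1 := (pow_eq_one_iff_of_coprime hcop).1 ⟨hz3, hzr⟩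
        apply hx1
        apply Units.ext
        rw [hz, hz1, one_smul, Units.val_one]
      obtain ⟨g, hgS, hgN⟩ := hall x hxS ⟨1, by rw [hxr, Units.val_one, one_smul]⟩ hxns
      obtain ⟨y, hydef⟩ : ∃ y : GL (Fin 3) F, y = g⁻¹ * x * g := ⟨_, rfl⟩
      rw [← hydef] at hgN
      have hyr : y ^ r = 1 := by
        have h1 := conj_pow (i := r) (a := g⁻¹) (b := x)
        rw [inv_inv] at h1
        rw [hydef, h1, hxr, mul_one, inv_mul_cancel]
      have hcen := centralizes_of_pow_central R hR cc hNF.hcc (hNF.cc_ne_one h3F) y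
        (by unfold subgroupNormalizer at hgN; exact hgN) (scalar_comm y cc lam hNF.hccm) r hrp
        hr5 (by intro n _; rw [hyr, one_mul, mul_one])
      obtain ⟨t, ht⟩ := hNF.scalar_of_commute h3F y (hcen a hNF.a_mem) (hcen b hNF.b_mem)
      have hxy : x = y := by
        have h1 : g * y = y * g := scalar_comm g y t ht
        have h2 : x = g * y * g⁻¹ := by
          rw [hydef]
          group
        rw [h2, h1, mul_inv_cancel_right]
      exact hxns t (by rw [hxy]; exact ht)
  · rintro (hr2 | ⟨hr3, hp9⟩)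
    · intro x hxS ⟨z, hz⟩ hxns
      subst hr2
      have hz3 : z ^ 3 = 1 := hdet3 x 2 z hxS hz
      have hz0 : z ≠ 0 := by
        intro h0
        rw [h0] at hz3
        norm_num at hz3
      obtain ⟨ζ, hζdef⟩ : ∃ ζ : F, ζ = z ^ 2 := ⟨_, rfl⟩
      have hζ0 : ζ ≠ 0 := by
        rw [hζdef]
        exact pow_ne_zero 2 hz0
      have hζ2 : ζ ^ 2 = z := by
        rw [hζdef]
        linear_combination z * hz3
      have hζ3 : ζ ^ 3 = 1 := by
        rw [hζdef]
        linear_combination (z ^ 3 + 1) * hz3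
      obtain ⟨u, hu⟩ : ∃ u : Matrix (Fin 3) (Fin 3) F,
          u = ζ⁻¹ • (x : Matrix (Fin 3) (Fin 3) F) := ⟨_, rfl⟩
      have hxu : (x : Matrix (Fin 3) (Fin 3) F) = ζ • u := by
        rw [hu, smul_smul, mul_inv_cancel₀ hζ0, one_smul]
      have hu2 : u ^ 2 = 1 := by
        rw [hu, _root_.smul_pow, ← Units.val_pow_eq_pow_val, hz, smul_smul, inv_pow, hζ2,
          inv_mul_cancel₀ hz0, one_smul]
      have huu : u * u = 1 := by
        rw [← hu2, pow_two]
      have hdet : u.det = 1 := by
        rw [hu, Matrix.det_smul, (mem_specialLinear_iff x).1 hxS, mul_one, Fintype.card_fin,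
          inv_pow, hζ3, inv_one]
      have hne : u ≠ 1 := by
        intro h1
        apply hxns ζ
        rw [hxu, h1]
      obtain ⟨𝔟, hp, hm⟩ := invol_basis h2F u huu hdet hne
      obtain ⟨y, hyN, 𝔠, hyp, hym⟩ := hNF.exists_invol h2F ζ hζ0
      obtain ⟨g, hgS, hg⟩ := exists_conj_of_eigenbases x y 𝔟 𝔠
        (Sum.elim (fun _ => ζ) (fun _ => -ζ))
        (by
          rintro (i | j)
          · show (x : Matrix (Fin 3) (Fin 3) F) *ᵥ 𝔟 (Sum.inl i) = ζ • 𝔟 (Sum.inl i)
            rw [hxu, Matrix.smul_mulVec, hp]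
          · show (x : Matrix (Fin 3) (Fin 3) F) *ᵥ 𝔟 (Sum.inr j) = (-ζ) • 𝔟 (Sum.inr j)
            rw [hxu, Matrix.smul_mulVec, hm, smul_neg, neg_smul])
        (by
          rintro (i | j)
          · exact hyp i
          · exact hym j)
      exact ⟨g, hgS, by rw [hg]; exact hyN⟩
    · intro x hxS ⟨z, hz⟩ hxns
      subst hr3
      have hz3 : z ^ 3 = 1 := hdet3 x 3 z hxS hz
      have hz0 : z ≠ 0 := by
        intro h0
        rw [h0] at hz3
        norm_num at hz3
      obtain ⟨ζ, hζ⟩ : ∃ ζ : F, ζ ^ 3 = z := by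
        have hp1 : 9 ∣ p - 1 := by omega
        obtain ⟨m, hm⟩ := hp1
        have hpos : 2 ≤ p := (Fact.out : p.Prime).two_le
        apply Cfsg.Agent.Lib.Helper99.PrimeOrdNT.exists_pow_eq_of_pow_eq_one (r := 3)
          (Q := 3 * m) _ _ hz0 _
        · rw [hF]
          omega
        · omega
        · rw [pow_mul, hz3, one_pow]
      have hζ0 : ζ ≠ 0 := by
        intro h0
        rw [h0] at hζ
        apply hz0
        rw [← hζ]
        norm_num
      obtain ⟨μ, hμ⟩ := exists_prim_cube_root hF hp3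
      obtain ⟨u, hu⟩ : ∃ u : Matrix (Fin 3) (Fin 3) F,
          u = ζ⁻¹ • (x : Matrix (Fin 3) (Fin 3) F) := ⟨_, rfl⟩
      have hxu : (x : Matrix (Fin 3) (Fin 3) F) = ζ • u := by
        rw [hu, smul_smul, mul_inv_cancel₀ hζ0, one_smul]
      have hu3 : u ^ 3 = 1 := by
        rw [hu, _root_.smul_pow, ← Units.val_pow_eq_pow_val, hz, smul_smul, inv_pow, hζ,
          inv_mul_cancel₀ hz0, one_smul]
      have huuu : u * u * u = 1 := by
        rw [← hu3, pow_succ, pow_two]
      obtain ⟨𝔟, d, hd𝔟, hd3⟩ := exists_eigenbasis_cube h3F μ hμ u huuu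
      obtain ⟨y, hyN, hy⟩ := hNF.exists_diag ζ hζ0 d hd3
      obtain ⟨g, hgS, hg⟩ := exists_conj_of_eigenbases x y 𝔟 𝔢 (fun i => ζ * d i)
        (by
          intro i
          rw [hxu, Matrix.smul_mulVec, hd𝔟, smul_smul])
        hy
      exact ⟨g, hgS, by rw [hg]; exact hyN⟩

end Cfsg.Agent.S5998
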