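import Cfsg.Statements.S5999
import Cfsg.Agent.Lib.Helper99.UniB
import Cfsg.Agent.Lib.Helper37.SU3Invol

set_option autoImplicit false
open scoped MatrixGroups
open Cfsg
open Matrix Cfsg.Geo Cfsg.Agent.Lib.Helper99.Nrm3 Cfsg.Agent.Lib.Helper99.Uni3 Cfsg.Agent.Lib.Helper13 Cfsg.Agent.Lib.Helper37

namespace Cfsg.Agent.S5999

theorem preserves_scale {F : Type*} [Field F] [Fintype F] {q : ℕ} (hF : Fintype.card F = q ^ 2)
    (M : GL (Fin 3) F) (hM : M ∈ Cfsg.GU 3 F q) (ζ : F) (hζ : ζ ^ (q + 1) = 1)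
    (v w : Fin 3 → F) :
    hermForm 3 F q ((ζ⁻¹ • (M : Matrix (Fin 3) (Fin 3) F)) *ᵥ v)
      ((ζ⁻¹ • (M : Matrix (Fin 3) (Fin 3) F)) *ᵥ w) = hermForm 3 F q v w := by
  rw [Matrix.smul_mulVec, Matrix.smul_mulVec, hermForm_smul_left, hermForm_smul_right hF,
    (mem_GU_iff M).1 hM, ← mul_assoc, ← pow_succ', inv_pow, hζ, inv_one, one_mul]

/-- Elements of prime order of PSU_3(p), p ≡ 2 (mod 3), and the normalizer of an extraspecial subgroup of order 27. Here `T = PSU_3(p)` for a prime `p ≥ 5` with `p ≡ 2 (mod 3)`, realised through `SU_3(p)`, the matrices of determinant 1 over the field `F` with `p²` elements preserving the hermitian form `Σ uᵢvᵢ^p`; `R` is a non-abelian subgroup of order 27 and exponent 3 of the full unitary group of that form (an extraspecial group 3^{1+2}, acting absolutely irreducibly), and `H` is the subgroup of `SU_3(p)` normalizing `R` — a subgroup of type 3^{1+2}.Sp₂(3) (maximality is not assumed). Ω is the set of cosets of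 `H`, so an element of `T` of prime order `r` (`x ∈ SU_3(p)` with `x^r` scalar, `x` not scalar) fixes a point of Ω exactly when some `SU_3(p)`-conjugate of `x` normalizes `R`. Let `r` be a prime dividing the index of `H`. Then every element of `T` of order `r` fixes a point of Ω if and only if `r = 2`, or `r = 3` and `p ≡ 8 (mod 9)`. -/
theorem result {F : Type*} [Field F] [Fintype F] {p : ℕ} [Fact p.Prime] [CharP F p] (hF : Fintype.card F = p ^ 2) (hp : 5 ≤ p) (hp3 : p % 3 = 2)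
    (R : Subgroup (GL (Fin 3) F)) (hRU : R ≤ Cfsg.GU 3 F p) (hR : Nat.card R = 27) (hRe : Monoid.exponent R = 3) (hRna : ¬ IsMulCommutative R)
    (r : ℕ) [Fact r.Prime]
    (hΩ : r ∣ (Cfsg.Geo.subgroupNormalizer R).relIndex (Cfsg.GU 3 F p ⊓ Cfsg.Geo.specialLinear (Fin 3) F)) :
    (∀ x ∈ Cfsg.GU 3 F p ⊓ Cfsg.Geo.specialLinear (Fin 3) F, (∃ z : F, ((x ^ r : GL (Fin 3) F) : Matrix (Fin 3) (Fin 3) F) = z • (1 : Matrix (Fin 3) (Fin 3) F)) →
      (∀ z : F, (x : Matrix (Fin 3) (Fin 3) F) ≠ z • (1 : Matrix (Fin 3) (Fin 3) F)) →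
      ∃ g ∈ Cfsg.GU 3 F p ⊓ Cfsg.Geo.specialLinear (Fin 3) F, g⁻¹ * x * g ∈ Cfsg.Geo.subgroupNormalizer R) ↔ (r = 2 ∨ (r = 3 ∧ p % 9 = 8)) := by
  classical
  have hpp : p.Prime := Fact.out
  have hrp : r.Prime := Fact.out
  have h3F : (3 : F) ≠ 0 := by
    intro h
    have h1 : ((3 : ℕ) : F) = 0 := by exact_mod_cast h
    rw [CharP.cast_eq_zero_iff F p 3] at h1
    have h2 := Nat.le_of_dvd (by norm_num) h1
    omega
  have h2F : (2 : F) ≠ 0 := by
    intro h
    have h1 : ((2 : ℕ) : F) = 0 := by exact_mod_cast h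
    rw [CharP.cast_eq_zero_iff F p 2] at h1
    have h2 := Nat.le_of_dvd (by norm_num) h1
    omega
  have hp2 : p ^ 2 % 3 = 1 := by
    rw [Nat.pow_mod, hp3]
  have hq3 : 3 ∣ p + 1 := by omega
  have hodd : Odd p := hpp.odd_of_ne_two (by omega)
  obtain ⟨μ, hμ⟩ := exists_prim_cube_root hF hp2
  haveI : Finite R := Nat.finite_of_card_ne_zero (by rw [hR]; norm_num)
  obtain ⟨a, b, cc, lam, 𝔢₀, hNF₀⟩ := exists_normal_form_of h3F μ hμ R hR hRe hRna
  obtain ⟨𝔢, hNF, h𝔢⟩ := Cfsg.Agent.Lib.Helper99.Uni3.IsNF.exists_orthonormal hNF₀ hF h3F hq3 (hRU hNF₀.a_mem)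
    (hRU hNF₀.b_mem)
  have hcube_norm : ∀ t : F, t ^ 3 = 1 → t ^ (p + 1) = 1 := by
    intro t ht
    obtain ⟨k, hk⟩ := hq3
    rw [hk, pow_mul, ht, one_pow]
  have hdet3 : ∀ (x : GL (Fin 3) F) (k : ℕ) (z : F),
      x ∈ Cfsg.GU 3 F p ⊓ specialLinear (Fin 3) F →
      ((x ^ k : GL (Fin 3) F) : Matrix (Fin 3) (Fin 3) F) = z • (1 : Matrix (Fin 3) (Fin 3) F) →
      z ^ 3 = 1 := by
    intro x k z hx hz
    have h1 := congrArg Matrix.det hz
    rw [Units.val_pow_eq_pow_val, Matrix.det_pow,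
      (mem_specialLinear_iff x).1 (Subgroup.mem_inf.1 hx).2, one_pow,
      Matrix.det_smul, Matrix.det_one, mul_one, Fintype.card_fin] at h1
    exact h1.symm
  have hRS : R ≤ subgroupNormalizer R ⊓ (Cfsg.GU 3 F p ⊓ specialLinear (Fin 3) F) :=
    le_inf (by unfold subgroupNormalizer; exact Subgroup.le_normalizer)
      (le_inf hRU hNF.le_specialLinear)
  constructor
  · intro hall
    by_cases hr2 : r = 2
    · exact Or.inl hr2
    by_cases hr3 : r = 3
    · right
      refine ⟨hr3, ?_⟩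
      by_contra hp9
      have hp29 : p ^ 2 % 9 ≠ 1 := by
        have h9 : p % 9 = 2 ∨ p % 9 = 5 := by omega
        rw [Nat.pow_mod]
        rcases h9 with h | h <;> rw [h] <;> norm_num
      apply not_dvd_card_specialLinear hF hp2 hp29
      have e1 := Subgroup.relIndex_mul_relIndex ⊥ R
        (subgroupNormalizer R ⊓ (Cfsg.GU 3 F p ⊓ specialLinear (Fin 3) F)) bot_le hRS
      have e2 := Subgroup.relIndex_mul_relIndex ⊥
        (subgroupNormalizer R ⊓ (Cfsg.GU 3 F p ⊓ specialLinear (Fin 3) F))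
        (Cfsg.GU 3 F p ⊓ specialLinear (Fin 3) F) bot_le inf_le_right
      rw [Subgroup.relIndex_bot_left, Subgroup.relIndex_bot_left, hR] at e1
      rw [Subgroup.relIndex_bot_left, Subgroup.relIndex_bot_left,
        Subgroup.inf_relIndex_right] at e2
      rw [hr3] at hΩ
      obtain ⟨k, hk⟩ := hΩ
      have h81 : 81 ∣ Nat.card (Cfsg.GU 3 F p ⊓ specialLinear (Fin 3) F : Subgroup (GL (Fin 3) F)) := by
        rw [← e2, ← e1, hk]
        exact ⟨R.relIndex (subgroupNormalizer R ⊓ (Cfsg.GU 3 F p ⊓ specialLinear (Fin 3) F)) * k,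
          by ring⟩
      exact dvd_trans h81 (Subgroup.card_dvd_of_le inf_le_right)
    · exfalso
      have hr5 : 5 ≤ r := by
        have h2 := hrp.two_le
        by_contra hlt
        push Not at hlt
        interval_cases r
        · exact hr2 rfl
        · exact hr3 rfl
        · norm_num at hrp
      have hdvd : r ∣ Nat.card (Cfsg.GU 3 F p ⊓ specialLinear (Fin 3) F : Subgroup (GL (Fin 3) F)) :=
        dvd_trans hΩ (Subgroup.relIndex_dvd_card _ _)
      obtain ⟨x0, hx0⟩ := exists_prime_orderOf_dvd_card' r hdvd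
      obtain ⟨x, hxdef⟩ : ∃ x : GL (Fin 3) F, x = (x0 : GL (Fin 3) F) := ⟨_, rfl⟩
      have hxS : x ∈ Cfsg.GU 3 F p ⊓ specialLinear (Fin 3) F := by
        rw [hxdef]
        exact x0.2
      have hxr : x ^ r = 1 := by
        have h1 : x0 ^ r = 1 := by
          rw [← hx0]
          exact pow_orderOf_eq_one x0
        have h2 := congrArg Subtype.val h1
        rw [hxdef]
        simpa using h2
      have hx1 : x ≠ 1 := by
        intro h1
        have h2 : x0 = 1 := Subtype.ext (by rw [← hxdef, h1]; rfl)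
        rw [h2, orderOf_one] at hx0
        exact hrp.one_lt.ne hx0
      have hxns : ∀ z : F, (x : Matrix (Fin 3) (Fin 3) F)
          ≠ z • (1 : Matrix (Fin 3) (Fin 3) F) := by
        intro z hz
        have hz3 : z ^ 3 = 1 := by
          apply hdet3 x 1 z hxS
          rw [pow_one]
          exact hz
        have hzr : z ^ r = 1 := by
          have h1 := congrArg Units.val hxr
          rw [Units.val_pow_eq_pow_val, hz, Units.val_one, _root_.smul_pow, one_pow] at h1
          have h2 : z ^ r • (1 : Matrix (Fin 3) (Fin 3) F)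
              = (1 : F) • (1 : Matrix (Fin 3) (Fin 3) F) := by rw [h1, one_smul]
          exact smul_one_inj h2
        have hcop : Nat.Coprime 3 r :=
          (Nat.coprime_primes Nat.prime_three hrp).2 (Ne.symm hr3)
        have hz1 : z = 1 := (pow_eq_one_iff_of_coprime hcop).1 ⟨hz3, hzr⟩
        apply hx1
        apply Units.ext
        rw [hz, hz1, one_smul, Units.val_one]
      obtain ⟨g, hgS, hgN⟩ := hall x hxS ⟨1, by rw [hxr, Units.val_one, one_smul]⟩ hxns
      obtain ⟨y, hydef⟩ : ∃ y : GL (Fin 3) F, y = g⁻¹ * x * g := ⟨_, rfl⟩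
      rw [← hydef] at hgN
      have hyr : y ^ r = 1 := by
        have h1 := conj_pow (i := r) (a := g⁻¹) (b := x)
        rw [inv_inv] at h1
        rw [hydef, h1, hxr, mul_one, inv_mul_cancel]
      have hcen := centralizes_of_pow_central R hR cc hNF.hcc (hNF.cc_ne_one h3F) y
        (by unfold subgroupNormalizer at hgN; exact hgN) (scalar_comm y cc lam hNF.hccm) r hrp
        hr5 (by intro n _; rw [hyr, one_mul, mul_one])
      obtain ⟨t, ht⟩ := hNF.scalar_of_commute h3F y (hcen a hNF.a_mem) (hcen b hNF.b_mem)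
      have hxy : x = y := by
        have h1 : g * y = y * g := scalar_comm g y t ht
        have h2 : x = g * y * g⁻¹ := by
          rw [hydef]
          group
        rw [h2, h1, mul_inv_cancel_right]
      exact hxns t (by rw [hxy]; exact ht)
  · rintro (hr2 | ⟨hr3, hp9⟩)
    · intro x hxS ⟨z, hz⟩ hxns
      subst hr2
      have hxU : x ∈ Cfsg.GU 3 F p := (Subgroup.mem_inf.1 hxS).1
      have hz3 : z ^ 3 = 1 := hdet3 x 2 z hxS hz
      have hzn : z ^ (p + 1) = 1 := hcube_norm z hz3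
      have hz0 : z ≠ 0 := by
        intro h0
        rw [h0] at hz3
        norm_num at hz3
      obtain ⟨ζ, hζdef⟩ : ∃ ζ : F, ζ = z ^ 2 := ⟨_, rfl⟩
      have hζ0 : ζ ≠ 0 := by
        rw [hζdef]
        exact pow_ne_zero 2 hz0
      have hζ2 : ζ ^ 2 = z := by
        rw [hζdef]
        linear_combination z * hz3
      have hζ3 : ζ ^ 3 = 1 := by
        rw [hζdef]
        linear_combination (z ^ 3 + 1) * hz3
      have hζn : ζ ^ (p + 1) = 1 := hcube_norm ζ hζ3
      obtain ⟨u, hu⟩ : ∃ u : Matrix (Fin 3) (Fin 3) F,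
          u = ζ⁻¹ • (x : Matrix (Fin 3) (Fin 3) F) := ⟨_, rfl⟩
      have hxu : (x : Matrix (Fin 3) (Fin 3) F) = ζ • u := by
        rw [hu, smul_smul, mul_inv_cancel₀ hζ0, one_smul]
      have hu2 : u ^ 2 = 1 := by
        rw [hu, _root_.smul_pow, ← Units.val_pow_eq_pow_val, hz, smul_smul, inv_pow, hζ2,
          inv_mul_cancel₀ hz0, one_smul]
      have huu : u * u = 1 := by
        rw [← hu2, pow_two]
      have hdet : u.det = 1 := by
        rw [hu, Matrix.det_smul, (mem_specialLinear_iff x).1 (Subgroup.mem_inf.1 hxS).2, mul_one,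
          Fintype.card_fin, inv_pow, hζ3, inv_one]
      have hne : u ≠ 1 := by
        intro h1
        apply hxns ζ
        rw [hxu, h1]
      have hupres : ∀ v w, hermForm 3 F p (u *ᵥ v) (u *ᵥ w) = hermForm 3 F p v w := by
        intro v w
        rw [hu]
        exact preserves_scale hF x hxU ζ hζn v w
      obtain ⟨a₁, ha₁, hua₁⟩ := exists_rfM_of_invol hodd hF u huu hne hdet hupres
      obtain ⟨y, hyN, hy'⟩ := hNF.exists_neg ζ hζ0
      have hyU : y ∈ Cfsg.GU 3 F p := by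
        apply mem_GU_of_mono hF 𝔢 h𝔢 y (Equiv.neg (Fin 3)) (fun _ => -ζ) hy'
        intro _
        rw [Even.neg_pow (by
          obtain ⟨k, hk⟩ := hodd
          exact ⟨k + 1, by omega⟩), hζn]
      obtain ⟨u', hu'⟩ : ∃ u' : Matrix (Fin 3) (Fin 3) F,
          u' = ζ⁻¹ • (y : Matrix (Fin 3) (Fin 3) F) := ⟨_, rfl⟩
      have hyu' : (y : Matrix (Fin 3) (Fin 3) F) = ζ • u' := by
        rw [hu', smul_smul, mul_inv_cancel₀ hζ0, one_smul]
      obtain ⟨huu', hdet', hne'⟩ := invol_props 𝔢 h2F ζ hζ0 (y : Matrix (Fin 3) (Fin 3) F) hy' u' hu'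
      have hupres' : ∀ v w, hermForm 3 F p (u' *ᵥ v) (u' *ᵥ w) = hermForm 3 F p v w := by
        intro v w
        rw [hu']
        exact preserves_scale hF y hyU ζ hζn v w
      obtain ⟨a₂, ha₂, hua₂⟩ := exists_rfM_of_invol hodd hF u' huu' hne' hdet' hupres'
      obtain ⟨g, hg⟩ := exists_conj_Rf hodd hF ⟨a₁, ha₁⟩ ⟨a₂, ha₂⟩
      have hg2 : g * Rf hF ⟨a₁, ha₁⟩ = Rf hF ⟨a₂, ha₂⟩ * g := by
        rw [← hg]
        group
      have hrel : Cfsg.Agent.Lib.Helper37.mt g * u = u' * Cfsg.Agent.Lib.Helper37.mt g := by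
        have h1 := congrArg Cfsg.Agent.Lib.Helper37.mt hg2
        rw [mt_mul, mt_mul, mt_Rf, mt_Rf] at h1
        rw [hua₁, hua₂]
        exact h1
      obtain ⟨G, hG⟩ : ∃ G : GL (Fin 3) F, (G : Matrix (Fin 3) (Fin 3) F) = Cfsg.Agent.Lib.Helper37.mt g :=
        ⟨Matrix.SpecialLinearGroup.toGL g.1, Matrix.SpecialLinearGroup.coe_GL_coe_matrix _⟩
      have hGS : G ∈ Cfsg.GU 3 F p ⊓ specialLinear (Fin 3) F := by
        refine Subgroup.mem_inf.2 ⟨?_, ?_⟩
        · rw [mem_GU_iff, hG]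
          exact mt_preserves g
        · rw [mem_specialLinear_iff, hG]
          exact mt_det g
      have hGx : G * x = y * G := by
        apply Units.ext
        rw [Units.val_mul, Units.val_mul, hxu, hyu', hG, Matrix.mul_smul, Matrix.smul_mul, hrel]
      refine ⟨G⁻¹, (Cfsg.GU 3 F p ⊓ specialLinear (Fin 3) F).inv_mem hGS, ?_⟩
      rw [inv_inv, hGx, mul_inv_cancel_right]
      exact hyN
    · intro x hxS ⟨z, hz⟩ hxns
      subst hr3
      have hxU : x ∈ Cfsg.GU 3 F p := (Subgroup.mem_inf.1 hxS).1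
      have hz3 : z ^ 3 = 1 := hdet3 x 3 z hxS hz
      have hz0 : z ≠ 0 := by
        intro h0
        rw [h0] at hz3
        norm_num at hz3
      have hp29 : p ^ 2 % 9 = 1 := by
        rw [Nat.pow_mod, hp9]
      have hp21 : 1 ≤ p ^ 2 := Nat.one_le_pow _ _ (by omega)
      obtain ⟨ζ₀, hζ₀⟩ : ∃ ζ₀ : F, ζ₀ ^ 3 = z := by
        have hp1 : 9 ∣ p ^ 2 - 1 := by omega
        obtain ⟨m, hm⟩ := hp1
        have hpos : 4 ≤ p ^ 2 := by nlinarith
        apply Cfsg.Agent.Lib.Helper99.PrimeOrdNT.exists_pow_eq_of_pow_eq_one (r := 3)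
          (Q := 3 * m) _ _ hz0 _
        · rw [hF]
          omega
        · omega
        · rw [pow_mul, hz3, one_pow]
      have hζ₀0 : ζ₀ ≠ 0 := by
        intro h0
        rw [h0] at hζ₀
        apply hz0
        rw [← hζ₀]
        norm_num
      obtain ⟨ζ, hζdef⟩ : ∃ ζ : F, ζ = ζ₀ ^ (p - 1) := ⟨_, rfl⟩
      have hζ3 : ζ ^ 3 = z := by
        obtain ⟨k, hk⟩ : ∃ k, p - 1 = 3 * k + 1 := ⟨(p - 1) / 3, by omega⟩
        rw [hζdef, ← pow_mul, mul_comm, pow_mul, hζ₀, hk, pow_succ, pow_mul, hz3, one_pow, one_mul]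
      have hζn : ζ ^ (p + 1) = 1 := by
        have h1 : (p - 1) * (p + 1) = Fintype.card F - 1 := by
          rw [hF]
          obtain ⟨k, rfl⟩ : ∃ k, p = k + 1 := ⟨p - 1, by omega⟩
          have : (k + 1) ^ 2 = (k + 1 - 1) * (k + 1 + 1) + 1 := by
            rw [Nat.add_sub_cancel]
            ring
          omega
        rw [hζdef, ← pow_mul, h1]
        exact FiniteField.pow_card_sub_one_eq_one ζ₀ hζ₀0
      have hζ0 : ζ ≠ 0 := by
        rw [hζdef]
        exact pow_ne_zero _ hζ₀0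
      obtain ⟨u, hu⟩ : ∃ u : Matrix (Fin 3) (Fin 3) F,
          u = ζ⁻¹ • (x : Matrix (Fin 3) (Fin 3) F) := ⟨_, rfl⟩
      have hxu : (x : Matrix (Fin 3) (Fin 3) F) = ζ • u := by
        rw [hu, smul_smul, mul_inv_cancel₀ hζ0, one_smul]
      have hu3 : u ^ 3 = 1 := by
        rw [hu, _root_.smul_pow, ← Units.val_pow_eq_pow_val, hz, smul_smul, inv_pow, hζ3,
          inv_mul_cancel₀ hz0, one_smul]
      have huuu : u * u * u = 1 := by
        rw [← hu3, pow_succ, pow_two]
      have hupres : ∀ v w, hermForm 3 F p (u *ᵥ v) (u *ᵥ w) = hermForm 3 F p v w := by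
        intro v w
        rw [hu]
        exact preserves_scale hF x hxU ζ hζn v w
      obtain ⟨𝔟, d, hd𝔟, h𝔟⟩ := exists_orthonormal_eigenbasis hF u hupres
        (iSup_eigenspace_cube h3F μ hμ u huuu)
        (fun t v hv0 hv => hcube_norm t (eigenvalue_cube u huuu t v hv0 hv))
      have hd3 : ∀ i, d i ^ 3 = 1 := fun i =>
        eigenvalue_cube u huuu (d i) (𝔟 i) (𝔟.ne_zero i) (hd𝔟 i)
      obtain ⟨y, hyN, hy⟩ := hNF.exists_diag ζ hζ0 d hd3
      obtain ⟨g, hgS, hg⟩ := exists_conj_of_orthonormal_eigenbases hF x y 𝔟 𝔢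
        (fun i => ζ * d i)
        (by
          intro i
          rw [hxu, Matrix.smul_mulVec, hd𝔟, smul_smul])
        hy h𝔟 h𝔢
      exact ⟨g, hgS, by rw [hg]; exact hyN⟩

end Cfsg.Agent.S5999
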